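import Cfsg.Agent.Helper79.ClassMult

/-!
# Linear characters (helper79)
-/

set_option autoImplicit false
set_option linter.unusedSectionVars false
open Cfsg
open scoped ComplexConjugate MonoidAlgebra

namespace Cfsg.Agent.Helper79

section linear
variable {G : Type*} [Group G]

/-- One-dimensional representations are irreducible. -/
theorem isIrreducible_of_finrank_eq_one {V : Type*} [AddCommGroup V] [Module ℂ V]
    (ρ : Representation ℂ G V) (h : Module.finrank ℂ V = 1) : ρ.IsIrreducible := by
  rw [Representation.irreducible_iff_isSimpleModule_asModule]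
  have h' : Module.finrank ℂ ρ.asModule = 1 := h
  rw [isSimpleModule_iff]
  exact is_simple_module_of_finrank_eq_one (K := ℂ) (A := ℂ[G]) h'

/-- The one-dimensional representation attached to a multiplicative map `G →* ℂ`. -/
noncomputable def linRep (l : G →* ℂ) : Representation ℂ G (Fin 1 → ℂ) :=
  (algebraMap ℂ (Module.End ℂ (Fin 1 → ℂ)) : ℂ →* Module.End ℂ (Fin 1 → ℂ)).comp l

theorem linRep_character (l : G →* ℂ) : (linRep l).character = l := by
  funext g
  simp [linRep, Representation.character, Algebra.algebraMap_eq_smul_one]

/-- A multiplicative map `G →* ℂ` is an irreducible character. -/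
theorem isIrrCharacter_of_monoidHom (l : G →* ℂ) : IsIrrCharacter G l :=
  ⟨1, linRep l, isIrreducible_of_finrank_eq_one _ (by simp), linRep_character l⟩

/-- The principal character is irreducible. -/
theorem isIrrCharacter_one : IsIrrCharacter G (fun _ => (1 : ℂ)) :=
  isIrrCharacter_of_monoidHom (1 : G →* ℂ)

/-- The principal character as an element of `IrrCharacter G`. -/
def principalIrr (G : Type*) [Group G] : IrrCharacter G := ⟨fun _ => 1, isIrrCharacter_one⟩

/-- A character of degree one is multiplicative. -/
theorem isCharacter_linear_mul {χ : G → ℂ} (hχ : IsCharacter G χ) (h1 : χ 1 = 1) (g h : G) :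
    χ (g * h) = χ g * χ h := by
  obtain ⟨n, ρ, rfl⟩ := hχ
  have hn : Module.finrank ℂ (Fin n → ℂ) = 1 := by
    have := Representation.char_one ρ
    rw [h1] at this
    exact_mod_cast this.symm
  have hsc : ∀ x : G, ρ x = ρ.character x • LinearMap.id := by
    intro x
    obtain ⟨c, hc, -⟩ := LinearMap.existsUnique_eq_smul_id_of_finrank_eq_one hn (ρ x)
    have : ρ.character x = c := by
      simp [Representation.character, hc, hn]
    rw [this]; exact hc
  have : ρ.character (g * h) = LinearMap.trace ℂ _ (ρ g * ρ h) := by
    simp [Representation.character]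
  rw [this, hsc g, hsc h]
  have hid : (LinearMap.id : Module.End ℂ (Fin n → ℂ)) * LinearMap.id = 1 := by
    rw [Module.End.mul_eq_comp, LinearMap.id_comp]; rfl
  simp only [smul_mul_smul_comm, hid, map_smul, LinearMap.trace_one, hn, smul_eq_mul]
  simp

/-- The multiplicative map attached to a character of degree one. -/
noncomputable def linearHom {χ : G → ℂ} (hχ : IsCharacter G χ) (h1 : χ 1 = 1) : G →* ℂ where
  toFun := χ
  map_one' := h1
  map_mul' := isCharacter_linear_mul hχ h1

theorem linearHom_apply {χ : G → ℂ} (hχ : IsCharacter G χ) (h1 : χ 1 = 1) (g : G) :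
    linearHom hχ h1 g = χ g := rfl

/-- A multiplicative map to `ℂ` is trivial on the commutator subgroup. -/
theorem monoidHom_commutator (l : G →* ℂ) {u : G} (hu : u ∈ commutator G) : l u = 1 := by
  have h := Abelianization.commutator_subset_ker (l.toHomUnits) hu
  rw [MonoidHom.mem_ker] at h
  have := congrArg Units.val h
  simpa using this

/-- A character of degree one is trivial on the commutator subgroup. -/
theorem isCharacter_linear_commutator {χ : G → ℂ} (hχ : IsCharacter G χ) (h1 : χ 1 = 1) {u : G}
    (hu : u ∈ commutator G) : χ u = 1 :=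
  monoidHom_commutator (linearHom hχ h1) hu

/-- A character of degree one has values of absolute value one (finite group). -/
theorem isCharacter_linear_mul_conj [Finite G] {χ : G → ℂ} (hχ : IsCharacter G χ) (h1 : χ 1 = 1)
    (g : G) : χ g * conj (χ g) = 1 := by
  obtain ⟨n, ρ, rfl⟩ := hχ
  rw [← char_inv, ← isCharacter_linear_mul ⟨n, ρ, rfl⟩ h1, mul_inv_cancel, h1]

end linear

end Cfsg.Agent.Helper79
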