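import Cfsg.Agent.Helper25.BRDefs
import Cfsg.Agent.Helper74.CharBasic
import Cfsg.Agent.Helper79.Linear

set_option autoImplicit false
set_option linter.style.haveILetI false
set_option linter.unusedSectionVars false
set_option linter.unusedVariables false

/-!
Piece (TT) of helper25's Brauer-Reynolds plan (S0999 / S4701): in the principal block configuration with `ε = +1`,
decomposing `θ θ̄` and restricting to `P` gives `(t - 1)(n + 1) ≤ t`.
-/

namespace Cfsg.Agent.Helper79.BR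

open Cfsg Cfsg.Agent.Helper74
open scoped ComplexConjugate

universe u

/-- the arithmetic core -/
theorem tt_arith (p e t n A B C D : ℤ) (hp : 2 ≤ p) (het : e * t = p - 1) (he : 2 ≤ e) (hn : 1 ≤ n)
    (hA : 0 ≤ A) (hB : 0 ≤ B) (hC : 0 ≤ C) (hD : 0 ≤ D)
    (E1 : p * e = p + (n + 1) * p * A + D)
    (E2 : e * e = 1 + (1 + n * p) * A + (p - 1) * B + e * C + D) :
    (t - 1) * (n + 1) ≤ t := by
  have h1 : (n + 1) * A ≤ e - 1 := by
    have h : p * ((e - 1) - (n + 1) * A) = D := by linear_combination E1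
    by_contra hc
    push Not at hc
    have h' : (e - 1) - (n + 1) * A ≤ -1 := by linarith
    have := mul_le_mul_of_nonneg_left h' (by linarith : (0 : ℤ) ≤ p)
    linarith
  have h2 : e * (t * (A + 1)) = e * ((p - e) + t * B + C) := by
    linear_combination (E2 - E1) + (A + 1 - B) * het
  have he0 : e ≠ 0 := by linarith
  have h3 : t * (A + 1) = (p - e) + t * B + C := mul_left_cancel₀ he0 h2
  have ht0 : 0 < t := by
    have h : 0 < e * t := by rw [het]; linarith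
    exact (mul_pos_iff_of_pos_left (by linarith : (0 : ℤ) < e)).mp h
  have h5 : (e - 1) * (t - 1) = p - e - t := by linear_combination het
  have htB : 0 ≤ t * B := mul_nonneg ht0.le hB
  have h4 : (e - 1) * (t - 1) ≤ t * A := by
    rw [h5]
    have : t * A = (p - e) + t * B + C - t := by linear_combination h3
    linarith
  have h6 : (n + 1) * ((e - 1) * (t - 1)) ≤ (n + 1) * (t * A) :=
    mul_le_mul_of_nonneg_left h4 (by linarith)
  have h7 : t * ((n + 1) * A) ≤ t * (e - 1) := mul_le_mul_of_nonneg_left h1 ht0.le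
  by_contra hc
  push Not at hc
  have h8 : 1 ≤ (t - 1) * (n + 1) - t := by linarith
  have h9 := mul_le_mul_of_nonneg_left h8 (by linarith : (0 : ℤ) ≤ e - 1)
  nlinarith

variable {G : Type u} [Group G] [Fintype G]

/-- the sum over `P` of a function that is constant on `P \ 1` -/
theorem finsum_sylow_of_const {p : ℕ} [Fact p.Prime] (P : Sylow p G) (hP : Nat.card P = p) (f : G → ℂ) (c : ℂ)
    (hf : ∀ u : G, u ∈ (P : Subgroup G) → u ≠ 1 → f u = c) :
    ∑ᶠ u : (P : Subgroup G), f (u : G) = f 1 + ((p : ℂ) - 1) * c := by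
  classical
  haveI : Fintype ↥(P : Subgroup G) := Fintype.ofFinite _
  rw [finsum_eq_sum_of_fintype,
    ← Finset.add_sum_erase Finset.univ _ (Finset.mem_univ (1 : ↥(P : Subgroup G)))]
  congr 1
  have h1 : ∑ x ∈ Finset.univ.erase (1 : ↥(P : Subgroup G)), f (x : G) =
      ∑ x ∈ Finset.univ.erase (1 : ↥(P : Subgroup G)), c :=
    Finset.sum_congr rfl (fun (u : ↥(P : Subgroup G)) hu =>
      hf (u : G) u.2 (fun h => (Finset.ne_of_mem_erase hu) (Subtype.ext h)))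
  rw [h1, Finset.sum_const, Finset.card_erase_of_mem (Finset.mem_univ _), Finset.card_univ,
    ← Nat.card_eq_fintype_card, hP, nsmul_eq_mul, Nat.cast_pred (Fact.out : p.Prime).pos]

theorem tt_bound {p : ℕ} [Fact p.Prime] (P : Sylow p G)
    (hP : Nat.card P = p) (e t n : ℕ) (het : e * t = p - 1) (he : 2 ≤ e) (hn : 1 ≤ n)
    (Xp Xm Y : Finset (IrrCharacter G))
    (one_Xp : Helper79.principalIrr G ∉ Xp) (one_Xm : Helper79.principalIrr G ∉ Xm)
    (one_Y : Helper79.principalIrr G ∉ Y)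
    (disj_pm : Disjoint Xp Xm) (disj_pY : Disjoint Xp Y) (disj_mY : Disjoint Xm Y)
    (degXp : ∀ χ ∈ Xp, (χ : G → ℂ) 1 = ((1 + n * p : ℕ) : ℂ))
    (degXm : ∀ χ ∈ Xm, (χ : G → ℂ) 1 = ((p - 1 : ℕ) : ℂ))
    (degY : ∀ θ ∈ Y, (θ : G → ℂ) 1 = (e : ℂ))
    (valXp : ∀ χ ∈ Xp, ∀ u : G, u ∈ (P : Subgroup G) → u ≠ 1 → (χ : G → ℂ) u = 1)
    (valXm : ∀ χ ∈ Xm, ∀ u : G, u ∈ (P : Subgroup G) → u ≠ 1 → (χ : G → ℂ) u = -1)
    (sumY : ∀ θ ∈ Y, ∑ᶠ u : (P : Subgroup G), (θ : G → ℂ) (u : G) = 0)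
    (other : ∀ ψ : IrrCharacter G, ψ ≠ Helper79.principalIrr G → ψ ∉ Xp → ψ ∉ Xm → ψ ∉ Y →
      ∀ u : G, u ∈ (P : Subgroup G) → u ≠ 1 → (ψ : G → ℂ) u = 0)
    (θ : IrrCharacter G) (hθ : θ ∈ Y)
    (normθ : ∑ᶠ u : (P : Subgroup G), (Complex.normSq ((θ : G → ℂ) (u : G)) : ℂ) =
      (p : ℂ) * (e : ℂ)) :
    (t - 1) * (n + 1) ≤ t := by
  classical
  haveI : Fintype (IrrCharacter G) := irrFintype G
  haveI : Fintype ↥(P : Subgroup G) := Fintype.ofFinite _
  have hp : p.Prime := Fact.out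
  set one : IrrCharacter G := Helper79.principalIrr G with hone
  -- the character `θ θ̄`
  set φ : G → ℂ := (θ : G → ℂ) * (fun g => conj ((θ : G → ℂ) g)) with hφdef
  have hφ : IsCharacter G φ := isCharacter_mul (irr_isCharacter θ) (isCharacter_conj (irr_isCharacter θ))
  have hφapp : ∀ g, φ g = (Complex.normSq ((θ : G → ℂ) g) : ℂ) := by
    intro g
    show (θ : G → ℂ) g * conj ((θ : G → ℂ) g) = _
    rw [Complex.mul_conj]
  have hmex : ∀ ψ : IrrCharacter G, ∃ m : ℕ, classInner φ (ψ : G → ℂ) = m :=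
    fun ψ => isCharacter_inner_irr_nat hφ ψ
  choose m hm using hmex
  have hdec : ∀ g, φ g = ∑ ψ : IrrCharacter G, (m ψ : ℂ) * (ψ : G → ℂ) g := by
    intro g
    have h := congrFun (isCharacter_eq_sum_irr hφ) g
    rw [Finset.sum_apply] at h
    rw [h]
    refine Finset.sum_congr rfl (fun ψ _ => ?_)
    rw [Pi.smul_apply, hm ψ, smul_eq_mul]
  -- the multiplicity of the principal character
  have hm1 : m one = 1 := by
    have h1 : classInner φ (one : G → ℂ) = classInner (θ : G → ℂ) (θ : G → ℂ) := by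
      rw [classInner_def, classInner_def]
      congr 1
      refine Finset.sum_congr rfl (fun g _ => ?_)
      show (θ : G → ℂ) g * conj ((θ : G → ℂ) g) * conj (1 : ℂ) = _
      rw [map_one, mul_one]
    rw [hm one, irr_inner_self] at h1
    exact_mod_cast h1
  -- splitting sums over the irreducible characters
  set S : Finset (IrrCharacter G) := insert one (Xp ∪ (Xm ∪ Y)) with hS
  have hsplit : ∀ F : IrrCharacter G → ℂ, ∑ ψ, F ψ =
      F one + ∑ ψ ∈ Xp, F ψ + ∑ ψ ∈ Xm, F ψ + ∑ ψ ∈ Y, F ψ + ∑ ψ ∈ Finset.univ \ S, F ψ := by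
    intro F
    have h1 : one ∉ Xp ∪ (Xm ∪ Y) := by
      simp only [Finset.mem_union, not_or]
      exact ⟨one_Xp, one_Xm, one_Y⟩
    have h2 : Disjoint Xp (Xm ∪ Y) := Finset.disjoint_union_right.mpr ⟨disj_pm, disj_pY⟩
    rw [← Finset.sum_sdiff (Finset.subset_univ S), hS, Finset.sum_insert h1, Finset.sum_union h2,
      Finset.sum_union disj_mY]
    ring
  have hOth : ∀ ψ ∈ Finset.univ \ S, ψ ≠ one ∧ ψ ∉ Xp ∧ ψ ∉ Xm ∧ ψ ∉ Y := by
    intro ψ hψ
    rw [Finset.mem_sdiff, hS] at hψ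
    have := hψ.2
    simp only [Finset.mem_insert, Finset.mem_union, not_or] at this
    exact this
  -- degrees of the other characters
  have hdegnat : ∀ ψ : IrrCharacter G, (ψ : G → ℂ) 1 = (charDegree (ψ : G → ℂ) : ℂ) :=
    fun ψ => (charDegree_cast (irr_isCharacter ψ)).symm
  set A : ℕ := ∑ ψ ∈ Xp, m ψ with hA
  set B : ℕ := ∑ ψ ∈ Xm, m ψ with hB
  set C : ℕ := ∑ ψ ∈ Y, m ψ with hC
  set D : ℕ := ∑ ψ ∈ Finset.univ \ S, m ψ * charDegree (ψ : G → ℂ) with hD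
  have hθ1 : (θ : G → ℂ) 1 = (e : ℂ) := degY θ hθ
  -- the equation at `1`
  have E2 : ((e : ℂ)) * e = 1 + ((1 + n * p : ℕ) : ℂ) * A + ((p - 1 : ℕ) : ℂ) * B + (e : ℂ) * C + D := by
    have h := hdec 1
    rw [hsplit] at h
    have hl : φ 1 = (e : ℂ) * e := by
      show (θ : G → ℂ) 1 * conj ((θ : G → ℂ) 1) = _
      rw [hθ1, Complex.conj_natCast]
    rw [hl] at h
    rw [h, hm1]
    have a1 : (one : G → ℂ) 1 = 1 := rfl
    have a2 : ∑ ψ ∈ Xp, (m ψ : ℂ) * (ψ : G → ℂ) 1 = ((1 + n * p : ℕ) : ℂ) * A := by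
      rw [hA, Nat.cast_sum, Finset.mul_sum]
      exact Finset.sum_congr rfl (fun ψ hψ => by rw [degXp ψ hψ, mul_comm])
    have a3 : ∑ ψ ∈ Xm, (m ψ : ℂ) * (ψ : G → ℂ) 1 = ((p - 1 : ℕ) : ℂ) * B := by
      rw [hB, Nat.cast_sum, Finset.mul_sum]
      exact Finset.sum_congr rfl (fun ψ hψ => by rw [degXm ψ hψ, mul_comm])
    have a4 : ∑ ψ ∈ Y, (m ψ : ℂ) * (ψ : G → ℂ) 1 = (e : ℂ) * C := by
      rw [hC, Nat.cast_sum, Finset.mul_sum]
      exact Finset.sum_congr rfl (fun ψ hψ => by rw [degY ψ hψ, mul_comm])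
    have a5 : ∑ ψ ∈ Finset.univ \ S, (m ψ : ℂ) * (ψ : G → ℂ) 1 = (D : ℂ) := by
      rw [hD, Nat.cast_sum]
      exact Finset.sum_congr rfl (fun ψ _ => by rw [hdegnat ψ, Nat.cast_mul])
    rw [a1, a2, a3, a4, a5]
    push_cast
    ring
  -- the sum over `P`
  have hT : ∀ f : G → ℂ, ∑ᶠ u : (P : Subgroup G), f (u : G) = ∑ u : ↥(P : Subgroup G), f (u : G) :=
    fun f => finsum_eq_sum_of_fintype _
  have E1 : (p : ℂ) * e = p + ((n : ℂ) + 1) * p * A + D := by
    have h : ∑ᶠ u : (P : Subgroup G), φ (u : G) =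
        ∑ ψ : IrrCharacter G, (m ψ : ℂ) * ∑ᶠ u : (P : Subgroup G), (ψ : G → ℂ) (u : G) := by
      rw [hT]
      simp_rw [hT, hdec, Finset.mul_sum]
      exact Finset.sum_comm
    have hl : ∑ᶠ u : (P : Subgroup G), φ (u : G) = (p : ℂ) * e := by
      rw [← normθ]
      exact finsum_congr (fun u => hφapp u)
    rw [hl, hsplit, hm1] at h
    have a1 : ∑ᶠ u : (P : Subgroup G), (one : G → ℂ) (u : G) = (p : ℂ) := by
      rw [finsum_sylow_of_const P hP (one : G → ℂ) 1 (fun _ _ _ => rfl)]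
      show (1 : ℂ) + ((p : ℂ) - 1) * 1 = p
      ring
    have a2 : ∑ ψ ∈ Xp, (m ψ : ℂ) * ∑ᶠ u : (P : Subgroup G), (ψ : G → ℂ) (u : G) =
        ((n : ℂ) + 1) * p * A := by
      rw [hA, Nat.cast_sum, Finset.mul_sum]
      refine Finset.sum_congr rfl (fun ψ hψ => ?_)
      rw [finsum_sylow_of_const P hP (ψ : G → ℂ) 1 (valXp ψ hψ), degXp ψ hψ]
      push_cast
      ring
    have a3 : ∑ ψ ∈ Xm, (m ψ : ℂ) * ∑ᶠ u : (P : Subgroup G), (ψ : G → ℂ) (u : G) = 0 := by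
      refine Finset.sum_eq_zero (fun ψ hψ => ?_)
      rw [finsum_sylow_of_const P hP (ψ : G → ℂ) (-1) (valXm ψ hψ), degXm ψ hψ,
        Nat.cast_pred hp.pos]
      ring
    have a4 : ∑ ψ ∈ Y, (m ψ : ℂ) * ∑ᶠ u : (P : Subgroup G), (ψ : G → ℂ) (u : G) = 0 := by
      refine Finset.sum_eq_zero (fun ψ hψ => ?_)
      rw [sumY ψ hψ, mul_zero]
    have a5 : ∑ ψ ∈ Finset.univ \ S, (m ψ : ℂ) * ∑ᶠ u : (P : Subgroup G), (ψ : G → ℂ) (u : G) =
        (D : ℂ) := by
      rw [hD, Nat.cast_sum]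
      refine Finset.sum_congr rfl (fun ψ hψ => ?_)
      obtain ⟨h1, h2, h3, h4⟩ := hOth ψ hψ
      rw [finsum_sylow_of_const P hP (ψ : G → ℂ) 0 (other ψ h1 h2 h3 h4), hdegnat ψ]
      push_cast
      ring
    rw [a1, a2, a3, a4, a5] at h
    rw [h]
    ring
  -- to the integers
  have hp2 : 2 ≤ p := hp.two_le
  have hpc : ((p - 1 : ℕ) : ℂ) = (p : ℂ) - 1 := Nat.cast_pred hp.pos
  have E1z : (p : ℤ) * e = p + ((n : ℤ) + 1) * p * A + D := by exact_mod_cast E1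
  have E2z : (e : ℤ) * e = 1 + (1 + (n : ℤ) * p) * A + ((p : ℤ) - 1) * B + (e : ℤ) * C + D := by
    rw [hpc] at E2
    exact_mod_cast E2
  have hetz : (e : ℤ) * t = (p : ℤ) - 1 := by
    have : ((e * t : ℕ) : ℤ) = ((p - 1 : ℕ) : ℤ) := by rw [het]
    rw [Nat.cast_pred hp.pos] at this
    exact_mod_cast this
  have hfin := tt_arith (p : ℤ) e t n A B C D (by exact_mod_cast hp2) hetz (by exact_mod_cast he)
    (by exact_mod_cast hn) (Int.natCast_nonneg _) (Int.natCast_nonneg _) (Int.natCast_nonneg _)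
    (Int.natCast_nonneg _) E1z E2z
  have ht1 : 1 ≤ t := by
    rcases Nat.eq_zero_or_pos t with h | h
    · rw [h, mul_zero] at het
      omega
    · exact h
  have : (((t - 1) * (n + 1) : ℕ) : ℤ) ≤ (t : ℤ) := by
    rw [Nat.cast_mul, Nat.cast_sub ht1]
    push_cast
    exact hfin
  exact_mod_cast this

end Cfsg.Agent.Helper79.BR
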