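import Cfsg.Agent.Helper79.CharBasic

/-!
# Completeness of the irreducible characters (helper79)

`eq_zero_of_forall_irr_sum_eq_zero`, `classFunction_expansion`, `column_orthogonality`,
`card_irr_eq_card_conjClasses`, and the interface lemmas `isCharacter_of_rep`,
`isIrrCharacter_of_irreducible` (characters of representations on arbitrary finite-dimensional spaces).
-/

set_option autoImplicit false
set_option linter.unusedSectionVars false
open Cfsg
open scoped ComplexConjugate MonoidAlgebra

namespace Cfsg.Agent.Helper79

section transfer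
variable {k G V W : Type*} [Field k] [Monoid G] [AddCommGroup V] [Module k V] [AddCommGroup W] [Module k W]

/-- Irreducibility is invariant under equivalence of representations. -/
theorem isIrreducible_of_equiv {ρ : Representation k G V} {σ : Representation k G W}
    (φ : ρ.Equiv σ) [hρ : ρ.IsIrreducible] : σ.IsIrreducible := by
  rw [Representation.irreducible_iff_isSimpleModule_asModule] at hρ ⊢
  let f : ρ.asModule →ₗ[k[G]] σ.asModule := Representation.IntertwiningMap.equivLinearMapAsModule ρ σ φ.toIntertwiningMap
  have hf : Function.Bijective f := φ.toLinearEquiv.bijective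
  exact IsSimpleModule.congr (LinearEquiv.ofBijective f hf).symm

end transfer

section interface
variable {G : Type*} [Group G]

/-- Transport a representation on a finite-dimensional space to coordinates. -/
noncomputable def coordRep {V : Type*} [AddCommGroup V] [Module ℂ V] [FiniteDimensional ℂ V]
    (ρ : Representation ℂ G V) : Representation ℂ G (Fin (Module.finrank ℂ V) → ℂ) :=
  ((LinearEquiv.conjAlgEquiv ℂ (Module.finBasis ℂ V).equivFun).toAlgHom.toRingHom.toMonoidHom).comp ρ

noncomputable def coordRepEquiv {V : Type*} [AddCommGroup V] [Module ℂ V] [FiniteDimensional ℂ V]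
    (ρ : Representation ℂ G V) : ρ.Equiv (coordRep ρ) :=
  Representation.Equiv.mk (Module.finBasis ℂ V).equivFun (by
    intro g
    ext v i
    simp [coordRep, LinearEquiv.conjAlgEquiv])

theorem coordRep_character {V : Type*} [AddCommGroup V] [Module ℂ V] [FiniteDimensional ℂ V]
    (ρ : Representation ℂ G V) : (coordRep ρ).character = ρ.character :=
  (Representation.char_iso (coordRepEquiv ρ)).symm

/-- The character of any finite-dimensional complex representation is a character. -/
theorem isCharacter_of_rep {V : Type*} [AddCommGroup V] [Module ℂ V] [FiniteDimensional ℂ V]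
    (ρ : Representation ℂ G V) : IsCharacter G ρ.character :=
  ⟨_, coordRep ρ, coordRep_character ρ⟩

/-- The character of any irreducible finite-dimensional complex representation is an irreducible character. -/
theorem isIrrCharacter_of_irreducible {V : Type*} [AddCommGroup V] [Module ℂ V] [FiniteDimensional ℂ V]
    (ρ : Representation ℂ G V) [ρ.IsIrreducible] : IsIrrCharacter G ρ.character :=
  ⟨_, coordRep ρ, isIrreducible_of_equiv (coordRepEquiv ρ), coordRep_character ρ⟩

end interface


section
variable {G : Type*} [Group G] [Fintype G]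

/-- The element `∑ g, f g • g` of the group algebra attached to a function `f`. -/
noncomputable def funToAlg (f : G → ℂ) : ℂ[G] := ∑ g, MonoidAlgebra.single g (f g)

theorem funToAlg_coeff (f : G → ℂ) (g : G) : (funToAlg f).coeff g = f g := by
  classical
  unfold funToAlg
  rw [MonoidAlgebra.coeff_sum, Finsupp.finsetSum_apply]
  simp [Finsupp.single_apply]

theorem funToAlg_mem_center {f : G → ℂ} (hf : IsClassFunction G f) :
    funToAlg f ∈ Submonoid.center ℂ[G] := by
  rw [Submonoid.mem_center_iff]
  intro b
  induction b using MonoidAlgebra.induction_linear with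
  | zero => simp
  | add x y hx hy => rw [add_mul, mul_add, hx, hy]
  | single h c =>
    apply MonoidAlgebra.ext
    ext k
    rw [MonoidAlgebra.coeff_single_mul_apply, MonoidAlgebra.coeff_mul_single_apply,
      funToAlg_coeff, funToAlg_coeff, mul_comm]
    congr 1
    have := hf (h⁻¹ * k) h
    rw [← this]
    congr 1
    group

theorem asAlgebraHom_funToAlg {V : Type*} [AddCommGroup V] [Module ℂ V] (ρ : Representation ℂ G V)
    (f : G → ℂ) : ρ.asAlgebraHom (funToAlg f) = ∑ g, f g • ρ g := by
  simp [funToAlg, Representation.asAlgebraHom_single]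

theorem trace_asAlgebraHom_funToAlg {V : Type*} [AddCommGroup V] [Module ℂ V]
    (ρ : Representation ℂ G V) (f : G → ℂ) :
    LinearMap.trace ℂ V (ρ.asAlgebraHom (funToAlg f)) = ∑ g, f g * ρ.character g := by
  simp [asAlgebraHom_funToAlg, Representation.character]

/-- Schur: a central element of the group algebra acts on an irreducible representation as a scalar. -/
theorem exists_scalar_of_mem_center {V : Type*} [AddCommGroup V] [Module ℂ V] [FiniteDimensional ℂ V]
    (ρ : Representation ℂ G V) [ρ.IsIrreducible] {a : ℂ[G]} (ha : a ∈ Submonoid.center ℂ[G]) :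
    ∃ c : ℂ, ρ.asAlgebraHom a = c • (1 : Module.End ℂ V) := by
  obtain ⟨c, hc⟩ := (Representation.IsIrreducible.algebraMap_intertwiningMap_bijective_of_isAlgClosed
    (ρ := ρ)).2 (Representation.IntertwiningMap.centralAlgebraMul ρ ha)
  refine ⟨c, ?_⟩
  ext v
  have := congrArg (fun T : ρ.IntertwiningMap ρ => T v) hc
  simp only [Representation.IntertwiningMap.algebraMap_apply,
    Representation.IntertwiningMap.centralAlgebraMul_apply] at this
  rw [← this]
  simp

end


section
variable {G : Type*} [Group G]

theorem nontrivial_of_irreducible {k V : Type*} [Field k] [AddCommGroup V] [Module k V]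
    (ρ : Representation k G V) [ρ.IsIrreducible] : Nontrivial V := by
  by_contra hV
  rw [not_nontrivial_iff_subsingleton] at hV
  have : (⊥ : Subrepresentation ρ) = ⊤ := by
    apply Subrepresentation.toSubmodule_injective
    exact Subsingleton.elim _ _
  exact bot_ne_top this

theorem finrank_pos_of_irreducible {V : Type*} [AddCommGroup V] [Module ℂ V] [FiniteDimensional ℂ V]
    (ρ : Representation ℂ G V) [ρ.IsIrreducible] : 0 < Module.finrank ℂ V := by
  have := nontrivial_of_irreducible ρ
  exact Module.finrank_pos

variable [Fintype G]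

theorem asAlgebraHom_funToAlg_eq_zero {V : Type*} [AddCommGroup V] [Module ℂ V] [FiniteDimensional ℂ V]
    (ρ : Representation ℂ G V) [ρ.IsIrreducible] {f : G → ℂ} (hf : IsClassFunction G f)
    (h0 : ∑ g, f g * ρ.character g = 0) : ρ.asAlgebraHom (funToAlg f) = 0 := by
  obtain ⟨c, hc⟩ := exists_scalar_of_mem_center ρ (funToAlg_mem_center hf)
  have ht := trace_asAlgebraHom_funToAlg ρ f
  rw [h0, hc] at ht
  simp only [map_smul, LinearMap.trace_one, smul_eq_mul] at ht
  have hpos := finrank_pos_of_irreducible ρ
  have hne : (Module.finrank ℂ V : ℂ) ≠ 0 := by exact_mod_cast hpos.ne'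
  have hc0 : c = 0 := by
    rcases mul_eq_zero.1 ht with h | h
    · exact h
    · exact absurd h hne
  rw [hc, hc0, zero_smul]

/-- The representation attached to a submodule (left ideal) of the group algebra is finite-dimensional. -/
theorem finite_restrictScalars_submodule (S : Submodule ℂ[G] ℂ[G]) :
    Module.Finite ℂ (RestrictScalars ℂ ℂ[G] S) := by
  let e : RestrictScalars ℂ ℂ[G] S ≃ₗ[ℂ] S :=
    { (RestrictScalars.addEquiv ℂ ℂ[G] S) with
      map_smul' := by
        intro c x
        simp only [AddEquiv.toFun_eq_coe, RingHom.id_apply]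
        rw [RestrictScalars.addEquiv_map_smul, algebraMap_smul] }
  exact Module.Finite.equiv e.symm

set_option backward.isDefEq.respectTransparency false in
theorem mul_eq_zero_of_mem_simple {f : G → ℂ} (hf : IsClassFunction G f)
    (h : ∀ χ : IrrCharacter G, ∑ g, f g * (χ : G → ℂ) g = 0)
    (S : Submodule ℂ[G] ℂ[G]) (hS : IsSimpleModule ℂ[G] S) (s : ℂ[G]) (hs : s ∈ S) :
    funToAlg f * s = 0 := by
  have hirr : (Representation.ofModule (k := ℂ) (G := G) S).IsIrreducible :=
    (Representation.isSimpleModule_iff_irreducible_ofModule S).1 hS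
  have hfin := finite_restrictScalars_submodule S
  have hχ := isIrrCharacter_of_irreducible (Representation.ofModule (k := ℂ) (G := G) S)
  have h0 := asAlgebraHom_funToAlg_eq_zero (Representation.ofModule (k := ℂ) (G := G) S) hf
    (h ⟨_, hχ⟩)
  have h1 := Representation.ofModule_asAlgebraHom_apply_apply (k := ℂ) (G := G) S (funToAlg f)
    ((RestrictScalars.addEquiv ℂ ℂ[G] S).symm ⟨s, hs⟩)
  rw [h0] at h1
  simp only [LinearMap.zero_apply, AddEquiv.apply_symm_apply] at h1
  have h2 : funToAlg f • (⟨s, hs⟩ : S) = 0 := by
    have := congrArg (RestrictScalars.addEquiv ℂ ℂ[G] S) h1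
    simpa using this.symm
  have := congrArg Subtype.val h2
  simpa using this

/-- Completeness: a class function orthogonal to all irreducible characters vanishes. -/
theorem eq_zero_of_forall_irr_sum_eq_zero {f : G → ℂ} (hf : IsClassFunction G f)
    (h : ∀ χ : IrrCharacter G, ∑ g, f g * (χ : G → ℂ) g = 0) : f = 0 := by
  have hcen : funToAlg f ∈ Submonoid.center ℂ[G] := funToAlg_mem_center hf
  -- the left submodule of elements killed by right multiplication by `a`
  let K : Submodule ℂ[G] ℂ[G] :=
    { carrier := {x | x * funToAlg f = 0}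
      add_mem' := by
        intro x y hx hy
        simp only [Set.mem_ofPred_eq] at hx hy ⊢
        rw [add_mul, hx, hy, add_zero]
      zero_mem' := by simp
      smul_mem' := by
        intro r x hx
        simp only [Set.mem_ofPred_eq] at hx ⊢
        rw [smul_eq_mul, mul_assoc, hx, mul_zero] }
  have hK : ∀ S : Submodule ℂ[G] ℂ[G], IsSimpleModule ℂ[G] S → S ≤ K := by
    intro S hS s hs
    show s * funToAlg f = 0
    rw [Submonoid.mem_center_iff.1 hcen s]
    exact mul_eq_zero_of_mem_simple hf h S hS s hs
  have htop : (⊤ : Submodule ℂ[G] ℂ[G]) ≤ K := by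
    rw [← IsSemisimpleModule.sSup_simples_eq_top ℂ[G] ℂ[G]]
    exact sSup_le fun S hS => hK S hS
  have h1 : (1 : ℂ[G]) ∈ K := htop trivial
  have ha0 : funToAlg f = 0 := by
    have : (1 : ℂ[G]) * funToAlg f = 0 := h1
    simpa using this
  funext g
  have := funToAlg_coeff f g
  rw [ha0] at this
  simpa using this.symm

end


section
variable {G : Type*} [Group G]

theorem isClassFunction_of_isCharacter {χ : G → ℂ} (h : IsCharacter G χ) : IsClassFunction G χ := by
  obtain ⟨n, ρ, rfl⟩ := h
  intro g k
  exact Representation.char_conj ρ g k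

theorem irr_isCharacter (χ : IrrCharacter G) : IsCharacter G (χ : G → ℂ) := by
  obtain ⟨χ, n, ρ, _, rfl⟩ := χ
  exact ⟨n, ρ, rfl⟩

theorem irr_isClassFunction (χ : IrrCharacter G) : IsClassFunction G (χ : G → ℂ) :=
  isClassFunction_of_isCharacter (irr_isCharacter χ)

theorem isClassFunction_add {f₁ f₂ : G → ℂ} (h₁ : IsClassFunction G f₁) (h₂ : IsClassFunction G f₂) :
    IsClassFunction G (f₁ + f₂) := fun g k => by simp [h₁ g k, h₂ g k]

theorem isClassFunction_sub {f₁ f₂ : G → ℂ} (h₁ : IsClassFunction G f₁) (h₂ : IsClassFunction G f₂) :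
    IsClassFunction G (f₁ - f₂) := fun g k => by simp [h₁ g k, h₂ g k]

theorem isClassFunction_smul (c : ℂ) {f : G → ℂ} (h : IsClassFunction G f) :
    IsClassFunction G (c • f) := fun g k => by simp [h g k]

theorem isClassFunction_zero : IsClassFunction G (0 : G → ℂ) := fun _ _ => rfl

theorem isClassFunction_sum {ι : Type*} (s : Finset ι) (f : ι → G → ℂ)
    (h : ∀ i ∈ s, IsClassFunction G (f i)) : IsClassFunction G (∑ i ∈ s, f i) := by
  intro g k
  simp only [Finset.sum_apply]
  exact Finset.sum_congr rfl fun i hi => h i hi g k

theorem isClassFunction_conj {f : G → ℂ} (h : IsClassFunction G f) :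
    IsClassFunction G (fun g => conj (f g)) := fun g k => by simp [h g k]

theorem isClassFunction_iff_isConj {f : G → ℂ} :
    IsClassFunction G f ↔ ∀ g h : G, IsConj g h → f g = f h := by
  constructor
  · intro hf g h hgh
    obtain ⟨c, hc⟩ := isConj_iff.1 hgh
    rw [← hc, hf]
  · intro hf g k
    exact (hf g _ (isConj_iff.2 ⟨k, rfl⟩)).symm

variable [Fintype G]

/-- Completeness, inner product form. -/
theorem eq_zero_of_forall_classInner_eq_zero {f : G → ℂ} (hf : IsClassFunction G f)
    (h : ∀ χ : IrrCharacter G, classInner f (χ : G → ℂ) = 0) : f = 0 := by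
  have h' : (fun g => conj (f g)) = 0 := by
    apply eq_zero_of_forall_irr_sum_eq_zero (isClassFunction_conj hf)
    intro χ
    have := h χ
    unfold classInner at this
    have hne : (Nat.card G : ℂ)⁻¹ ≠ 0 := inv_ne_zero card_ne_zero_complex
    have h2 := (mul_eq_zero.1 this).resolve_left hne
    have h3 := congrArg conj h2
    simpa using h3
  funext g
  have := congrFun h' g
  simpa using this

/-- Every class function is the combination of the irreducible characters with coefficients the
inner products. -/
theorem classFunction_expansion [Fintype (IrrCharacter G)] {f : G → ℂ} (hf : IsClassFunction G f) :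
    f = ∑ χ : IrrCharacter G, classInner f (χ : G → ℂ) • (χ : G → ℂ) := by
  classical
  have hcf : IsClassFunction G (f - ∑ χ : IrrCharacter G, classInner f (χ : G → ℂ) • (χ : G → ℂ)) :=
    isClassFunction_sub hf (isClassFunction_sum _ _ fun χ _ => isClassFunction_smul _ (irr_isClassFunction χ))
  have := eq_zero_of_forall_classInner_eq_zero hcf (by
    intro ψ
    have hsub : ∀ a b c : G → ℂ, classInner (a - b) c = classInner a c - classInner b c := by
      intro a b c
      have := classInner_add_left (a - b) b c
      rw [sub_add_cancel] at this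
      rw [this]; ring
    rw [hsub, classInner_sum_left]
    simp only [classInner_smul_left]
    rw [Finset.sum_eq_single ψ]
    · rw [classInner_irr_self, mul_one, sub_self]
    · intro χ _ hne
      rw [classInner_irr_ne hne, mul_zero]
    · intro hn; exact absurd (Finset.mem_univ ψ) hn)
  exact sub_eq_zero.1 this

end


section
variable {G : Type*} [Group G]

/-- The index of the centralizer of `h` is the size of its conjugacy class. -/
theorem index_centralizer_eq_ncard (h : G) :
    (Subgroup.centralizer ({h} : Set G)).index = {x : G | IsConj h x}.ncard := by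
  have h1 := Subgroup.index_comap_of_surjective (MulAction.stabilizer (ConjAct G) h)
    (f := (ConjAct.toConjAct (G := G)).toMonoidHom) (ConjAct.toConjAct (G := G)).surjective
  have h2 : (Subgroup.centralizer ({h} : Set G)).index =
      (MulAction.stabilizer (ConjAct G) h).index := by
    rw [Subgroup.centralizer_eq_comap_stabilizer]; exact h1
  rw [h2, MulAction.index_stabilizer]
  congr 1
  ext x
  rw [ConjAct.mem_orbit_conjAct]
  exact ⟨fun hx => hx.symm, fun hx => hx.symm⟩

theorem card_class_mul_card_centralizer (h : G) :
    {x : G | IsConj h x}.ncard * Nat.card (Subgroup.centralizer ({h} : Set G)) = Nat.card G := by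
  rw [← index_centralizer_eq_ncard, Subgroup.index_mul_card]

variable [Fintype G]

/-- The inner product of the indicator function of the class of `h` with a class function. -/
theorem classInner_indicator_class [DecidableEq G] (h : G) {ψ : G → ℂ} (hψ : IsClassFunction G ψ)
    [DecidablePred fun x => IsConj h x] :
    classInner (fun x => if IsConj h x then (1 : ℂ) else 0) ψ =
      (Nat.card (Subgroup.centralizer ({h} : Set G)) : ℂ)⁻¹ * conj (ψ h) := by
  unfold classInner
  have h1 : ∑ g : G, (if IsConj h g then (1 : ℂ) else 0) * conj (ψ g)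
      = ∑ g ∈ Finset.univ.filter (fun x => IsConj h x), conj (ψ h) := by
    rw [Finset.sum_filter]
    refine Finset.sum_congr rfl fun g _ => ?_
    split_ifs with hc
    · rw [one_mul, (isClassFunction_iff_isConj.1 hψ) h g hc]
    · rw [zero_mul]
  rw [h1, Finset.sum_const, nsmul_eq_mul]
  have h2 : (Finset.univ.filter (fun x => IsConj h x)).card = {x : G | IsConj h x}.ncard := by
    rw [Set.ncard_eq_toFinset_card']
    congr 1
    ext x
    simp
  rw [h2]
  have h3 := card_class_mul_card_centralizer h
  have hc : (Nat.card (Subgroup.centralizer ({h} : Set G)) : ℂ) ≠ 0 := by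
    have : 0 < Nat.card (Subgroup.centralizer ({h} : Set G)) := Nat.card_pos
    exact_mod_cast this.ne'
  have h4 : (Nat.card G : ℂ) = ({x : G | IsConj h x}.ncard : ℂ) * (Nat.card (Subgroup.centralizer ({h} : Set G)) : ℂ) := by
    exact_mod_cast h3.symm
  rw [h4]
  have hn : (({x : G | IsConj h x}.ncard : ℕ) : ℂ) ≠ 0 := by
    intro h0
    rw [h0, zero_mul] at h4
    exact card_ne_zero_complex h4
  field_simp

/-- Second orthogonality relation (column orthogonality). -/
theorem column_orthogonality [Fintype (IrrCharacter G)] (g h : G) [Decidable (IsConj h g)] :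
    ∑ χ : IrrCharacter G, (χ : G → ℂ) g * conj ((χ : G → ℂ) h) =
      if IsConj h g then (Nat.card (Subgroup.centralizer ({h} : Set G)) : ℂ) else 0 := by
  classical
  have hcf : IsClassFunction G (fun x => if IsConj h x then (1 : ℂ) else 0) := by
    rw [isClassFunction_iff_isConj]
    intro a b hab
    have : IsConj h a ↔ IsConj h b := ⟨fun k => k.trans hab, fun k => k.trans hab.symm⟩
    simp only [this]
  have hexp := congrFun (classFunction_expansion hcf) g
  simp only [Finset.sum_apply, Pi.smul_apply, smul_eq_mul] at hexp
  have hc : (Nat.card (Subgroup.centralizer ({h} : Set G)) : ℂ) ≠ 0 := by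
    have : 0 < Nat.card (Subgroup.centralizer ({h} : Set G)) := Nat.card_pos
    exact_mod_cast this.ne'
  have h2 : ∑ χ : IrrCharacter G, (χ : G → ℂ) g * conj ((χ : G → ℂ) h) =
      (Nat.card (Subgroup.centralizer ({h} : Set G)) : ℂ) *
        ∑ χ : IrrCharacter G, classInner (fun x => if IsConj h x then (1 : ℂ) else 0) (χ : G → ℂ) * (χ : G → ℂ) g := by
    rw [Finset.mul_sum]
    refine Finset.sum_congr rfl fun χ _ => ?_
    rw [classInner_indicator_class h (irr_isClassFunction χ)]
    field_simp
  rw [h2, ← hexp]
  split_ifs with hgh <;> simp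

end


section
variable {G : Type*} [Group G]

/-- The space of class functions. -/
def classFunctions (G : Type*) [Group G] : Submodule ℂ (G → ℂ) where
  carrier := {f | IsClassFunction G f}
  add_mem' := fun h₁ h₂ => isClassFunction_add h₁ h₂
  zero_mem' := isClassFunction_zero
  smul_mem' := fun c _ h => isClassFunction_smul c h

theorem mem_classFunctions {f : G → ℂ} : f ∈ classFunctions G ↔ IsClassFunction G f := Iff.rfl

/-- Pull back a function on conjugacy classes to a class function. -/
def classFunctionsMap (G : Type*) [Group G] : (ConjClasses G → ℂ) →ₗ[ℂ] classFunctions G where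
  toFun := fun F => ⟨fun g => F (ConjClasses.mk g), by
    rw [mem_classFunctions, isClassFunction_iff_isConj]
    intro g h hgh
    rw [ConjClasses.mk_eq_mk_iff_isConj.2 hgh]⟩
  map_add' := fun _ _ => rfl
  map_smul' := fun _ _ => rfl

theorem classFunctionsMap_apply (F : ConjClasses G → ℂ) (g : G) :
    (classFunctionsMap G F : G → ℂ) g = F (ConjClasses.mk g) := rfl

theorem classFunctionsMap_bijective : Function.Bijective (classFunctionsMap G) := by
  constructor
  · intro F₁ F₂ h
    funext c
    obtain ⟨g, rfl⟩ := ConjClasses.mk_surjective c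
    have := congrFun (congrArg Subtype.val h) g
    simpa [classFunctionsMap_apply] using this
  · rintro ⟨f, hf⟩
    refine ⟨fun c => Quotient.liftOn c f (fun a b hab => (isClassFunction_iff_isConj.1 hf) a b hab), ?_⟩
    apply Subtype.ext
    funext g
    rfl

/-- Class functions are the same as functions on conjugacy classes. -/
noncomputable def classFunctionsEquiv (G : Type*) [Group G] :
    (ConjClasses G → ℂ) ≃ₗ[ℂ] classFunctions G :=
  LinearEquiv.ofBijective (classFunctionsMap G) classFunctionsMap_bijective

variable [Fintype G]

theorem span_irr_eq_classFunctions :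
    Submodule.span ℂ (Set.range (fun χ : IrrCharacter G => (χ : G → ℂ))) = classFunctions G := by
  classical
  have := Fintype.ofFinite (IrrCharacter G)
  apply le_antisymm
  · rw [Submodule.span_le]
    rintro _ ⟨χ, rfl⟩
    exact irr_isClassFunction χ
  · intro f hf
    rw [classFunction_expansion hf]
    refine Submodule.sum_mem _ fun χ _ => Submodule.smul_mem _ _ (Submodule.subset_span ⟨χ, rfl⟩)

/-- A finite group has exactly as many irreducible characters as conjugacy classes. -/
theorem card_irr_eq_card_conjClasses : Nat.card (IrrCharacter G) = Nat.card (ConjClasses G) := by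
  classical
  have := Fintype.ofFinite (IrrCharacter G)
  have h1 := finrank_span_eq_card (irr_linearIndependent (G := G))
  rw [span_irr_eq_classFunctions] at h1
  have h2 := (classFunctionsEquiv G).finrank_eq
  rw [h1] at h2
  have := Fintype.ofFinite (ConjClasses G)
  rw [Module.finrank_fintype_fun_eq_card] at h2
  rw [Nat.card_eq_fintype_card, Nat.card_eq_fintype_card, h2]

end

section degrees
variable {G : Type*} [Group G]

theorem character_one_coord {n : ℕ} (ρ : Representation ℂ G (Fin n → ℂ)) : ρ.character 1 = n := by
  simp [Representation.char_one]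

theorem charDegree_natCast_fun {χ : G → ℂ} {n : ℕ} (h : χ 1 = n) : charDegree χ = n := by
  simp [charDegree, h]

/-- The value at `1` of a character is its degree `charDegree`, a natural number. -/
theorem isCharacter_one {χ : G → ℂ} (h : IsCharacter G χ) : χ 1 = (charDegree χ : ℂ) := by
  obtain ⟨n, ρ, rfl⟩ := h
  have h1 := character_one_coord ρ
  rw [charDegree_natCast_fun h1, h1]

theorem irr_one (χ : IrrCharacter G) : (χ : G → ℂ) 1 = (charDegree (χ : G → ℂ) : ℂ) :=
  isCharacter_one (irr_isCharacter χ)

theorem irr_charDegree_pos (χ : IrrCharacter G) : 0 < charDegree (χ : G → ℂ) := by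
  obtain ⟨χ, n, ρ, hρ, rfl⟩ := χ
  have := hρ
  have h1 := character_one_coord ρ
  rw [charDegree_natCast_fun h1]
  have := finrank_pos_of_irreducible ρ
  simpa using this

theorem irr_one_ne_zero (χ : IrrCharacter G) : (χ : G → ℂ) 1 ≠ 0 := by
  rw [irr_one]
  exact_mod_cast (irr_charDegree_pos χ).ne'

/-- For an irreducible representation on any finite-dimensional space, the degree of the character is the dimension. -/
theorem charDegree_character {V : Type*} [AddCommGroup V] [Module ℂ V] [FiniteDimensional ℂ V]
    (ρ : Representation ℂ G V) : charDegree ρ.character = Module.finrank ℂ V :=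
  charDegree_natCast_fun (Representation.char_one ρ)

variable [Fintype G]

/-- The squares of the degrees of the irreducible characters add up to the group order. -/
theorem sum_irr_one_sq [Fintype (IrrCharacter G)] :
    ∑ χ : IrrCharacter G, (χ : G → ℂ) 1 ^ 2 = (Nat.card G : ℂ) := by
  classical
  have h := column_orthogonality (G := G) 1 1
  rw [if_pos (IsConj.refl 1)] at h
  have hc : Subgroup.centralizer ({1} : Set G) = ⊤ := by
    ext x; simp [Subgroup.mem_centralizer_iff]
  rw [hc] at h
  have h2 : Nat.card (⊤ : Subgroup G) = Nat.card G := Subgroup.card_top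
  rw [h2] at h
  rw [← h]
  refine Finset.sum_congr rfl fun χ _ => ?_
  rw [irr_one, Complex.conj_natCast, sq]

theorem sum_charDegree_sq [Fintype (IrrCharacter G)] :
    ∑ χ : IrrCharacter G, charDegree (χ : G → ℂ) ^ 2 = Nat.card G := by
  have h := sum_irr_one_sq (G := G)
  have h2 : ∑ χ : IrrCharacter G, (χ : G → ℂ) 1 ^ 2
      = ((∑ χ : IrrCharacter G, charDegree (χ : G → ℂ) ^ 2 : ℕ) : ℂ) := by
    push_cast
    exact Finset.sum_congr rfl fun χ _ => by rw [irr_one]
  rw [h2] at h
  exact_mod_cast h

/-- Two elements are conjugate iff all irreducible characters agree on them. -/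
theorem isConj_iff_forall_irr_eq (g h : G) :
    IsConj g h ↔ ∀ χ : IrrCharacter G, (χ : G → ℂ) g = (χ : G → ℂ) h := by
  classical
  have := Fintype.ofFinite (IrrCharacter G)
  constructor
  · intro hgh χ
    exact (isClassFunction_iff_isConj.1 (irr_isClassFunction χ)) g h hgh
  · intro hall
    by_contra hn
    have h1 := column_orthogonality (G := G) g h
    have hn' : ¬ IsConj h g := fun k => hn k.symm
    rw [if_neg hn'] at h1
    have h2 := column_orthogonality (G := G) h h
    rw [if_pos (IsConj.refl h)] at h2
    have h3 : ∑ χ : IrrCharacter G, (χ : G → ℂ) g * conj ((χ : G → ℂ) h) =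
        ∑ χ : IrrCharacter G, (χ : G → ℂ) h * conj ((χ : G → ℂ) h) :=
      Finset.sum_congr rfl fun χ _ => by rw [hall χ]
    rw [h1, h2] at h3
    have hc : (Nat.card (Subgroup.centralizer ({h} : Set G)) : ℂ) ≠ 0 := by
      have : 0 < Nat.card (Subgroup.centralizer ({h} : Set G)) := Nat.card_pos
      exact_mod_cast this.ne'
    exact hc h3.symm

end degrees

section finsum
variable {G : Type*} [Group G] [Finite G]

theorem finsum_irr_eq_sum [Fintype (IrrCharacter G)] {M : Type*} [AddCommMonoid M]
    (F : IrrCharacter G → M) : ∑ᶠ χ : IrrCharacter G, F χ = ∑ χ : IrrCharacter G, F χ :=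
  finsum_eq_sum_of_fintype F

end finsum

end Cfsg.Agent.Helper79
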