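import Cfsg.Agent.Helper79.BRPCb
import Cfsg.Agent.Helper79.BRTT
import Cfsg.Agent.Helper79.CharComplete

set_option autoImplicit false
set_option linter.style.haveILetI false
set_option linter.unusedSectionVars false
set_option linter.unusedVariables false

/-!
Piece (PCa) of helper25's Brauer-Reynolds plan (S0999 / S4701): in the rigid configuration, the
permutation character on the Sylow `p`-subgroups contains none of the non-principal characters of
the principal block, and every other irreducible character `ψ` with multiplicity `ψ(1) / p`.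
-/

namespace Cfsg.Agent.Helper79.BR

open Cfsg Cfsg.Agent.Helper74 Cfsg.Agent.Helper25.BR
open scoped ComplexConjugate

universe u

/-- first arithmetic core: the multiplicities on `Xp`, `Xm`, `Y` vanish -/
theorem pca_arith1 (p e t s A B C D A2 B2 C2 O2 : ℤ) (hp : 2 ≤ p) (he : 1 ≤ e) (ht : 1 ≤ t)
    (het : e * t = p - 1) (hs : s = t * (p - e))
    (hA : 0 ≤ A) (hB : 0 ≤ B) (hC : 0 ≤ C) (hD : 0 ≤ D)
    (hCC : C ≤ C2) (hA2 : 0 ≤ A2) (hB2 : 0 ≤ B2) (hO2 : 0 ≤ O2)
    (Edeg : s = 1 + s * A + (p - 1) * B + (p - e) * C + D)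
    (ET : s + p - 1 = p + (s + p - 1) * A + p * C + D)
    (Erk : 1 + A2 + B2 + C2 + O2 ≤ t) : A = 0 ∧ B = 0 ∧ C = 0 := by
  have hsp : s + p - 1 = t * p := by rw [hs]; linear_combination (-1 : ℤ) * het
  rw [hsp] at ET
  have htp : 0 < t * p := by positivity
  have hpC : 0 ≤ p * C := mul_nonneg (by linarith) hC
  have hA0 : A = 0 := by
    by_contra hne
    have h1 : 1 ≤ A := by omega
    have := mul_le_mul_of_nonneg_left h1 htp.le
    linarith
  subst hA0
  have h2 : e * (t * B) = e * C := by linear_combination (-1 : ℤ) * Edeg + ET + hsp + B * het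
  have he0 : e ≠ 0 := by linarith
  have h3 : t * B = C := mul_left_cancel₀ he0 h2
  have hB0 : B = 0 := by
    by_contra hne
    have h1 : 1 ≤ B := by omega
    have := mul_le_mul_of_nonneg_left h1 (by linarith : (0 : ℤ) ≤ t)
    linarith
  subst hB0
  refine ⟨rfl, rfl, ?_⟩
  rw [← h3]; ring

/-- second arithmetic core: the sum of the squares of `deg / p` over the other characters -/
theorem pca_arith2 (p e t k s D2 : ℤ) (hp : 2 ≤ p)
    (het : e * t = p - 1) (hek : e = 2 + t * k) (hs : s = t * (p - e))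
    (E : 1 + k * s ^ 2 + (1 + (t - 1) * k) * (p - 1) ^ 2 + t * (p - e) ^ 2 + p ^ 2 * D2 =
      p * (p - 1) * (p - e)) : D2 = t - 1 := by
  have hp0 : p ^ 2 ≠ 0 := by positivity
  apply mul_left_cancel₀ hp0
  have hp' : p = e * t + 1 := by linarith
  subst hs
  subst hp'
  subst hek
  linear_combination E

variable {G : Type u} [Group G] [Fintype G]

/-- a non-identity element of a Sylow subgroup of order `p` normalizes no other Sylow subgroup -/
theorem fixedBy_sylow_eq {p : ℕ} [Fact p.Prime] (P : Sylow p G) (hP : Nat.card P = p)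
    (u : G) (hu : u ∈ (P : Subgroup G)) (hu1 : u ≠ 1) :
    MulAction.fixedBy (Sylow p G) u = {P} := by
  ext Q
  rw [MulAction.mem_fixedBy, Set.mem_singleton_iff, Sylow.smul_eq_iff_mem_normalizer]
  constructor
  · intro hQ
    have h1 : u ∈ (P : Subgroup G) ⊓ (Q : Subgroup G) := by
      rw [← IsPGroup.inf_normalizer_sylow P.2 Q]
      exact ⟨hu, hQ⟩
    have hPle : (P : Subgroup G) ≤ (Q : Subgroup G) := by
      intro x hx
      have hne : (⟨u, hu⟩ : ↥(P : Subgroup G)) ≠ 1 := fun h => hu1 (congrArg Subtype.val h)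
      have hz : (⟨x, hx⟩ : ↥(P : Subgroup G)) ∈ Subgroup.zpowers (⟨u, hu⟩ : ↥(P : Subgroup G)) :=
        mem_zpowers_of_prime_card hP hne
      obtain ⟨n, hn⟩ := Subgroup.mem_zpowers_iff.mp hz
      have hx' : x = u ^ n := by
        have := congrArg Subtype.val hn
        simpa using this.symm
      rw [hx']
      exact Subgroup.zpow_mem _ h1.2 n
    exact Sylow.ext (P.is_maximal' Q.2 hPle)
  · rintro rfl
    exact Subgroup.le_normalizer hu

theorem card_sylow_of_rigid {p e t k : ℕ} [Fact p.Prime]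
    {P : Sylow p G} {Xp Xm Y : Finset (IrrCharacter G)} (h : Rigid p e t k P Xp Xm Y) :
    Nat.card (Sylow p G) = t * (p - e) := by
  have hp : p.Prime := Fact.out
  rw [show Nat.card (Sylow p G) = (Subgroup.normalizer ((P : Subgroup G) : Set G)).index from
    Sylow.card_eq_index_normalizer P]
  have h1 := Subgroup.card_mul_index (Subgroup.normalizer ((P : Subgroup G) : Set G))
  rw [h.cardN, h.cardG, ← h.het] at h1
  have he0 : 0 < e := by
    rcases Nat.eq_zero_or_pos e with h0 | h0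
    · have := h.hek
      omega
    · exact h0
  have hpe : 0 < p * e := Nat.mul_pos hp.pos he0
  apply Nat.eq_of_mul_eq_mul_left hpe
  rw [h1]
  ring

/-- the number of orbits of `P` on the Sylow subgroups -/
theorem card_orbits_sylow {p : ℕ} [Fact p.Prime] (P : Sylow p G) (hP : Nat.card P = p) (t : ℕ)
    (hs : Nat.card (Sylow p G) + (p - 1) = t * p) :
    Nat.card (MulAction.orbitRel.Quotient ↥(P : Subgroup G) (Sylow p G)) = t := by
  classical
  haveI : Fintype ↥(P : Subgroup G) := Fintype.ofFinite _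
  haveI : Fintype (Sylow p G) := Fintype.ofFinite _
  have hp : p.Prime := Fact.out
  have hb := Helper12.PermCharBasics.burnside (G := ↥(P : Subgroup G)) (Sylow p G)
  rw [← Finset.add_sum_erase Finset.univ _ (Finset.mem_univ (1 : ↥(P : Subgroup G)))] at hb
  have h1 : Nat.card (MulAction.fixedBy (Sylow p G) (1 : ↥(P : Subgroup G))) =
      Nat.card (Sylow p G) := by
    rw [MulAction.fixedBy_one_eq_univ]
    exact Nat.card_congr (Equiv.Set.univ _)
  have h2 : ∑ x ∈ Finset.univ.erase (1 : ↥(P : Subgroup G)),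
      Nat.card (MulAction.fixedBy (Sylow p G) x) = p - 1 := by
    have : ∀ x ∈ Finset.univ.erase (1 : ↥(P : Subgroup G)),
        Nat.card (MulAction.fixedBy (Sylow p G) x) = 1 := by
      intro x hx
      have hx1 : (x : G) ≠ 1 := fun h => Finset.ne_of_mem_erase hx (Subtype.ext h)
      have : MulAction.fixedBy (Sylow p G) x = MulAction.fixedBy (Sylow p G) (x : G) := rfl
      rw [this, fixedBy_sylow_eq P hP x x.2 hx1]
      simp
    rw [Finset.sum_congr rfl this, Finset.sum_const, Finset.card_erase_of_mem (Finset.mem_univ _),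
      Finset.card_univ, ← Nat.card_eq_fintype_card, hP, smul_eq_mul, mul_one]
  rw [h1, h2, hP, hs] at hb
  exact (Nat.eq_of_mul_eq_mul_right hp.pos hb).symm

theorem card_suborbits_le {p : ℕ} [Fact p.Prime] (P : Sylow p G) :
    Nat.card (MulAction.orbitRel.Quotient (MulAction.stabilizer G P) (Sylow p G)) ≤
      Nat.card (MulAction.orbitRel.Quotient ↥(P : Subgroup G) (Sylow p G)) := by
  have hle : ∀ x y : Sylow p G, MulAction.orbitRel ↥(P : Subgroup G) (Sylow p G) x y →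
      MulAction.orbitRel (MulAction.stabilizer G P) (Sylow p G) x y := by
    intro x y hxy
    rw [MulAction.orbitRel_apply] at hxy ⊢
    obtain ⟨u, hu⟩ := hxy
    refine ⟨⟨(u : G), ?_⟩, hu⟩
    rw [MulAction.mem_stabilizer_iff, Sylow.smul_eq_iff_mem_normalizer]
    exact Subgroup.le_normalizer u.2
  haveI : Finite (MulAction.orbitRel.Quotient ↥(P : Subgroup G) (Sylow p G)) :=
    Quotient.finite _
  refine Nat.card_le_card_of_surjective (Quotient.map' id hle) ?_
  intro q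
  induction q using Quotient.inductionOn' with
  | h x => exact ⟨Quotient.mk'' x, rfl⟩

/-- splitting a sum (in any additive commutative monoid) over the irreducible characters along
`{1} ∪ Xp ∪ Xm ∪ Y ∪ rest` -/
theorem sum_irr_split_gen {M : Type*} [AddCommMonoid M] [Fintype (IrrCharacter G)]
    [DecidableEq (IrrCharacter G)] (Xp Xm Y : Finset (IrrCharacter G))
    (one_Xp : Helper79.principalIrr G ∉ Xp) (one_Xm : Helper79.principalIrr G ∉ Xm)
    (one_Y : Helper79.principalIrr G ∉ Y)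
    (disj_pm : Disjoint Xp Xm) (disj_pY : Disjoint Xp Y) (disj_mY : Disjoint Xm Y)
    (F : IrrCharacter G → M) :
    ∑ ψ, F ψ = F (Helper79.principalIrr G) + ∑ ψ ∈ Xp, F ψ + ∑ ψ ∈ Xm, F ψ + ∑ ψ ∈ Y, F ψ +
      ∑ ψ ∈ Finset.univ \ insert (Helper79.principalIrr G) (Xp ∪ (Xm ∪ Y)), F ψ := by
  have h1 : Helper79.principalIrr G ∉ Xp ∪ (Xm ∪ Y) := by
    simp only [Finset.mem_union, not_or]
    exact ⟨one_Xp, one_Xm, one_Y⟩
  have h2 : Disjoint Xp (Xm ∪ Y) := Finset.disjoint_union_right.mpr ⟨disj_pm, disj_pY⟩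
  rw [← Finset.sum_sdiff (Finset.subset_univ (insert (Helper79.principalIrr G) (Xp ∪ (Xm ∪ Y)))),
    Finset.sum_insert h1, Finset.sum_union h2, Finset.sum_union disj_mY]
  abel

open Cfsg.Agent.Helper12.PermCharBasics

set_option maxHeartbeats 1000000 in
theorem mult_perm {p e t k : ℕ} [Fact p.Prime]
    {P : Sylow p G} {Xp Xm Y : Finset (IrrCharacter G)} (h : Rigid p e t k P Xp Xm Y) :
    (∀ χ ∈ Xp, classInner (Helper12.PermCharBasics.permChar G (Sylow p G)) (χ : G → ℂ) = 0) ∧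
    (∀ χ ∈ Xm, classInner (Helper12.PermCharBasics.permChar G (Sylow p G)) (χ : G → ℂ) = 0) ∧
    (∀ χ ∈ Y, classInner (Helper12.PermCharBasics.permChar G (Sylow p G)) (χ : G → ℂ) = 0) ∧
    (∀ ψ : IrrCharacter G, ψ ≠ Helper79.principalIrr G → ψ ∉ Xp → ψ ∉ Xm → ψ ∉ Y →
      (p : ℂ) * classInner (Helper12.PermCharBasics.permChar G (Sylow p G)) (ψ : G → ℂ) =
        (ψ : G → ℂ) 1) := by
  classical
  haveI : Fintype (IrrCharacter G) := irrFintype G
  haveI : Fintype (Sylow p G) := Fintype.ofFinite _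
  haveI : Fintype ↥(P : Subgroup G) := Fintype.ofFinite _
  haveI : MulAction.IsPretransitive G (Sylow p G) := Sylow.isPretransitive_of_finite
  have hp : p.Prime := Fact.out
  set one : IrrCharacter G := Helper79.principalIrr G with hone
  set π : G → ℂ := permChar G (Sylow p G) with hπ
  have hπc : IsCharacter G π := permChar_isCharacter
  -- parameters
  have he0 : 0 < e := by
    rcases Nat.eq_zero_or_pos e with h0 | h0
    · have := h.hek
      omega
    · exact h0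
  have ht0 : 0 < t := by have := h.ht; omega
  have hep : e ≤ p := by
    have h1 : e * 1 ≤ e * t := Nat.mul_le_mul_left e ht0
    have h2 := h.het
    omega
  have hcardΩ : Nat.card (Sylow p G) = t * (p - e) := card_sylow_of_rigid h
  set s : ℕ := t * (p - e) with hs
  have hsp : s + (p - 1) = t * p := by
    have h0 : t * (p - e) = t * p - t * e := Nat.mul_sub t p e
    have h1 : t * e ≤ t * p := Nat.mul_le_mul_left t hep
    have h2 := h.het
    rw [Nat.mul_comm e t] at h2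
    omega
  -- multiplicities and degrees
  set m : IrrCharacter G → ℕ := mult (Sylow p G) with hmdef
  have hm : ∀ ψ : IrrCharacter G, classInner π (ψ : G → ℂ) = (m ψ : ℂ) := fun ψ => mult_spec ψ
  set dg : IrrCharacter G → ℕ := deg with hdgdef
  have hdg : ∀ ψ : IrrCharacter G, (ψ : G → ℂ) 1 = (dg ψ : ℂ) := deg_spec
  have htriv : Helper74.irrTriv G = one := Subtype.ext rfl
  have hm1 : m one = 1 := by
    rw [← htriv]
    exact mult_irrTriv P
  have hdg1 : dg one = 1 := by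
    rw [← htriv]
    exact deg_irrTriv
  -- rank
  have hrank : ∑ ψ : IrrCharacter G, m ψ ^ 2 ≤ t := by
    rw [sum_mult_sq P]
    exact (card_suborbits_le P).trans_eq
      (card_orbits_sylow P h.cardP t (by rw [hcardΩ]; exact hsp))
  -- degree
  have hdegsum : ∑ ψ : IrrCharacter G, m ψ * dg ψ = s := by
    rw [sum_mult_deg, ← Nat.card_eq_fintype_card, hcardΩ]
  -- decomposition
  have hdec : ∀ g, π g = ∑ ψ : IrrCharacter G, (m ψ : ℂ) * (ψ : G → ℂ) g := by
    intro g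
    have h1 := congrFun (isCharacter_eq_sum_irr hπc) g
    rw [Finset.sum_apply] at h1
    rw [h1]
    refine Finset.sum_congr rfl (fun ψ _ => ?_)
    rw [Pi.smul_apply, hm ψ, smul_eq_mul]
  -- the sum over `P`
  have hTfin : ∀ f : G → ℂ, ∑ᶠ u : (P : Subgroup G), f (u : G) =
      ∑ u : ↥(P : Subgroup G), f (u : G) := fun f => finsum_eq_sum_of_fintype _
  have hπP : ∀ u : G, u ∈ (P : Subgroup G) → u ≠ 1 → π u = 1 := by
    intro u hu hu1
    show ((Nat.card (MulAction.fixedBy (Sylow p G) u) : ℕ) : ℂ) = 1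
    rw [fixedBy_sylow_eq P h.cardP u hu hu1]
    simp
  have hTπ : ∑ᶠ u : (P : Subgroup G), π (u : G) = ((t * p : ℕ) : ℂ) := by
    rw [finsum_sylow_of_const P h.cardP π 1 hπP, hπ, permChar_one, ← Nat.card_eq_fintype_card,
      hcardΩ, ← hsp, Nat.cast_add, Nat.cast_pred hp.pos]
    ring
  have hT : ∑ᶠ u : (P : Subgroup G), π (u : G) =
      ∑ ψ : IrrCharacter G, (m ψ : ℂ) * ∑ᶠ u : (P : Subgroup G), (ψ : G → ℂ) (u : G) := by
    rw [hTfin]
    simp_rw [hTfin, hdec, Finset.mul_sum]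
    exact Finset.sum_comm
  -- splitting
  set R : Finset (IrrCharacter G) := Finset.univ \ insert one (Xp ∪ (Xm ∪ Y)) with hR
  have hsplit : ∀ {M : Type} [AddCommMonoid M] (F : IrrCharacter G → M), ∑ ψ, F ψ =
      F one + ∑ ψ ∈ Xp, F ψ + ∑ ψ ∈ Xm, F ψ + ∑ ψ ∈ Y, F ψ + ∑ ψ ∈ R, F ψ :=
    fun F => sum_irr_split_gen Xp Xm Y h.one_Xp h.one_Xm h.one_Y h.disj_pm h.disj_pY h.disj_mY F
  have hRmem : ∀ ψ ∈ R, ψ ≠ one ∧ ψ ∉ Xp ∧ ψ ∉ Xm ∧ ψ ∉ Y := fun ψ hψ => mem_rest Xp Xm Y hψ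
  have hdgXp : ∀ ψ ∈ Xp, dg ψ = s := fun ψ hψ => by
    have := h.degXp ψ hψ
    rw [hdg] at this
    exact_mod_cast this
  have hdgXm : ∀ ψ ∈ Xm, dg ψ = p - 1 := fun ψ hψ => by
    have := h.degXm ψ hψ
    rw [hdg] at this
    exact_mod_cast this
  have hdgY : ∀ ψ ∈ Y, dg ψ = p - e := fun ψ hψ => by
    have := h.degY ψ hψ
    rw [hdg] at this
    exact_mod_cast this
  set A : ℕ := ∑ ψ ∈ Xp, m ψ with hA
  set B : ℕ := ∑ ψ ∈ Xm, m ψ with hB
  set C : ℕ := ∑ ψ ∈ Y, m ψ with hC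
  set D : ℕ := ∑ ψ ∈ R, m ψ * dg ψ with hD
  set A2 : ℕ := ∑ ψ ∈ Xp, m ψ ^ 2 with hA2
  set B2 : ℕ := ∑ ψ ∈ Xm, m ψ ^ 2 with hB2
  set C2 : ℕ := ∑ ψ ∈ Y, m ψ ^ 2 with hC2
  set O2 : ℕ := ∑ ψ ∈ R, m ψ ^ 2 with hO2
  have Edeg : s = 1 + A * s + B * (p - 1) + C * (p - e) + D := by
    have h0 := hdegsum
    rw [hsplit, hm1, hdg1] at h0
    have a2 : ∑ ψ ∈ Xp, m ψ * dg ψ = A * s := by
      rw [hA, Finset.sum_mul]
      exact Finset.sum_congr rfl (fun ψ hψ => by rw [hdgXp ψ hψ])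
    have a3 : ∑ ψ ∈ Xm, m ψ * dg ψ = B * (p - 1) := by
      rw [hB, Finset.sum_mul]
      exact Finset.sum_congr rfl (fun ψ hψ => by rw [hdgXm ψ hψ])
    have a4 : ∑ ψ ∈ Y, m ψ * dg ψ = C * (p - e) := by
      rw [hC, Finset.sum_mul]
      exact Finset.sum_congr rfl (fun ψ hψ => by rw [hdgY ψ hψ])
    rw [a2, a3, a4] at h0
    exact h0.symm
  have Erk : 1 + A2 + B2 + C2 + O2 ≤ t := by
    have h0 := hrank
    rw [hsplit, hm1] at h0
    exact h0
  have ET : t * p = p + A * (t * p) + C * p + D := by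
    have h0 := hT
    rw [hTπ, hsplit, hm1] at h0
    have a1 : ∑ᶠ u : (P : Subgroup G), (one : G → ℂ) (u : G) = (p : ℂ) := by
      rw [finsum_sylow_of_const P h.cardP (one : G → ℂ) 1 (fun _ _ _ => rfl)]
      show (1 : ℂ) + ((p : ℂ) - 1) * 1 = p
      ring
    have a2 : ∑ ψ ∈ Xp, (m ψ : ℂ) * ∑ᶠ u : (P : Subgroup G), (ψ : G → ℂ) (u : G) =
        ((A * (t * p) : ℕ) : ℂ) := by
      rw [hA, Finset.sum_mul, Nat.cast_sum]
      refine Finset.sum_congr rfl (fun ψ hψ => ?_)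
      rw [finsum_sylow_of_const P h.cardP (ψ : G → ℂ) 1 (h.valXp ψ hψ), hdg, hdgXp ψ hψ, ← hsp]
      push_cast [Nat.cast_pred hp.pos]
      ring
    have a3 : ∑ ψ ∈ Xm, (m ψ : ℂ) * ∑ᶠ u : (P : Subgroup G), (ψ : G → ℂ) (u : G) = 0 := by
      refine Finset.sum_eq_zero (fun ψ hψ => ?_)
      rw [finsum_sylow_of_const P h.cardP (ψ : G → ℂ) (-1) (h.valXm ψ hψ), h.degXm ψ hψ,
        Nat.cast_pred hp.pos]
      ring
    have a4 : ∑ ψ ∈ Y, (m ψ : ℂ) * ∑ᶠ u : (P : Subgroup G), (ψ : G → ℂ) (u : G) =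
        ((C * p : ℕ) : ℂ) := by
      rw [hC, Finset.sum_mul, Nat.cast_sum]
      refine Finset.sum_congr rfl (fun ψ hψ => ?_)
      rw [h.sumY ψ hψ, Nat.cast_mul]
    have a5 : ∑ ψ ∈ R, (m ψ : ℂ) * ∑ᶠ u : (P : Subgroup G), (ψ : G → ℂ) (u : G) = (D : ℂ) := by
      rw [hD, Nat.cast_sum]
      refine Finset.sum_congr rfl (fun ψ hψ => ?_)
      obtain ⟨h1, h2, h3, h4⟩ := hRmem ψ hψ
      rw [finsum_sylow_of_const P h.cardP (ψ : G → ℂ) 0 (h.other ψ h1 h2 h3 h4), hdg]
      push_cast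
      ring
    rw [a1, a2, a3, a4, a5] at h0
    have h1 : ((t * p : ℕ) : ℂ) = ((p + A * (t * p) + C * p + D : ℕ) : ℂ) := by
      rw [h0]
      push_cast
      ring
    exact_mod_cast h1
  -- integer versions
  have hpz : ((p - 1 : ℕ) : ℤ) = (p : ℤ) - 1 := Nat.cast_pred hp.pos
  have hpez : ((p - e : ℕ) : ℤ) = (p : ℤ) - e := Nat.cast_sub hep
  have hetz : (e : ℤ) * t = (p : ℤ) - 1 := by
    rw [← hpz, ← h.het, Nat.cast_mul]
  have hekz : (e : ℤ) = 2 + (t : ℤ) * k := by exact_mod_cast h.hek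
  have hsz : (s : ℤ) = (t : ℤ) * ((p : ℤ) - e) := by rw [hs, Nat.cast_mul, hpez]
  have hspz : (s : ℤ) + p - 1 = (t : ℤ) * p := by
    rw [hsz]
    linear_combination (-1 : ℤ) * hetz
  have Edegz : (s : ℤ) = 1 + (s : ℤ) * A + ((p : ℤ) - 1) * B + ((p : ℤ) - e) * C + D := by
    have h0 := congrArg (Nat.cast : ℕ → ℤ) Edeg
    push_cast [hpz, hpez] at h0
    linear_combination h0
  have ETz : (t : ℤ) * p = p + (A : ℤ) * (t * p) + C * p + D := by exact_mod_cast ET
  have ETz' : (s : ℤ) + p - 1 = p + ((s : ℤ) + p - 1) * A + (p : ℤ) * C + D := by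
    linear_combination ETz + (1 - (A : ℤ)) * hspz
  have Erkz : 1 + (A2 : ℤ) + B2 + C2 + O2 ≤ t := by exact_mod_cast Erk
  have hCC : (C : ℤ) ≤ C2 := by
    have : C ≤ C2 := Finset.sum_le_sum (fun ψ _ => Nat.le_self_pow two_ne_zero _)
    exact_mod_cast this
  obtain ⟨hA0, hB0, hC0⟩ := pca_arith1 p e t s A B C D A2 B2 C2 O2
    (by exact_mod_cast hp.two_le) (by exact_mod_cast he0) (by exact_mod_cast ht0) hetz hsz
    (Int.natCast_nonneg _) (Int.natCast_nonneg _) (Int.natCast_nonneg _) (Int.natCast_nonneg _)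
    hCC (Int.natCast_nonneg _) (Int.natCast_nonneg _) (Int.natCast_nonneg _) Edegz ETz' Erkz
  have hA0' : A = 0 := by exact_mod_cast hA0
  have hB0' : B = 0 := by exact_mod_cast hB0
  have hC0' : C = 0 := by exact_mod_cast hC0
  have hmXp : ∀ ψ ∈ Xp, m ψ = 0 := Finset.sum_eq_zero_iff.mp hA0'
  have hmXm : ∀ ψ ∈ Xm, m ψ = 0 := Finset.sum_eq_zero_iff.mp hB0'
  have hmY : ∀ ψ ∈ Y, m ψ = 0 := Finset.sum_eq_zero_iff.mp hC0'
  refine ⟨fun χ hχ => by rw [hm, hmXp χ hχ, Nat.cast_zero],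
    fun χ hχ => by rw [hm, hmXm χ hχ, Nat.cast_zero],
    fun χ hχ => by rw [hm, hmY χ hχ, Nat.cast_zero], ?_⟩
  -- divisibility of the other degrees
  have hdiv : ∀ ψ ∈ R, p ∣ dg ψ := by
    intro ψ hψ
    obtain ⟨h1, h2, h3, h4⟩ := hRmem ψ hψ
    have hres : IsCharacter ↥(P : Subgroup G) (fun u : ↥(P : Subgroup G) => (ψ : G → ℂ) u) :=
      isCharacter_restrict _ (irr_isCharacter ψ)
    obtain ⟨n, hn⟩ := isCharacter_inner_irr_nat hres (Helper79.principalIrr ↥(P : Subgroup G))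
    rw [classInner_def] at hn
    have hc : ∀ u : ↥(P : Subgroup G),
        conj ((Helper79.principalIrr ↥(P : Subgroup G) : ↥(P : Subgroup G) → ℂ) u) = 1 :=
      fun u => map_one _
    simp only [hc, mul_one] at hn
    rw [← hTfin (ψ : G → ℂ),
      finsum_sylow_of_const P h.cardP (ψ : G → ℂ) 0 (h.other ψ h1 h2 h3 h4), hdg, h.cardP] at hn
    have hp0 : (p : ℂ) ≠ 0 := by exact_mod_cast hp.ne_zero
    have h5 : (dg ψ : ℂ) = ((p * n : ℕ) : ℂ) := by
      rw [Nat.cast_mul, ← hn]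
      field_simp
      ring
    exact ⟨n, by exact_mod_cast h5⟩
  set d : IrrCharacter G → ℕ := fun ψ => dg ψ / p with hddef
  have hd : ∀ ψ ∈ R, dg ψ = p * d ψ := fun ψ hψ => (Nat.mul_div_cancel' (hdiv ψ hψ)).symm
  set Md : ℕ := ∑ ψ ∈ R, m ψ * d ψ with hMd
  set D2 : ℕ := ∑ ψ ∈ R, d ψ ^ 2 with hD2
  have hDMd : D = p * Md := by
    rw [hD, hMd, Finset.mul_sum]
    refine Finset.sum_congr rfl (fun ψ hψ => ?_)
    rw [hd ψ hψ]
    ring
  have hMdz : (Md : ℤ) = (t : ℤ) - 1 := by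
    have h0 : (t : ℤ) * p = p + (p : ℤ) * Md := by
      have h1 := ETz
      rw [hA0, hC0, hDMd] at h1
      push_cast at h1
      linear_combination h1
    have hp0 : (p : ℤ) ≠ 0 := by exact_mod_cast hp.ne_zero
    apply mul_left_cancel₀ hp0
    linear_combination (-1 : ℤ) * h0
  -- the sum of the squares of the degrees
  have hsq : ∑ ψ : IrrCharacter G, dg ψ ^ 2 = p * (p - 1) * (p - e) := by
    have h0 := Helper79.sum_irr_one_sq (G := G)
    simp_rw [hdg] at h0
    rw [h.cardG] at h0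
    exact_mod_cast h0
  have hD2z : (D2 : ℤ) = (t : ℤ) - 1 := by
    have h0 := hsq
    rw [hsplit, hdg1] at h0
    have a2 : ∑ ψ ∈ Xp, dg ψ ^ 2 = k * s ^ 2 := by
      rw [Finset.sum_congr rfl (fun ψ hψ => by rw [hdgXp ψ hψ]), Finset.sum_const, h.cardXp,
        smul_eq_mul]
    have a3 : ∑ ψ ∈ Xm, dg ψ ^ 2 = (1 + (t - 1) * k) * (p - 1) ^ 2 := by
      rw [Finset.sum_congr rfl (fun ψ hψ => by rw [hdgXm ψ hψ]), Finset.sum_const, h.cardXm,
        smul_eq_mul]
    have a4 : ∑ ψ ∈ Y, dg ψ ^ 2 = t * (p - e) ^ 2 := by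
      rw [Finset.sum_congr rfl (fun ψ hψ => by rw [hdgY ψ hψ]), Finset.sum_const, h.cardY,
        smul_eq_mul]
    have a5 : ∑ ψ ∈ R, dg ψ ^ 2 = p ^ 2 * D2 := by
      rw [hD2, Finset.mul_sum]
      refine Finset.sum_congr rfl (fun ψ hψ => ?_)
      rw [hd ψ hψ]
      ring
    rw [a2, a3, a4, a5] at h0
    have h1 := congrArg (Nat.cast : ℕ → ℤ) h0
    push_cast [hpz, hpez, Nat.cast_pred ht0] at h1
    exact pca_arith2 p e t k s D2 (by exact_mod_cast hp.two_le) hetz hekz hsz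
      (by linear_combination h1)
  have hO2z : (O2 : ℤ) ≤ (t : ℤ) - 1 := by
    have h1 : (0 : ℤ) ≤ A2 := Int.natCast_nonneg _
    have h2 : (0 : ℤ) ≤ B2 := Int.natCast_nonneg _
    have h3 : (0 : ℤ) ≤ C2 := Int.natCast_nonneg _
    linarith
  have hfin : ∑ ψ ∈ R, ((m ψ : ℤ) - d ψ) ^ 2 ≤ 0 := by
    have h0 : ∑ ψ ∈ R, ((m ψ : ℤ) - d ψ) ^ 2 = (O2 : ℤ) - 2 * Md + D2 := by
      rw [hO2, hMd, hD2]
      push_cast
      rw [Finset.mul_sum, ← Finset.sum_sub_distrib, ← Finset.sum_add_distrib]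
      exact Finset.sum_congr rfl (fun ψ _ => by ring)
    rw [h0, hMdz, hD2z]
    linarith
  have hzero := (Finset.sum_eq_zero_iff_of_nonneg (fun ψ _ => sq_nonneg ((m ψ : ℤ) - d ψ))).mp
    (le_antisymm hfin (Finset.sum_nonneg (fun ψ _ => sq_nonneg ((m ψ : ℤ) - d ψ))))
  intro ψ h1 h2 h3 h4
  have hψR : ψ ∈ R := by
    rw [hR, Finset.mem_sdiff]
    refine ⟨Finset.mem_univ _, ?_⟩
    simp only [Finset.mem_insert, Finset.mem_union, not_or]
    exact ⟨h1, h2, h3, h4⟩
  have h5 := hzero ψ hψR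
  have hmd : m ψ = d ψ := by
    have h6 : (m ψ : ℤ) - d ψ = 0 := by
      rcases pow_eq_zero_iff (two_ne_zero) |>.mp h5 with h7
      exact h7
    omega
  rw [hm, hdg, hd ψ hψR, hmd]
  push_cast
  ring

end Cfsg.Agent.Helper79.BR
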