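import Cfsg.Agent.Helper79.CharComplete

/-!
# Class sums act as scalars; class multiplication constants (helper79)
-/

set_option autoImplicit false
set_option linter.unusedSectionVars false
open Cfsg
open scoped ComplexConjugate MonoidAlgebra

namespace Cfsg.Agent.Helper79

section schur
variable {G : Type*} [Group G]

/-- Schur's lemma: an endomorphism commuting with an irreducible complex representation is a scalar. -/
theorem exists_scalar_of_commute {V : Type*} [AddCommGroup V] [Module ℂ V] [FiniteDimensional ℂ V]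
    (ρ : Representation ℂ G V) [ρ.IsIrreducible] (T : Module.End ℂ V)
    (hT : ∀ g : G, T ∘ₗ ρ g = ρ g ∘ₗ T) : ∃ c : ℂ, T = c • (1 : Module.End ℂ V) := by
  obtain ⟨c, hc⟩ := (Representation.IsIrreducible.algebraMap_intertwiningMap_bijective_of_isAlgClosed
    (ρ := ρ)).2 (⟨T, hT⟩ : ρ.IntertwiningMap ρ)
  refine ⟨c, ?_⟩
  ext v
  have := congrArg (fun S : ρ.IntertwiningMap ρ => S v) hc
  simp only [Representation.IntertwiningMap.algebraMap_apply] at this
  change _ = T v at this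
  rw [← this]
  simp

variable [Fintype G]

/-- Averaging over the conjugates of `x` in an irreducible representation gives a scalar. -/
theorem sum_conj_eq_smul {V : Type*} [AddCommGroup V] [Module ℂ V] [FiniteDimensional ℂ V]
    (ρ : Representation ℂ G V) [ρ.IsIrreducible] (x : G) :
    ∑ y : G, ρ (y * x * y⁻¹) =
      ((Nat.card G : ℂ) * ρ.character x / (Module.finrank ℂ V : ℂ)) • (1 : Module.End ℂ V) := by
  set T : Module.End ℂ V := ∑ y : G, ρ (y * x * y⁻¹) with hTdef
  have hT : ∀ g : G, T ∘ₗ ρ g = ρ g ∘ₗ T := by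
    intro g
    rw [← Module.End.mul_eq_comp, ← Module.End.mul_eq_comp, hTdef, Finset.sum_mul, Finset.mul_sum]
    rw [← Equiv.sum_comp (Equiv.mulLeft g) (fun y => ρ (y * x * y⁻¹) * ρ g)]
    refine Finset.sum_congr rfl fun y _ => ?_
    simp only [Equiv.coe_mulLeft]
    rw [← map_mul, ← map_mul]
    congr 1
    group
  obtain ⟨c, hc⟩ := exists_scalar_of_commute ρ T hT
  have htr : LinearMap.trace ℂ V T = (Nat.card G : ℂ) * ρ.character x := by
    rw [hTdef, map_sum]
    have : ∀ y : G, LinearMap.trace ℂ V (ρ (y * x * y⁻¹)) = ρ.character x := fun y =>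
      Representation.char_conj ρ x y
    simp only [this, Finset.sum_const, Finset.card_univ, nsmul_eq_mul, Nat.card_eq_fintype_card]
  rw [hc] at htr
  simp only [map_smul, LinearMap.trace_one, smul_eq_mul] at htr
  have hpos := finrank_pos_of_irreducible ρ
  have hne : (Module.finrank ℂ V : ℂ) ≠ 0 := by exact_mod_cast hpos.ne'
  rw [hc]
  congr 1
  field_simp
  exact htr

/-- Key class-sum product formula for an irreducible character. -/
theorem sum_sum_char_conj_mul {V : Type*} [AddCommGroup V] [Module ℂ V] [FiniteDimensional ℂ V]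
    (ρ : Representation ℂ G V) [ρ.IsIrreducible] (x y w : G) :
    ∑ a : G, ∑ b : G, ρ.character (a * x * a⁻¹ * (b * y * b⁻¹) * w) =
      (Nat.card G : ℂ) ^ 2 * ρ.character x * ρ.character y * ρ.character w
        / (Module.finrank ℂ V : ℂ) ^ 2 := by
  have h1 : ∑ a : G, ∑ b : G, ρ.character (a * x * a⁻¹ * (b * y * b⁻¹) * w) =
      LinearMap.trace ℂ V ((∑ a : G, ρ (a * x * a⁻¹)) * (∑ b : G, ρ (b * y * b⁻¹)) * ρ w) := by
    rw [Finset.sum_mul_sum, Finset.sum_mul, map_sum]
    refine Finset.sum_congr rfl fun a _ => ?_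
    rw [Finset.sum_mul, map_sum]
    refine Finset.sum_congr rfl fun b _ => ?_
    rw [← map_mul, ← map_mul]
    rfl
  rw [h1, sum_conj_eq_smul, sum_conj_eq_smul]
  simp only [smul_mul_assoc, one_mul, map_smul, smul_eq_mul]
  rw [show LinearMap.trace ℂ V (ρ w) = ρ.character w from rfl]
  have hpos := finrank_pos_of_irreducible ρ
  have hne : (Module.finrank ℂ V : ℂ) ≠ 0 := by exact_mod_cast hpos.ne'
  field_simp

end schur


section classmult
variable {G : Type*} [Group G] [Fintype G]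

theorem irr_inv (χ : IrrCharacter G) (g : G) : (χ : G → ℂ) g⁻¹ = conj ((χ : G → ℂ) g) := by
  obtain ⟨χ, n, ρ, hρ, rfl⟩ := χ
  exact char_inv ρ g

/-- Class-sum product formula for an irreducible character. -/
theorem irr_sum_sum_conj_mul (χ : IrrCharacter G) (x y w : G) :
    ∑ a : G, ∑ b : G, (χ : G → ℂ) (a * x * a⁻¹ * (b * y * b⁻¹) * w) =
      (Nat.card G : ℂ) ^ 2 * (χ : G → ℂ) x * (χ : G → ℂ) y * (χ : G → ℂ) w
        / ((χ : G → ℂ) 1) ^ 2 := by
  obtain ⟨χ, n, ρ, hρ, rfl⟩ := χ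
  have := hρ
  simp only
  rw [sum_sum_char_conj_mul ρ x y w, Representation.char_one]

/-- The regular character: `∑ χ, χ 1 * χ g` is `|G|` at `g = 1` and `0` elsewhere. -/
theorem sum_irr_one_mul [Fintype (IrrCharacter G)] (g : G) [Decidable (g = 1)] :
    ∑ χ : IrrCharacter G, (χ : G → ℂ) 1 * (χ : G → ℂ) g = if g = 1 then (Nat.card G : ℂ) else 0 := by
  classical
  have h := column_orthogonality (G := G) g 1
  have hc : Subgroup.centralizer ({1} : Set G) = ⊤ := by
    ext x; simp [Subgroup.mem_centralizer_iff]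
  rw [hc, Subgroup.card_top] at h
  have h2 : ∑ χ : IrrCharacter G, (χ : G → ℂ) 1 * (χ : G → ℂ) g =
      ∑ χ : IrrCharacter G, (χ : G → ℂ) g * conj ((χ : G → ℂ) 1) :=
    Finset.sum_congr rfl fun χ _ => by rw [irr_one, Complex.conj_natCast, mul_comm]
  rw [h2, h]
  have : IsConj 1 g ↔ g = 1 := isConj_one_right
  simp only [this]

/-- Class multiplication constants via characters: the number of pairs `(a, b)` with
`a x a⁻¹ * b y b⁻¹ = w` is `|G| * ∑ χ, χ x * χ y * conj (χ w) / χ 1`. -/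
theorem card_conj_mul_conj_eq [Fintype (IrrCharacter G)] [DecidableEq G] (x y w : G) :
    ((Finset.univ.filter (fun ab : G × G => ab.1 * x * ab.1⁻¹ * (ab.2 * y * ab.2⁻¹) = w)).card : ℂ) =
      (Nat.card G : ℂ) * ∑ χ : IrrCharacter G,
        (χ : G → ℂ) x * (χ : G → ℂ) y * conj ((χ : G → ℂ) w) / (χ : G → ℂ) 1 := by
  have hG : (Nat.card G : ℂ) ≠ 0 := card_ne_zero_complex
  -- double counting of `∑ χ, χ 1 * ∑ a b, χ (x^a y^b w⁻¹)`
  have h1 : ∑ χ : IrrCharacter G, (χ : G → ℂ) 1 *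
      ∑ a : G, ∑ b : G, (χ : G → ℂ) (a * x * a⁻¹ * (b * y * b⁻¹) * w⁻¹) =
      (Nat.card G : ℂ) *
        ((Finset.univ.filter (fun ab : G × G => ab.1 * x * ab.1⁻¹ * (ab.2 * y * ab.2⁻¹) = w)).card : ℂ) := by
    simp only [Finset.mul_sum]
    rw [Finset.sum_comm]
    have : ∀ a : G, ∑ χ : IrrCharacter G, ∑ b : G,
        (χ : G → ℂ) 1 * (χ : G → ℂ) (a * x * a⁻¹ * (b * y * b⁻¹) * w⁻¹) =
        ∑ b : G, if a * x * a⁻¹ * (b * y * b⁻¹) = w then (Nat.card G : ℂ) else 0 := by
      intro a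
      rw [Finset.sum_comm]
      refine Finset.sum_congr rfl fun b _ => ?_
      rw [sum_irr_one_mul]
      have : a * x * a⁻¹ * (b * y * b⁻¹) * w⁻¹ = 1 ↔ a * x * a⁻¹ * (b * y * b⁻¹) = w := by
        rw [mul_inv_eq_one]
      simp only [this]
    simp only [this]
    rw [← Finset.sum_product', Finset.card_filter]
    push_cast
    rw [Finset.mul_sum]
    refine Finset.sum_congr rfl fun ab _ => ?_
    split_ifs <;> simp
  have h2 : ∑ χ : IrrCharacter G, (χ : G → ℂ) 1 *
      ∑ a : G, ∑ b : G, (χ : G → ℂ) (a * x * a⁻¹ * (b * y * b⁻¹) * w⁻¹) =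
      (Nat.card G : ℂ) ^ 2 * ∑ χ : IrrCharacter G,
        (χ : G → ℂ) x * (χ : G → ℂ) y * conj ((χ : G → ℂ) w) / (χ : G → ℂ) 1 := by
    rw [Finset.mul_sum]
    refine Finset.sum_congr rfl fun χ _ => ?_
    rw [irr_sum_sum_conj_mul, irr_inv]
    have := irr_one_ne_zero χ
    field_simp
  rw [h1] at h2
  have h3 : (Nat.card G : ℂ) * ((Finset.univ.filter (fun ab : G × G => ab.1 * x * ab.1⁻¹ * (ab.2 * y * ab.2⁻¹) = w)).card : ℂ) = (Nat.card G : ℂ) * ((Nat.card G : ℂ) * ∑ χ : IrrCharacter G,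
        (χ : G → ℂ) x * (χ : G → ℂ) y * conj ((χ : G → ℂ) w) / (χ : G → ℂ) 1) := by
    rw [h2]; ring
  exact mul_left_cancel₀ hG h3

end classmult

end Cfsg.Agent.Helper79
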