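import Cfsg.Agent.Helper25.BRDefs
import Cfsg.Agent.Helper12.PermCharBasics
import Cfsg.Agent.Helper74.CharBasic
import Cfsg.Agent.Helper79.ClassMult

set_option autoImplicit false
set_option linter.style.haveILetI false
set_option linter.unusedSectionVars false
set_option linter.unusedVariables false

/-!
Piece (PCb) of helper25's Brauer-Reynolds plan (S0999 / S4701): the number of Sylow `p`-subgroups normalized by a
`p`-regular element, in terms of the characters of degree `p - 1`.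
-/

namespace Cfsg.Agent.Helper79.BR

open Cfsg Cfsg.Agent.Helper74 Cfsg.Agent.Helper25.BR
open scoped ComplexConjugate

universe u

variable {G : Type u} [Group G] [Fintype G]

/-- splitting a sum over the irreducible characters along `{1} ∪ Xp ∪ Xm ∪ Y ∪ rest` -/
theorem sum_irr_split [Fintype (IrrCharacter G)] [DecidableEq (IrrCharacter G)]
    (Xp Xm Y : Finset (IrrCharacter G))
    (one_Xp : Helper79.principalIrr G ∉ Xp) (one_Xm : Helper79.principalIrr G ∉ Xm)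
    (one_Y : Helper79.principalIrr G ∉ Y)
    (disj_pm : Disjoint Xp Xm) (disj_pY : Disjoint Xp Y) (disj_mY : Disjoint Xm Y)
    (F : IrrCharacter G → ℂ) :
    ∑ ψ, F ψ = F (Helper79.principalIrr G) + ∑ ψ ∈ Xp, F ψ + ∑ ψ ∈ Xm, F ψ + ∑ ψ ∈ Y, F ψ +
      ∑ ψ ∈ Finset.univ \ insert (Helper79.principalIrr G) (Xp ∪ (Xm ∪ Y)), F ψ := by
  have h1 : Helper79.principalIrr G ∉ Xp ∪ (Xm ∪ Y) := by
    simp only [Finset.mem_union, not_or]
    exact ⟨one_Xp, one_Xm, one_Y⟩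
  have h2 : Disjoint Xp (Xm ∪ Y) := Finset.disjoint_union_right.mpr ⟨disj_pm, disj_pY⟩
  rw [← Finset.sum_sdiff (Finset.subset_univ (insert (Helper79.principalIrr G) (Xp ∪ (Xm ∪ Y)))),
    Finset.sum_insert h1, Finset.sum_union h2, Finset.sum_union disj_mY]
  ring

theorem mem_rest [Fintype (IrrCharacter G)] [DecidableEq (IrrCharacter G)]
    (Xp Xm Y : Finset (IrrCharacter G)) {ψ : IrrCharacter G}
    (hψ : ψ ∈ Finset.univ \ insert (Helper79.principalIrr G) (Xp ∪ (Xm ∪ Y))) :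
    ψ ≠ Helper79.principalIrr G ∧ ψ ∉ Xp ∧ ψ ∉ Xm ∧ ψ ∉ Y := by
  rw [Finset.mem_sdiff] at hψ
  have := hψ.2
  simp only [Finset.mem_insert, Finset.mem_union, not_or] at this
  exact this

theorem fx_formula {p e t k : ℕ} [Fact p.Prime]
    {P : Sylow p G} {Xp Xm Y : Finset (IrrCharacter G)} (h : Rigid p e t k P Xp Xm Y)
    (hmult : (∀ χ ∈ Xp, classInner (Helper12.PermCharBasics.permChar G (Sylow p G)) (χ : G → ℂ) = 0) ∧
      (∀ χ ∈ Xm, classInner (Helper12.PermCharBasics.permChar G (Sylow p G)) (χ : G → ℂ) = 0) ∧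
      (∀ χ ∈ Y, classInner (Helper12.PermCharBasics.permChar G (Sylow p G)) (χ : G → ℂ) = 0) ∧
      (∀ ψ : IrrCharacter G, ψ ≠ Helper79.principalIrr G → ψ ∉ Xp → ψ ∉ Xm → ψ ∉ Y →
        (p : ℂ) * classInner (Helper12.PermCharBasics.permChar G (Sylow p G)) (ψ : G → ℂ) =
          (ψ : G → ℂ) 1))
    (g : G) (hg1 : g ≠ 1) (hg : ¬ p ∣ orderOf g) :
    (fx p g : ℂ) = (t : ℂ) * (1 - ∑ χ ∈ Xm, (χ : G → ℂ) g) := by
  classical
  haveI : Fintype (IrrCharacter G) := irrFintype G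
  haveI : Fintype (Sylow p G) := Fintype.ofFinite _
  have hp : p.Prime := Fact.out
  obtain ⟨hXp, hXm, hY, hOth⟩ := hmult
  set π : G → ℂ := Helper12.PermCharBasics.permChar G (Sylow p G) with hπ
  have hπc : IsCharacter G π := Helper12.PermCharBasics.permChar_isCharacter
  have hfx : (fx p g : ℂ) = π g := rfl
  -- decomposition of `π`
  have hdec : π g = ∑ ψ : IrrCharacter G, classInner π (ψ : G → ℂ) * (ψ : G → ℂ) g := by
    have h1 := congrFun (isCharacter_eq_sum_irr hπc) g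
    rw [Finset.sum_apply] at h1
    rw [h1]
    refine Finset.sum_congr rfl (fun ψ _ => ?_)
    rw [Pi.smul_apply, smul_eq_mul]
  have hone : classInner π ((Helper79.principalIrr G : IrrCharacter G) : G → ℂ) = 1 :=
    Helper12.PermCharBasics.classInner_permChar_one P
  -- the regular character
  have hreg : ∑ χ : IrrCharacter G, (χ : G → ℂ) 1 * (χ : G → ℂ) g = 0 := by
    rw [Helper79.sum_irr_one_mul g, if_neg hg1]
  set Pg : ℂ := ∑ χ ∈ Xp, (χ : G → ℂ) g with hPg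
  set Xg : ℂ := ∑ χ ∈ Xm, (χ : G → ℂ) g with hXg
  set R : Finset (IrrCharacter G) :=
    Finset.univ \ insert (Helper79.principalIrr G) (Xp ∪ (Xm ∪ Y)) with hR
  set Og : ℂ := ∑ ψ ∈ R, (ψ : G → ℂ) 1 * (ψ : G → ℂ) g with hO
  -- arithmetic of the parameters
  have het : (e : ℂ) * t = (p : ℂ) - 1 := by
    have : ((e * t : ℕ) : ℂ) = ((p - 1 : ℕ) : ℂ) := by rw [h.het]
    rw [Nat.cast_pred hp.pos] at this
    exact_mod_cast this
  have hep : e ≤ p := by
    have h1 : e * 1 ≤ e * t := Nat.mul_le_mul_left e (by have := h.ht; omega)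
    have h2 := h.het
    omega
  have hpe : ((p - e : ℕ) : ℂ) = (p : ℂ) - e := Nat.cast_sub hep
  have hpc : ((p - 1 : ℕ) : ℂ) = (p : ℂ) - 1 := Nat.cast_pred hp.pos
  -- `p π(g) = p + Og`
  have e1 : (p : ℂ) * π g = p + Og := by
    rw [hdec, sum_irr_split Xp Xm Y h.one_Xp h.one_Xm h.one_Y h.disj_pm h.disj_pY h.disj_mY, hone]
    have a2 : ∑ ψ ∈ Xp, classInner π (ψ : G → ℂ) * (ψ : G → ℂ) g = 0 :=
      Finset.sum_eq_zero (fun ψ hψ => by rw [hXp ψ hψ, zero_mul])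
    have a3 : ∑ ψ ∈ Xm, classInner π (ψ : G → ℂ) * (ψ : G → ℂ) g = 0 :=
      Finset.sum_eq_zero (fun ψ hψ => by rw [hXm ψ hψ, zero_mul])
    have a4 : ∑ ψ ∈ Y, classInner π (ψ : G → ℂ) * (ψ : G → ℂ) g = 0 :=
      Finset.sum_eq_zero (fun ψ hψ => by rw [hY ψ hψ, zero_mul])
    have a5 : (p : ℂ) * ∑ ψ ∈ R, classInner π (ψ : G → ℂ) * (ψ : G → ℂ) g = Og := by
      rw [hO, Finset.mul_sum]
      refine Finset.sum_congr rfl (fun ψ hψ => ?_)
      obtain ⟨h1, h2, h3, h4⟩ := mem_rest Xp Xm Y hψ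
      rw [← mul_assoc, hOth ψ h1 h2 h3 h4]
    rw [a2, a3, a4]
    have hone' : ((Helper79.principalIrr G : IrrCharacter G) : G → ℂ) g = 1 := rfl
    rw [hone']
    linear_combination a5
  -- the regular character, split
  have e2 : 1 + ((t : ℂ) * ((p : ℂ) - e)) * Pg + ((p : ℂ) - 1) * Xg +
      (t : ℂ) * (((p : ℂ) - e) * (Xg - 1 - Pg)) + Og = 0 := by
    rw [sum_irr_split Xp Xm Y h.one_Xp h.one_Xm h.one_Y h.disj_pm h.disj_pY h.disj_mY] at hreg
    have b1 : ((Helper79.principalIrr G : IrrCharacter G) : G → ℂ) 1 *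
        ((Helper79.principalIrr G : IrrCharacter G) : G → ℂ) g = 1 := by
      show (1 : ℂ) * 1 = 1
      ring
    have b2 : ∑ ψ ∈ Xp, (ψ : G → ℂ) 1 * (ψ : G → ℂ) g = ((t : ℂ) * ((p : ℂ) - e)) * Pg := by
      rw [hPg, Finset.mul_sum]
      refine Finset.sum_congr rfl (fun ψ hψ => ?_)
      rw [h.degXp ψ hψ, Nat.cast_mul, hpe]
    have b3 : ∑ ψ ∈ Xm, (ψ : G → ℂ) 1 * (ψ : G → ℂ) g = ((p : ℂ) - 1) * Xg := by
      rw [hXg, Finset.mul_sum]
      refine Finset.sum_congr rfl (fun ψ hψ => ?_)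
      rw [h.degXm ψ hψ, hpc]
    have b4 : ∑ ψ ∈ Y, (ψ : G → ℂ) 1 * (ψ : G → ℂ) g =
        (t : ℂ) * (((p : ℂ) - e) * (Xg - 1 - Pg)) := by
      have : ∀ ψ ∈ Y, (ψ : G → ℂ) 1 * (ψ : G → ℂ) g = ((p : ℂ) - e) * (Xg - 1 - Pg) := by
        intro ψ hψ
        have hr := h.rel ψ hψ g hg
        rw [h.degY ψ hψ, hpe]
        have : (ψ : G → ℂ) g = Xg - 1 - Pg := by
          rw [hXg, hPg]
          linear_combination hr
        rw [this]
      rw [Finset.sum_congr rfl this, Finset.sum_const, h.cardY, nsmul_eq_mul]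
    rw [b1, b2, b3, b4] at hreg
    exact hreg
  -- conclusion
  have hp0 : (p : ℂ) ≠ 0 := by exact_mod_cast hp.ne_zero
  rw [hfx]
  apply mul_left_cancel₀ hp0
  rw [e1]
  linear_combination e2 - (1 - Xg) * het

end Cfsg.Agent.Helper79.BR
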