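import Mathlib
import Cfsg.Prelude.Def_Blocks

set_option autoImplicit false
open Cfsg
open scoped ComplexConjugate

namespace Cfsg.Agent.Helper79

open Matrix ComplexOrder in
/-- For a matrix representation of a finite group over `ℂ`, the trace at `g⁻¹` is the conjugate
of the trace at `g` (Weyl's unitary trick in matrix form). -/
theorem matrix_trace_inv {G : Type*} [Group G] [Finite G] {n : Type*} [Fintype n] [DecidableEq n]
    (A : G →* Matrix n n ℂ) (g : G) : (A g⁻¹).trace = star (A g).trace := by
  classical
  have := Fintype.ofFinite G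
  set H : Matrix n n ℂ := ∑ x : G, (A x)ᴴ * A x with hH
  have hinv : ∀ h : G, (A h)ᴴ * H * A h = H := by
    intro h
    rw [hH, Finset.mul_sum, Finset.sum_mul]
    rw [← Equiv.sum_comp (Equiv.mulRight h) (fun x => (A x)ᴴ * A x)]
    refine Finset.sum_congr rfl fun x _ => ?_
    simp only [Equiv.coe_mulRight, map_mul, conjTranspose_mul, Matrix.mul_assoc]
  have hpd : H.PosDef := by
    have h1 : H = (A 1)ᴴ * A 1 + ∑ x ∈ Finset.univ.erase (1 : G), (A x)ᴴ * A x :=
      (Finset.add_sum_erase _ (fun x => (A x)ᴴ * A x) (Finset.mem_univ 1)).symm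
    rw [h1]
    refine Matrix.PosDef.add_posSemidef ?_ ?_
    · simpa using (Matrix.PosDef.one : (1 : Matrix n n ℂ).PosDef)
    · exact Matrix.posSemidef_sum _ fun x _ => Matrix.posSemidef_conjTranspose_mul_self _
  have hu : IsUnit H := hpd.isUnit
  obtain ⟨u, hu'⟩ := hu
  have hAg : A g * A g⁻¹ = 1 := by rw [← map_mul, mul_inv_cancel, map_one]
  have key : (A g)ᴴ = H * A g⁻¹ * (↑u⁻¹ : Matrix n n ℂ) := by
    have := hinv g
    calc (A g)ᴴ = (A g)ᴴ * H * (↑u⁻¹ : Matrix n n ℂ) := by
            rw [Matrix.mul_assoc, ← hu', Units.mul_inv, Matrix.mul_one]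
      _ = (A g)ᴴ * H * (A g * A g⁻¹) * (↑u⁻¹ : Matrix n n ℂ) := by rw [hAg, Matrix.mul_one]
      _ = ((A g)ᴴ * H * A g) * A g⁻¹ * (↑u⁻¹ : Matrix n n ℂ) := by
            simp only [Matrix.mul_assoc]
      _ = H * A g⁻¹ * (↑u⁻¹ : Matrix n n ℂ) := by rw [this]
  have : ((A g)ᴴ).trace = (A g⁻¹).trace := by
    rw [key, Matrix.trace_mul_cycle, ← hu', Units.inv_mul, Matrix.one_mul]
  rw [← this, Matrix.trace_conjTranspose]

/-- The character of a complex representation of a finite group at `g⁻¹` is the complex conjugate of
its value at `g`. -/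
theorem char_inv {G V : Type*} [Group G] [Finite G] [AddCommGroup V] [Module ℂ V]
    [FiniteDimensional ℂ V] (ρ : Representation ℂ G V) (g : G) :
    ρ.character g⁻¹ = conj (ρ.character g) := by
  classical
  let b := Module.finBasis ℂ V
  let A : G →* Matrix (Fin (Module.finrank ℂ V)) (Fin (Module.finrank ℂ V)) ℂ :=
    (LinearMap.toMatrixAlgEquiv b).toAlgHom.toRingHom.toMonoidHom.comp ρ
  have h := matrix_trace_inv A g
  have e : ∀ x : G, (A x).trace = ρ.character x := by
    intro x
    simp only [A, Representation.character]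
    rw [LinearMap.trace_eq_matrix_trace ℂ b]
    rfl
  rw [e, e] at h
  exact h



section
variable {G : Type*} [Group G] [Fintype G]

theorem card_ne_zero_complex : (Nat.card G : ℂ) ≠ 0 := by
  have : 0 < Nat.card G := Nat.card_pos
  exact_mod_cast this.ne'

/-- First orthogonality relation, for irreducible representations on arbitrary finite-dimensional spaces. -/
theorem classInner_char_irreducible {V W : Type*} [AddCommGroup V] [Module ℂ V] [FiniteDimensional ℂ V]
    [AddCommGroup W] [Module ℂ W] [FiniteDimensional ℂ W]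
    (ρ : Representation ℂ G V) (σ : Representation ℂ G W) [ρ.IsIrreducible] [σ.IsIrreducible] :
    classInner ρ.character σ.character = by classical exact if Nonempty (σ.Equiv ρ) then 1 else 0 := by
  classical
  have : Invertible (Nat.card G : ℂ) := invertibleOfNonzero card_ne_zero_complex
  have := Representation.char_orthonormal ρ σ
  unfold classInner
  simp only [← char_inv]
  convert this using 2

theorem classInner_irr_self (χ : IrrCharacter G) : classInner (χ : G → ℂ) (χ : G → ℂ) = 1 := by
  obtain ⟨χ, n, ρ, hρ, rfl⟩ := χ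
  have := hρ
  rw [classInner_char_irreducible ρ ρ]
  simp [Nonempty.intro (Representation.Equiv.refl ρ)]

theorem classInner_irr_ne {χ ψ : IrrCharacter G} (h : χ ≠ ψ) :
    classInner (χ : G → ℂ) (ψ : G → ℂ) = 0 := by
  obtain ⟨χ, n, ρ, hρ, rfl⟩ := χ
  obtain ⟨ψ, m, σ, hσ, rfl⟩ := ψ
  have := hρ
  have := hσ
  rw [classInner_char_irreducible ρ σ]
  have : ¬ Nonempty (σ.Equiv ρ) := by
    rintro ⟨e⟩
    apply h
    apply Subtype.ext
    exact (Representation.char_iso e).symm
  simp [this]

theorem classInner_irr (χ ψ : IrrCharacter G) [Decidable (χ = ψ)] :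
    classInner (χ : G → ℂ) (ψ : G → ℂ) = if χ = ψ then 1 else 0 := by
  split_ifs with h
  · subst h; exact classInner_irr_self χ
  · exact classInner_irr_ne h

end



section
variable {G : Type*} [Group G] [Fintype G]

theorem classInner_add_left (φ₁ φ₂ ψ : G → ℂ) :
    classInner (φ₁ + φ₂) ψ = classInner φ₁ ψ + classInner φ₂ ψ := by
  simp only [classInner, Pi.add_apply, add_mul, Finset.sum_add_distrib, mul_add]

theorem classInner_smul_left (c : ℂ) (φ ψ : G → ℂ) :
    classInner (c • φ) ψ = c * classInner φ ψ := by
  simp only [classInner, Pi.smul_apply, smul_eq_mul, Finset.mul_sum]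
  refine Finset.sum_congr rfl fun g _ => ?_
  ring

theorem classInner_zero_left (ψ : G → ℂ) : classInner (0 : G → ℂ) ψ = 0 := by
  simp [classInner]

theorem classInner_sum_left {ι : Type*} (s : Finset ι) (φ : ι → G → ℂ) (ψ : G → ℂ) :
    classInner (∑ i ∈ s, φ i) ψ = ∑ i ∈ s, classInner (φ i) ψ := by
  classical
  induction s using Finset.induction_on with
  | empty => simp [classInner_zero_left]
  | insert a s ha ih => rw [Finset.sum_insert ha, Finset.sum_insert ha, classInner_add_left, ih]

theorem classInner_add_right (φ ψ₁ ψ₂ : G → ℂ) :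
    classInner φ (ψ₁ + ψ₂) = classInner φ ψ₁ + classInner φ ψ₂ := by
  simp only [classInner, Pi.add_apply, map_add, mul_add, Finset.sum_add_distrib]

theorem classInner_smul_right (c : ℂ) (φ ψ : G → ℂ) :
    classInner φ (c • ψ) = conj c * classInner φ ψ := by
  simp only [classInner, Pi.smul_apply, smul_eq_mul, Finset.mul_sum, map_mul]
  refine Finset.sum_congr rfl fun g _ => ?_
  ring

theorem classInner_zero_right (φ : G → ℂ) : classInner φ (0 : G → ℂ) = 0 := by
  simp [classInner]

theorem classInner_sum_right {ι : Type*} (s : Finset ι) (φ : G → ℂ) (ψ : ι → G → ℂ) :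
    classInner φ (∑ i ∈ s, ψ i) = ∑ i ∈ s, classInner φ (ψ i) := by
  classical
  induction s using Finset.induction_on with
  | empty => simp [classInner_zero_right]
  | insert a s ha ih => rw [Finset.sum_insert ha, Finset.sum_insert ha, classInner_add_right, ih]

theorem classInner_conj_symm (φ ψ : G → ℂ) : conj (classInner φ ψ) = classInner ψ φ := by
  simp only [classInner, map_mul, map_inv₀, map_natCast, map_sum, Complex.conj_conj]
  congr 1
  refine Finset.sum_congr rfl fun g _ => ?_
  ring

/-- The irreducible characters are linearly independent functions. -/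
theorem irr_linearIndependent :
    LinearIndependent ℂ (fun χ : IrrCharacter G => (χ : G → ℂ)) := by
  classical
  rw [linearIndependent_iff']
  intro s c hc χ hχ
  have h := congrArg (fun f => classInner f (χ : G → ℂ)) hc
  simp only [classInner_sum_left, classInner_smul_left, classInner_zero_left] at h
  rw [Finset.sum_eq_single χ] at h
  · simpa [classInner_irr_self] using h
  · intro ψ _ hne
    rw [classInner_irr_ne hne, mul_zero]
  · intro hn; exact absurd hχ hn

instance irr_finite : Finite (IrrCharacter G) :=
  LinearIndependent.finite (irr_linearIndependent (G := G))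

end

/-- Version with only `[Finite G]`. -/
theorem irr_finite' {G : Type*} [Group G] [Finite G] : Finite (IrrCharacter G) := by
  have := Fintype.ofFinite G
  exact irr_finite

end Cfsg.Agent.Helper79
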