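import Cfsg.Agent.Helper79.ClassMult
import Cfsg.Agent.Helper80.Degree

/-!
# Counting arguments with class multiplication constants (helper79)
-/

set_option autoImplicit false
set_option linter.unusedSectionVars false
open Cfsg
open scoped ComplexConjugate

namespace Cfsg.Agent.Helper79

section
variable {G : Type*} [Group G] [Fintype G]

/-- The sum of a character over a subgroup is the order of the subgroup times a natural number (the
multiplicity of the principal character in the restriction). -/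
theorem sum_subgroup_char {χ : G → ℂ} (hχ : IsCharacter G χ) (P : Subgroup G) [Fintype P] :
    ∃ m : ℕ, ∑ z : P, χ z = (Nat.card P : ℂ) * m := by
  obtain ⟨n, ρ, rfl⟩ := hχ
  let σ : Representation ℂ P (Fin n → ℂ) := ρ.comp P.subtype
  have hne : (Nat.card P : ℂ) ≠ 0 := card_ne_zero_complex
  have : Invertible (Nat.card P : ℂ) := invertibleOfNonzero hne
  have h := Representation.card_inv_mul_sum_char_eq_finrank σ
  refine ⟨Module.finrank ℂ (Representation.invariants σ), ?_⟩
  rw [← h]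
  have : ∀ z : P, ρ.character z = σ.character z := fun z => rfl
  simp only [this]
  field_simp

theorem sum_subgroup_conj_char {χ : G → ℂ} (hχ : IsCharacter G χ) (P : Subgroup G) [Fintype P] :
    ∃ m : ℕ, ∑ z : P, conj (χ z) = (Nat.card P : ℂ) * m := by
  obtain ⟨m, hm⟩ := sum_subgroup_char hχ P
  refine ⟨m, ?_⟩
  rw [← map_sum, hm]
  simp

/-- If no non-identity element of the subgroup `P` is a product of a conjugate of `x` and a
conjugate of `y`, then `∑ χ, χ x * χ y = ∑ χ, χ x * χ y * |P| * m χ / χ 1` for natural numbers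
`m χ` (the multiplicity of the principal character of `P` in `χ`). -/
theorem sum_irr_mul_eq_of_no_products [Fintype (IrrCharacter G)] (P : Subgroup G) (x y : G)
    (hno : ∀ z ∈ P, z ≠ 1 → ∀ s t : G, s * x * s⁻¹ * (t * y * t⁻¹) ≠ z) :
    ∃ m : IrrCharacter G → ℕ, ∑ χ : IrrCharacter G, (χ : G → ℂ) x * (χ : G → ℂ) y =
      ∑ χ : IrrCharacter G, (χ : G → ℂ) x * (χ : G → ℂ) y * ((Nat.card P : ℂ) * m χ)
        / (χ : G → ℂ) 1 := by
  classical
  have hG : (Nat.card G : ℂ) ≠ 0 := card_ne_zero_complex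
  have hm : ∀ χ : IrrCharacter G, ∃ m : ℕ, ∑ z : P, conj ((χ : G → ℂ) z) = (Nat.card P : ℂ) * m :=
    fun χ => sum_subgroup_conj_char (irr_isCharacter χ) P
  choose m hm using hm
  refine ⟨m, ?_⟩
  -- for each `z ∈ P`, the character sum is `0` unless `z = 1`
  have hz : ∀ z : P, ∑ χ : IrrCharacter G,
      (χ : G → ℂ) x * (χ : G → ℂ) y * conj ((χ : G → ℂ) z) / (χ : G → ℂ) 1 =
      if z = 1 then ∑ χ : IrrCharacter G, (χ : G → ℂ) x * (χ : G → ℂ) y else 0 := by
    intro z
    split_ifs with h1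
    · subst h1
      refine Finset.sum_congr rfl fun χ _ => ?_
      have := irr_one_ne_zero χ
      rw [Subgroup.coe_one, irr_one, Complex.conj_natCast]
      rw [irr_one] at this
      field_simp
    · have hcard := card_conj_mul_conj_eq x y (z : G)
      have hempty : (Finset.univ.filter (fun ab : G × G =>
          ab.1 * x * ab.1⁻¹ * (ab.2 * y * ab.2⁻¹) = (z : G))) = ∅ := by
        apply Finset.filter_eq_empty_iff.2
        intro ab _
        exact hno z z.2 (fun h => h1 (Subtype.ext h)) ab.1 ab.2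
      rw [hempty, Finset.card_empty, Nat.cast_zero] at hcard
      rcases mul_eq_zero.1 hcard.symm with h | h
      · exact absurd h hG
      · exact h
  have hsum : ∑ z : P, ∑ χ : IrrCharacter G,
      (χ : G → ℂ) x * (χ : G → ℂ) y * conj ((χ : G → ℂ) z) / (χ : G → ℂ) 1 =
      ∑ χ : IrrCharacter G, (χ : G → ℂ) x * (χ : G → ℂ) y := by
    simp only [hz]
    rw [Finset.sum_ite_eq' Finset.univ (1 : P)]
    simp
  rw [← hsum, Finset.sum_comm]
  refine Finset.sum_congr rfl fun χ _ => ?_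
  rw [← hm χ, Finset.mul_sum, Finset.sum_div]

end


theorem isIntegral_natCast_complex (n : ℕ) : IsIntegral ℤ (n : ℂ) := by
  have : (n : ℂ) = algebraMap ℤ ℂ (n : ℤ) := by simp
  rw [this]
  exact isIntegral_algebraMap

/-- Arithmetic lemma: if `d ∣ N` and `¬ p ^ e ∣ d` with `1 ≤ e ≤ c`, then
`d * p ^ (c - e + 1) ∣ ordCompl[p] N * p ^ c`. -/
theorem mul_pow_dvd_ordCompl_mul_pow {p d N c e : ℕ} (hp : p.Prime) (hN : N ≠ 0) (hd : d ∣ N)
    (he : 1 ≤ e) (hec : e ≤ c) (hnd : ¬ p ^ e ∣ d) :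
    d * p ^ (c - e + 1) ∣ (N / p ^ N.factorization p) * p ^ c := by
  have hd0 : d ≠ 0 := fun h => hN (by rw [h] at hd; exact Nat.eq_zero_of_zero_dvd hd)
  have hν : d.factorization p < e := by
    by_contra hcon
    push Not at hcon
    exact hnd ((hp.pow_dvd_iff_le_factorization hd0).2 hcon)
  have h1 := Nat.ordCompl_dvd_ordCompl_of_dvd hd p
  have h2 : p ^ d.factorization p * p ^ (c - e + 1) ∣ p ^ c := by
    rw [← pow_add]
    apply pow_dvd_pow
    omega
  have h3 : d * p ^ (c - e + 1) =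
      (d / p ^ d.factorization p) * (p ^ d.factorization p * p ^ (c - e + 1)) := by
    conv_lhs => rw [← Nat.ordProj_mul_ordCompl_eq_self d p]
    ring
  rw [h3]
  exact Nat.mul_dvd_mul h1 h2

section
variable {G : Type*} [Group G] [Fintype G]

/-- The key `p`-adic integrality statement behind several "defect zero" counting arguments. -/
theorem key_integral [Fintype (IrrCharacter G)] (p : ℕ) [hp : Fact p.Prime] (P : Subgroup G) (c : ℕ)
    (hP : Nat.card P = p ^ c) (x y : G)
    (hno : ∀ z ∈ P, z ≠ 1 → ∀ s t : G, s * x * s⁻¹ * (t * y * t⁻¹) ≠ z)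
    (e : ℕ) (he : 1 ≤ e) (hec : e ≤ c)
    (hdeg : ∀ χ : IrrCharacter G, ¬ p ^ e ∣ charDegree (χ : G → ℂ)) :
    ∃ ω : ℂ, IsIntegral ℤ ω ∧
      ((Nat.card G / p ^ (Nat.card G).factorization p : ℕ) : ℂ) *
        ∑ χ : IrrCharacter G, (χ : G → ℂ) x * (χ : G → ℂ) y = (p : ℂ) ^ (c - e + 1) * ω := by
  classical
  obtain ⟨m, hm⟩ := sum_irr_mul_eq_of_no_products P x y hno
  have hN : Nat.card G ≠ 0 := Nat.card_pos.ne'
  have hk : ∀ χ : IrrCharacter G, ∃ k : ℕ,
      (Nat.card G / p ^ (Nat.card G).factorization p) * p ^ c =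
        charDegree (χ : G → ℂ) * p ^ (c - e + 1) * k := fun χ =>
    mul_pow_dvd_ordCompl_mul_pow hp.out hN
      (Cfsg.Agent.Helper80.IsIrrCharacter.charDegree_dvd_card χ.2) he hec (hdeg χ)
  choose k hk using hk
  refine ⟨∑ χ : IrrCharacter G, (χ : G → ℂ) x * (χ : G → ℂ) y * (m χ : ℂ) * (k χ : ℂ), ?_, ?_⟩
  · refine IsIntegral.sum _ fun χ _ => ?_
    refine IsIntegral.mul (IsIntegral.mul (IsIntegral.mul ?_ ?_) ?_) ?_
    · exact Cfsg.Agent.Helper80.IsCharacter.isIntegral (irr_isCharacter χ) x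
    · exact Cfsg.Agent.Helper80.IsCharacter.isIntegral (irr_isCharacter χ) y
    · exact isIntegral_natCast_complex _
    · exact isIntegral_natCast_complex _
  · rw [hm, Finset.mul_sum, Finset.mul_sum]
    refine Finset.sum_congr rfl fun χ _ => ?_
    have h1 := irr_one_ne_zero χ
    rw [irr_one] at h1 ⊢
    have hkc : ((Nat.card G / p ^ (Nat.card G).factorization p : ℕ) : ℂ) * (p : ℂ) ^ c =
        (charDegree (χ : G → ℂ) : ℂ) * (p : ℂ) ^ (c - e + 1) * (k χ : ℂ) := by
      exact_mod_cast hk χ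
    rw [hP]
    push_cast
    field_simp
    linear_combination ((χ : G → ℂ) x * (χ : G → ℂ) y * (m χ : ℂ)) * hkc

end

end Cfsg.Agent.Helper79

namespace Cfsg.Agent.Helper79

section
variable {G : Type*} [Group G] [Fintype G]

/-- Divisibility consequence of `key_integral`. -/
theorem pow_dvd_of_no_products [Fintype (IrrCharacter G)] (p : ℕ) [hp : Fact p.Prime]
    (P : Subgroup G) (c : ℕ) (hP : Nat.card P = p ^ c) (x y : G)
    (hno : ∀ z ∈ P, z ≠ 1 → ∀ s t : G, s * x * s⁻¹ * (t * y * t⁻¹) ≠ z)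
    (e : ℕ) (he : 1 ≤ e) (hec : e ≤ c)
    (hdeg : ∀ χ : IrrCharacter G, ¬ p ^ e ∣ charDegree (χ : G → ℂ))
    (N : ℕ) (hN : ∑ χ : IrrCharacter G, (χ : G → ℂ) x * (χ : G → ℂ) y = (N : ℂ)) :
    p ^ (c - e + 1) ∣ N := by
  obtain ⟨ω, hω, h⟩ := key_integral p P c hP x y hno e he hec hdeg
  rw [hN] at h
  set D := Nat.card G / p ^ (Nat.card G).factorization p with hD
  have hpne : ((p ^ (c - e + 1) : ℕ) : ℂ) ≠ 0 := by
    exact_mod_cast (pow_pos hp.out.pos _).ne'
  have hω' : ω = ((D * N : ℕ) : ℂ) / ((p ^ (c - e + 1) : ℕ) : ℂ) := by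
    rw [eq_div_iff hpne]
    push_cast
    rw [h]; ring
  rw [hω'] at hω
  have hdvd := Cfsg.Agent.Helper80.dvd_of_isIntegral_div (pow_pos hp.out.pos _).ne' hω
  have hcop : Nat.Coprime (p ^ (c - e + 1)) D :=
    Nat.Coprime.pow_left _ (Nat.coprime_ordCompl hp.out Nat.card_pos.ne')
  exact hcop.dvd_of_dvd_mul_left hdvd

/-- `∑ χ, χ g * χ g⁻¹ = |C_G(g)|`. -/
theorem sum_irr_mul_inv [Fintype (IrrCharacter G)] (g : G) :
    ∑ χ : IrrCharacter G, (χ : G → ℂ) g * (χ : G → ℂ) g⁻¹ =
      (Nat.card (Subgroup.centralizer ({g} : Set G)) : ℂ) := by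
  classical
  have h := column_orthogonality (G := G) g g
  rw [if_pos (IsConj.refl g)] at h
  rw [← h]
  exact Finset.sum_congr rfl fun χ _ => by rw [irr_inv]

end

end Cfsg.Agent.Helper79
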