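import Mathlib
import Cfsg.Agent.Helper99.QSpDefs

/-!
# (QC) of helper99's S5974 plan, core: `admissible` and `exists_inv_typed_iff` from the
statements of (QA2), (QB1), (QB2), bundled as the hypothesis structure `Deps`.
-/

set_option autoImplicit false
set_option linter.unusedSectionVars false

namespace Cfsg.Agent.Helper79.QSp

open Module Polynomial
open Cfsg.Agent.Helper59.InvChain Cfsg.Agent.Helper59.Elusive
open Cfsg.Agent.Helper99.SpStruct Cfsg.Agent.Helper99.RDecomp
open Cfsg.Agent.Helper44 Cfsg.Agent.Helper44.QType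
open Cfsg.Agent.Helper99.QSp

universe u v

variable {F : Type u} [Field F] [Fintype F]
variable {V : Type v} [AddCommGroup V] [Module F V] [FiniteDimensional F V]

/-- the statements of (QA2), (QB1), (QB2) used by (QC), for fixed `Q r y`. -/
structure Deps (Q : QuadraticForm F V) (r : ℕ) (y : Module.End F V) : Prop where
  typed_sub : ∀ {X : Submodule F V}, Nd (pB Q) X → ∀ {g t : ℕ}, finrank F ↥X = 2 * g → t < g →
    ∀ ε : ℤ, (ε = 1 ∨ (ε = -1 ∧ 0 < t)) →
    ∃ W : Submodule F V, W ≤ X ∧ Nd (pB Q) W ∧ finrank F ↥W = 2 * t ∧ QType Q W t ε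
  orth_fix_cyc : Orth (pB Q) (fixSp y) (cycSp r y)
  nd_fix : Nd (pB Q) (fixSp y)
  nd_cyc : Nd (pB Q) (cycSp r y)
  nd_inf_fix : ∀ {W : Submodule F V}, Inv y W → Nd (pB Q) W → Nd (pB Q) (W ⊓ fixSp y)
  nd_inf_cyc : ∀ {W : Submodule F V}, Inv y W → Nd (pB Q) W → Nd (pB Q) (W ⊓ cycSp r y)
  blockSize_dvd : ∀ {W : Submodule F V}, Inv y W → Nd (pB Q) W → W ≤ cycSp r y →
    blockSize (orderOf ((Fintype.card F : ℕ) : ZMod r)) ∣ finrank F ↥W
  exists_blocks : ∀ (j : ℕ) {W : Submodule F V}, Inv y W → Nd (pB Q) W → W ≤ cycSp r y →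
    j * blockSize (orderOf ((Fintype.card F : ℕ) : ZMod r)) ≤ finrank F ↥W →
    ∃ N : Submodule F V, N ≤ W ∧ Inv y N ∧ Nd (pB Q) N ∧
      finrank F ↥N = j * blockSize (orderOf ((Fintype.card F : ℕ) : ZMod r))
  qType_blocks : ∀ {W : Submodule F V}, Inv y W → Nd (pB Q) W → W ≤ cycSp r y → ∀ {j e : ℕ},
    finrank F ↥W = j * blockSize (orderOf ((Fintype.card F : ℕ) : ZMod r)) →
    finrank F ↥W = 2 * e →
    QType Q W e (bsign (orderOf ((Fintype.card F : ℕ) : ZMod r)) j)

variable {Q : QuadraticForm F V} {r : ℕ} {y : Module.End F V}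

omit [FiniteDimensional F V] in
theorem qType_congr {W W' : Submodule F V} (h : W = W') {e e' : ℕ} (he : e = e') {ε ε' : ℤ}
    (hε : ε = ε') (hq : QType Q W e ε) : QType Q W' e' ε' := by
  subst h; subst he; subst hε; exact hq

theorem sup_fix_cyc_eq_top (h : QSetup Q r y) : fixSp y ⊔ cycSp r y = ⊤ := by
  have : Fact r.Prime := ⟨h.setup.prime⟩
  exact sup_fix_cyc r h.setup.ne_zero y h.setup.pow_eq

/-- the type of the fixed space. -/
theorem qType_fix (h : QSetup Q r y) (D : Deps Q r y) {d : ℕ}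
    (hV : finrank F V = 2 * d) {εV : ℤ} (hεV : QType Q ⊤ d εV) {b : ℕ}
    (hb : finrank F ↥(cycSp r y) = b * blockSize (orderOf ((Fintype.card F : ℕ) : ZMod r)))
    {g : ℕ} (hg : finrank F ↥(fixSp y) = 2 * g) :
    QType Q (fixSp y) g (εV * bsign (orderOf ((Fintype.card F : ℕ) : ZMod r)) b) := by
  set i := orderOf ((Fintype.card F : ℕ) : ZMod r) with hi
  obtain ⟨k, hk⟩ := even_blockSize i
  have htot := h.setup.total
  obtain ⟨εf, -, hεf⟩ := exists_qType Q D.nd_fix hg
  have hcdim : finrank F ↥(cycSp r y) = 2 * (b * k) := by rw [hb, hk]; ring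
  have hcyc := D.qType_blocks (inv_cycSp r y) D.nd_cyc le_rfl hb hcdim
  have hsup := qType_sup Q D.nd_fix D.nd_cyc D.orth_fix_cyc hg hcdim hεf hcyc
  have hd : g + b * k = d := by omega
  have htop : QType Q ⊤ d (εf * bsign i b) :=
    qType_congr (sup_fix_cyc_eq_top h) hd rfl hsup
  have heq : εV = εf * bsign i b := QType.unique hεV htop
  have : εf = εV * bsign i b := by
    rw [heq, mul_assoc, bsign_sq, mul_one]
  rw [← this]
  exact hεf

/-- (QC) the number of blocks of `y` is admissible -/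
theorem admissible_of_deps (h : QSetup Q r y) (D : Deps Q r y) {d : ℕ}
    (hV : finrank F V = 2 * d) {εV : ℤ} (hεV : QType Q ⊤ d εV) {b : ℕ}
    (hb : finrank F ↥(cycSp r y) = b * blockSize (orderOf ((Fintype.card F : ℕ) : ZMod r))) :
    b * blockSize (orderOf ((Fintype.card F : ℕ) : ZMod r)) ≤ 2 * d ∧
      (b * blockSize (orderOf ((Fintype.card F : ℕ) : ZMod r)) = 2 * d →
        bsign (orderOf ((Fintype.card F : ℕ) : ZMod r)) b = εV) ∧ (y ≠ 1 → 1 ≤ b) := by
  set i := orderOf ((Fintype.card F : ℕ) : ZMod r) with hi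
  have htot := h.setup.total
  refine ⟨by omega, ?_, ?_⟩
  · intro hbd
    have hcd : finrank F ↥(cycSp r y) = 2 * d := by rw [hb, hbd]
    have htop : cycSp r y = ⊤ := Submodule.eq_top_of_finrank_eq (by rw [hcd, hV])
    have hcyc := D.qType_blocks (inv_cycSp r y) D.nd_cyc le_rfl hb hcd
    have : QType Q ⊤ d (bsign i b) := qType_congr htop rfl rfl hcyc
    exact QType.unique this hεV
  · intro hy1
    by_contra hb0
    have hb0' : b = 0 := by omega
    have hc0 : finrank F ↥(cycSp r y) = 0 := by rw [hb, hb0', zero_mul]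
    have hfix : fixSp y = ⊤ := Submodule.eq_top_of_finrank_eq (by omega)
    apply hy1
    apply LinearMap.ext
    intro v
    have : v ∈ fixSp y := by rw [hfix]; exact Submodule.mem_top
    rw [mem_fixSp.mp this]
    rfl

/-- (QC) the criterion for one element -/
theorem exists_inv_typed_iff_of_deps (h : QSetup Q r y) (D : Deps Q r y) {d : ℕ}
    (hV : finrank F V = 2 * d) {εV : ℤ} (hεV : QType Q ⊤ d εV) {b : ℕ}
    (hb : finrank F ↥(cycSp r y) = b * blockSize (orderOf ((Fintype.card F : ℕ) : ZMod r)))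
    {e : ℕ} {ε : ℤ} (hε : ε = 1 ∨ ε = -1) :
    (∃ W : Submodule F V, Inv y W ∧ Nd (pB Q) W ∧ finrank F ↥W = 2 * e ∧ QType Q W e ε) ↔
      Crit (orderOf ((Fintype.card F : ℕ) : ZMod r))
        (blockSize (orderOf ((Fintype.card F : ℕ) : ZMod r))) d e b εV ε := by
  set i := orderOf ((Fintype.card F : ℕ) : ZMod r) with hi
  set c := blockSize i with hc
  obtain ⟨k, hk⟩ := even_blockSize i
  rw [← hc] at hk
  have hipos : 0 < i := h.setup.c_pos
  have hcpos : 0 < c := blockSize_pos hipos
  have hkpos : 0 < k := by omega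
  have htot := h.setup.total
  have hrefl := pB_refl Q
  -- the fixed space has even dimension
  have hfixdim : finrank F ↥(fixSp y) = 2 * (d - b * k) := by
    have : b * c = 2 * (b * k) := by rw [hk]; ring
    omega
  have hbk : b * k ≤ d := by
    have : b * c = 2 * (b * k) := by rw [hk]; ring
    omega
  constructor
  · rintro ⟨W, hWinv, hWnd, hWdim, hWtype⟩
    have hsplit := h.setup.split W hWinv
    have hparts := h.setup.sup_parts W hWinv
    have hWf_nd := D.nd_inf_fix hWinv hWnd
    have hWc_nd := D.nd_inf_cyc hWinv hWnd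
    have hWc_inv : Inv y (W ⊓ cycSp r y) := inv_inf hWinv (inv_cycSp r y)
    obtain ⟨b', hb'⟩ := D.blockSize_dvd hWc_inv hWc_nd inf_le_right
    rw [← hc, mul_comm] at hb'
    have hle : finrank F ↥(W ⊓ cycSp r y) ≤ finrank F ↥(cycSp r y) :=
      Submodule.finrank_mono inf_le_right
    have hb'b : b' ≤ b := by
      rw [hb', hb] at hle
      exact Nat.le_of_mul_le_mul_right hle hcpos
    have hb'c2 : b' * c = 2 * (b' * k) := by rw [hk]; ring
    have hb'e : b' * c ≤ 2 * e := by omega
    have hWc_dim : finrank F ↥(W ⊓ cycSp r y) = 2 * (b' * k) := by rw [hb', hb'c2]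
    have hWf_dim : finrank F ↥(W ⊓ fixSp y) = 2 * (e - b' * k) := by omega
    have hWc_type := D.qType_blocks hWc_inv hWc_nd inf_le_right hb' hWc_dim
    obtain ⟨εf, -, hεf⟩ := exists_qType Q hWf_nd hWf_dim
    have horth : Orth (pB Q) (W ⊓ fixSp y) (W ⊓ cycSp r y) :=
      D.orth_fix_cyc.mono inf_le_right inf_le_right
    have hsup := qType_sup Q hWf_nd hWc_nd horth hWf_dim hWc_dim hεf hWc_type
    have hee : e - b' * k + b' * k = e := by omega
    have hW' : QType Q W e (εf * bsign i b') := qType_congr hparts hee rfl hsup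
    have hεeq : ε = εf * bsign i b' := QType.unique hWtype hW'
    have hεf' : εf = ε * bsign i b' := by rw [hεeq, mul_assoc, bsign_sq, mul_one]
    refine ⟨b', hb'b, hb'e, ?_⟩
    by_cases h0 : finrank F ↥(W ⊓ fixSp y) = 0
    · -- `W ⊓ fixSp = ⊥`
      left
      refine ⟨by omega, ?_⟩
      have hbot : W ⊓ fixSp y = ⊥ := Submodule.finrank_eq_zero.mp h0
      have he0 : e - b' * k = 0 := by omega
      have : QType Q ⊥ 0 εf := qType_congr hbot he0 rfl hεf
      have hεf1 : εf = 1 := QType.unique this (qType_bot Q)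
      rw [hεeq, hεf1, one_mul]
    · have hlef : finrank F ↥(W ⊓ fixSp y) ≤ finrank F ↥(fixSp y) :=
        Submodule.finrank_mono inf_le_right
      rcases Nat.lt_or_ge (finrank F ↥(W ⊓ fixSp y)) (finrank F ↥(fixSp y)) with hlt | hge
      · right; left
        refine ⟨by omega, ?_⟩
        have : b * c = 2 * (b * k) := by rw [hk]; ring
        omega
      · right; right
        have hfeq : W ⊓ fixSp y = fixSp y :=
          Submodule.eq_of_le_of_finrank_eq inf_le_right (le_antisymm hlef hge)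
        have hdimeq : finrank F ↥(W ⊓ fixSp y) = finrank F ↥(fixSp y) := le_antisymm hlef hge
        have hbc2 : b * c = 2 * (b * k) := by rw [hk]; ring
        refine ⟨by omega, by omega, ?_⟩
        have hfix := qType_fix h D hV hεV hb hfixdim
        have hge' : e - b' * k = d - b * k := by omega
        have : QType Q (fixSp y) (d - b * k) εf := qType_congr hfeq hge' rfl hεf
        have hεf2 : εf = εV * bsign i b := QType.unique this hfix
        rw [hεeq, hεf2]
        ring
  · rintro ⟨b', hb'b, hb'e, hcases⟩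
    have hb'c2 : b' * c = 2 * (b' * k) := by rw [hk]; ring
    have hbc2 : b * c = 2 * (b * k) := by rw [hk]; ring
    have hjle : b' * c ≤ finrank F ↥(cycSp r y) := by
      rw [hb]
      exact Nat.mul_le_mul_right c hb'b
    obtain ⟨N, hNle, hNinv, hNnd, hNdim⟩ :=
      D.exists_blocks b' (inv_cycSp r y) D.nd_cyc le_rfl hjle
    have hNdim2 : finrank F ↥N = 2 * (b' * k) := by rw [hNdim, ← hc, hb'c2]
    have hNtype := D.qType_blocks hNinv hNnd hNle hNdim hNdim2
    rcases hcases with ⟨h2e, hsign⟩ | ⟨hlt, hlt2⟩ | ⟨hlt, heq, hsign⟩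
    · -- `W = N`
      refine ⟨N, hNinv, hNnd, by rw [hNdim, ← hc, h2e], ?_⟩
      have hek : b' * k = e := by omega
      exact qType_congr rfl hek hsign hNtype
    · -- `W = Wf ⊔ N`, `Wf` inside the fixed space
      have ht : e - b' * k < d - b * k := by omega
      have hε' : ε * bsign i b' = 1 ∨ (ε * bsign i b' = -1 ∧ 0 < e - b' * k) := by
        rcases hε with h1 | h1 <;> rcases bsign_eq i b' with h2 | h2 <;> rw [h1, h2]
        · left; norm_num
        · right; exact ⟨by norm_num, by omega⟩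
        · right; exact ⟨by norm_num, by omega⟩
        · left; norm_num
      obtain ⟨Wf, hWfle, hWfnd, hWfdim, hWftype⟩ :=
        D.typed_sub D.nd_fix hfixdim ht (ε * bsign i b') hε'
      have horth : Orth (pB Q) Wf N := D.orth_fix_cyc.mono hWfle hNle
      have hdis : Disjoint Wf N := horth.disjoint hWfnd
      refine ⟨Wf ⊔ N, inv_sup (inv_of_le_fixSp hWfle) hNinv, hWfnd.sup hrefl hNnd horth, ?_, ?_⟩
      · rw [finrank_sup_of_disjoint hdis, hWfdim, hNdim2]; omega
      · have hsup := qType_sup Q hWfnd hNnd horth hWfdim hNdim2 hWftype hNtype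
        have hee : e - b' * k + b' * k = e := by omega
        refine qType_congr rfl hee ?_ hsup
        rw [mul_assoc, bsign_sq, mul_one]
    · -- `W = fixSp ⊔ N`
      have hfix := qType_fix h D hV hεV hb hfixdim
      have horth : Orth (pB Q) (fixSp y) N := D.orth_fix_cyc.mono le_rfl hNle
      have hdis : Disjoint (fixSp y) N := horth.disjoint D.nd_fix
      refine ⟨fixSp y ⊔ N, inv_sup (inv_fixSp y) hNinv, D.nd_fix.sup hrefl hNnd horth, ?_, ?_⟩
      · rw [finrank_sup_of_disjoint hdis, hfixdim, hNdim2]; omega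
      · have hsup := qType_sup Q D.nd_fix hNnd horth hfixdim hNdim2 hfix hNtype
        have hee : d - b * k + b' * k = e := by omega
        refine qType_congr rfl hee ?_ hsup
        rw [← hsign]; ring

end Cfsg.Agent.Helper79.QSp
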