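import Mathlib
import Cfsg.Agent.S4431
import Cfsg.Agent.S4494
import Cfsg.Agent.Helper79.Linear

/-!
# A criterion for the principal block (helper79)

`ξ ∈ B₀(G)` iff `∑_{x p-regular} ξ(x) ≠ 0`, phrased as `[1̃, ξ] ≠ 0` for the indicator `1̃` of the
`p`-regular elements.
-/

set_option autoImplicit false
open Cfsg
open scoped ComplexConjugate

namespace Cfsg.Agent.Helper79

open Cfsg.Agent.S4426

universe u

section

variable {G : Type u} [Group G] [Fintype G] {p : ℕ} {M : Ideal AlgInt}

/-- the indicator of the `p`-regular elements. -/
noncomputable def regInd (p : ℕ) (G : Type u) [Group G] : G → ℂ :=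
  cut p 1 (fun _ : G => (1 : ℂ))

omit [Fintype G] in
theorem regInd_apply (p : ℕ) (x : G) :
    regInd p G x = if p ∣ orderOf x then (0 : ℂ) else 1 := by
  unfold regInd cut
  split_ifs <;> simp

omit [Fintype G] in
theorem principalBlock_eq_blockOf (M : Ideal AlgInt) :
    principalBlock M G = blockOf M ((principalIrr G : IrrCharacter G) : G → ℂ) := rfl

theorem principalIrr_mem (hM : IsPModular p M) : principalIrr G ∈ principalBlock M G := by
  have hMp : M.IsPrime := Helper78.isPrime_of_isPModular hM
  rw [principalBlock_eq_blockOf]
  exact Helper78.mem_blockOf_self hMp _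

omit [Fintype G] in
theorem charDegree_principalIrr : charDegree ((principalIrr G : IrrCharacter G) : G → ℂ) = 1 := by
  show ⌊((1 : ℂ)).re⌋₊ = 1
  simp

/-- the principal character has height zero in the principal block. -/
theorem blockHeight_principalIrr (hM : IsPModular p M) :
    blockHeight p (principalBlock M G) ((principalIrr G : IrrCharacter G) : G → ℂ) = 0 := by
  rw [Helper16.blockHeight_eq_zero_iff p (principalIrr_mem hM)]
  have h := Helper16.minExp_le_of_mem p (principalIrr_mem (G := G) hM)
  rw [charDegree_principalIrr] at h ⊢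
  simp at h ⊢
  omega

/-- **Criterion for the principal block.** -/
theorem mem_principalBlock_iff_inner_regInd [hp : Fact p.Prime] (hM : IsPModular p M)
    (ξ : IrrCharacter G) :
    ξ ∈ principalBlock M G ↔ classInner (regInd p G) (ξ : G → ℂ) ≠ 0 := by
  constructor
  · intro hξ
    have hB : IsPBlock M (principalBlock M G) := ⟨principalIrr G, rfl⟩
    have h0 := (height_zero_iff p hM _ hB (principalIrr G) (principalIrr_mem hM)).1
      (blockHeight_principalIrr hM)
    obtain ⟨n, hn, hn0, -⟩ := (pred_iff p hM _ hB (principalIrr G) ξ (principalIrr_mem hM) hξ).2 h0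
    intro hzero
    apply hn0
    have h1 : cut p ((p ^ (Nat.card G).factorization p : ℕ) : ℂ)
        ((principalIrr G : IrrCharacter G) : G → ℂ)
        = ((p ^ (Nat.card G).factorization p : ℕ) : ℂ) • regInd p G := by
      have := S4494.cut_mul p ((p ^ (Nat.card G).factorization p : ℕ) : ℂ) 1
        ((principalIrr G : IrrCharacter G) : G → ℂ)
      rw [mul_one] at this
      exact this
    rw [h1, Helper74.classInner_smul_left, hzero, mul_zero] at hn
    exact_mod_cast hn.symm
  · intro hne
    by_contra hξ
    exact hne (S4431.classInner_cut_eq_zero hM 1 (principalIrr G) ξ hξ)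

end

end Cfsg.Agent.Helper79
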