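import Mathlib

/-!
# Involutions inverting Sylow subgroups (helper79)

Group-theoretic part of the "defect zero or abelian Sylow" arguments.
-/

set_option autoImplicit false

namespace Cfsg.Agent.Helper79

section fpf
variable {G : Type*} [Group G]

/-- A fixed-point-free element of square one normalizing a finite subgroup `K` inverts `K`. -/
theorem inverts_of_fpf {K : Subgroup G} [Finite K] {t : G} (ht : t * t = 1)
    (hn : ∀ k ∈ K, t * k * t⁻¹ ∈ K) (hfix : ∀ k ∈ K, t * k * t⁻¹ = k → k = 1) :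
    ∀ k ∈ K, t * k * t⁻¹ = k⁻¹ := by
  have htinv : t⁻¹ = t := inv_eq_of_mul_eq_one_left ht
  let f : K → K := fun k => ⟨(k : G)⁻¹ * (t * k * t⁻¹), K.mul_mem (K.inv_mem k.2) (hn k k.2)⟩
  have hinj : Function.Injective f := by
    intro k l hkl
    have h : (k : G)⁻¹ * (t * k * t⁻¹) = (l : G)⁻¹ * (t * l * t⁻¹) := congrArg Subtype.val hkl
    have hfixed : t * ((l : G) * (k : G)⁻¹) * t⁻¹ = (l : G) * (k : G)⁻¹ := by
      have e1 : t * (l : G) * t⁻¹ = (l : G) * ((k : G)⁻¹ * (t * k * t⁻¹)) := by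
        rw [h]; group
      calc t * ((l : G) * (k : G)⁻¹) * t⁻¹ = (t * (l : G) * t⁻¹) * (t * k * t⁻¹)⁻¹ := by group
        _ = (l : G) * ((k : G)⁻¹ * (t * k * t⁻¹)) * (t * k * t⁻¹)⁻¹ := by rw [e1]
        _ = (l : G) * (k : G)⁻¹ := by group
    have h1 := hfix _ (K.mul_mem l.2 (K.inv_mem k.2)) hfixed
    exact Subtype.ext (mul_inv_eq_one.1 h1).symm
  have hsurj : Function.Surjective f := Finite.surjective_of_injective hinj
  intro m hm
  obtain ⟨n, hn'⟩ := hsurj ⟨m, hm⟩
  have hn'' : (n : G)⁻¹ * (t * n * t⁻¹) = m := congrArg Subtype.val hn'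
  rw [← hn'', htinv]
  have h6 : t * ((n : G)⁻¹ * (t * n * t)) * t = t * (n : G)⁻¹ * t * n * (t * t) := by group
  have h7 : ((n : G)⁻¹ * (t * n * t))⁻¹ = t⁻¹ * (n : G)⁻¹ * t⁻¹ * n := by group
  rw [h6, h7, ht, htinv, mul_one]

/-- A subgroup inverted by an element is commutative. -/
theorem commute_of_inverts {K : Subgroup G} {t : G} (hinv : ∀ k ∈ K, t * k * t⁻¹ = k⁻¹) :
    ∀ a ∈ K, ∀ b ∈ K, a * b = b * a := by
  intro a ha b hb
  have h1 := hinv (a * b) (K.mul_mem ha hb)
  have h2 : t * (a * b) * t⁻¹ = (t * a * t⁻¹) * (t * b * t⁻¹) := by group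
  rw [h2, hinv a ha, hinv b hb, mul_inv_rev] at h1
  have h3 := congrArg (fun z => z⁻¹) h1
  simpa using h3.symm

end fpf

section invariantSylow
open scoped Pointwise
variable {G : Type*} [Group G] [Finite G]

/-- Conjugation by an element normalizing `C`, as an automorphism of `C`. -/
def conjAut (C : Subgroup G) (t : G) (hn : ∀ c ∈ C, t * c * t⁻¹ ∈ C)
    (hn' : ∀ c ∈ C, t⁻¹ * c * t ∈ C) : MulAut C where
  toFun c := ⟨t * c * t⁻¹, hn c c.2⟩
  invFun c := ⟨t⁻¹ * c * t, hn' c c.2⟩
  left_inv c := by apply Subtype.ext; simp only; group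
  right_inv c := by apply Subtype.ext; simp only; group
  map_mul' a b := by apply Subtype.ext; simp only [Subgroup.coe_mul]; group

/-- An element of square one normalizing a subgroup `C` of odd order normalizes some Sylow
`p`-subgroup of `C`. -/
theorem exists_invariant_sylow_of_odd (p : ℕ) [Fact p.Prime] (C : Subgroup G)
    (hC : Odd (Nat.card C)) (t : G) (ht : t * t = 1) (hn : ∀ c ∈ C, t * c * t⁻¹ ∈ C) :
    ∃ R : Sylow p C, ∀ r : C, r ∈ R → (⟨t * r * t⁻¹, hn r r.2⟩ : C) ∈ R := by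
  have htinv : t⁻¹ = t := inv_eq_of_mul_eq_one_left ht
  have hn' : ∀ c ∈ C, t⁻¹ * c * t ∈ C := by
    intro c hc
    have := hn c hc
    rwa [htinv] at this ⊢
  set φ : MulAut C := conjAut C t hn hn' with hφ
  have hφ2 : φ ^ 2 = 1 := by
    ext c
    simp only [sq, MulAut.mul_apply, MulAut.one_apply]
    show t * (t * (c : G) * t⁻¹) * t⁻¹ = c
    have : t * (t * (c : G) * t⁻¹) * t⁻¹ = (t * t) * c * (t * t)⁻¹ := by group
    rw [this, ht]; group
  -- the group generated by `φ` is a 2-group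
  have hT : IsPGroup 2 (Subgroup.zpowers φ) := by
    rw [IsPGroup]
    rintro ⟨g, hg⟩
    obtain ⟨k, rfl⟩ := Subgroup.mem_zpowers_iff.1 hg
    refine ⟨1, ?_⟩
    apply Subtype.ext
    simp only [pow_one, Subgroup.coe_pow, Subgroup.coe_one]
    rw [← zpow_natCast, ← zpow_mul, mul_comm, zpow_mul, zpow_natCast, hφ2, one_zpow]
  have hodd : ¬ 2 ∣ Nat.card (Sylow p C) := by
    intro h2
    obtain P : Sylow p C := default
    have h1 : Nat.card (Sylow p C) ∣ Nat.card C :=
      dvd_trans (Sylow.card_dvd_index P) (Subgroup.index_dvd_card _)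
    have := dvd_trans h2 h1
    exact (Nat.not_even_iff_odd.2 hC) (even_iff_two_dvd.2 this)
  obtain ⟨R, hR⟩ := hT.nonempty_fixed_point_of_prime_not_dvd_card (Sylow p C) hodd
  refine ⟨R, ?_⟩
  intro r hr
  have hfix : φ • R = R := hR ⟨φ, Subgroup.mem_zpowers φ⟩
  have : φ • r ∈ φ • (R : Subgroup C) := Subgroup.smul_mem_pointwise_smul r φ _ hr
  rw [← Sylow.pointwise_smul_def, hfix] at this
  exact this

end invariantSylow


section
variable {G : Type*} [Group G] [Finite G]

/-- If `Q ≤ K` are `p`-subgroups with `|Q| = p ^ n`, `n ≥ 1` and `|K| = p ^ (n+1)`, then `Q`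
contains a non-identity element centralized by `K`. -/
theorem exists_central_of_card_succ (p : ℕ) [hp : Fact p.Prime] {Q K : Subgroup G} {n : ℕ}
    (hn : 1 ≤ n) (hQ : Nat.card Q = p ^ n) (hK : Nat.card K = p ^ (n + 1)) (hQK : Q ≤ K) :
    ∃ u ∈ Q, u ≠ 1 ∧ ∀ k ∈ K, k * u = u * k := by
  set Q' : Subgroup K := Q.subgroupOf K with hQ'
  have hcardQ' : Nat.card Q' = p ^ n := by
    rw [← hQ]; exact Nat.card_congr (Subgroup.subgroupOfEquivOfLe hQK).toEquiv
  have hidx : Q'.index = p := by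
    have h1 := Subgroup.card_mul_index Q'
    rw [hcardQ', hK, pow_succ] at h1
    exact Nat.eq_of_mul_eq_mul_left (pow_pos hp.out.pos n) h1
  have hnormal : Q'.Normal := by
    apply Subgroup.normal_of_index_eq_minFac_card
    rw [hidx, hK, hp.out.pow_minFac (Nat.succ_ne_zero n)]
  have hKp : IsPGroup p (ConjAct K) := by
    have : IsPGroup p K := IsPGroup.of_card hK
    exact this.of_equiv ConjAct.toConjAct
  have hdvd : p ∣ Nat.card Q' := by
    rw [hcardQ']; exact dvd_pow_self p (by omega)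
  have hfix1 : (1 : Q') ∈ MulAction.fixedPoints (ConjAct K) Q' := by
    rw [MulAction.mem_fixedPoints]
    intro m
    exact smul_one m
  obtain ⟨b, hb, hb1⟩ := hKp.exists_fixed_point_of_prime_dvd_card_of_fixed_point Q' hdvd hfix1
  refine ⟨((b : K) : G), ?_, ?_, ?_⟩
  · exact Subgroup.mem_subgroupOf.1 b.2
  · intro h
    apply hb1
    apply Subtype.ext
    apply Subtype.ext
    simp [h]
  · intro k hk
    rw [MulAction.mem_fixedPoints] at hb
    have h1 := hb (ConjAct.toConjAct (⟨k, hk⟩ : K))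
    have h2 := congrArg (fun x : Q' => ((x : K) : G)) h1
    simp only [ConjAct.Subgroup.val_conj_smul, ConjAct.toConjAct_smul, Subgroup.coe_mul,
      Subgroup.coe_inv] at h2
    calc k * ((b : K) : G) = (k * ((b : K) : G) * k⁻¹) * k := by group
      _ = ((b : K) : G) * k := by rw [h2]

end


section
variable {G : Type*} [Group G] [Finite G]

/-- In a group where centralizers of non-identity `p`-elements have odd order, an element `t` of
square one inverting a non-identity `p`-element inverts a whole Sylow `p`-subgroup. -/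
theorem exists_sylow_inverted (p : ℕ) [hp : Fact p.Prime]
    (hC : ∀ g : G, g ≠ 1 → (∃ k : ℕ, orderOf g = p ^ k) →
      Odd (Nat.card (Subgroup.centralizer ({g} : Set G))))
    (t w : G) (ht : t * t = 1) (hw1 : w ≠ 1) (hwp : ∃ k : ℕ, orderOf w = p ^ k)
    (hinv : t * w * t⁻¹ = w⁻¹) :
    ∃ Q : Sylow p G, ∀ v ∈ Q, t * v * t⁻¹ = v⁻¹ := by
  have htinv : t⁻¹ = t := inv_eq_of_mul_eq_one_left ht
  -- the centralizer of `w` has odd order, so `t ∉ C(w)`, so `t ≠ 1`, `t` has order 2
  have hCw := hC w hw1 hwp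
  have ht1 : t ≠ 1 := by
    intro h
    rw [h] at hinv
    simp only [one_mul, inv_one, mul_one] at hinv
    -- w = w⁻¹ means w * w = 1, so `w` of order dividing 2 lies in odd centralizer
    have hww : w * w = 1 := by
      nth_rewrite 2 [hinv]; exact mul_inv_cancel w
    have hw2 : orderOf w ∣ 2 := orderOf_dvd_of_pow_eq_one (by rw [sq]; exact hww)
    have hwC : w ∈ Subgroup.centralizer ({w} : Set G) := by
      rw [Subgroup.mem_centralizer_singleton_iff]
    have h3 := orderOf_dvd_natCard (⟨w, hwC⟩ : Subgroup.centralizer ({w} : Set G))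
    rw [Subgroup.orderOf_mk] at h3
    rcases (Nat.dvd_prime Nat.prime_two).1 hw2 with h1 | h2
    · exact hw1 (orderOf_eq_one_iff.1 h1)
    · rw [h2] at h3
      exact (Nat.not_even_iff_odd.2 hCw) (even_iff_two_dvd.2 h3)
  have hot : orderOf t = 2 := orderOf_eq_prime (by rw [sq]; exact ht) ht1
  -- an element commuting with `t` that is a non-identity `p`-element gives a contradiction
  have hfpf : ∀ v : G, (∃ k : ℕ, orderOf v = p ^ k) → t * v * t⁻¹ = v → v = 1 := by
    intro v hv hfix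
    by_contra hv1
    have hCv := hC v hv1 hv
    have htC : t ∈ Subgroup.centralizer ({v} : Set G) := by
      rw [Subgroup.mem_centralizer_singleton_iff]
      calc t * v = (t * v * t⁻¹) * t := by group
        _ = v * t := by rw [hfix]
    have h3 := orderOf_dvd_natCard (⟨t, htC⟩ : Subgroup.centralizer ({v} : Set G))
    rw [Subgroup.orderOf_mk, hot] at h3
    exact (Nat.not_even_iff_odd.2 hCv) (even_iff_two_dvd.2 h3)
  -- the family of `t`-invariant `p`-subgroups
  let S : Set (Subgroup G) := {Q | IsPGroup p Q ∧ ∀ v ∈ Q, t * v * t⁻¹ ∈ Q}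
  have hS0 : Subgroup.zpowers w ∈ S := by
    refine ⟨?_, ?_⟩
    · obtain ⟨k, hk⟩ := hwp
      exact IsPGroup.of_card (by rw [Nat.card_zpowers, hk])
    · intro v hv
      obtain ⟨i, rfl⟩ := Subgroup.mem_zpowers_iff.1 hv
      have : t * w ^ i * t⁻¹ = (w⁻¹) ^ i := by
        rw [← hinv]
        exact (conj_zpow (a := t) (b := w) (i := i)).symm
      rw [this]
      exact Subgroup.zpow_mem _ (Subgroup.inv_mem _ (Subgroup.mem_zpowers w)) i
  obtain ⟨Q, hQS, hQmax⟩ := Set.Finite.exists_maximalFor (fun Q : Subgroup G => Nat.card Q) S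
    (Set.toFinite S) ⟨_, hS0⟩
  obtain ⟨hQp, hQt⟩ := hQS
  -- `t` inverts `Q`
  have hQinv : ∀ v ∈ Q, t * v * t⁻¹ = v⁻¹ := by
    apply inverts_of_fpf ht hQt
    intro v hv hfix
    refine hfpf v ?_ hfix
    obtain ⟨k, hk⟩ := (IsPGroup.iff_orderOf.1 hQp) ⟨v, hv⟩
    exact ⟨k, by rw [← hk, Subgroup.orderOf_mk]⟩
  -- the order of `Q`
  obtain ⟨n, hn⟩ := IsPGroup.iff_card.1 hQp
  have hcardw : Nat.card (Subgroup.zpowers w) ≤ Nat.card Q := by
    by_contra hlt
    push Not at hlt
    have := hQmax hS0 hlt.le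
    dsimp only at this
    omega
  have hn1 : 1 ≤ n := by
    by_contra h0
    have hn0 : n = 0 := by omega
    rw [hn, hn0, pow_zero, Nat.card_zpowers] at hcardw
    have : orderOf w = 1 := le_antisymm hcardw (orderOf_pos w)
    exact hw1 (orderOf_eq_one_iff.1 this)
  -- `Q` is a Sylow subgroup
  have hGne : Nat.card G ≠ 0 := Nat.card_pos.ne'
  have hnle : n ≤ (Nat.card G).factorization p := by
    rw [← hp.out.pow_dvd_iff_le_factorization hGne, ← hn]
    exact Subgroup.card_subgroup_dvd_card Q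
  have hneq : n = (Nat.card G).factorization p := by
    by_contra hne
    have hlt : n + 1 ≤ (Nat.card G).factorization p := by omega
    have hdvd : p ^ (n + 1) ∣ Nat.card G := (hp.out.pow_dvd_iff_le_factorization hGne).2 hlt
    obtain ⟨K, hK, hQK⟩ := Sylow.exists_subgroup_card_pow_succ hdvd hn
    obtain ⟨u, huQ, hu1, huK⟩ := exists_central_of_card_succ p hn1 hn hK hQK
    -- the centralizer of `u`
    set M := Subgroup.centralizer ({u} : Set G) with hM
    have hup : ∃ k : ℕ, orderOf u = p ^ k := by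
      obtain ⟨k, hk⟩ := (IsPGroup.iff_orderOf.1 hQp) ⟨u, huQ⟩
      exact ⟨k, by rw [← hk, Subgroup.orderOf_mk]⟩
    have hModd : Odd (Nat.card M) := hC u hu1 hup
    have hKM : K ≤ M := by
      intro k hk
      rw [hM, Subgroup.mem_centralizer_singleton_iff]
      exact huK k hk
    have htM : ∀ c ∈ M, t * c * t⁻¹ ∈ M := by
      intro c hc
      rw [hM, Subgroup.mem_centralizer_singleton_iff] at hc ⊢
      -- `t` inverts `u`
      have hu' : t * u * t⁻¹ = u⁻¹ := hQinv u huQ
      have hu'' : t⁻¹ * u * t = u⁻¹ := by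
        have : t⁻¹ * u * t = t * u * t⁻¹ := by rw [htinv]
        rw [this, hu']
      -- c commutes with u, hence with u⁻¹
      have hc' : c * u⁻¹ = u⁻¹ * c := by
        have : u⁻¹ * (c * u) * u⁻¹ = u⁻¹ * (u * c) * u⁻¹ := by rw [hc]
        simpa [mul_assoc] using this.symm
      calc t * c * t⁻¹ * u = t * (c * (t⁻¹ * u * t)) * t⁻¹ := by group
        _ = t * (c * u⁻¹) * t⁻¹ := by rw [hu'']
        _ = t * (u⁻¹ * c) * t⁻¹ := by rw [hc']
        _ = (t * u⁻¹ * t⁻¹) * (t * c * t⁻¹) := by group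
        _ = (t * u * t⁻¹)⁻¹ * (t * c * t⁻¹) := by group
        _ = u * (t * c * t⁻¹) := by rw [hu', inv_inv]
    obtain ⟨R, hR⟩ := exists_invariant_sylow_of_odd p M hModd t ht htM
    set R₀ : Subgroup G := (R : Subgroup M).map M.subtype with hR₀
    have hR₀S : R₀ ∈ S := by
      refine ⟨?_, ?_⟩
      · exact R.isPGroup'.map M.subtype
      · intro v hv
        obtain ⟨r, hr, rfl⟩ := Subgroup.mem_map.1 hv
        exact Subgroup.mem_map.2 ⟨_, hR r hr, rfl⟩
    have hcardR₀ : Nat.card R₀ = p ^ (Nat.card M).factorization p := by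
      rw [← R.card_eq_multiplicity]
      exact Nat.card_congr ((R : Subgroup M).equivMapOfInjective M.subtype
        M.subtype_injective).symm.toEquiv
    have hMne : Nat.card M ≠ 0 := Nat.card_pos.ne'
    have hle : n + 1 ≤ (Nat.card M).factorization p := by
      rw [← hp.out.pow_dvd_iff_le_factorization hMne, ← hK]
      exact Subgroup.card_dvd_of_le hKM
    have hlt' : Nat.card Q < Nat.card R₀ := by
      rw [hn, hcardR₀]
      exact Nat.pow_lt_pow_right hp.out.one_lt (by omega)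
    have := hQmax hR₀S hlt'.le
    dsimp only at this
    omega
  refine ⟨Sylow.ofCard Q (by rw [hn, hneq]), ?_⟩
  intro v hv
  exact hQinv v hv

end


section
variable {G : Type*} [Group G]

/-- Two elements of square one whose product has odd order are conjugate. -/
theorem isConj_of_odd_orderOf_mul {a b : G} (ha : a * a = 1) (hb : b * b = 1)
    (hodd : Odd (orderOf (a * b))) : IsConj a b := by
  obtain ⟨k, hk⟩ := hodd
  set r := a * b with hr
  have hainv : a⁻¹ = a := inv_eq_of_mul_eq_one_left ha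
  have hbinv : b⁻¹ = b := inv_eq_of_mul_eq_one_left hb
  have h1 : a * r⁻¹ = r * a := by
    rw [hr, mul_inv_rev, hainv, hbinv, mul_assoc]
  have h2 : ∀ j : ℕ, a * (r⁻¹) ^ j = r ^ j * a := by
    intro j
    induction j with
    | zero => simp
    | succ j ih =>
      rw [pow_succ, ← mul_assoc, ih, mul_assoc, h1, ← mul_assoc, ← pow_succ]
  have h3 : r ^ (2 * k) = r⁻¹ := by
    have : r ^ (2 * k + 1) = 1 := by rw [← hk]; exact pow_orderOf_eq_one r
    rw [pow_succ] at this
    exact eq_inv_of_mul_eq_one_left this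
  rw [isConj_iff]
  refine ⟨r ^ k, ?_⟩
  rw [← inv_pow, mul_assoc, h2, ← mul_assoc, ← pow_add, ← two_mul, h3, hr, mul_inv_rev,
    hainv, hbinv, mul_assoc, ha, mul_one]

/-- If `g` inverts the subgroup `Q`, then `h g h⁻¹` inverts the conjugate of `Q` by `h`. -/
theorem inverts_smul_sylow {p : ℕ} (Q : Sylow p G) (g h : G) (hinv : ∀ v ∈ Q, g * v * g⁻¹ = v⁻¹) :
    ∀ v ∈ h • Q, (h * g * h⁻¹) * v * (h * g * h⁻¹)⁻¹ = v⁻¹ := by
  intro v hv
  have hv' : h⁻¹ * v * h ∈ (Q : Subgroup G) := by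
    have := hv
    rw [Sylow.smul_def, ← SetLike.mem_coe, ← Sylow.coe_coe, Sylow.pointwise_smul_def] at this
    have h2 := Subgroup.mem_pointwise_smul_iff_inv_smul_mem.1 this
    simpa [MulAut.smul_def, MulAut.conj_symm_apply, MulAut.inv_def] using h2
  have h1 := hinv _ hv'
  calc h * g * h⁻¹ * v * (h * g * h⁻¹)⁻¹ = h * (g * (h⁻¹ * v * h) * g⁻¹) * h⁻¹ := by group
    _ = h * (h⁻¹ * v * h)⁻¹ * h⁻¹ := by rw [h1]
    _ = v⁻¹ := by group

end

end Cfsg.Agent.Helper79
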