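import Mathlib
import Cfsg.Agent.Helper77.BlockRank
import Cfsg.Agent.Helper79.Counting

/-!
# Lemmas on the `p`-regular rank of a block

* `blockRank_le_card`: `l(B) ≤ k(B)`;
* `vanishes_of_card_eq_blockRank`: if `k(B) = l(B)` for a block `B`, the members of `B` vanish on the
  `p`-singular elements;
* `factorization_le_of_vanishes`: a character vanishing on the `p`-singular elements has degree
  divisible by the full power of `p` dividing `|G|`.
-/

set_option autoImplicit false

namespace Cfsg.Agent.Helper79

open Cfsg
open scoped ComplexConjugate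

section
variable {G : Type*} [Group G] [Finite G]

theorem blockRank_eq_finrank_range (p : ℕ) (B : Set (IrrCharacter G)) :
    blockRank p B = (Set.range (fun χ : B => pRegularPart p ((χ : IrrCharacter G) : G → ℂ))).finrank ℂ := by
  unfold blockRank Set.finrank
  have : (fun χ : IrrCharacter G => pRegularPart p (χ : G → ℂ)) '' B
      = Set.range (fun χ : B => pRegularPart p ((χ : IrrCharacter G) : G → ℂ)) := by
    ext f
    simp [Set.mem_image, Set.mem_range]
  rw [this]

/-- `l(B) ≤ k(B)`. -/
theorem blockRank_le_card (p : ℕ) (B : Set (IrrCharacter G)) : blockRank p B ≤ Nat.card B := by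
  have : Finite (IrrCharacter G) := irr_finite'
  have := Fintype.ofFinite B
  rw [blockRank_eq_finrank_range, Nat.card_eq_fintype_card]
  exact finrank_range_le_card _

/-- If `k(B) = l(B)` for a `p`-block `B` then every member of `B` vanishes on the `p`-singular
elements. -/
theorem vanishes_of_card_eq_blockRank {p : ℕ} {M : Ideal AlgInt} (hM : IsPModular p M)
    {B : Set (IrrCharacter G)} (hB : IsPBlock M B) (h : Nat.card B = blockRank p B)
    (χ : IrrCharacter G) (hχ : χ ∈ B) (y : G) (hy : p ∣ orderOf y) : (χ : G → ℂ) y = 0 := by
  classical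
  have := Fintype.ofFinite G
  have : Finite (IrrCharacter G) := irr_finite'
  have := Fintype.ofFinite B
  rw [blockRank_eq_finrank_range, Nat.card_eq_fintype_card] at h
  have hli := linearIndependent_iff_card_eq_finrank_span.2 h
  rw [Fintype.linearIndependent_iff] at hli
  have key : ∑ ψ : B, conj (((ψ : IrrCharacter G) : G → ℂ) y) •
      pRegularPart p (((ψ : IrrCharacter G) : G → ℂ)) = 0 := by
    funext x
    rw [Finset.sum_apply]
    simp only [Pi.smul_apply, smul_eq_mul, Pi.zero_apply]
    by_cases hx : p ∣ orderOf x
    · simp only [Helper77.pRegularPart_of_sing hx, mul_zero, Finset.sum_const_zero]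
    · simp only [Helper77.pRegularPart_of_reg hx]
      have h2 := Helper77.weak_block_orthogonality' hM hB x y hx hy
      rw [finsum_mem_eq_finite_toFinset_sum _ (Set.toFinite B)] at h2
      rw [← h2, Finset.sum_subtype (p := (· ∈ B)) _ (fun x => by simp)]
      refine Finset.sum_congr rfl (fun ψ _ => ?_)
      ring
  have := hli _ key ⟨χ, hχ⟩
  simpa using this

/-- A character vanishing at all `p`-singular elements has degree divisible by the full power of
`p` dividing the group order. -/
theorem factorization_le_of_vanishes (p : ℕ) [hp : Fact p.Prime] {χ : G → ℂ} (hχ : IsCharacter G χ)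
    (hd : charDegree χ ≠ 0)
    (hvan : ∀ y : G, p ∣ orderOf y → χ y = 0) :
    (Nat.card G).factorization p ≤ (charDegree χ).factorization p := by
  classical
  obtain P : Sylow p G := default
  have := Fintype.ofFinite G
  have := Fintype.ofFinite (P : Subgroup G)
  obtain ⟨m, hm⟩ := sum_subgroup_char hχ (P : Subgroup G)
  have hsum : ∑ z : (P : Subgroup G), χ z = χ 1 := by
    rw [Finset.sum_eq_single (1 : (P : Subgroup G))]
    · rfl
    · intro z _ hz
      apply hvan
      obtain ⟨k, hk⟩ := (IsPGroup.iff_orderOf.1 P.isPGroup') z
      rw [Subgroup.orderOf_coe, hk]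
      have hk0 : k ≠ 0 := by
        rintro rfl
        rw [pow_zero, orderOf_eq_one_iff] at hk
        exact hz hk
      exact dvd_pow_self p hk0
    · intro h; exact absurd (Finset.mem_univ _) h
  rw [hsum, isCharacter_one hχ] at hm
  have hm' : charDegree χ = Nat.card (P : Subgroup G) * m := by exact_mod_cast hm
  rw [P.card_eq_multiplicity] at hm'
  have hdvd : p ^ (Nat.card G).factorization p ∣ charDegree χ := ⟨m, hm'⟩
  exact (hp.out.pow_dvd_iff_le_factorization hd).1 hdvd

end

end Cfsg.Agent.Helper79
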