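import Mathlib
import Cfsg.Prelude.Def_Blocks
import Cfsg.Agent.S4426
import Cfsg.Agent.S4494
import Cfsg.Agent.S4499
import Cfsg.Agent.Helper16.DefectClasses

/-!
# The Brauer–Feit machinery (helper79)

For `ψ` in a `p`-block `B`, with `p ^ a = |G|_p` and `p ^ b = ψ(1)_p`, the numbers
`m ξ = p ^ (a - b) [ψ⁰, ξ]` are integers, `∑_{ξ ∈ B} (m ξ)² = p ^ (a - b) m ψ`, `m ξ ≠ 0` when `ξ ∈ B`
has height zero, and when `ψ` has height zero the `p`-adic valuation of `m ξ` is the height of `ξ`.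
-/

set_option autoImplicit false

namespace Cfsg.Agent.Helper79

open Cfsg
open scoped ComplexConjugate
open Cfsg.Agent.S4426

universe u

variable {G : Type u} [Group G] [Fintype G] {p : ℕ} {M : Ideal AlgInt}

/-- The Brauer–Feit integers attached to `ψ ∈ B`. -/
theorem exists_brauerFeit_integers [hp : Fact p.Prime] (hM : IsPModular p M)
    {B : Set (IrrCharacter G)} (hB : IsPBlock M B) (ψ : IrrCharacter G) (hψ : ψ ∈ B) :
    ∃ m : IrrCharacter G → ℤ,
      (∀ ξ : IrrCharacter G, classInner (cut p ((p ^ ((Nat.card G).factorization p -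
        (charDegree (ψ : G → ℂ)).factorization p) : ℕ) : ℂ) (ψ : G → ℂ)) (ξ : G → ℂ) = (m ξ : ℂ)) ∧
      (∀ ξ : IrrCharacter G, classInner (cut p ((p ^ (Nat.card G).factorization p : ℕ) : ℂ)
        (ψ : G → ℂ)) (ξ : G → ℂ)
          = (((p ^ (charDegree (ψ : G → ℂ)).factorization p : ℕ) : ℤ) * m ξ : ℤ)) ∧
      ∑ ξ ∈ (Set.toFinite B).toFinset, m ξ * m ξ
        = ((p ^ ((Nat.card G).factorization p - (charDegree (ψ : G → ℂ)).factorization p) : ℕ) : ℤ)
          * m ψ := by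
  classical
  let _ := Helper74.irrFintype G
  set a := (Nat.card G).factorization p with ha
  set b := (charDegree (ψ : G → ℂ)).factorization p with hb
  have hba : b ≤ a := Helper16.factorization_charDegree_le p ψ
  set Bf := (Set.toFinite B).toFinset with hBf
  set θ : G → ℂ := cut p ((p ^ (a - b) : ℕ) : ℂ) (ψ : G → ℂ) with hθ
  have hgen : IsGeneralizedCharacter G θ := Helper76.isGenChar_defect_mul_pRegular p ψ.2
  choose m hm using fun ξ : IrrCharacter G => Helper25.isGenChar_inner_int hgen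
    (Helper25.isGenChar_of_isCharacter (Helper74.irr_isCharacter ξ))
  refine ⟨m, hm, ?_, ?_⟩
  · intro ξ
    have h1 : ((p ^ a : ℕ) : ℂ) = ((p ^ b : ℕ) : ℂ) * ((p ^ (a - b) : ℕ) : ℂ) := by
      rw [← Nat.cast_mul, ← pow_add]
      congr 2
      omega
    rw [h1, Cfsg.Agent.S4494.cut_mul, Helper74.classInner_smul_left, hm ξ]
    push_cast
    ring
  · have hexp : θ = ∑ ξ ∈ Bf, (m ξ : ℂ) • (ξ : G → ℂ) := by
      funext x
      have h1 := Helper76.blockPart_pRegular_cutoff p M hM B hB ψ hψ ((p ^ (a - b) : ℕ) : ℂ) x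
      rw [finsum_mem_eq_finite_toFinset_sum _ (Set.toFinite B)] at h1
      rw [Finset.sum_apply]
      simp only [Pi.smul_apply, smul_eq_mul]
      rw [show θ x = (if p ∣ orderOf x then (0 : ℂ) else
        ((p ^ (a - b) : ℕ) : ℂ) * (ψ : G → ℂ) x) from rfl, ← h1]
      refine Finset.sum_congr rfl fun ξ _ => ?_
      have h2 := hm ξ
      rw [hθ] at h2
      unfold cut at h2
      rw [h2]
    have h1 : classInner θ θ = ∑ ξ ∈ Bf, (m ξ : ℂ) * (m ξ : ℂ) := by
      conv_lhs => rw [hexp]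
      rw [Helper74.classInner_sum_left]
      refine Finset.sum_congr rfl fun ξ _ => ?_
      rw [Helper74.classInner_smul_left, ← Helper74.classInner_conj_symm, ← hexp, hm ξ]
      simp
    have h2 : classInner θ θ = ((p ^ (a - b) : ℕ) : ℂ) * (m ψ : ℂ) := by
      rw [hθ, Cfsg.Agent.S4494.classInner_cut_cut p _ (Complex.conj_natCast _), ← hθ, hm ψ]
    have h3 : ((∑ ξ ∈ Bf, m ξ * m ξ : ℤ) : ℂ) = ((((p ^ (a - b) : ℕ) : ℤ) * m ψ : ℤ) : ℂ) := by
      push_cast
      push_cast at h1 h2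
      rw [← h1, h2]
    exact_mod_cast h3

/-- Symmetry of the integers `[χ̃, ξ]`. -/
theorem inner_cut_symm_int (p : ℕ) (χ ξ : IrrCharacter G) {n : ℤ}
    (h : classInner (cut p ((p ^ (Nat.card G).factorization p : ℕ) : ℂ) (χ : G → ℂ)) (ξ : G → ℂ)
      = (n : ℂ)) :
    classInner (cut p ((p ^ (Nat.card G).factorization p : ℕ) : ℂ) (ξ : G → ℂ)) (χ : G → ℂ)
      = (n : ℂ) := by
  have hsym := classInner_cut_symm p ((p ^ (Nat.card G).factorization p : ℕ) : ℂ)
    (Complex.conj_natCast _) (ξ : G → ℂ) (χ : G → ℂ)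
  rw [h, map_intCast] at hsym
  exact hsym

/-- `[ψ̃, ξ] ≠ 0` when `ξ` has height zero in the block of `ψ`. -/
theorem inner_cut_ne_zero_of_height_zero [hp : Fact p.Prime] (hM : IsPModular p M)
    {B : Set (IrrCharacter G)} (hB : IsPBlock M B) (ψ ξ : IrrCharacter G) (hψ : ψ ∈ B)
    (hξ : ξ ∈ B) (hzero : blockHeight p B (ξ : G → ℂ) = 0) :
    classInner (cut p ((p ^ (Nat.card G).factorization p : ℕ) : ℂ) (ψ : G → ℂ)) (ξ : G → ℂ) ≠ 0 := by
  obtain ⟨n, hn, hn0, -⟩ := (pred_iff p hM B hB ξ ψ hξ hψ).2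
    ((height_zero_iff p hM B hB ξ hξ).1 hzero)
  rw [inner_cut_symm_int p ξ ψ hn]
  exact_mod_cast hn0

/-- A character whose degree is divisible by `p ^ (a - 1)` has height zero in its block. -/
theorem blockHeight_eq_zero_of_pow_pred_dvd [hp : Fact p.Prime] (hM : IsPModular p M)
    {B : Set (IrrCharacter G)} (hB : IsPBlock M B) (χ : IrrCharacter G) (hχ : χ ∈ B)
    (hdiv : p ^ ((Nat.card G).factorization p - 1) ∣ charDegree (χ : G → ℂ)) :
    blockHeight p B (χ : G → ℂ) = 0 := by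
  classical
  have hpr : p.Prime := hM.1
  set a := (Nat.card G).factorization p with ha
  -- a member of least degree valuation
  have hne : B.Nonempty := ⟨χ, hχ⟩
  obtain ⟨χ₀, hχ₀, -, hmin⟩ := Helper16.exists_height_zero' p B hne
  rw [Helper16.blockHeight_eq_zero_iff p hχ]
  have hd0 : charDegree (χ₀ : G → ℂ) ≠ 0 := (Helper78.charDegree_pos_of_isIrrCharacter χ₀.2).ne'
  have hdχ : charDegree (χ : G → ℂ) ≠ 0 := (Helper78.charDegree_pos_of_isIrrCharacter χ.2).ne'
  by_cases hpa : p ∣ Nat.card G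
  · have h1 := Cfsg.Agent.S4499.result p M hM hpa B hB χ hχ hdiv χ₀ hχ₀
    have h2 : a - 1 ≤ (charDegree (χ₀ : G → ℂ)).factorization p :=
      (hpr.pow_dvd_iff_le_factorization hd0).1 h1
    -- now run the argument of `S4499` once more through its statement: all degrees in `B` are
    -- divisible by `p ^ (a - 1)`, so the least valuation is `a - 1` or `a`
    have h3 : (charDegree (χ₀ : G → ℂ)).factorization p ≤
        (charDegree (χ : G → ℂ)).factorization p := hmin χ hχ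
    have h4 : (charDegree (χ : G → ℂ)).factorization p ≤ a :=
      Helper16.factorization_charDegree_le p χ
    have hmineq : Helper16.minExp p B = (charDegree (χ₀ : G → ℂ)).factorization p := by
      refine le_antisymm (Helper16.minExp_le_of_mem p hχ₀) ?_
      unfold Helper16.minExp
      refine le_csInf (hne.image _) ?_
      rintro _ ⟨ξ, hξ, rfl⟩
      exact hmin ξ hξ
    rw [hmineq]
    by_contra hneq
    -- then `ν(χ₀(1)) = a - 1` and `ν(χ(1)) = a`: `χ` has defect zero, so vanishes on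
    -- `p`-singular elements and `[χ̃, χ₀] = 0`, contradicting non-vanishing
    have h5 : (charDegree (χ : G → ℂ)).factorization p = a := by omega
    have h6 : (charDegree (χ₀ : G → ℂ)).factorization p = a - 1 := by omega
    have hχ₀zero : blockHeight p B (χ₀ : G → ℂ) = 0 := by
      rw [Helper16.blockHeight_eq_zero_iff p hχ₀, hmineq]
    -- `n = [χ̃₀, χ]` has valuation `ν(χ(1)) = a` and is at most ... use `pred_iff`
    obtain ⟨n, hn, hn0, hnv⟩ := (pred_iff p hM B hB χ₀ χ hχ₀ hχ).2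
      ((height_zero_iff p hM B hB χ₀ hχ₀).1 hχ₀zero)
    rw [h5] at hnv
    -- Parseval for `χ₀`: `∑ m² = p ^ (a - (a-1)) m χ₀ = p * m χ₀`
    obtain ⟨m, hm1, hm2, hm3⟩ := exists_brauerFeit_integers hM hB χ₀ hχ₀
    rw [h6] at hm2 hm3
    have ha1 : 1 ≤ a :=
      (hpr.pow_dvd_iff_le_factorization Nat.card_pos.ne').1
        (show p ^ 1 ∣ Nat.card G by rw [pow_one]; exact hpa)
    have hsub : a - (a - 1) = 1 := by omega
    rw [hsub] at hm3
    -- `n = p ^ (a-1) * m χ`, so `p ∣ m χ`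
    have hnm : n = ((p ^ (a - 1) : ℕ) : ℤ) * m χ := by
      have := hm2 χ
      rw [hn] at this
      exact_mod_cast this
    have hpm : (p : ℤ) ∣ m χ := by
      have h7 : (p : ℤ) ^ a ∣ n := by
        rw [padicValInt_dvd_iff]; right; omega
      rw [hnm] at h7
      have h8 : (p : ℤ) ^ a = ((p ^ (a - 1) : ℕ) : ℤ) * (p : ℤ) := by
        push_cast
        rw [← pow_succ]
        congr 1
        omega
      rw [h8] at h7
      exact (mul_dvd_mul_iff_left (by exact_mod_cast (pow_pos hpr.pos (a - 1)).ne')).1 h7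
    have hmχ0 : m χ ≠ 0 := by
      intro h0
      rw [h0, mul_zero] at hnm
      exact hn0 hnm
    -- `m χ₀ ≥ 1`, `(m χ)² ≥ p²`, and `(m χ₀)² + (m χ)² ≤ p * m χ₀`
    have hχne : χ ≠ χ₀ := by
      intro h; rw [h] at h5; omega
    have hsum : m χ₀ * m χ₀ + m χ * m χ ≤ (p : ℤ) * m χ₀ := by
      have hsub2 : ({χ₀, χ} : Finset (IrrCharacter G)) ⊆ (Set.toFinite B).toFinset := by
        intro ξ hξ
        rw [Finset.mem_insert, Finset.mem_singleton] at hξ
        rcases hξ with rfl | rfl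
        · exact (Set.Finite.mem_toFinset _).2 hχ₀
        · exact (Set.Finite.mem_toFinset _).2 hχ
      have := Finset.sum_le_sum_of_subset_of_nonneg hsub2
        (f := fun ξ => m ξ * m ξ) (fun ξ _ _ => mul_self_nonneg _)
      rw [Finset.sum_pair hχne.symm, hm3] at this
      simpa using this
    obtain ⟨c, hc⟩ := hpm
    have hc0 : c ≠ 0 := by
      intro h0; rw [h0, mul_zero] at hc; exact hmχ0 hc
    have hc1 : 1 ≤ c * c := by
      have := mul_self_pos.2 hc0
      omega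
    have hp2 : (2 : ℤ) ≤ (p : ℤ) := by exact_mod_cast hpr.two_le
    rw [hc] at hsum
    nlinarith [sq_nonneg (m χ₀ - (p : ℤ)), sq_nonneg (2 * m χ₀ - (p : ℤ))]
  · -- `p ∤ |G|`: all valuations vanish
    have ha0 : a = 0 := Nat.factorization_eq_zero_of_not_dvd hpa
    have h4 : (charDegree (χ : G → ℂ)).factorization p ≤ a :=
      Helper16.factorization_charDegree_le p χ
    have h5 := Helper16.minExp_le_of_mem p hχ
    omega


/-- For `χ` of height zero in `B`, the Brauer–Feit integer `m ξ` (`ξ ∈ B`) is divisible by exactly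
`p ^ height(ξ)`; in particular `p ^ (2 height ξ) ≤ (m ξ)²`. -/
theorem pow_height_le_sq [hp : Fact p.Prime] (hM : IsPModular p M)
    {B : Set (IrrCharacter G)} (hB : IsPBlock M B) (χ ξ : IrrCharacter G) (hχ : χ ∈ B)
    (hξ : ξ ∈ B) (hzero : blockHeight p B (χ : G → ℂ) = 0) {m : ℤ}
    (hm : classInner (cut p ((p ^ (Nat.card G).factorization p : ℕ) : ℂ)
        (χ : G → ℂ)) (ξ : G → ℂ)
          = (((p ^ (charDegree (χ : G → ℂ)).factorization p : ℕ) : ℤ) * m : ℤ)) :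
    ((p ^ (2 * blockHeight p B (ξ : G → ℂ)) : ℕ) : ℤ) ≤ m * m := by
  have hpr : p.Prime := hM.1
  obtain ⟨n, hn, hn0, hnv⟩ := (pred_iff p hM B hB χ ξ hχ hξ).2
    ((height_zero_iff p hM B hB χ hχ).1 hzero)
  have hnm : n = ((p ^ (charDegree (χ : G → ℂ)).factorization p : ℕ) : ℤ) * m := by
    rw [hn] at hm
    exact_mod_cast hm
  have hχmin : (charDegree (χ : G → ℂ)).factorization p = Helper16.minExp p B :=
    (Helper16.blockHeight_eq_zero_iff p hχ).1 hzero
  set h0 := Helper16.minExp p B with hh0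
  have hheight : blockHeight p B (ξ : G → ℂ) = (charDegree (ξ : G → ℂ)).factorization p - h0 :=
    rfl
  have hle : h0 ≤ (charDegree (ξ : G → ℂ)).factorization p := Helper16.minExp_le_of_mem p hξ
  set h := blockHeight p B (ξ : G → ℂ) with hh
  rw [hχmin] at hnm
  -- `p ^ (h0 + h) ∣ n`
  have hdvd : (p : ℤ) ^ (h0 + h) ∣ n := by
    rw [padicValInt_dvd_iff]; right; omega
  have hpz : ((p ^ h0 : ℕ) : ℤ) ≠ 0 := by exact_mod_cast (pow_pos hpr.pos h0).ne'
  have hdvd2 : (p : ℤ) ^ h ∣ m := by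
    rw [hnm, pow_add] at hdvd
    push_cast at hdvd hpz
    exact (mul_dvd_mul_iff_left hpz).1 hdvd
  have hm0 : m ≠ 0 := by
    intro h0'
    rw [h0', mul_zero] at hnm
    exact hn0 hnm
  obtain ⟨c, hc⟩ := hdvd2
  have hc0 : c ≠ 0 := by
    intro h0'; rw [h0', mul_zero] at hc; exact hm0 hc
  have hc1 : 1 ≤ c * c := by
    have := mul_self_pos.2 hc0
    omega
  rw [hc]
  push_cast
  have hpp : (0 : ℤ) ≤ ((p : ℤ) ^ h) * ((p : ℤ) ^ h) := mul_self_nonneg _
  calc ((p : ℤ) ^ (2 * h)) = ((p : ℤ) ^ h) * ((p : ℤ) ^ h) * 1 := by ring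
    _ ≤ ((p : ℤ) ^ h) * ((p : ℤ) ^ h) * (c * c) := mul_le_mul_of_nonneg_left hc1 hpp
    _ = (p : ℤ) ^ h * c * ((p : ℤ) ^ h * c) := by ring

/-- **Brauer–Feit**: `∑_{ξ ∈ B} p ^ (2 height ξ) ≤ p ^ (2d) / 4 + 1`. -/
theorem four_mul_sum_pow_height_le [hp : Fact p.Prime] (hM : IsPModular p M)
    {B : Set (IrrCharacter G)} (hB : IsPBlock M B) :
    4 * ∑ ξ ∈ (Set.toFinite B).toFinset, p ^ (2 * blockHeight p B (ξ : G → ℂ))
      ≤ p ^ (2 * blockDefect p B) + 4 := by
  classical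
  have hMp : M.IsPrime := Helper78.isPrime_of_isPModular hM
  have hne : B.Nonempty := Helper78.isPBlock_nonempty hMp hB
  obtain ⟨χ, hχ, -, hmin⟩ := Helper16.exists_height_zero' p B hne
  have hmineq : Helper16.minExp p B = (charDegree (χ : G → ℂ)).factorization p := by
    refine le_antisymm (Helper16.minExp_le_of_mem p hχ) ?_
    unfold Helper16.minExp
    refine le_csInf (hne.image _) ?_
    rintro _ ⟨ξ, hξ, rfl⟩
    exact hmin ξ hξ
  have hzero : blockHeight p B (χ : G → ℂ) = 0 := by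
    rw [Helper16.blockHeight_eq_zero_iff p hχ, hmineq]
  obtain ⟨m, -, hm2, hm3⟩ := exists_brauerFeit_integers hM hB χ hχ
  have hd : blockDefect p B = (Nat.card G).factorization p -
      (charDegree (χ : G → ℂ)).factorization p := by
    rw [← hmineq]; rfl
  rw [← hd] at hm3
  set d := blockDefect p B with hdd
  set Bf := (Set.toFinite B).toFinset with hBf
  have hχBf : χ ∈ Bf := (Set.Finite.mem_toFinset _).2 hχ
  have hle : ∀ ξ ∈ Bf, ((p ^ (2 * blockHeight p B (ξ : G → ℂ)) : ℕ) : ℤ) ≤ m ξ * m ξ :=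
    fun ξ hξ => pow_height_le_sq hM hB χ ξ hχ ((Set.Finite.mem_toFinset _).1 hξ) hzero (hm2 ξ)
  have hsplit1 : ∑ ξ ∈ Bf, ((p ^ (2 * blockHeight p B (ξ : G → ℂ)) : ℕ) : ℤ)
      = ((p ^ (2 * blockHeight p B (χ : G → ℂ)) : ℕ) : ℤ)
        + ∑ ξ ∈ Bf.erase χ, ((p ^ (2 * blockHeight p B (ξ : G → ℂ)) : ℕ) : ℤ) :=
    (Finset.add_sum_erase Bf _ hχBf).symm
  have hsplit2 : ∑ ξ ∈ Bf, m ξ * m ξ = m χ * m χ + ∑ ξ ∈ Bf.erase χ, m ξ * m ξ :=
    (Finset.add_sum_erase Bf _ hχBf).symm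
  have hrest : ∑ ξ ∈ Bf.erase χ, ((p ^ (2 * blockHeight p B (ξ : G → ℂ)) : ℕ) : ℤ)
      ≤ ∑ ξ ∈ Bf.erase χ, m ξ * m ξ :=
    Finset.sum_le_sum fun ξ hξ => hle ξ (Finset.mem_of_mem_erase hξ)
  have hfinal : (4 : ℤ) * ∑ ξ ∈ Bf, ((p ^ (2 * blockHeight p B (ξ : G → ℂ)) : ℕ) : ℤ)
      ≤ ((p ^ d : ℕ) : ℤ) ^ 2 + 4 := by
    rw [hsplit1, hzero]
    have h1 : ∑ ξ ∈ Bf.erase χ, m ξ * m ξ = ((p ^ d : ℕ) : ℤ) * m χ - m χ * m χ := by
      rw [← hm3, hsplit2]; ring
    rw [h1] at hrest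
    have h2 : ((p ^ (2 * 0) : ℕ) : ℤ) = 1 := by simp
    rw [h2]
    nlinarith [sq_nonneg (((p ^ d : ℕ) : ℤ) - 2 * m χ)]
  have : ((4 * ∑ ξ ∈ Bf, p ^ (2 * blockHeight p B (ξ : G → ℂ)) : ℕ) : ℤ)
      ≤ ((p ^ (2 * d) + 4 : ℕ) : ℤ) := by
    push_cast
    push_cast at hfinal
    rw [mul_comm 2 d, pow_mul]
    exact hfinal
  exact_mod_cast this

/-- If `ψ ∈ B` has height `h`, then the number `k₀` of members of `B` of height zero satisfies
`4 k₀ ≤ p ^ (2 (d - h))` provided `h > 0`. -/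
theorem four_mul_card_height_zero_le [hp : Fact p.Prime] (hM : IsPModular p M)
    {B : Set (IrrCharacter G)} (hB : IsPBlock M B) (ψ : IrrCharacter G) (hψ : ψ ∈ B)
    (hpos : 0 < blockHeight p B (ψ : G → ℂ)) [DecidablePred fun ξ : IrrCharacter G =>
      blockHeight p B (ξ : G → ℂ) = 0] :
    4 * ((Set.toFinite B).toFinset.filter
        (fun ξ : IrrCharacter G => blockHeight p B (ξ : G → ℂ) = 0)).card
      ≤ p ^ (2 * (blockDefect p B - blockHeight p B (ψ : G → ℂ))) := by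
  classical
  have hpr : p.Prime := hM.1
  obtain ⟨m, -, hm2, hm3⟩ := exists_brauerFeit_integers hM hB ψ hψ
  set a := (Nat.card G).factorization p with ha
  set b := (charDegree (ψ : G → ℂ)).factorization p with hb
  set h0 := Helper16.minExp p B with hh0
  have hba : b ≤ a := Helper16.factorization_charDegree_le p ψ
  have hle : h0 ≤ b := Helper16.minExp_le_of_mem p hψ
  have hheight : blockHeight p B (ψ : G → ℂ) = b - h0 := rfl
  have hdef : blockDefect p B = a - h0 := rfl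
  have hexp : blockDefect p B - blockHeight p B (ψ : G → ℂ) = a - b := by omega
  rw [hexp]
  set Bf := (Set.toFinite B).toFinset with hBf
  set B0 := Bf.filter (fun ξ : IrrCharacter G => blockHeight p B (ξ : G → ℂ) = 0) with hB0
  have hψBf : ψ ∈ Bf := (Set.Finite.mem_toFinset _).2 hψ
  have hψB0 : ψ ∉ B0 := by
    intro h
    have := (Finset.mem_filter.1 h).2
    omega
  have hpb0 : ((p ^ b : ℕ) : ℤ) ≠ 0 := by exact_mod_cast (pow_pos hpr.pos b).ne'
  have hm0 : ∀ ξ ∈ B0, 1 ≤ m ξ * m ξ := by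
    intro ξ hξ
    obtain ⟨hξBf, hξ0⟩ := Finset.mem_filter.1 hξ
    have hξB : ξ ∈ B := (Set.Finite.mem_toFinset _).1 hξBf
    have hne := inner_cut_ne_zero_of_height_zero hM hB ψ ξ hψ hξB hξ0
    rw [hm2 ξ] at hne
    have hmξ : m ξ ≠ 0 := by
      intro h0'
      apply hne
      rw [h0', mul_zero]; simp
    have := mul_self_pos.2 hmξ
    omega
  have hsub : insert ψ B0 ⊆ Bf := by
    intro ξ hξ
    rcases Finset.mem_insert.1 hξ with rfl | hξ
    · exact hψBf
    · exact (Finset.mem_filter.1 hξ).1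
  have hsum : m ψ * m ψ + (B0.card : ℤ) ≤ ((p ^ (a - b) : ℕ) : ℤ) * m ψ := by
    rw [← hm3]
    have h1 := Finset.sum_le_sum_of_subset_of_nonneg hsub
      (f := fun ξ => m ξ * m ξ) (fun ξ _ _ => mul_self_nonneg _)
    rw [Finset.sum_insert hψB0] at h1
    have h2 : (B0.card : ℤ) ≤ ∑ ξ ∈ B0, m ξ * m ξ := by
      have : ∑ ξ ∈ B0, (1 : ℤ) ≤ ∑ ξ ∈ B0, m ξ * m ξ := Finset.sum_le_sum hm0
      simpa using this
    linarith
  have hfinal : (4 : ℤ) * (B0.card : ℤ) ≤ ((p ^ (a - b) : ℕ) : ℤ) ^ 2 := by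
    nlinarith [sq_nonneg (((p ^ (a - b) : ℕ) : ℤ) - 2 * m ψ)]
  have : ((4 * B0.card : ℕ) : ℤ) ≤ ((p ^ (2 * (a - b)) : ℕ) : ℤ) := by
    push_cast
    push_cast at hfinal
    rw [mul_comm 2 (a - b), pow_mul]
    exact hfinal
  exact_mod_cast this

end Cfsg.Agent.Helper79
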