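import Mathlib
import Cfsg.Agent.Helper15.Coherence

/-!
# Piece (K2) of WANTED #5037 (helper15, S4018): the lattice lemma `lattice_two`

Integer vectors `a l` (`l : L`) with Gram matrix `2 + [k = l] + [k = inv l]`, orthogonal to a
strictly positive vector, with a common coordinate `-1` at `o`, and at least `10` non-fixed
indices: then `a l = -e_o - δ e_Y + ε e_{Θ l}` for non-fixed `l`.
-/

set_option autoImplicit false

namespace Cfsg.Agent.Helper79.TIInv

open Finset

section Core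

variable {I : Type*} [Fintype I] [DecidableEq I] {L₀ : Type*} [Fintype L₀]

omit [Fintype I] in
/-- If all fibres of `Θ₀` have at most two elements, a nonnegative sum over `L₀` is at most
twice the sum over a set containing the image. -/
theorem sum_comp_le_two (Θ₀ : L₀ → I) (T : Finset I) (hT : ∀ l, Θ₀ l ∈ T)
    (hfib : ∀ j, (univ.filter (fun l => Θ₀ l = j)).card ≤ 2) (g : I → ℤ) (hg : ∀ i, 0 ≤ g i) :
    ∑ l, g (Θ₀ l) ≤ 2 * ∑ j ∈ T, g j := by
  rw [← Finset.sum_fiberwise_of_maps_to (s := univ) (t := T) (g := Θ₀) (fun l _ => hT l)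
    (fun l => g (Θ₀ l)), Finset.mul_sum]
  apply Finset.sum_le_sum
  intro j _
  have h1 : ∑ l ∈ univ.filter (fun l => Θ₀ l = j), g (Θ₀ l)
      = ∑ l ∈ univ.filter (fun l => Θ₀ l = j), g j :=
    Finset.sum_congr rfl (fun l hl => by rw [(Finset.mem_filter.1 hl).2])
  rw [h1, Finset.sum_const, nsmul_eq_mul]
  have h2 : ((univ.filter (fun l => Θ₀ l = j)).card : ℤ) ≤ 2 := by exact_mod_cast hfib j
  nlinarith [hg j]

theorem core_struct (a₀ : L₀ → I → ℤ) (Θ₀ : L₀ → I) (b : I → ℤ) (ε : ℤ)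
    (hε : ε = 1 ∨ ε = -1)
    (hab : ∀ l i, a₀ l i = b i + if i = Θ₀ l then ε else 0)
    (hfib : ∀ j, (univ.filter (fun l => Θ₀ l = j)).card ≤ 2)
    (hcard : 10 ≤ Fintype.card L₀)
    (hnorm : ∀ l, ∑ i, a₀ l i * a₀ l i = 3)
    (o : I) (ho : ∀ l, a₀ l o = -1) :
    ∃ (δ : ℤ) (Y : I), (δ = 1 ∨ δ = -1) ∧ Y ≠ o ∧ (∀ l, Θ₀ l ≠ o ∧ Θ₀ l ≠ Y) ∧
      ∀ i, b i = (if i = o then -1 else 0) + (if i = Y then -δ else 0) := by
  have hε2 : ε * ε = 1 := by rcases hε with rfl | rfl <;> norm_num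
  -- norm expansion
  have hexp : ∀ l, ∑ i, a₀ l i * a₀ l i = ∑ i, b i * b i + (2 * ε * b (Θ₀ l) + ε * ε) := by
    intro l
    have h1 : ∀ i, a₀ l i * a₀ l i
        = b i * b i + (if i = Θ₀ l then 2 * ε * b i + ε * ε else 0) := by
      intro i
      rw [hab l i]
      split_ifs <;> ring
    rw [Finset.sum_congr rfl (fun i _ => h1 i), Finset.sum_add_distrib,
      Finset.sum_ite_eq' univ (Θ₀ l) (fun i => 2 * ε * b i + ε * ε)]
    simp
  have hβ : ∀ l, 2 * (ε * b (Θ₀ l)) = 2 - ∑ i, b i * b i := by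
    intro l
    have := hexp l
    rw [hnorm l, hε2] at this
    linarith
  have hne : Nonempty L₀ := by
    rw [← Fintype.card_pos_iff]; omega
  obtain ⟨l₁⟩ := hne
  have hbβ : ∀ l, b (Θ₀ l) = ε * (ε * b (Θ₀ l₁)) := by
    intro l
    have h1 := hβ l
    have h2 := hβ l₁
    have h3 : ε * b (Θ₀ l) = ε * b (Θ₀ l₁) := by linarith
    calc b (Θ₀ l) = (ε * ε) * b (Θ₀ l) := by rw [hε2, one_mul]
      _ = ε * (ε * b (Θ₀ l)) := by ring
      _ = ε * (ε * b (Θ₀ l₁)) := by rw [h3]
  -- the counting inequality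
  have hsum := sum_comp_le_two Θ₀ univ (fun l => mem_univ _) hfib (fun i => b i * b i)
    (fun i => mul_self_nonneg _)
  have hsq : ∀ l, b (Θ₀ l) * b (Θ₀ l) = (ε * b (Θ₀ l₁)) * (ε * b (Θ₀ l₁)) := by
    intro l
    rw [hbβ l]
    calc ε * (ε * b (Θ₀ l₁)) * (ε * (ε * b (Θ₀ l₁)))
        = (ε * ε) * ((ε * b (Θ₀ l₁)) * (ε * b (Θ₀ l₁))) := by ring
      _ = _ := by rw [hε2, one_mul]
  have hsum' : (Fintype.card L₀ : ℤ) * ((ε * b (Θ₀ l₁)) * (ε * b (Θ₀ l₁)))
      ≤ 2 * ∑ i, b i * b i := by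
    have : ∑ l, b (Θ₀ l) * b (Θ₀ l)
        = (Fintype.card L₀ : ℤ) * ((ε * b (Θ₀ l₁)) * (ε * b (Θ₀ l₁))) := by
      rw [Finset.sum_congr rfl (fun l _ => hsq l), Finset.sum_const, nsmul_eq_mul]
      simp
    rw [← this]
    exact hsum
  have hcard' : (10 : ℤ) ≤ (Fintype.card L₀ : ℤ) := by exact_mod_cast hcard
  set β : ℤ := ε * b (Θ₀ l₁) with hβdef
  have hB : ∑ i, b i * b i = 2 - 2 * β := by have := hβ l₁; linarith
  have hβ0 : β = 0 := by
    have h10 : 10 * (β * β) ≤ 2 * (2 - 2 * β) := by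
      rw [← hB]
      have : 10 * (β * β) ≤ (Fintype.card L₀ : ℤ) * (β * β) :=
        mul_le_mul_of_nonneg_right hcard' (mul_self_nonneg β)
      linarith
    by_contra hne
    rcases lt_or_gt_of_ne hne with h | h
    · have : β ≤ -1 := by omega
      nlinarith
    · have : 1 ≤ β := by omega
      nlinarith
  have hB2 : ∑ i, b i * b i = 2 := by rw [hB, hβ0]; ring
  have hbΘ : ∀ l, b (Θ₀ l) = 0 := by
    intro l
    rw [hbβ l, hβ0]; ring
  -- an element outside the fibre of `o`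
  have hex : ∃ k, Θ₀ k ≠ o := by
    by_contra hcon
    push Not at hcon
    have hfo := hfib o
    have : univ.filter (fun l => Θ₀ l = o) = univ :=
      Finset.filter_true_of_mem (fun l _ => hcon l)
    rw [this, Finset.card_univ] at hfo
    omega
  obtain ⟨k, hk⟩ := hex
  have hbo : b o = -1 := by
    have h1 := hab k o
    rw [ho k, if_neg (fun h => hk h.symm)] at h1
    linarith
  have hΘo : ∀ l, Θ₀ l ≠ o := by
    intro l hl
    have := hbΘ l
    rw [hl, hbo] at this
    omega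
  -- the second nonzero coordinate
  have hsplit1 : b o * b o + ∑ i ∈ univ.erase o, b i * b i = 2 := by
    rw [Finset.add_sum_erase univ (fun i => b i * b i) (mem_univ o)]
    exact hB2
  have hrest1 : ∑ i ∈ univ.erase o, b i * b i = 1 := by
    rw [hbo] at hsplit1; linarith
  have hexY : ∃ Y ∈ univ.erase o, b Y ≠ 0 := by
    by_contra hcon
    push Not at hcon
    have : ∑ i ∈ univ.erase o, b i * b i = 0 :=
      Finset.sum_eq_zero (fun i hi => by rw [hcon i hi]; ring)
    omega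
  obtain ⟨Y, hYmem, hbY⟩ := hexY
  have hYo : Y ≠ o := (Finset.mem_erase.1 hYmem).1
  have hsplit2 : b Y * b Y + ∑ i ∈ (univ.erase o).erase Y, b i * b i = 1 := by
    rw [Finset.add_sum_erase (univ.erase o) (fun i => b i * b i) hYmem]
    exact hrest1
  have hrest_nonneg : 0 ≤ ∑ i ∈ (univ.erase o).erase Y, b i * b i :=
    Finset.sum_nonneg (fun i _ => mul_self_nonneg (b i))
  have hbY1 : 1 ≤ b Y * b Y := by
    rcases lt_or_gt_of_ne hbY with h | h
    · nlinarith
    · nlinarith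
  have hbY2 : b Y * b Y = 1 := by omega
  have hrest2 : ∑ i ∈ (univ.erase o).erase Y, b i * b i = 0 := by omega
  have hz := (Finset.sum_eq_zero_iff_of_nonneg (fun i _ => mul_self_nonneg (b i))).1 hrest2
  have hbY' : b Y = 1 ∨ b Y = -1 := by
    have : (b Y - 1) * (b Y + 1) = 0 := by linear_combination hbY2
    rcases mul_eq_zero.1 this with h | h
    · left; linarith
    · right; linarith
  refine ⟨-b Y, Y, ?_, hYo, fun l => ⟨hΘo l, ?_⟩, fun i => ?_⟩
  · rcases hbY' with h | h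
    · right; rw [h]
    · left; rw [h]; norm_num
  · intro hl
    have := hbΘ l
    rw [hl] at this
    exact hbY this
  · by_cases hio : i = o
    · subst hio
      rw [if_pos rfl, if_neg (fun h => hYo h.symm), hbo]; ring
    · by_cases hiY : i = Y
      · subst hiY
        rw [if_neg hio, if_pos rfl]; ring
      · rw [if_neg hio, if_neg hiY]
        have := hz i (by simp [hio, hiY])
        have h0 : b i = 0 := by simpa using this
        rw [h0]; ring

theorem core_fixed (a₀ : L₀ → I → ℤ) (Θ₀ : L₀ → I) (ε δ : ℤ)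
    (hε : ε = 1 ∨ ε = -1) (hδ : δ = 1 ∨ δ = -1)
    (o Y : I) (hYo : Y ≠ o) (hΘ : ∀ l, Θ₀ l ≠ o ∧ Θ₀ l ≠ Y)
    (ha : ∀ l i, a₀ l i
      = (if i = o then -1 else 0) + (if i = Y then -δ else 0) + (if i = Θ₀ l then ε else 0))
    (hfib : ∀ j, (univ.filter (fun l => Θ₀ l = j)).card ≤ 2)
    (hcard : 10 ≤ Fintype.card L₀)
    (af : I → ℤ) (hnorm : ∑ i, af i * af i = 4) (hafo : af o = -1)
    (hinner : ∀ l, ∑ i, a₀ l i * af i = 2) :
    af Y = -δ ∧ ∀ l, af (Θ₀ l) = 0 := by
  have hε2 : ε * ε = 1 := by rcases hε with rfl | rfl <;> norm_num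
  have hδ2 : δ * δ = 1 := by rcases hδ with rfl | rfl <;> norm_num
  have hexp : ∀ l, ∑ i, a₀ l i * af i = -af o + -δ * af Y + ε * af (Θ₀ l) := by
    intro l
    have h1 : ∀ i, a₀ l i * af i = (if i = o then -af i else 0)
        + (if i = Y then -δ * af i else 0) + (if i = Θ₀ l then ε * af i else 0) := by
      intro i
      rw [ha l i]
      split_ifs <;> ring
    rw [Finset.sum_congr rfl (fun i _ => h1 i), Finset.sum_add_distrib, Finset.sum_add_distrib,
      Finset.sum_ite_eq' univ o (fun i => -af i), Finset.sum_ite_eq' univ Y (fun i => -δ * af i),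
      Finset.sum_ite_eq' univ (Θ₀ l) (fun i => ε * af i)]
    simp
  set c : ℤ := 1 + δ * af Y with hcdef
  have hc : ∀ l, ε * af (Θ₀ l) = c := by
    intro l
    have := hexp l
    rw [hinner l, hafo] at this
    rw [hcdef]; linarith
  have hafΘ : ∀ l, af (Θ₀ l) = ε * c := by
    intro l
    calc af (Θ₀ l) = (ε * ε) * af (Θ₀ l) := by rw [hε2, one_mul]
      _ = ε * (ε * af (Θ₀ l)) := by ring
      _ = ε * c := by rw [hc l]
  have hsq : ∀ l, af (Θ₀ l) * af (Θ₀ l) = c * c := by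
    intro l
    rw [hafΘ l]
    calc ε * c * (ε * c) = (ε * ε) * (c * c) := by ring
      _ = c * c := by rw [hε2, one_mul]
  have hsum := sum_comp_le_two Θ₀ ((univ.erase o).erase Y)
    (fun l => by
      have := hΘ l
      simp [this.1, this.2]) hfib (fun i => af i * af i)
    (fun i => mul_self_nonneg _)
  have hsum' : (Fintype.card L₀ : ℤ) * (c * c)
      ≤ 2 * ∑ i ∈ (univ.erase o).erase Y, af i * af i := by
    have : ∑ l, af (Θ₀ l) * af (Θ₀ l) = (Fintype.card L₀ : ℤ) * (c * c) := by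
      rw [Finset.sum_congr rfl (fun l _ => hsq l), Finset.sum_const, nsmul_eq_mul]
      simp
    rw [← this]
    exact hsum
  have hsplit1 : af o * af o + ∑ i ∈ univ.erase o, af i * af i = 4 := by
    rw [Finset.add_sum_erase univ (fun i => af i * af i) (mem_univ o)]
    exact hnorm
  have hsplit2 : af Y * af Y + ∑ i ∈ (univ.erase o).erase Y, af i * af i
      = ∑ i ∈ univ.erase o, af i * af i := by
    rw [Finset.add_sum_erase (univ.erase o) (fun i => af i * af i)
      (Finset.mem_erase.2 ⟨hYo, mem_univ Y⟩)]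
  have hcard' : (10 : ℤ) ≤ (Fintype.card L₀ : ℤ) := by exact_mod_cast hcard
  have hc0 : c = 0 := by
    have h10 : 10 * (c * c) ≤ 6 := by
      have h1 : 10 * (c * c) ≤ (Fintype.card L₀ : ℤ) * (c * c) :=
        mul_le_mul_of_nonneg_right hcard' (mul_self_nonneg c)
      have h2 : 0 ≤ af Y * af Y := mul_self_nonneg _
      rw [hafo] at hsplit1
      linarith
    by_contra hne
    rcases lt_or_gt_of_ne hne with h | h
    · have : c ≤ -1 := by omega
      nlinarith
    · have : 1 ≤ c := by omega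
      nlinarith
  refine ⟨?_, fun l => by rw [hafΘ l, hc0]; ring⟩
  have h1 : δ * af Y = -1 := by rw [hcdef] at hc0; linarith
  calc af Y = (δ * δ) * af Y := by rw [hδ2, one_mul]
    _ = δ * (δ * af Y) := by ring
    _ = -δ := by rw [h1]; ring

end Core

/-- The relation "same class under the involution" on the non-fixed indices. -/
def rel {L : Type*} (inv : L → L) (l k : {l : L // inv l ≠ l}) : Prop :=
  k.1 = l.1 ∨ k.1 = inv l.1

instance {L : Type*} [DecidableEq L] (inv : L → L) : DecidableRel (rel inv) := fun l k => by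
  unfold rel; infer_instance

theorem rel_equivalence {L : Type*} (inv : L → L) (hinv : ∀ l, inv (inv l) = l) :
    Equivalence (rel inv) := by
  refine ⟨fun l => Or.inl rfl, ?_, ?_⟩
  · intro l k h
    rcases h with h | h
    · exact Or.inl h.symm
    · right
      rw [h, hinv]
  · intro l k j h1 h2
    rcases h1 with h1 | h1 <;> rcases h2 with h2 | h2
    · left; rw [h2, h1]
    · right; rw [h2, h1]
    · right; rw [h2, h1]
    · left; rw [h2, h1, hinv]

theorem lattice_two {I L : Type*} [Fintype I] [DecidableEq I] [Fintype L] [DecidableEq L]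
    (a : L → I → ℤ) (inv : L → L) (hinv : ∀ l, inv (inv l) = l)
    (hcard : 10 ≤ (Finset.univ.filter (fun l : L => inv l ≠ l)).card)
    (hG : ∀ l k, ∑ i, a l i * a k i = 2 + (if k = l then 1 else 0) + (if k = inv l then 1 else 0))
    (D : I → ℤ) (hD : ∀ i, 0 < D i) (hDa : ∀ l, ∑ i, a l i * D i = 0)
    (o : I) (ho : ∀ l, a l o = -1) :
    ∃ (ε δ : ℤ) (Y : I) (Θ : L → I), (ε = 1 ∨ ε = -1) ∧ (δ = 1 ∨ δ = -1) ∧ Y ≠ o ∧
      (∀ l, inv l ≠ l → Θ l ≠ o ∧ Θ l ≠ Y) ∧
      (∀ l k, inv l ≠ l → inv k ≠ k → (Θ l = Θ k ↔ (k = l ∨ k = inv l))) ∧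
      (∀ l, inv l ≠ l → ∀ i, a l i =
        (if i = o then -1 else 0) + (if i = Y then -δ else 0) + (if i = Θ l then ε else 0)) ∧
      (∀ f, inv f = f → a f Y = -δ ∧ ∀ l, inv l ≠ l → a f (Θ l) = 0) := by
  have : Nonempty I := ⟨o⟩
  have hr := rel_equivalence inv hinv
  have hG0 : ∀ l k : {l : L // inv l ≠ l},
      ∑ i, a l.1 i * a k.1 i = 2 + if rel inv l k then 1 else 0 := by
    intro l k
    rw [hG l.1 k.1]
    by_cases h1 : k.1 = l.1
    · have h2 : k.1 ≠ inv l.1 := fun h => l.2 (by rw [← h, h1])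
      rw [if_pos h1, if_neg h2, if_pos (show rel inv l k from Or.inl h1)]; ring
    · by_cases h2 : k.1 = inv l.1
      · rw [if_neg h1, if_pos h2, if_pos (show rel inv l k from Or.inr h2)]; ring
      · rw [if_neg h1, if_neg h2,
          if_neg (show ¬ rel inv l k by rintro (h | h); exacts [h1 h, h2 h])]; ring
  obtain ⟨ε, Θ₀, b, hε, hab, hΘ⟩ := Cfsg.Agent.Helper15.Coherence.exists_coherent
    (fun l : {l : L // inv l ≠ l} => a l.1) (rel inv) hr 2 hG0 D hD (fun l => hDa l.1)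
  have hfib : ∀ j, (univ.filter (fun l : {l : L // inv l ≠ l} => Θ₀ l = j)).card ≤ 2 := by
    intro j
    by_cases hne : ∃ l₀, Θ₀ l₀ = j
    · obtain ⟨l₀, rfl⟩ := hne
      have hl₀' : inv (inv l₀.1) ≠ inv l₀.1 := by
        rw [hinv]; exact fun h => l₀.2 h.symm
      refine le_trans (Finset.card_le_card (t := {l₀, ⟨inv l₀.1, hl₀'⟩}) ?_) Finset.card_le_two
      intro k hk
      have hk' : Θ₀ k = Θ₀ l₀ := (Finset.mem_filter.1 hk).2
      have hrel := (hΘ l₀ k).1 hk'.symm
      rcases hrel with h | h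
      · have : k = l₀ := Subtype.ext h
        simp [this]
      · have : k = ⟨inv l₀.1, hl₀'⟩ := Subtype.ext h
        simp [this]
    · have : univ.filter (fun l : {l : L // inv l ≠ l} => Θ₀ l = j) = ∅ := by
        apply Finset.filter_eq_empty_iff.2
        intro l _ h
        exact hne ⟨l, h⟩
      rw [this]; simp
  have hcard0 : 10 ≤ Fintype.card {l : L // inv l ≠ l} := by
    rw [Fintype.card_subtype]; exact hcard
  have hnorm : ∀ l : {l : L // inv l ≠ l}, ∑ i, a l.1 i * a l.1 i = 3 := by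
    intro l
    rw [hG l.1 l.1, if_pos rfl, if_neg (fun h => l.2 h.symm)]; ring
  obtain ⟨δ, Y, hδ, hYo, hΘoY, hb⟩ := core_struct (fun l : {l : L // inv l ≠ l} => a l.1) Θ₀ b ε
    hε hab hfib hcard0 hnorm o (fun l => ho l.1)
  have ha0 : ∀ (l : {l : L // inv l ≠ l}) (i : I), a l.1 i
      = (if i = o then -1 else 0) + (if i = Y then -δ else 0) + (if i = Θ₀ l then ε else 0) := by
    intro l i
    rw [hab l i, hb i]
  refine ⟨ε, δ, Y, fun l => if h : inv l ≠ l then Θ₀ ⟨l, h⟩ else o, hε, hδ, hYo, ?_, ?_, ?_, ?_⟩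
  · intro l hl
    beta_reduce
    rw [dif_pos hl]
    exact hΘoY ⟨l, hl⟩
  · intro l k hl hk
    beta_reduce
    rw [dif_pos hl, dif_pos hk]
    exact hΘ ⟨l, hl⟩ ⟨k, hk⟩
  · intro l hl i
    beta_reduce
    rw [dif_pos hl]
    exact ha0 ⟨l, hl⟩ i
  · intro f hf
    have hfix := core_fixed (fun l : {l : L // inv l ≠ l} => a l.1) Θ₀ ε δ hε hδ o Y hYo hΘoY
      ha0 hfib hcard0 (a f)
      (by rw [hG f f, if_pos rfl, if_pos hf.symm]; ring) (ho f)
      (by
        intro l
        have h1 : f ≠ l.1 := fun h => l.2 (by rw [← h, hf])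
        have h2 : f ≠ inv l.1 := fun h => h1 (by rw [← hf, h, hinv])
        rw [hG l.1 f, if_neg h1, if_neg h2]; ring)
    refine ⟨hfix.1, fun l hl => ?_⟩
    beta_reduce
    rw [dif_pos hl]
    exact hfix.2 ⟨l, hl⟩

end Cfsg.Agent.Helper79.TIInv
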