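import Mathlib

namespace Cfsg.Agent.Helper79.TIInv

theorem arith_false (m y θ : ℕ) (ε δ : ℤ) (hm : 2 ≤ m) (hy : 0 < y) (hθ : 0 < θ)
    (hε : ε = 1 ∨ ε = -1) (hδ : δ = 1 ∨ δ = -1)
    (h1 : -1 - δ * y + ε * θ = 0)
    (h2 : (4 * m * (4 * m ^ 2 - 2 * m + 1) : ℤ) = 4 * m * y * (y + 2 * m * ((2 * m - 1) * δ)))
    (h3 : (4 * m * (4 * m ^ 2 - 2 * m + 1) : ℤ) * 4 = 4 * m * θ * (θ + 2 * m * (-2 * ε))) :
    False := by
  have hM : (2 : ℤ) ≤ (m : ℤ) := by exact_mod_cast hm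
  have hY : (0 : ℤ) < (y : ℤ) := by exact_mod_cast hy
  have hT : (0 : ℤ) < (θ : ℤ) := by exact_mod_cast hθ
  generalize (m : ℤ) = M at *
  generalize (y : ℤ) = Y at *
  generalize (θ : ℤ) = T at *
  have h4M : (4 * M) ≠ 0 := by omega
  have h2' : 4 * M ^ 2 - 2 * M + 1 = Y * (Y + 2 * M * ((2 * M - 1) * δ)) := by
    apply mul_left_cancel₀ h4M
    rw [h2]; ring
  have h3' : (4 * M ^ 2 - 2 * M + 1) * 4 = T * (T + 2 * M * (-2 * ε)) := by
    apply mul_left_cancel₀ h4M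
    rw [← mul_assoc, h3]; ring
  have hi : 0 < 4 * M ^ 2 - 2 * M + 1 := by nlinarith
  rcases hδ with rfl | rfl
  · -- δ = 1 : (Y - 1) (Y + i) = 0
    have hfac : (Y - 1) * (Y + (4 * M ^ 2 - 2 * M + 1)) = 0 := by linear_combination -h2'
    have hY1 : Y = 1 := by
      rcases mul_eq_zero.mp hfac with h | h
      · linarith
      · exfalso; linarith
    subst hY1
    rcases hε with rfl | rfl
    · have hT2 : T = 2 := by linarith
      subst hT2
      nlinarith
    · linarith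
  · -- δ = -1 : (Y - i) (Y + 1) = 0
    have hfac : (Y - (4 * M ^ 2 - 2 * M + 1)) * (Y + 1) = 0 := by linear_combination -h2'
    have hYi : Y = 4 * M ^ 2 - 2 * M + 1 := by
      rcases mul_eq_zero.mp hfac with h | h
      · linarith
      · exfalso; linarith
    subst hYi
    rcases hε with rfl | rfl
    · nlinarith
    · have hTi : T = 4 * M ^ 2 - 2 * M := by linarith
      subst hTi
      have hM2 : 4 ≤ M ^ 2 := by nlinarith
      nlinarith [mul_pos (show (0:ℤ) < M by omega) (show (0:ℤ) < M by omega), sq_nonneg (M^2)]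

end Cfsg.Agent.Helper79.TIInv
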