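import Cfsg.Agent.Helper57.BP.PartI
import Cfsg.Agent.Helper79.ClassMult

/-!
# Piece (P13) of helper16's #9804 (S4705): the twisted class constant has the same absolute value
as the untwisted one when only one central translate of `u` is a product of two conjugates of `t`.
-/

set_option autoImplicit false

namespace Cfsg.Agent.Helper79.B66

open Cfsg Cfsg.Agent.Helper16 Cfsg.Agent.Helper16.DefOne Cfsg.Agent.Helper82.DefOne
  Cfsg.Agent.Helper77.DefOne Cfsg.Agent.Helper57.BH Cfsg.Agent.Helper57.BP
open scoped ComplexConjugate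

universe u

variable {G : Type u} [Group G] [Fintype G] {p : ℕ} [Fact p.Prime] (P : Sylow p G)

section aux

open Classical Cfsg.Agent.Helper76

/-- the summand of the class-constant formula -/
noncomputable def p13term (u v : G) (χ : IrrCharacter G) (w : G) : ℂ :=
  (χ : G → ℂ) u * (χ : G → ℂ) v * conj ((χ : G → ℂ) w) / (χ : G → ℂ) 1

omit [Fintype G] in
theorem p13_tsum_eq [Fintype (IrrCharacter G)] (S : Set (IrrCharacter G)) (u v w : G) :
    Cfsg.Agent.Helper57.BP.tsum S u v w =
      ∑ χ : IrrCharacter G, if χ ∈ S then p13term u v χ w else 0 := by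
  unfold Cfsg.Agent.Helper57.BP.tsum
  rw [finsum_mem_def, finsum_eq_sum_of_fintype]
  refine Finset.sum_congr rfl fun χ _ => ?_
  by_cases h : χ ∈ S
  · rw [Set.indicator_of_mem h, if_pos h]; rfl
  · rw [Set.indicator_of_notMem h, if_neg h]

/-- Burnside: the full sum is the number of solutions divided by `|G|` -/
theorem p13_full [Fintype (IrrCharacter G)] (u v w : G) :
    ∑ χ : IrrCharacter G, p13term u v χ w =
      ((Finset.univ.filter
        (fun ab : G × G => ab.1 * u * ab.1⁻¹ * (ab.2 * v * ab.2⁻¹) = w)).card : ℂ) /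
        (Nat.card G : ℂ) := by
  have h := Cfsg.Agent.Helper79.card_conj_mul_conj_eq (G := G) u v w
  have hG : (Nat.card G : ℂ) ≠ 0 := by
    have : 0 < Nat.card G := Nat.card_pos
    exact_mod_cast this.ne'
  rw [eq_div_iff hG, mul_comm]
  exact h.symm

omit [Fintype G] in
/-- moving a central element out of the summand -/
theorem p13term_central (u v w : G) (χ : IrrCharacter G) (ζ : G)
    (hζ : ζ ∈ Subgroup.center G) :
    p13term u v χ (ζ * w) = conj (centralLam (χ : G → ℂ) ζ) * p13term u v χ w := by
  unfold p13term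
  rw [centralLam_spec χ.2 hζ w, map_mul]
  ring

omit [Fintype G] in
theorem p13_mem_overChar_iff (ψ χ : IrrCharacter G) :
    χ ∈ overChar ψ ↔
      centralLamHom ψ.2 (Subgroup.center G) le_rfl = centralLamHom χ.2 (Subgroup.center G) le_rfl := by
  have hψ1 := Cfsg.Agent.Helper79.irr_one_ne_zero ψ
  have hχ1 := Cfsg.Agent.Helper79.irr_one_ne_zero χ
  constructor
  · intro h
    ext ζ
    show centralLam (ψ : G → ℂ) ζ = centralLam (χ : G → ℂ) ζ
    unfold centralLam
    have := h ζ ζ.2
    rw [div_eq_div_iff hψ1 hχ1]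
    exact this.symm
  · intro h ζ hζ
    have := DFunLike.congr_fun h ⟨ζ, hζ⟩
    change centralLam (ψ : G → ℂ) ζ = centralLam (χ : G → ℂ) ζ at this
    unfold centralLam at this
    rw [div_eq_div_iff hψ1 hχ1] at this
    exact this.symm

omit [Fintype G] in
theorem p13_mem_overOne_iff (χ : IrrCharacter G) :
    χ ∈ overOne G ↔
      (1 : Subgroup.center G →* ℂ) = centralLamHom χ.2 (Subgroup.center G) le_rfl := by
  have hχ1 := Cfsg.Agent.Helper79.irr_one_ne_zero χ
  constructor
  · intro h
    ext ζ
    show (1 : ℂ) = centralLam (χ : G → ℂ) ζ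
    unfold centralLam
    rw [h ζ ζ.2, div_self hχ1]
  · intro h ζ hζ
    have := DFunLike.congr_fun h ⟨ζ, hζ⟩
    change (1 : ℂ) = centralLam (χ : G → ℂ) ζ at this
    unfold centralLam at this
    rw [eq_div_iff hχ1, one_mul] at this
    exact this.symm

/-- the key identity: summing the full class-constant sums against a character of the centre -/
theorem p13_key [Fintype (IrrCharacter G)] (lam : Subgroup.center G →* ℂ)
    (S : Set (IrrCharacter G))
    (hS : ∀ χ : IrrCharacter G, χ ∈ S ↔ lam = centralLamHom χ.2 (Subgroup.center G) le_rfl)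
    (u v w : G) :
    ∑ ζ : Subgroup.center G, lam ζ * ∑ χ : IrrCharacter G, p13term u v χ ((ζ : G) * w) =
      (Fintype.card (Subgroup.center G) : ℂ) * Cfsg.Agent.Helper57.BP.tsum S u v w := by
  rw [p13_tsum_eq]
  simp only [Finset.mul_sum]
  rw [Finset.sum_comm]
  refine Finset.sum_congr rfl fun χ _ => ?_
  have h1 : ∀ ζ : Subgroup.center G, lam ζ * p13term u v χ ((ζ : G) * w) =
      (lam ζ * conj (centralLamHom χ.2 (Subgroup.center G) le_rfl ζ)) * p13term u v χ w := by
    intro ζ
    rw [p13term_central u v w χ ζ ζ.2]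
    show _ = lam ζ * conj (centralLam (χ : G → ℂ) ζ) * _
    ring
  simp only [h1]
  rw [← Finset.sum_mul, sum_monoidHom_mul_conj]
  by_cases h : χ ∈ S
  · rw [if_pos h, if_pos ((hS χ).mp h)]
  · rw [if_neg h, if_neg (fun h' => h ((hS χ).mpr h'))]
    simp

end aux

open Classical in
/-- (P13) the twisted class constant has the same absolute value as the untwisted one when only
one central translate of `u` is a product of two conjugates of `t` (any finite group) -/
theorem norm_tsum_overChar_eq (ψ : IrrCharacter G) (t u s : G)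
    (hF : ∀ z : G, z ∈ Subgroup.center G → ∀ a b : G,
      a * t * a⁻¹ * (b * t * b⁻¹) = z * u → z = s) :
    ‖tsum (overChar ψ) t t u‖ = ‖tsum (overOne G) t t u‖ := by
  have : Fintype (IrrCharacter G) := Fintype.ofFinite _
  set lam := Cfsg.Agent.Helper76.centralLamHom ψ.2 (Subgroup.center G) le_rfl with hlam
  have hA := p13_key lam (overChar ψ) (fun χ => p13_mem_overChar_iff ψ χ) t t u
  have hB := p13_key (1 : Subgroup.center G →* ℂ) (overOne G)
    (fun χ => p13_mem_overOne_iff χ) t t u
  -- the full sums vanish unless ζ = s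
  have hzero : ∀ ζ : Subgroup.center G, (ζ : G) ≠ s →
      ∑ χ : IrrCharacter G, p13term t t χ ((ζ : G) * u) = 0 := by
    intro ζ hζ
    rw [p13_full]
    have : (Finset.univ.filter
        (fun ab : G × G => ab.1 * t * ab.1⁻¹ * (ab.2 * t * ab.2⁻¹) = (ζ : G) * u)) = ∅ := by
      rw [Finset.filter_eq_empty_iff]
      intro ab _ hab
      exact hζ (hF (ζ : G) ζ.2 ab.1 ab.2 hab)
    rw [this, Finset.card_empty, Nat.cast_zero, zero_div]
  have hZ : (Fintype.card (Subgroup.center G) : ℝ) ≠ 0 := by
    have : 0 < Fintype.card (Subgroup.center G) := Fintype.card_pos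
    exact_mod_cast this.ne'
  have hnormZ : ∀ x : ℂ, ‖(Fintype.card (Subgroup.center G) : ℂ) * x‖ =
      (Fintype.card (Subgroup.center G) : ℝ) * ‖x‖ := by
    intro x
    rw [norm_mul]
    congr 1
    simp
  have key : ‖(Fintype.card (Subgroup.center G) : ℂ) * tsum (overChar ψ) t t u‖ =
      ‖(Fintype.card (Subgroup.center G) : ℂ) * tsum (overOne G) t t u‖ := by
    rw [← hA, ← hB]
    by_cases hs : s ∈ Subgroup.center G
    · rw [Finset.sum_eq_single (⟨s, hs⟩ : Subgroup.center G),
        Finset.sum_eq_single (⟨s, hs⟩ : Subgroup.center G)]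
      · rw [norm_mul, norm_mul, Cfsg.Agent.Helper76.norm_monoidHom_eq_one lam ⟨s, hs⟩,
          MonoidHom.one_apply, norm_one]
      · intro ζ _ hne
        rw [hzero ζ (fun h => hne (Subtype.ext h)), mul_zero]
      · intro h; exact absurd (Finset.mem_univ _) h
      · intro ζ _ hne
        rw [hzero ζ (fun h => hne (Subtype.ext h)), mul_zero]
      · intro h; exact absurd (Finset.mem_univ _) h
    · have hall : ∀ ζ : Subgroup.center G,
          ∑ χ : IrrCharacter G, p13term t t χ ((ζ : G) * u) = 0 := by
        intro ζ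
        apply hzero ζ
        intro h
        exact hs (h ▸ ζ.2)
      simp only [hall, mul_zero, Finset.sum_const_zero]
  rw [hnormZ, hnormZ] at key
  exact mul_left_cancel₀ hZ key

end Cfsg.Agent.Helper79.B66
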