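import Cfsg.Agent.Helper57.BP.PartI
import Cfsg.Agent.Helper79.B66P13

/-!
# Piece (P25) of helper16's #9805 (S4705): the untwisted class constant sums are nonnegative
rationals.
-/

set_option autoImplicit false

namespace Cfsg.Agent.Helper79.B66

open Cfsg Cfsg.Agent.Helper16 Cfsg.Agent.Helper16.DefOne Cfsg.Agent.Helper82.DefOne
  Cfsg.Agent.Helper77.DefOne Cfsg.Agent.Helper57.BH Cfsg.Agent.Helper57.BP
open scoped ComplexConjugate

universe u

variable {G : Type u} [Group G] [Fintype G] {p : ℕ} [Fact p.Prime] (P : Sylow p G)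

open Classical in
/-- (P25) the untwisted class constant sums are nonnegative rationals (any finite group) -/
theorem exists_rat_tsum_overOne (u v w : G) :
    ∃ q : ℚ, 0 ≤ q ∧ tsum (overOne G) u v w = (q : ℂ) := by
  have : Fintype (IrrCharacter G) := Fintype.ofFinite _
  have hB := p13_key (1 : Subgroup.center G →* ℂ) (overOne G)
    (fun χ => p13_mem_overOne_iff χ) u v w
  simp only [MonoidHom.one_apply, one_mul, p13_full] at hB
  set n : Subgroup.center G → ℕ := fun ζ => (Finset.univ.filter
    (fun ab : G × G => ab.1 * u * ab.1⁻¹ * (ab.2 * v * ab.2⁻¹) = (ζ : G) * w)).card with hn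
  have hZ : (Fintype.card (Subgroup.center G) : ℂ) ≠ 0 := by
    have : 0 < Fintype.card (Subgroup.center G) := Fintype.card_pos
    exact_mod_cast this.ne'
  have hG : (Nat.card G : ℂ) ≠ 0 := by
    have : 0 < Nat.card G := Nat.card_pos
    exact_mod_cast this.ne'
  refine ⟨(∑ ζ : Subgroup.center G, (n ζ : ℚ)) /
    ((Nat.card G : ℚ) * (Fintype.card (Subgroup.center G) : ℚ)),
    div_nonneg (Finset.sum_nonneg fun _ _ => Nat.cast_nonneg _)
      (mul_nonneg (Nat.cast_nonneg _) (Nat.cast_nonneg _)), ?_⟩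
  have h2 : tsum (overOne G) u v w =
      (∑ ζ : Subgroup.center G, (n ζ : ℂ) / (Nat.card G : ℂ)) /
        (Fintype.card (Subgroup.center G) : ℂ) := by
    rw [eq_div_iff hZ, mul_comm]
    exact hB.symm
  rw [h2, ← Finset.sum_div, div_div]
  simp only [Rat.cast_div, Rat.cast_sum, Rat.cast_natCast, Rat.cast_mul]

end Cfsg.Agent.Helper79.B66
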