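import Mathlib
import Cfsg.Agent.Helper77.LocalRing
import Cfsg.Agent.Helper16.LocalRing
import Cfsg.Agent.Helper80.CharBasic
import Cfsg.Agent.Helper80.Degree
import Cfsg.Agent.Helper79.CharComplete

/-!
# Blocks do not depend on the choice of the maximal ideal over `p`

If `M`, `M'` are two maximal ideals of the ring of algebraic integers containing the prime `p`,
then `SameBlock M χ ψ ↔ SameBlock M' χ ψ` for irreducible characters `χ ψ`.

Also a local-global principle for divisibility by a prime power in the algebraic integers.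
-/

set_option autoImplicit false

namespace Cfsg.Agent.Helper79

open Cfsg Polynomial

section poly
variable {p : ℕ} {M : Ideal AlgInt}

theorem multiset_sum_memLocalIdeal (hM : IsPModular p M) (t : Multiset ℂ)
    (h : ∀ x ∈ t, MemLocalIdeal M x) : MemLocalIdeal M t.sum := by
  have hMp := Helper77.isPrime_of_isPModular hM
  induction t using Multiset.induction_on with
  | empty => simpa using Helper77.memLocalIdeal_zero M
  | cons a t ih =>
    rw [Multiset.sum_cons]
    exact Helper77.memLocalIdeal_add M (h a (Multiset.mem_cons_self a t))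
      (ih fun x hx => h x (Multiset.mem_cons_of_mem hx))

theorem multiset_prod_memLocalIdeal (hM : IsPModular p M) (t : Multiset ℂ)
    (h : ∀ x ∈ t, MemLocalIdeal M x) (ht : t ≠ 0) : MemLocalIdeal M t.prod := by
  have hMp := Helper77.isPrime_of_isPModular hM
  induction t using Multiset.induction_on with
  | empty => exact absurd rfl ht
  | cons a t ih =>
    rw [Multiset.prod_cons]
    by_cases ht0 : t = 0
    · rw [ht0, Multiset.prod_zero, mul_one]
      exact h a (Multiset.mem_cons_self a _)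
    · exact Helper77.memLocalIdeal_mul_left M
        (Helper77.MemLocalIdeal.memLocalRing (h a (Multiset.mem_cons_self a t)))
        (ih (fun x hx => h x (Multiset.mem_cons_of_mem hx)) ht0)

theorem esymm_memLocalIdeal (hM : IsPModular p M) (s : Multiset ℂ)
    (h : ∀ x ∈ s, MemLocalIdeal M x) (k : ℕ) (hk : 1 ≤ k) : MemLocalIdeal M (s.esymm k) := by
  rw [Multiset.esymm]
  refine multiset_sum_memLocalIdeal hM _ fun x hx => ?_
  rw [Multiset.mem_map] at hx
  obtain ⟨t, ht, rfl⟩ := hx
  rw [Multiset.mem_powersetCard] at ht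
  refine multiset_prod_memLocalIdeal hM t (fun y hy => h y (Multiset.mem_of_le ht.1 hy)) ?_
  intro h0
  rw [h0, Multiset.card_zero] at ht
  omega

/-- If all complex roots of a monic integer polynomial lie in the local ideal at `M` (over `p`),
then all its lower coefficients are divisible by `p`. -/
theorem dvd_coeff_of_roots_memLocalIdeal (hM : IsPModular p M) (f : ℤ[X]) (hf : f.Monic)
    (hroots : ∀ w : ℂ, (f.map (Int.castRingHom ℂ)).IsRoot w → MemLocalIdeal M w)
    (i : ℕ) (hi : i < f.natDegree) : (p : ℤ) ∣ f.coeff i := by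
  set g := f.map (Int.castRingHom ℂ) with hg
  have hgm : g.Monic := hf.map _
  have hdeg : g.natDegree = f.natDegree := hf.natDegree_map _
  have hsplit : g.Splits := IsAlgClosed.splits g
  have hcard : Multiset.card g.roots = g.natDegree := (splits_iff_card_roots.1 hsplit)
  have hcoeff := Polynomial.coeff_eq_esymm_roots_of_card hcard (k := i) (by rw [hdeg]; exact hi.le)
  rw [hgm.leadingCoeff, one_mul] at hcoeff
  have hmem : MemLocalIdeal M (g.coeff i) := by
    rw [hcoeff]
    have h1 : MemLocalIdeal M (g.roots.esymm (g.natDegree - i)) := by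
      refine esymm_memLocalIdeal hM _ (fun x hx => hroots x ?_) _ (by rw [hdeg]; omega)
      exact (Polynomial.mem_roots hgm.ne_zero).1 hx
    have hMp := Helper77.isPrime_of_isPModular hM
    have h2 : MemLocalRing M ((-1 : ℂ) ^ (g.natDegree - i)) := by
      have : ((-1 : ℂ) ^ (g.natDegree - i)) = (((-1) ^ (g.natDegree - i) : ℤ) : ℂ) := by push_cast; rfl
      rw [this]
      exact Helper77.memLocalRing_intCast M _
    exact Helper77.memLocalIdeal_mul_left M h2 h1
  rw [hg, Polynomial.coeff_map] at hmem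
  exact (Helper77.memLocalIdeal_intCast_iff hM _).1 (by simpa using hmem)

/-- A root `z` (an algebraic integer) of a monic integer polynomial whose lower coefficients are
all divisible by `p` lies in the local ideal of every maximal ideal over `p`. -/
theorem memLocalIdeal_of_dvd_coeff (hM : IsPModular p M) (f : ℤ[X]) (hf : f.Monic)
    (hdvd : ∀ i, i < f.natDegree → (p : ℤ) ∣ f.coeff i) (z : ℂ) (hz : IsIntegral ℤ z)
    (hroot : Polynomial.aeval z f = 0) : MemLocalIdeal M z := by
  have hMp := Helper77.isPrime_of_isPModular hM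
  have hzR : MemLocalRing M z := Helper77.memLocalRing_of_isIntegral M hz
  have hsum := hf.as_sum
  rw [hsum, map_add, map_pow, aeval_X, map_sum] at hroot
  have hpow : z ^ f.natDegree = - ∑ i ∈ Finset.range f.natDegree,
      Polynomial.aeval z (C (f.coeff i) * X ^ i) := by
    linear_combination hroot
  have hmem : MemLocalIdeal M (z ^ f.natDegree) := by
    rw [hpow]
    refine Helper77.memLocalIdeal_neg (Helper77.memLocalIdeal_sum M _ _ fun i hi => ?_)
    rw [Finset.mem_range] at hi
    obtain ⟨k, hk⟩ := hdvd i hi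
    rw [map_mul, aeval_C, map_pow, aeval_X, hk]
    have : ((algebraMap ℤ ℂ) ((p : ℤ) * k)) * z ^ i = ((k : ℂ) * z ^ i) * (p : ℂ) := by
      simp; ring
    rw [this]
    exact Helper77.memLocalIdeal_mul_left M
      (Helper77.memLocalRing_mul M (Helper77.memLocalRing_intCast M k)
        (Helper77.memLocalRing_pow M hzR i)) (Helper77.memLocalIdeal_p hM)
  exact Helper77.memLocalIdeal_of_pow M hzR hmem

/-- If all the conjugates of an algebraic integer `z` lie in (the local ideal of) one maximal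
ideal over `p`, then `z` lies in (the local ideal of) every maximal ideal over `p`. -/
theorem memLocalIdeal_of_conjugates {M' : Ideal AlgInt} (hM : IsPModular p M)
    (hM' : IsPModular p M') (z : ℂ) (hz : IsIntegral ℤ z)
    (h : ∀ w : ℂ, Polynomial.aeval w (minpoly ℚ z) = 0 → MemLocalIdeal M w) :
    MemLocalIdeal M' z := by
  have hf : (minpoly ℤ z).Monic := minpoly.monic hz
  have hmap : minpoly ℚ z = (minpoly ℤ z).map (algebraMap ℤ ℚ) :=
    minpoly.isIntegrallyClosed_eq_field_fractions' ℚ hz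
  refine memLocalIdeal_of_dvd_coeff hM' (minpoly ℤ z) hf ?_ z hz (minpoly.aeval ℤ z)
  refine dvd_coeff_of_roots_memLocalIdeal hM (minpoly ℤ z) hf fun w hw => h w ?_
  rw [hmap, Polynomial.aeval_map_algebraMap]
  rw [Polynomial.IsRoot.def, Polynomial.eval_map] at hw
  rw [Polynomial.aeval_def]
  exact hw

end poly

/-- The complex conjugates (roots of the minimal polynomial over `ℚ`) of a rational combination
of `n`-th roots of unity are obtained by raising the roots of unity to a power prime to `n`. -/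
theorem exists_pow_of_isRoot_minpoly {ι : Type*} [Fintype ι] (n : ℕ) (hn : 0 < n) (c : ι → ℚ)
    (μ : ι → ℂ) (hμ : ∀ i, μ i ^ n = 1) (w : ℂ)
    (hw : Polynomial.aeval w (minpoly ℚ (∑ i, (c i : ℂ) * μ i)) = 0) :
    ∃ k : ℕ, k.Coprime n ∧ w = ∑ i, (c i : ℂ) * μ i ^ k := by
  classical
  have hn1 : NeZero n := ⟨hn.ne'⟩
  have hcyc : IsCyclotomicExtension {n} ℚ (CyclotomicField n ℚ) :=
    CyclotomicField.isCyclotomicExtension n ℚ
  let ζ' : CyclotomicField n ℚ := IsCyclotomicExtension.zeta n ℚ (CyclotomicField n ℚ)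
  have hζ' : IsPrimitiveRoot ζ' n := IsCyclotomicExtension.zeta_spec n ℚ (CyclotomicField n ℚ)
  let emb : CyclotomicField n ℚ →ₐ[ℚ] ℂ := IsAlgClosed.lift
  have hζ : IsPrimitiveRoot (emb ζ') n := hζ'.map_of_injective emb.injective
  have hex : ∀ i, ∃ j : ℕ, (emb ζ') ^ j = μ i := by
    intro i
    obtain ⟨j, _, hj⟩ := hζ.eq_pow_of_pow_eq_one (hμ i)
    exact ⟨j, hj⟩
  choose j hj using hex
  let a : CyclotomicField n ℚ := ∑ i, algebraMap ℚ (CyclotomicField n ℚ) (c i) * ζ' ^ j i
  have hσa : ∀ σ : CyclotomicField n ℚ →ₐ[ℚ] ℂ, σ a = ∑ i, (c i : ℂ) * (σ ζ') ^ j i := by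
    intro σ
    simp only [a, map_sum, map_mul, map_pow, AlgHom.commutes]
    rfl
  have hemba : emb a = ∑ i, (c i : ℂ) * μ i := by
    rw [hσa]; exact Finset.sum_congr rfl (fun i _ => by rw [hj i])
  rw [← hemba, minpoly.algHom_eq emb emb.injective a] at hw
  have hfd : FiniteDimensional ℚ (CyclotomicField n ℚ) :=
    IsCyclotomicExtension.finiteDimensional {n} ℚ (CyclotomicField n ℚ)
  have halg : Algebra.IsAlgebraic ℚ (CyclotomicField n ℚ) := Algebra.IsAlgebraic.of_finite _ _
  have hmem : w ∈ (minpoly ℚ a).rootSet ℂ := by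
    rw [Polynomial.mem_rootSet]
    exact ⟨minpoly.ne_zero (Algebra.IsIntegral.isIntegral a), hw⟩
  rw [← Algebra.IsAlgebraic.range_eval_eq_rootSet_minpoly ℂ a] at hmem
  obtain ⟨σ, hσ⟩ := hmem
  have hσζ : IsPrimitiveRoot (σ ζ') n := hζ'.map_of_injective σ.injective
  obtain ⟨k, -, hkc, hk⟩ := (hζ.isPrimitiveRoot_iff).1 hσζ
  refine ⟨k, hkc, ?_⟩
  rw [← hσ]
  change σ a = _
  rw [hσa]
  refine Finset.sum_congr rfl fun i _ => ?_
  rw [← hk, ← hj i, ← pow_mul, ← pow_mul, Nat.mul_comm k (j i)]

section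
variable {G : Type*} [Group G] [Finite G]

theorem centralizer_pow_of_coprime (g : G) (k : ℕ) (hk : k.Coprime (orderOf g)) :
    Subgroup.centralizer ({g ^ k} : Set G) = Subgroup.centralizer ({g} : Set G) := by
  obtain ⟨m, hm⟩ := exists_pow_eq_self_of_coprime hk
  ext x
  simp only [Subgroup.mem_centralizer_iff, Set.mem_singleton_iff, forall_eq]
  constructor
  · intro h
    have h1 : Commute (g ^ k) x := h
    have := h1.pow_left m
    rw [hm] at this
    exact this
  · intro h
    have h1 : Commute g x := h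
    exact h1.pow_left k

/-- The central character on the powers `g ^ k`, `k` prime to the order of `g`, as a rational
multiple of a power sum of roots of unity. -/
theorem centralChar_pow_expansion (χ : IrrCharacter G) (g : G) :
    ∃ (d : ℕ) (μ : Fin d → ℂ) (c : ℚ), (∀ i, μ i ^ orderOf g = 1) ∧
      ∀ k : ℕ, k.Coprime (orderOf g) →
        centralChar (χ : G → ℂ) (g ^ k) = ∑ i, (c : ℂ) * μ i ^ k := by
  have h1 := irr_one χ
  have hpos := irr_charDegree_pos χ
  obtain ⟨n, ρ, hρ, hχ⟩ := χ.2
  obtain ⟨b, μ, -, h2, -, h4⟩ := Helper80.exists_eigen_data_rep ρ g (isOfFinOrder_of_finite g)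
  refine ⟨_, μ, ((Subgroup.centralizer ({g} : Set G)).index : ℚ) /
    (charDegree (χ : G → ℂ) : ℚ), h2, ?_⟩
  intro k hk
  have h5 : (χ : G → ℂ) (g ^ k) = ∑ i, μ i ^ k := by rw [← hχ]; exact h4 k
  unfold centralChar
  rw [centralizer_pow_of_coprime g k hk, h5, h1, ← Finset.mul_sum]
  push_cast
  ring

end

section
variable {G : Type*} [Group G] [Finite G]

/-- Blocks do not depend on the maximal ideal over `p`. -/
theorem sameBlock_indep {p : ℕ} {M M' : Ideal AlgInt} (hM : IsPModular p M)
    (hM' : IsPModular p M') (χ ψ : IrrCharacter G)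
    (h : SameBlock M (χ : G → ℂ) (ψ : G → ℂ)) : SameBlock M' (χ : G → ℂ) (ψ : G → ℂ) := by
  intro g
  obtain ⟨d, μ, c, hμ, hexp⟩ := centralChar_pow_expansion χ g
  obtain ⟨d', μ', c', hμ', hexp'⟩ := centralChar_pow_expansion ψ g
  have hn : 0 < orderOf g := orderOf_pos g
  -- combined expansion
  let cc : Fin d ⊕ Fin d' → ℚ := Sum.elim (fun _ => c) (fun _ => -c')
  let mm : Fin d ⊕ Fin d' → ℂ := Sum.elim μ μ'
  have hmm : ∀ i, mm i ^ orderOf g = 1 := by
    rintro (i | i)
    · exact hμ i
    · exact hμ' i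
  have hz : ∀ k : ℕ, k.Coprime (orderOf g) →
      centralChar (χ : G → ℂ) (g ^ k) - centralChar (ψ : G → ℂ) (g ^ k) =
        ∑ i, (cc i : ℂ) * mm i ^ k := by
    intro k hk
    rw [hexp k hk, hexp' k hk, Fintype.sum_sum_type]
    simp only [cc, mm, Sum.elim_inl, Sum.elim_inr]
    push_cast
    rw [sub_eq_add_neg, ← Finset.sum_neg_distrib]
    congr 1
    refine Finset.sum_congr rfl fun i _ => ?_
    ring
  have hz1 : centralChar (χ : G → ℂ) g - centralChar (ψ : G → ℂ) g =
      ∑ i, (cc i : ℂ) * mm i := by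
    have := hz 1 (Nat.coprime_one_left _)
    simpa using this
  have hint : IsIntegral ℤ (centralChar (χ : G → ℂ) g - centralChar (ψ : G → ℂ) g) :=
    IsIntegral.sub (Helper80.IsIrrCharacter.isIntegral_centralChar χ.2 g)
      (Helper80.IsIrrCharacter.isIntegral_centralChar ψ.2 g)
  refine memLocalIdeal_of_conjugates hM hM' _ hint fun w hw => ?_
  rw [hz1] at hw
  obtain ⟨k, hk, rfl⟩ := exists_pow_of_isRoot_minpoly (orderOf g) hn cc mm hmm w hw
  rw [← hz k hk]
  exact h (g ^ k)

theorem sameBlock_indep_iff {p : ℕ} {M M' : Ideal AlgInt} (hM : IsPModular p M)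
    (hM' : IsPModular p M') (χ ψ : IrrCharacter G) :
    SameBlock M (χ : G → ℂ) (ψ : G → ℂ) ↔ SameBlock M' (χ : G → ℂ) (ψ : G → ℂ) :=
  ⟨sameBlock_indep hM hM' χ ψ, sameBlock_indep hM' hM χ ψ⟩

theorem blockOf_indep {p : ℕ} {M M' : Ideal AlgInt} (hM : IsPModular p M)
    (hM' : IsPModular p M') (χ : IrrCharacter G) :
    blockOf M (χ : G → ℂ) = blockOf M' (χ : G → ℂ) := by
  ext ψ
  exact sameBlock_indep_iff hM hM' χ ψ

theorem isPBlock_indep {p : ℕ} {M M' : Ideal AlgInt} (hM : IsPModular p M)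
    (hM' : IsPModular p M') {B : Set (IrrCharacter G)} (hB : IsPBlock M B) : IsPBlock M' B := by
  obtain ⟨χ, rfl⟩ := hB
  exact ⟨χ, blockOf_indep hM hM' χ⟩

end

/-- Local-global principle for divisibility by a prime power in the ring of algebraic integers. -/
theorem exists_algInt_of_forall_local (q b : ℕ) (hq : q.Prime) (S : AlgInt)
    (h : ∀ M' : Ideal AlgInt, IsPModular q M' →
      ∃ r : ℂ, MemLocalRing M' r ∧ (S : ℂ) = (q : ℂ) ^ b * r) :
    ∃ ω : AlgInt, (S : ℂ) = (q : ℂ) ^ b * (ω : ℂ) := by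
  -- the colon ideal
  let I : Ideal AlgInt :=
    { carrier := {x | ∃ ω : AlgInt, x * S = (q : AlgInt) ^ b * ω}
      add_mem' := by
        rintro x y ⟨ω, hω⟩ ⟨ω', hω'⟩
        exact ⟨ω + ω', by rw [add_mul, hω, hω', mul_add]⟩
      zero_mem' := ⟨0, by simp⟩
      smul_mem' := by
        rintro c x ⟨ω, hω⟩
        exact ⟨c * ω, by rw [smul_eq_mul, mul_assoc, hω]; ring⟩ }
  by_cases hI : I = ⊤
  · have h1 : (1 : AlgInt) ∈ I := by rw [hI]; trivial
    obtain ⟨ω, hω⟩ := h1
    refine ⟨ω, ?_⟩
    have := congrArg (fun x : AlgInt => (x : ℂ)) hω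
    simpa using this
  · exfalso
    obtain ⟨M', hM'max, hle⟩ := Ideal.exists_le_maximal I hI
    have hqb : (q : AlgInt) ^ b ∈ I := ⟨S, rfl⟩
    have hqM : (q : AlgInt) ∈ M' := hM'max.isPrime.mem_of_pow_mem b (hle hqb)
    have hmod : IsPModular q M' := ⟨hq, hM'max, hqM⟩
    obtain ⟨r, ⟨a, c, hc, hac⟩, hr⟩ := h M' hmod
    apply hc
    apply hle
    refine ⟨a, ?_⟩
    have hc0 : (c : ℂ) ≠ 0 := by
      intro h0
      apply hc
      have : c = 0 := by exact_mod_cast h0
      rw [this]; exact M'.zero_mem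
    apply Subtype.ext
    push_cast
    rw [hr, ← hac]
    field_simp

end Cfsg.Agent.Helper79
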