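import Mathlib
import Cfsg.Agent.Helper77.BlockOrth
import Cfsg.Agent.Helper16.BlockIdem
import Cfsg.Agent.Helper80.Integrality
import Cfsg.Agent.Helper79.ClassMult

/-!
# Intersections of a `p`-block and a `q`-block when there are no elements of order `pq`

Local form of a congruence of Brauer: if `G` has no element of order `pq`, `B_p` is a `p`-block,
`B_q` a `q`-block and `y` is `p`-singular then
`∑_{χ ∈ B_p ∩ B_q} χ(1) χ(y) = q^b r` with `r` a local integer at the maximal ideal of `B_q`,
where `q^b` is the `q`-part of `|G|`.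
-/

set_option autoImplicit false
set_option linter.unusedSectionVars false

namespace Cfsg.Agent.Helper79

open Cfsg
open scoped ComplexConjugate

section
variable {G : Type*} [Group G] [Finite G]

/-- With no elements of order `pq`, a `p`-singular element has centralizer of order prime to
`q`. -/
theorem not_dvd_card_centralizer_of_no_pq (p q : ℕ) [hp : Fact p.Prime] [hq : Fact q.Prime]
    (hpq : p ≠ q) (hno : ∀ g : G, orderOf g ≠ p * q) (g : G) (hg : p ∣ orderOf g) :
    ¬ q ∣ Nat.card (Subgroup.centralizer ({g} : Set G)) := by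
  intro hdvd
  obtain ⟨z, hz⟩ := exists_prime_orderOf_dvd_card' q hdvd
  obtain ⟨m, hm⟩ := hg
  have hpos : 0 < orderOf g := orderOf_pos g
  have hm0 : m ≠ 0 := by
    rintro rfl
    rw [mul_zero] at hm
    omega
  have hord : orderOf (g ^ m) = p := by
    rw [orderOf_pow' g hm0, hm, Nat.gcd_eq_right (Dvd.intro_left p rfl),
      Nat.mul_div_cancel _ (Nat.pos_of_ne_zero hm0)]
  have hcomm : Commute (g ^ m) (z : G) := by
    have := z.2
    rw [Subgroup.mem_centralizer_iff] at this
    have h1 : Commute g (z : G) := this g rfl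
    exact h1.pow_left m
  have hzq : orderOf (z : G) = q := by rw [← hz, Subgroup.orderOf_coe]
  have hcop : Nat.Coprime (orderOf (g ^ m)) (orderOf (z : G)) := by
    rw [hord, hzq]
    exact (Nat.coprime_primes hp.out hq.out).2 hpq
  have := hcomm.orderOf_mul_eq_mul_orderOf_of_coprime hcop
  rw [hord, hzq] at this
  exact hno _ this

end

section
variable {G : Type*} [Group G] [Fintype G]

/-- The twisted block sum `∑_{χ ∈ B} χ(y) conj χ(g)`. -/
noncomputable def blockTwist (B : Set (IrrCharacter G)) (y g : G) : ℂ :=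
  ∑ᶠ χ ∈ B, (χ : G → ℂ) y * conj ((χ : G → ℂ) g)

theorem blockTwist_eq_sum (B : Set (IrrCharacter G)) [DecidablePred (· ∈ B)]
    [Fintype (IrrCharacter G)] (y g : G) :
    blockTwist B y g = ∑ χ : IrrCharacter G,
      if χ ∈ B then (χ : G → ℂ) y * conj ((χ : G → ℂ) g) else 0 := by
  unfold blockTwist
  rw [finsum_mem_def, finsum_eq_sum_of_fintype]
  refine Finset.sum_congr rfl fun χ _ => ?_
  rw [Set.indicator_apply]

theorem blockTwist_isIntegral (B : Set (IrrCharacter G)) (y g : G) :
    IsIntegral ℤ (blockTwist B y g) := by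
  classical
  have : Finite (IrrCharacter G) := irr_finite'
  have := Fintype.ofFinite (IrrCharacter G)
  rw [blockTwist_eq_sum]
  refine IsIntegral.sum _ fun χ _ => ?_
  split_ifs
  · refine IsIntegral.mul (Helper80.IsCharacter.isIntegral (irr_isCharacter χ) y) ?_
    rw [← irr_inv]
    exact Helper80.IsCharacter.isIntegral (irr_isCharacter χ) _
  · exact isIntegral_zero

theorem blockTwist_conj (B : Set (IrrCharacter G)) (y g x : G) :
    blockTwist B y (x * g * x⁻¹) = blockTwist B y g := by
  unfold blockTwist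
  refine finsum_congr fun χ => ?_
  refine finsum_congr fun _ => ?_
  rw [irr_isClassFunction χ g x]

/-- The twisted block sum vanishes when `y` is `p`-singular and `g` is `p`-regular. -/
theorem blockTwist_eq_zero {p : ℕ} {M : Ideal AlgInt} (hM : IsPModular p M)
    {B : Set (IrrCharacter G)} (hB : IsPBlock M B) (y g : G) (hy : p ∣ orderOf y)
    (hg : ¬ p ∣ orderOf g) : blockTwist B y g = 0 := by
  classical
  have : Finite (IrrCharacter G) := irr_finite'
  have := Fintype.ofFinite (IrrCharacter G)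
  have h := Helper77.weak_block_orthogonality' hM hB g y hg hy
  have h2 := congrArg conj h
  rw [map_zero] at h2
  rw [← h2]
  unfold blockTwist
  rw [finsum_mem_eq_finite_toFinset_sum _ (Set.toFinite B),
    finsum_mem_eq_finite_toFinset_sum _ (Set.toFinite B), map_sum]
  refine Finset.sum_congr rfl fun χ _ => ?_
  rw [map_mul, Complex.conj_conj, mul_comm]

/-- `blockCoeff` as a sum over all irreducible characters, at an inverse. -/
theorem blockCoeff_inv_eq_sum (B : Set (IrrCharacter G)) [DecidablePred (· ∈ B)]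
    [Fintype (IrrCharacter G)] (g : G) :
    blockCoeff B g⁻¹ = (Nat.card G : ℂ)⁻¹ *
      ∑ χ : IrrCharacter G, if χ ∈ B then (χ : G → ℂ) 1 * (χ : G → ℂ) g else 0 := by
  unfold blockCoeff
  congr 1
  rw [finsum_mem_def, finsum_eq_sum_of_fintype]
  refine Finset.sum_congr rfl fun χ _ => ?_
  rw [Set.indicator_apply]
  split_ifs
  · rw [irr_inv, Complex.conj_conj]
  · rfl

/-- The key identity. -/
theorem sum_inter_eq_sum_group {p : ℕ} {M : Ideal AlgInt} (hM : IsPModular p M)
    {Bp : Set (IrrCharacter G)} (hBp : IsPBlock M Bp) (Bq : Set (IrrCharacter G)) (y : G)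
    (hy : p ∣ orderOf y) :
    ∑ᶠ χ ∈ Bp ∩ Bq, (χ : G → ℂ) 1 * (χ : G → ℂ) y =
      ∑ g : G, if p ∣ orderOf g then blockCoeff Bq g⁻¹ * blockTwist Bp y g else 0 := by
  classical
  have : Finite (IrrCharacter G) := irr_finite'
  have := Fintype.ofFinite (IrrCharacter G)
  have hcard : (Nat.card G : ℂ) ≠ 0 := card_ne_zero_complex
  -- the coefficient identity
  have hcoef : ∀ χ : IrrCharacter G,
      (if χ ∈ Bq then (χ : G → ℂ) 1 else 0) =
        ∑ g : G, blockCoeff Bq g⁻¹ * conj ((χ : G → ℂ) g) := by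
    intro χ
    simp only [blockCoeff_inv_eq_sum, Finset.mul_sum, Finset.sum_mul]
    rw [Finset.sum_comm]
    have : ∀ ψ : IrrCharacter G,
        ∑ g : G, (Nat.card G : ℂ)⁻¹ * (if ψ ∈ Bq then (ψ : G → ℂ) 1 * (ψ : G → ℂ) g else 0) *
          conj ((χ : G → ℂ) g) =
        (if ψ ∈ Bq then (ψ : G → ℂ) 1 else 0) * classInner (ψ : G → ℂ) (χ : G → ℂ) := by
      intro ψ
      unfold classInner
      rw [Finset.mul_sum, Finset.mul_sum]
      refine Finset.sum_congr rfl fun g _ => ?_
      split_ifs <;> ring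
    simp only [this]
    rw [Finset.sum_eq_single χ]
    · rw [classInner_irr_self, mul_one]
    · intro ψ _ hne
      rw [classInner_irr_ne hne, mul_zero]
    · intro h; exact absurd (Finset.mem_univ _) h
  have hlhs : ∑ᶠ χ ∈ Bp ∩ Bq, (χ : G → ℂ) 1 * (χ : G → ℂ) y =
      ∑ χ : IrrCharacter G, (if χ ∈ Bp then (χ : G → ℂ) y else 0) *
        (if χ ∈ Bq then (χ : G → ℂ) 1 else 0) := by
    rw [finsum_mem_def, finsum_eq_sum_of_fintype]
    refine Finset.sum_congr rfl fun χ _ => ?_
    rw [Set.indicator_apply]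
    by_cases h1 : χ ∈ Bp <;> by_cases h2 : χ ∈ Bq <;> simp [h1, h2, mul_comm]
  rw [hlhs]
  simp only [hcoef, Finset.mul_sum]
  rw [Finset.sum_comm]
  refine Finset.sum_congr rfl fun g _ => ?_
  have hT : ∑ χ : IrrCharacter G, (if χ ∈ Bp then (χ : G → ℂ) y else 0) *
      (blockCoeff Bq g⁻¹ * conj ((χ : G → ℂ) g)) = blockCoeff Bq g⁻¹ * blockTwist Bp y g := by
    rw [blockTwist_eq_sum, Finset.mul_sum]
    refine Finset.sum_congr rfl fun χ _ => ?_
    split_ifs <;> ring
  rw [hT]
  split_ifs with hg
  · rfl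
  · rw [blockTwist_eq_zero hM hBp y g hy hg, mul_zero]

/-- A class function supported on the `p`-singular elements with local integer values sums
to `q^b` times a local integer, when `p`-singular elements have `q'`-centralizers. -/
theorem sum_eq_pow_mul_of_coprime_centralizers {p q : ℕ} [hq : Fact q.Prime]
    {Mq : Ideal AlgInt} (hMq : IsPModular q Mq)
    (hC : ∀ g : G, p ∣ orderOf g → ¬ q ∣ Nat.card (Subgroup.centralizer ({g} : Set G)))
    (a : G → ℂ) (ha : ∀ g x : G, a (x * g * x⁻¹) = a g) (haR : ∀ g, MemLocalRing Mq (a g)) :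
    ∃ r : ℂ, MemLocalRing Mq r ∧
      ∑ g : G, (if p ∣ orderOf g then a g else 0) =
        (q : ℂ) ^ (Nat.card G).factorization q * r := by
  classical
  have hMp : Mq.IsPrime := Helper16.IsPModular.isPrime hMq
  set b := (Nat.card G).factorization q with hb
  have ha' : ∀ g x : G, (if p ∣ orderOf (x * g * x⁻¹) then a (x * g * x⁻¹) else 0)
      = (if p ∣ orderOf g then a g else 0) := by
    intro g x
    have : orderOf (x * g * x⁻¹) = orderOf g := by
      have := MulEquiv.orderOf_eq (MulAut.conj x) g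
      rwa [MulAut.conj_apply] at this
    rw [this, ha]
  rw [Helper80.sum_eq_sum_classes _ ha']
  refine ⟨∑ C : ConjClasses G, if p ∣ orderOf (Quotient.out C) then
    (((Subgroup.centralizer ({Quotient.out C} : Set G)).index / q ^ b : ℕ) : ℂ) *
      a (Quotient.out C) else 0, ?_, ?_⟩
  · refine Helper16.memLocalRing_sum _ _ fun C _ => ?_
    split_ifs
    · exact Helper16.memLocalRing_mul (Helper16.memLocalRing_natCast _) (haR _)
    · exact Helper16.memLocalRing_zero
  · rw [Finset.mul_sum]
    refine Finset.sum_congr rfl fun C _ => ?_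
    split_ifs with hg
    · rw [Helper80.card_classFinset, nsmul_eq_mul, ← mul_assoc]
      congr 1
      have hdvd : q ^ b ∣ (Subgroup.centralizer ({Quotient.out C} : Set G)).index := by
        have h1 := Subgroup.card_mul_index (Subgroup.centralizer ({Quotient.out C} : Set G))
        have h2 : q ^ b ∣ Nat.card G := Nat.ordProj_dvd _ _
        rw [← h1] at h2
        have hcop : Nat.Coprime (q ^ b)
            (Nat.card (Subgroup.centralizer ({Quotient.out C} : Set G))) :=
          Nat.Coprime.pow_left _ ((Nat.Prime.coprime_iff_not_dvd hq.out).2 (hC _ hg))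
        exact hcop.dvd_of_dvd_mul_left h2
      obtain ⟨k, hk⟩ := hdvd
      rw [hk, Nat.mul_div_cancel_left _ (pow_pos hq.out.pos b)]
      push_cast
      rfl
    · rw [smul_zero, mul_zero]

/-- **Brauer's congruence, local form.** -/
theorem sum_inter_eq_pow_mul {p q : ℕ} [hp : Fact p.Prime] [hq : Fact q.Prime] (hpq : p ≠ q)
    {Mp Mq : Ideal AlgInt} (hMp : IsPModular p Mp) (hMq : IsPModular q Mq)
    (hno : ∀ g : G, orderOf g ≠ p * q)
    {Bp : Set (IrrCharacter G)} (hBp : IsPBlock Mp Bp)
    {Bq : Set (IrrCharacter G)} (hBq : IsPBlock Mq Bq) (y : G) (hy : p ∣ orderOf y) :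
    ∃ r : ℂ, MemLocalRing Mq r ∧
      ∑ᶠ χ ∈ Bp ∩ Bq, (χ : G → ℂ) 1 * (χ : G → ℂ) y =
        (q : ℂ) ^ (Nat.card G).factorization q * r := by
  classical
  have hMqp : Mq.IsPrime := Helper16.IsPModular.isPrime hMq
  rw [sum_inter_eq_sum_group hMp hBp Bq y hy]
  refine sum_eq_pow_mul_of_coprime_centralizers hMq
    (not_dvd_card_centralizer_of_no_pq p q hpq hno)
    (fun g => blockCoeff Bq g⁻¹ * blockTwist Bp y g) ?_ ?_
  · intro g x
    rw [blockTwist_conj]
    congr 1
    have : (x * g * x⁻¹)⁻¹ = x * g⁻¹ * x⁻¹ := by group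
    rw [this]
    exact Helper77.blockCoeff_isClassFunction hBq g⁻¹ x
  · intro g
    exact Helper16.memLocalRing_mul (Helper16.osima hBq _)
      (Helper16.memLocalRing_of_isIntegral (blockTwist_isIntegral Bp y g))

end

end Cfsg.Agent.Helper79
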