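import Mathlib
import Cfsg.Agent.Helper55.DihComplement
import Cfsg.Agent.Helper66.BLGroup

/-!
# Local structure of groups with a dihedral Sylow 2-subgroup (helper79)

`P` a Sylow 2-subgroup, `σ ∈ P` of order `N = 2^(n-1) ≥ 4`, `|P| = 2^n`, elements of `P` outside
`A = ⟨σ⟩` are involutions inverting `σ`.
-/

set_option autoImplicit false
set_option linter.unusedSectionVars false
set_option linter.style.haveILetI false

namespace Cfsg.Agent.Helper79.DihLocal

open Cfsg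

variable {G : Type*} [Group G] [Finite G]

/-- The dihedral data. -/
structure DihData (P : Sylow 2 G) (σ : G) (n : ℕ) : Prop where
  hn : 3 ≤ n
  mem : σ ∈ (P : Subgroup G)
  order : orderOf σ = 2 ^ (n - 1)
  card : Nat.card (P : Subgroup G) = 2 ^ n
  inv : ∀ x ∈ (P : Subgroup G), x ∉ Subgroup.zpowers σ → x * x = 1 ∧ x * σ * x⁻¹ = σ⁻¹

theorem dihData_of_equiv (P : Sylow 2 G) (n : ℕ) (hn : 3 ≤ n)
    (e : (P : Subgroup G) ≃* DihedralGroup (2 ^ (n - 1))) (σ : G) (hσ : σ ∈ (P : Subgroup G))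
    (hσo : orderOf σ = 2 ^ (n - 1)) : DihData P σ n := by
  have hN : NeZero (2 ^ (n - 1)) := ⟨by positivity⟩
  have h4 : 4 ≤ 2 ^ (n - 1) := by
    calc 4 = 2 ^ 2 := by norm_num
      _ ≤ 2 ^ (n - 1) := Nat.pow_le_pow_right (by norm_num) (by omega)
  have hoe : orderOf (e ⟨σ, hσ⟩) = 2 ^ (n - 1) := by
    rw [MulEquiv.orderOf_eq, Subgroup.orderOf_mk, hσo]
  -- e σ is a rotation
  obtain ⟨i, hi⟩ : ∃ i, e ⟨σ, hσ⟩ = DihedralGroup.r i := by
    rcases h : e ⟨σ, hσ⟩ with i | j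
    · exact ⟨i, rfl⟩
    · exfalso
      rw [h, DihedralGroup.orderOf_sr] at hoe
      omega
  have hcop : Nat.Coprime i.val (2 ^ (n - 1)) := by
    rw [hi, DihedralGroup.orderOf_r] at hoe
    have hg : Nat.gcd (2 ^ (n - 1)) i.val ∣ 2 ^ (n - 1) := Nat.gcd_dvd_left _ _
    have hpos : 0 < Nat.gcd (2 ^ (n - 1)) i.val := Nat.gcd_pos_of_pos_left _ (by positivity)
    have : Nat.gcd (2 ^ (n - 1)) i.val = 1 := by
      have h1 := Nat.div_mul_cancel hg
      rw [hoe] at h1
      have h2 : 2 ^ (n - 1) * Nat.gcd (2 ^ (n - 1)) i.val = 2 ^ (n - 1) * 1 := by rw [h1, mul_one]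
      exact Nat.eq_of_mul_eq_mul_left (by positivity) h2
    rw [Nat.coprime_comm]
    exact this
  have hunit : IsUnit i := by
    have := (ZMod.isUnit_iff_coprime i.val (2 ^ (n - 1))).2 hcop
    rwa [ZMod.natCast_zmod_val] at this
  refine ⟨hn, hσ, hσo, ?_, ?_⟩
  · rw [Nat.card_congr e.toEquiv, DihedralGroup.nat_card]
    have : n = (n - 1) + 1 := by omega
    conv_rhs => rw [this, pow_succ]
    ring
  · intro x hx hxA
    rcases h : e ⟨x, hx⟩ with j | j
    · exfalso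
      apply hxA
      obtain ⟨u, hu⟩ := hunit
      -- r j = (r i)^k with k = (j * u⁻¹).val
      have hk : (DihedralGroup.r i) ^ ((j * ((u⁻¹ : (ZMod (2 ^ (n - 1)))ˣ) : ZMod (2 ^ (n - 1)))).val)
          = DihedralGroup.r j := by
        rw [DihedralGroup.r_pow, ZMod.natCast_zmod_val, ← hu]
        congr 1
        rw [mul_comm, mul_assoc, Units.inv_mul, mul_one]
      have : (⟨x, hx⟩ : (P : Subgroup G)) = (⟨σ, hσ⟩ : (P : Subgroup G)) ^
          ((j * ((u⁻¹ : (ZMod (2 ^ (n - 1)))ˣ) : ZMod (2 ^ (n - 1)))).val) := by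
        apply e.injective
        rw [map_pow, hi, hk, h]
      have h2 := congrArg Subtype.val this
      simp only [Subgroup.coe_pow] at h2
      rw [h2]
      exact Subgroup.pow_mem _ (Subgroup.mem_zpowers σ) _
    · constructor
      · have : (⟨x, hx⟩ : (P : Subgroup G)) * ⟨x, hx⟩ = 1 := by
          apply e.injective
          rw [map_mul, h, DihedralGroup.sr_mul_self, map_one]
        exact congrArg Subtype.val this
      · have : (⟨x, hx⟩ : (P : Subgroup G)) * ⟨σ, hσ⟩ * (⟨x, hx⟩ : (P : Subgroup G))⁻¹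
            = (⟨σ, hσ⟩ : (P : Subgroup G))⁻¹ := by
          apply e.injective
          rw [map_mul, map_mul, map_inv, map_inv, h, hi, DihedralGroup.inv_sr,
            DihedralGroup.sr_mul_r, DihedralGroup.sr_mul_sr, DihedralGroup.inv_r]
          congr 1
          ring
        exact congrArg Subtype.val this


section basic

variable {P : Sylow 2 G} {σ : G} {n : ℕ}

theorem DihData.four_le (hd : DihData P σ n) : 4 ≤ 2 ^ (n - 1) := by
  have := hd.hn
  calc 4 = 2 ^ 2 := by norm_num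
    _ ≤ 2 ^ (n - 1) := Nat.pow_le_pow_right (by norm_num) (by omega)

theorem DihData.A_le (hd : DihData P σ n) : Subgroup.zpowers σ ≤ (P : Subgroup G) :=
  Subgroup.zpowers_le.2 hd.mem

theorem DihData.card_A (hd : DihData P σ n) : Nat.card (Subgroup.zpowers σ) = 2 ^ (n - 1) := by
  rw [Nat.card_zpowers, hd.order]

theorem DihData.sigma_sq_ne (hd : DihData P σ n) : σ * σ ≠ 1 := by
  intro h
  have h2 : orderOf σ ∣ 2 := orderOf_dvd_of_pow_eq_one (by rw [pow_two]; exact h)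
  have := Nat.le_of_dvd (by norm_num) h2
  rw [hd.order] at this
  have := hd.four_le
  omega

theorem DihData.exists_tau (hd : DihData P σ n) :
    ∃ τ ∈ (P : Subgroup G), τ ∉ Subgroup.zpowers σ := by
  by_contra hcon
  push Not at hcon
  have hle : (P : Subgroup G) ≤ Subgroup.zpowers σ := fun x hx => hcon x hx
  have := Subgroup.card_le_of_le hle
  rw [hd.card, hd.card_A] at this
  have h2 : 2 ^ n = 2 * 2 ^ (n - 1) := by
    have : n = (n - 1) + 1 := by have := hd.hn; omega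
    conv_lhs => rw [this, pow_succ]
    ring
  have := hd.four_le
  omega

theorem DihData.conj_inv (hd : DihData P σ n) {x a : G} (hx : x ∈ (P : Subgroup G))
    (hxA : x ∉ Subgroup.zpowers σ) (ha : a ∈ Subgroup.zpowers σ) : x * a * x⁻¹ = a⁻¹ := by
  obtain ⟨k, rfl⟩ := Subgroup.mem_zpowers_iff.1 ha
  have h1 : MulAut.conj x σ = σ⁻¹ := by
    rw [MulAut.conj_apply]; exact (hd.inv x hx hxA).2
  have h2 : MulAut.conj x (σ ^ k) = (MulAut.conj x σ) ^ k := map_zpow _ _ _
  rw [MulAut.conj_apply, h1] at h2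
  rw [h2, inv_zpow]

theorem DihData.mem_A_of_commute (hd : DihData P σ n) {a x : G} (ha : a ∈ Subgroup.zpowers σ)
    (ha2 : a * a ≠ 1) (hx : x ∈ (P : Subgroup G)) (hc : x * a = a * x) :
    x ∈ Subgroup.zpowers σ := by
  by_contra hxA
  have h1 := hd.conj_inv hx hxA ha
  rw [hc, mul_assoc, mul_inv_cancel, mul_one] at h1
  apply ha2
  calc a * a = a * a⁻¹ := by rw [← h1]
    _ = 1 := mul_inv_cancel a

theorem DihData.mem_A_of_sq_ne (hd : DihData P σ n) {y : G} (hy : y ∈ (P : Subgroup G))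
    (hy2 : y * y ≠ 1) : y ∈ Subgroup.zpowers σ := by
  by_contra hyA
  exact hy2 (hd.inv y hy hyA).1

theorem DihData.mul_mem_A (hd : DihData P σ n) {x y : G} (hx : x ∈ (P : Subgroup G))
    (hy : y ∈ (P : Subgroup G)) (hxA : x ∉ Subgroup.zpowers σ) (hyA : y ∉ Subgroup.zpowers σ) :
    x * y ∈ Subgroup.zpowers σ := by
  by_contra hxy
  have h1 := (hd.inv (x * y) (Subgroup.mul_mem _ hx hy) hxy).2
  have h2 := (hd.inv x hx hxA).2
  have h3 := (hd.inv y hy hyA).2
  have h4 : x * y * σ * (x * y)⁻¹ = x * (y * σ * y⁻¹) * x⁻¹ := by group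
  rw [h4, h3] at h1
  have h5 : x * σ⁻¹ * x⁻¹ = (x * σ * x⁻¹)⁻¹ := by group
  rw [h5, h2, inv_inv] at h1
  apply hd.sigma_sq_ne
  calc σ * σ = σ * σ⁻¹ := by rw [← h1]
    _ = 1 := mul_inv_cancel σ

theorem DihData.dihType (hd : DihData P σ n) : Helper55.DihType (P : Subgroup G) := by
  refine ⟨Subgroup.zpowers σ, hd.A_le, inferInstance, ?_, ?_⟩
  · intro x hx hxA
    exact ⟨(hd.inv x hx hxA).1, fun a ha => hd.conj_inv hx hxA ha⟩
  · intro x hx y hy hxA hyA
    exact hd.mul_mem_A hx hy hxA hyA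

end basic

/-- Every 2-subgroup is conjugate into a given Sylow 2-subgroup. -/
theorem exists_conj_mem_sylow (P : Sylow 2 G) (U : Subgroup G) (hU : IsPGroup 2 U) :
    ∃ g : G, ∀ x ∈ U, g⁻¹ * x * g ∈ (P : Subgroup G) := by
  obtain ⟨Q, hQ⟩ := hU.exists_le_sylow
  obtain ⟨g, hg⟩ := MulAction.exists_smul_eq G P Q
  refine ⟨g, fun x hx => ?_⟩
  have h1 : x ∈ ((g • P : Sylow 2 G) : Subgroup G) := by rw [hg]; exact hQ hx
  rw [Sylow.coe_subgroup_smul, Subgroup.mem_pointwise_smul_iff_inv_smul_mem] at h1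
  simpa [MulAut.smul_def] using h1

section locals

variable {P : Sylow 2 G} {σ : G} {n : ℕ}

theorem DihData.pow_mem_A (l : ℕ) : σ ^ l ∈ Subgroup.zpowers σ :=
  Subgroup.pow_mem _ (Subgroup.mem_zpowers σ) l

theorem DihData.pow_mem (hd : DihData P σ n) (l : ℕ) : σ ^ l ∈ (P : Subgroup G) :=
  Subgroup.pow_mem _ hd.mem l

theorem DihData.two_pow_eq (hd : DihData P σ n) : 2 ^ (n - 1) = 2 * 2 ^ (n - 2) := by
  have := hd.hn
  have h : n - 1 = (n - 2) + 1 := by omega
  rw [h, pow_succ]; ring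

theorem DihData.orderOf_J (hd : DihData P σ n) : orderOf (σ ^ (2 ^ (n - 2))) = 2 := by
  rw [orderOf_pow_of_dvd (by positivity), hd.order, hd.two_pow_eq]
  · rw [Nat.mul_div_cancel _ (by positivity)]
  · rw [hd.order, hd.two_pow_eq]; exact dvd_mul_left _ _

theorem DihData.J_mul_self (hd : DihData P σ n) :
    σ ^ (2 ^ (n - 2)) * σ ^ (2 ^ (n - 2)) = 1 := by
  have h := pow_orderOf_eq_one (σ ^ (2 ^ (n - 2)))
  rw [hd.orderOf_J, pow_two] at h
  exact h

theorem DihData.J_ne_one (hd : DihData P σ n) : σ ^ (2 ^ (n - 2)) ≠ 1 := by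
  intro h
  have h2 := hd.orderOf_J
  rw [h, orderOf_one] at h2
  omega

theorem DihData.J_inv (hd : DihData P σ n) : (σ ^ (2 ^ (n - 2)))⁻¹ = σ ^ (2 ^ (n - 2)) :=
  inv_eq_of_mul_eq_one_left hd.J_mul_self

theorem DihData.commute_of_mem_A {a b : G} (ha : a ∈ Subgroup.zpowers σ)
    (hb : b ∈ Subgroup.zpowers σ) : a * b = b * a := by
  obtain ⟨i, rfl⟩ := Subgroup.mem_zpowers_iff.1 ha
  obtain ⟨j, rfl⟩ := Subgroup.mem_zpowers_iff.1 hb
  rw [← zpow_add, ← zpow_add, add_comm]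

theorem DihData.J_comm (hd : DihData P σ n) {x : G} (hx : x ∈ (P : Subgroup G)) :
    x * σ ^ (2 ^ (n - 2)) = σ ^ (2 ^ (n - 2)) * x := by
  by_cases hxA : x ∈ Subgroup.zpowers σ
  · exact DihData.commute_of_mem_A hxA (DihData.pow_mem_A _)
  · have h := hd.conj_inv hx hxA (DihData.pow_mem_A (σ := σ) (2 ^ (n - 2)))
    rw [hd.J_inv] at h
    calc x * σ ^ (2 ^ (n - 2)) = (x * σ ^ (2 ^ (n - 2)) * x⁻¹) * x := by group
      _ = σ ^ (2 ^ (n - 2)) * x := by rw [h]

theorem DihData.P_le_centralizer_J (hd : DihData P σ n) :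
    (P : Subgroup G) ≤ Subgroup.centralizer ({σ ^ (2 ^ (n - 2))} : Set G) := by
  intro x hx
  rw [Subgroup.mem_centralizer_iff]
  intro y hy
  rw [Set.mem_singleton_iff] at hy
  rw [hy]
  exact (hd.J_comm hx).symm

/-- Every 2-subgroup of `G` is of dihedral type. -/
theorem DihData.dihType_of_isPGroup (hd : DihData P σ n) (U : Subgroup G) (hU : IsPGroup 2 U) :
    Helper55.DihType U := by
  obtain ⟨Q, hQ⟩ := hU.exists_le_sylow
  obtain ⟨g, hg⟩ := MulAction.exists_smul_eq G P Q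
  have hQD : Helper55.DihType (Q : Subgroup G) := by
    have h1 : (Q : Subgroup G) = (P : Subgroup G).map (MulAut.conj g).toMonoidHom := by
      rw [← hg]; rfl
    rw [h1]
    exact hd.dihType.map _ (MulAut.conj g).injective
  exact hQD.mono hQ

theorem DihData.factorization_card (hd : DihData P σ n) : (Nat.card G).factorization 2 = n := by
  have h := Sylow.card_eq_multiplicity P
  rw [hd.card] at h
  exact (Nat.pow_right_injective (le_refl 2) h).symm

/-- (L2) `C_G(J)` has a normal 2-complement. -/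
theorem DihData.pPrimeCore_centralizer_J (hd : DihData P σ n) :
    ∃ k : ℕ, (pPrimeCore 2 (Subgroup.centralizer ({σ ^ (2 ^ (n - 2))} : Set G))).index = 2 ^ k := by
  set H := Subgroup.centralizer ({σ ^ (2 ^ (n - 2))} : Set G) with hH
  have hJH : σ ^ (2 ^ (n - 2)) ∈ H := by
    rw [hH, Subgroup.mem_centralizer_iff]
    intro y hy
    rw [Set.mem_singleton_iff] at hy
    rw [hy]
  have hcen : (⟨σ ^ (2 ^ (n - 2)), hJH⟩ : H) ∈ Subgroup.center H := by
    rw [Subgroup.mem_center_iff]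
    intro y
    apply Subtype.ext
    have hy2 : (y : G) ∈ Subgroup.centralizer ({σ ^ (2 ^ (n - 2))} : Set G) := y.2
    rw [Subgroup.mem_centralizer_iff] at hy2
    simp only [Subgroup.coe_mul]
    exact (hy2 _ rfl).symm
  have hord : orderOf (⟨σ ^ (2 ^ (n - 2)), hJH⟩ : H) = 2 := by
    rw [Subgroup.orderOf_mk]; exact hd.orderOf_J
  obtain ⟨K, hKn, hKodd, k, hk⟩ := Helper55.exists_normal_two_complement_of_dihType (Nat.card H) H rfl
    (fun U hU => Helper55.DihType.of_map H.subtype H.subtype_injective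
      (hd.dihType_of_isPGroup (U.map H.subtype) (hU.map _))) _ hcen hord
  have hcop : (Nat.card K).Coprime 2 := Nat.Coprime.symm (Nat.coprime_two_left.2 hKodd)
  have hle : K ≤ pPrimeCore 2 H := Cfsg.Agent.Lib.le_pPrimeCore hKn hcop
  have hdvd : (pPrimeCore 2 H).index ∣ 2 ^ k := by
    rw [← hk]; exact Subgroup.index_dvd_of_le hle
  obtain ⟨j, _, hj⟩ := (Nat.dvd_prime_pow Nat.prime_two).1 hdvd
  exact ⟨j, hj⟩

theorem DihData.factorization_card_centralizer_J (hd : DihData P σ n) :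
    (Nat.card (Subgroup.centralizer ({σ ^ (2 ^ (n - 2))} : Set G))).factorization 2 = n := by
  set H := Subgroup.centralizer ({σ ^ (2 ^ (n - 2))} : Set G) with hH
  have h1 : Nat.card (P : Subgroup G) ∣ Nat.card H := Subgroup.card_dvd_of_le hd.P_le_centralizer_J
  have h2 : Nat.card H ∣ Nat.card G := Subgroup.card_subgroup_dvd_card H
  have hpos : Nat.card H ≠ 0 := Nat.card_pos.ne'
  have hG : Nat.card G ≠ 0 := Nat.card_pos.ne'
  apply le_antisymm
  · have h3 := (Nat.factorization_le_iff_dvd hpos hG).2 h2 2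
    rw [hd.factorization_card] at h3
    exact h3
  · rw [hd.card] at h1
    exact (Nat.Prime.pow_dvd_iff_le_factorization Nat.prime_two hpos).1 h1

theorem DihData.not_two_dvd_index_centralizer_J (hd : DihData P σ n) :
    ¬ 2 ∣ (Subgroup.centralizer ({σ ^ (2 ^ (n - 2))} : Set G)).index := by
  intro h
  have h1 : Nat.card (P : Subgroup G) ∣ Nat.card (Subgroup.centralizer ({σ ^ (2 ^ (n - 2))} : Set G)) :=
    Subgroup.card_dvd_of_le hd.P_le_centralizer_J
  have h2 := Subgroup.card_mul_index (Subgroup.centralizer ({σ ^ (2 ^ (n - 2))} : Set G))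
  have h3 : (2 : ℕ) ^ (n + 1) ∣ Nat.card G := by
    rw [← h2, pow_succ, ← hd.card]
    exact Nat.mul_dvd_mul h1 h
  have hG : Nat.card G ≠ 0 := Nat.card_pos.ne'
  have := (Nat.Prime.pow_dvd_iff_le_factorization Nat.prime_two hG).1 h3
  rw [hd.factorization_card] at this
  omega

end locals

section locals1

variable {P : Sylow 2 G} {σ : G} {n : ℕ}

theorem DihData.A_le_centralizer {a : G} (ha : a ∈ Subgroup.zpowers σ) :
    Subgroup.zpowers σ ≤ Subgroup.centralizer ({a} : Set G) := by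
  intro x hx
  rw [Subgroup.mem_centralizer_iff]
  intro y hy
  rw [Set.mem_singleton_iff] at hy
  rw [hy]
  exact DihData.commute_of_mem_A ha hx

/-- (L1) for `a ∈ A` with `a² ≠ 1`, Sylow 2-subgroups of `C_G(a)` are cyclic of order at most
`2^(n-1)`. -/
theorem DihData.sylow_centralizer (hd : DihData P σ n) {a : G} (ha : a ∈ Subgroup.zpowers σ)
    (ha2 : a * a ≠ 1) (H : Subgroup G) (hH : H = Subgroup.centralizer ({a} : Set G))
    (T : Sylow 2 H) :
    Nat.card T ≤ 2 ^ (n - 1) ∧ IsCyclic T := by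
  have haP : a ∈ (P : Subgroup G) := hd.A_le ha
  have haH : a ∈ H := by
    rw [hH, Subgroup.mem_centralizer_iff]
    intro y hy
    rw [Set.mem_singleton_iff] at hy
    rw [hy]
  have hcomm : ∀ y : H, (y : G) * a = a * (y : G) := by
    intro y
    have hy2 : (y : G) ∈ Subgroup.centralizer ({a} : Set G) := hH ▸ y.2
    rw [Subgroup.mem_centralizer_iff] at hy2
    exact (hy2 _ rfl).symm
  have hcen : (⟨a, haH⟩ : H) ∈ Subgroup.center H := by
    rw [Subgroup.mem_center_iff]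
    intro y
    apply Subtype.ext
    simp only [Subgroup.coe_mul]
    exact hcomm y
  have hnorm : (Subgroup.zpowers (⟨a, haH⟩ : H)).Normal := Helper55.zpowers_normal_of_mem_center hcen
  have hpg : IsPGroup 2 (Subgroup.zpowers (⟨a, haH⟩ : H)) := by
    obtain ⟨k, hk⟩ := (IsPGroup.iff_orderOf.mp P.2) ⟨a, haP⟩
    rw [Subgroup.orderOf_mk] at hk
    exact IsPGroup.of_card (n := k) (by rw [Nat.card_zpowers, Subgroup.orderOf_mk, hk])
  have haT : (⟨a, haH⟩ : H) ∈ (T : Subgroup H) :=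
    hpg.le_sylow_of_normal T (Subgroup.mem_zpowers _)
  -- conjugate T into P
  obtain ⟨g, hg⟩ := exists_conj_mem_sylow P ((T : Subgroup H).map H.subtype) (T.2.map _)
  have haT' : a ∈ (T : Subgroup H).map H.subtype := ⟨⟨a, haH⟩, haT, rfl⟩
  have hbP : g⁻¹ * a * g ∈ (P : Subgroup G) := hg a haT'
  have hb2 : (g⁻¹ * a * g) * (g⁻¹ * a * g) ≠ 1 := by
    intro h
    apply ha2
    have : (g⁻¹ * a * g) * (g⁻¹ * a * g) = g⁻¹ * (a * a) * g := by group
    rw [this] at h
    have h2 : a * a = g * (g⁻¹ * (a * a) * g) * g⁻¹ := by group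
    rw [h2, h]; group
  have hbA : g⁻¹ * a * g ∈ Subgroup.zpowers σ := hd.mem_A_of_sq_ne hbP hb2
  have hmem : ∀ t : T, g⁻¹ * ((t : H) : G) * g ∈ Subgroup.zpowers σ := by
    intro t
    have htT' : ((t : H) : G) ∈ (T : Subgroup H).map H.subtype := ⟨(t : H), t.2, rfl⟩
    refine hd.mem_A_of_commute hbA hb2 (hg _ htT') ?_
    have := hcomm (t : H)
    calc g⁻¹ * ((t : H) : G) * g * (g⁻¹ * a * g) = g⁻¹ * (((t : H) : G) * a) * g := by group
      _ = g⁻¹ * (a * ((t : H) : G)) * g := by rw [this]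
      _ = g⁻¹ * a * g * (g⁻¹ * ((t : H) : G) * g) := by group
  let φ : T →* Subgroup.zpowers σ :=
    { toFun := fun t => ⟨g⁻¹ * ((t : H) : G) * g, hmem t⟩
      map_one' := by
        apply Subtype.ext
        simp
      map_mul' := by
        intro x y
        apply Subtype.ext
        simp only [Subgroup.coe_mul]
        group }
  have hφ : Function.Injective φ := by
    intro x y hxy
    have h1 : g⁻¹ * ((x : H) : G) * g = g⁻¹ * ((y : H) : G) * g := congrArg Subtype.val hxy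
    have h2 : ((x : H) : G) = ((y : H) : G) := by
      have := mul_right_cancel h1
      exact mul_left_cancel this
    exact Subtype.ext (Subtype.ext h2)
  refine ⟨?_, isCyclic_of_injective φ hφ⟩
  have := Nat.card_le_card_of_injective φ hφ
  rw [hd.card_A] at this
  exact this

theorem DihData.factorization_card_centralizer (hd : DihData P σ n) {a : G}
    (ha : a ∈ Subgroup.zpowers σ) (ha2 : a * a ≠ 1) :
    (Nat.card (Subgroup.centralizer ({a} : Set G))).factorization 2 = n - 1 := by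
  set H := Subgroup.centralizer ({a} : Set G) with hH
  obtain ⟨T⟩ : Nonempty (Sylow 2 H) := Sylow.nonempty
  have h1 := (hd.sylow_centralizer ha ha2 H rfl T).1
  rw [Sylow.card_eq_multiplicity T] at h1
  have h2 : Nat.card (Subgroup.zpowers σ) ∣ Nat.card H :=
    Subgroup.card_dvd_of_le (DihData.A_le_centralizer ha)
  rw [hd.card_A] at h2
  have hpos : Nat.card H ≠ 0 := Nat.card_pos.ne'
  have h3 := (Nat.Prime.pow_dvd_iff_le_factorization Nat.prime_two hpos).1 h2
  have h4 := (Nat.pow_le_pow_iff_right (le_refl 2)).1 h1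
  omega

theorem DihData.pPrimeCore_centralizer (hd : DihData P σ n) {a : G}
    (ha : a ∈ Subgroup.zpowers σ) (ha2 : a * a ≠ 1) :
    ∃ k : ℕ, (pPrimeCore 2 (Subgroup.centralizer ({a} : Set G))).index = 2 ^ k := by
  set H := Subgroup.centralizer ({a} : Set G) with hH
  obtain ⟨T⟩ : Nonempty (Sylow 2 H) := Sylow.nonempty
  have hcyc := (hd.sylow_centralizer ha ha2 H rfl T).2
  have h2 : Nat.card (Subgroup.zpowers σ) ∣ Nat.card H :=
    Subgroup.card_dvd_of_le (DihData.A_le_centralizer ha)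
  rw [hd.card_A] at h2
  have hmin : (Nat.card H).minFac = 2 := by
    rw [Nat.minFac_eq_two_iff]
    refine dvd_trans ?_ h2
    have := hd.hn
    exact dvd_pow_self 2 (by omega)
  exact Helper66.BL.pPrimeCore_index_of_normalizer_le_centralizer T
    (hcyc.normalizer_le_centralizer hmin)

end locals1

theorem geom_sum_parity {x : ℤ} (hx : Odd x) (m : ℕ) :
    (Odd m → Odd (∑ i ∈ Finset.range m, x ^ i)) ∧
      (Even m → Even (∑ i ∈ Finset.range m, x ^ i)) := by
  induction m with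
  | zero => simp
  | succ m ih =>
    rw [Finset.sum_range_succ]
    have hxm : Odd (x ^ m) := hx.pow
    constructor
    · intro h
      rw [Nat.odd_add_one, Nat.not_odd_iff_even] at h
      exact (ih.2 h).add_odd hxm
    · intro h
      rw [Nat.even_add_one, Nat.not_even_iff_odd] at h
      exact (ih.1 h).add_odd hxm

/-- `x^m ≡ 1 mod 2^k` with `m` odd forces `x ≡ 1`. -/
theorem modEq_one_of_pow_modEq_one {x : ℤ} {m k : ℕ} (hm : Odd m)
    (h : x ^ m ≡ 1 [ZMOD 2 ^ k]) : x ≡ 1 [ZMOD 2 ^ k] := by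
  rcases Nat.eq_zero_or_pos k with hk | hk
  · subst hk
    simp [Int.modEq_one]
  have hxodd : Odd x := by
    by_contra hne
    rw [Int.not_odd_iff_even] at hne
    have h1 : (2 : ℤ) ∣ x ^ m := by
      have hm0 : m ≠ 0 := by rintro rfl; exact (by decide : ¬ Odd 0) hm
      exact dvd_trans (even_iff_two_dvd.1 hne) (dvd_pow_self x hm0)
    have h2 : (2 : ℤ) ∣ x ^ m - 1 := by
      have h3 : (2 : ℤ) ^ k ∣ x ^ m - 1 := by
        have := h.symm.dvd
        exact this
      exact dvd_trans (dvd_pow_self 2 (by omega)) h3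
    have h4 : (2 : ℤ) ∣ 1 := by
      have := dvd_sub h1 h2
      simpa using this
    norm_num at h4
  have hS := (geom_sum_parity hxodd m).1 hm
  have hcop : IsCoprime ((2 : ℤ) ^ k) (∑ i ∈ Finset.range m, x ^ i) :=
    (Int.isCoprime_two_left.2 hS).pow_left
  have hdvd : (2 : ℤ) ^ k ∣ (∑ i ∈ Finset.range m, x ^ i) * (x - 1) := by
    rw [geom_sum_mul]
    exact h.symm.dvd
  have := hcop.dvd_of_dvd_mul_left hdvd
  exact (Int.modEq_iff_dvd.2 this).symm

/-- `x^m ≡ ±1 mod 2^k` with `m` odd forces `x ≡ ±1`. -/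
theorem modEq_of_pow_modEq {x : ℤ} {m k : ℕ} (hm : Odd m)
    (h : x ^ m ≡ 1 [ZMOD 2 ^ k] ∨ x ^ m ≡ -1 [ZMOD 2 ^ k]) :
    x ≡ 1 [ZMOD 2 ^ k] ∨ x ≡ -1 [ZMOD 2 ^ k] := by
  rcases h with h | h
  · exact Or.inl (modEq_one_of_pow_modEq_one hm h)
  · right
    have h1 : (-x) ^ m ≡ 1 [ZMOD 2 ^ k] := by
      rw [hm.neg_pow]
      have := h.neg
      simpa using this
    have h2 := (modEq_one_of_pow_modEq_one hm h1).neg
    simpa using h2

theorem mem_zpowers_of_orderOf_eq {G : Type*} [Group G] [Finite G] {σ a a' : G}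
    (ha : a ∈ Subgroup.zpowers σ) (ha' : a' ∈ Subgroup.zpowers σ)
    (h : orderOf a' = orderOf a) : a' ∈ Subgroup.zpowers a := by
  obtain ⟨i, rfl⟩ := (mem_powers_iff_mem_zpowers).2 ha
  obtain ⟨i', rfl⟩ := (mem_powers_iff_mem_zpowers).2 ha'
  have hN : 0 < orderOf σ := orderOf_pos σ
  rw [orderOf_pow, orderOf_pow] at h
  have hc : Nat.gcd (orderOf σ) i' = Nat.gcd (orderOf σ) i := by
    have h1 : Nat.gcd (orderOf σ) i' ∣ orderOf σ := Nat.gcd_dvd_left _ _
    have h2 : Nat.gcd (orderOf σ) i ∣ orderOf σ := Nat.gcd_dvd_left _ _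
    have h3 := Nat.div_mul_cancel h1
    have h4 := Nat.div_mul_cancel h2
    have hpos : 0 < orderOf σ / Nat.gcd (orderOf σ) i :=
      Nat.div_pos (Nat.le_of_dvd hN h2) (Nat.gcd_pos_of_pos_left _ hN)
    rw [h] at h3
    have : orderOf σ / Nat.gcd (orderOf σ) i * Nat.gcd (orderOf σ) i' =
        orderOf σ / Nat.gcd (orderOf σ) i * Nat.gcd (orderOf σ) i := by rw [h3, h4]
    exact Nat.eq_of_mul_eq_mul_left hpos this
  obtain ⟨q, hq⟩ : Nat.gcd (orderOf σ) i ∣ i' := hc ▸ Nat.gcd_dvd_right _ _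
  have hb := Nat.gcd_eq_gcd_ab (orderOf σ) i
  rw [Subgroup.mem_zpowers_iff]
  refine ⟨Nat.gcdB (orderOf σ) i * q, ?_⟩
  have e1 : ((i' : ℕ) : ℤ) = (orderOf σ : ℤ) * (Nat.gcdA (orderOf σ) i * q) +
      (i : ℤ) * (Nat.gcdB (orderOf σ) i * q) := by
    rw [hq]; push_cast; rw [hb]; ring
  show (σ ^ i) ^ (Nat.gcdB (orderOf σ) i * q) = σ ^ i'
  symm
  calc σ ^ i' = σ ^ ((i' : ℕ) : ℤ) := (zpow_natCast σ i').symm
    _ = σ ^ ((orderOf σ : ℤ) * (Nat.gcdA (orderOf σ) i * q)) *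
          σ ^ ((i : ℤ) * (Nat.gcdB (orderOf σ) i * q)) := by rw [e1, zpow_add]
    _ = (σ ^ i) ^ (Nat.gcdB (orderOf σ) i * q) := by
        have h1 : σ ^ ((orderOf σ : ℤ) * (Nat.gcdA (orderOf σ) i * q)) = 1 := by
          rw [zpow_mul, zpow_natCast, pow_orderOf_eq_one, one_zpow]
        have h2 : σ ^ ((i : ℤ) * (Nat.gcdB (orderOf σ) i * q)) =
            (σ ^ i) ^ (Nat.gcdB (orderOf σ) i * q) := by
          rw [zpow_mul, zpow_natCast]
        rw [h1, h2, one_mul]

theorem conj_pow_zpow {g a : G} {e : ℤ} (h : g * a * g⁻¹ = a ^ e) (i : ℕ) :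
    g ^ i * a * (g ^ i)⁻¹ = a ^ (e ^ i) := by
  induction i with
  | zero => simp
  | succ i ih =>
    have h1 : g ^ (i + 1) * a * (g ^ (i + 1))⁻¹ = g * (g ^ i * a * (g ^ i)⁻¹) * g⁻¹ := by
      rw [pow_succ']; group
    rw [h1, ih, ← conj_zpow, h, ← zpow_mul, pow_succ']

section fusion

variable {P : Sylow 2 G} {σ : G} {n : ℕ}

/-- A 2-element normalizing `⟨a⟩` (`a ∈ A`, `a² ≠ 1`) centralizes or inverts `a`. -/
theorem DihData.conj_two_element (hd : DihData P σ n) {a : G} (ha : a ∈ Subgroup.zpowers σ)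
    (ha2 : a * a ≠ 1) {y : G} {j : ℕ} (hy : orderOf y = 2 ^ j)
    (hya : y * a * y⁻¹ ∈ Subgroup.zpowers a) : y * a * y⁻¹ = a ∨ y * a * y⁻¹ = a⁻¹ := by
  have haP : a ∈ (P : Subgroup G) := hd.A_le ha
  have hyN : y ∈ Subgroup.normalizer ((Subgroup.zpowers a : Subgroup G) : Set G) := by
    apply Subgroup.mem_normalizer_fintype
    intro x hx
    obtain ⟨i, rfl⟩ := Subgroup.mem_zpowers_iff.1 hx
    rw [← conj_zpow]
    exact Subgroup.zpow_mem _ hya i
  have hle : Subgroup.zpowers y ≤ Subgroup.normalizer ((Subgroup.zpowers a : Subgroup G) : Set G) :=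
    Subgroup.zpowers_le.2 hyN
  have hp1 : IsPGroup 2 (Subgroup.zpowers y) :=
    IsPGroup.of_card (n := j) (by rw [Nat.card_zpowers, hy])
  have hp2 : IsPGroup 2 (Subgroup.zpowers a) := by
    obtain ⟨k, hk⟩ := (IsPGroup.iff_orderOf.mp P.2) ⟨a, haP⟩
    rw [Subgroup.orderOf_mk] at hk
    exact IsPGroup.of_card (n := k) (by rw [Nat.card_zpowers, hk])
  have hD : IsPGroup 2 (Subgroup.zpowers y ⊔ Subgroup.zpowers a : Subgroup G) :=
    hp1.to_sup_of_normal_right' hp2 hle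
  obtain ⟨u, hu⟩ := exists_conj_mem_sylow P _ hD
  have hbP : u⁻¹ * a * u ∈ (P : Subgroup G) :=
    hu a ((le_sup_right : Subgroup.zpowers a ≤ _) (Subgroup.mem_zpowers a))
  have hxP : u⁻¹ * y * u ∈ (P : Subgroup G) :=
    hu y ((le_sup_left : Subgroup.zpowers y ≤ _) (Subgroup.mem_zpowers y))
  have hb2 : (u⁻¹ * a * u) * (u⁻¹ * a * u) ≠ 1 := by
    intro h
    apply ha2
    have : (u⁻¹ * a * u) * (u⁻¹ * a * u) = u⁻¹ * (a * a) * u := by group
    rw [this] at h
    have h2 : a * a = u * (u⁻¹ * (a * a) * u) * u⁻¹ := by group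
    rw [h2, h]; group
  have hbA : u⁻¹ * a * u ∈ Subgroup.zpowers σ := hd.mem_A_of_sq_ne hbP hb2
  have key : y * a * y⁻¹ = u * ((u⁻¹ * y * u) * (u⁻¹ * a * u) * (u⁻¹ * y * u)⁻¹) * u⁻¹ := by group
  by_cases hxA : u⁻¹ * y * u ∈ Subgroup.zpowers σ
  · left
    have hc := DihData.commute_of_mem_A hxA hbA
    rw [key, hc]; group
  · right
    rw [key, hd.conj_inv hxP hxA hbA]; group

/-- (L3) fusion of elements of `A` of order at least 4 is by inversion only. -/
theorem DihData.fusion (hd : DihData P σ n) {a : G} (ha : a ∈ Subgroup.zpowers σ)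
    (ha2 : a * a ≠ 1) (g : G) (hga : g * a * g⁻¹ ∈ Subgroup.zpowers σ) :
    g * a * g⁻¹ = a ∨ g * a * g⁻¹ = a⁻¹ := by
  have hord : orderOf (g * a * g⁻¹) = orderOf a := by
    have := MulEquiv.orderOf_eq (MulAut.conj g) a
    rwa [MulAut.conj_apply] at this
  have hmem : g * a * g⁻¹ ∈ Subgroup.zpowers a := mem_zpowers_of_orderOf_eq ha hga hord
  obtain ⟨e, he⟩ := Subgroup.mem_zpowers_iff.1 hmem
  -- order of a is 2^k
  have haP : a ∈ (P : Subgroup G) := hd.A_le ha
  obtain ⟨k, hk⟩ := (IsPGroup.iff_orderOf.mp P.2) ⟨a, haP⟩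
  rw [Subgroup.orderOf_mk] at hk
  -- decompose the order of g
  obtain ⟨j, m, hm, hjm⟩ := Nat.exists_eq_two_pow_mul_odd (orderOf_pos g).ne'
  have hy : orderOf (g ^ m) = 2 ^ j := by
    rw [orderOf_pow_of_dvd (Nat.pos_of_ne_zero (by rintro rfl; exact (by decide : ¬ Odd 0) hm)).ne'
      (hjm ▸ dvd_mul_left _ _), hjm, Nat.mul_div_cancel _ (Nat.pos_of_ne_zero
      (by rintro rfl; exact (by decide : ¬ Odd 0) hm))]
  have hconj := conj_pow_zpow he.symm m
  have hX := hd.conj_two_element ha ha2 hy (by rw [hconj]; exact Subgroup.zpow_mem _ (Subgroup.mem_zpowers a) _)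
  rw [hconj] at hX
  have hX' : e ^ m ≡ 1 [ZMOD (2 : ℤ) ^ k] ∨ e ^ m ≡ -1 [ZMOD (2 : ℤ) ^ k] := by
    rcases hX with h | h
    · left
      have h1 : a ^ (e ^ m) = a ^ (1 : ℤ) := by rw [h, zpow_one]
      have := zpow_eq_zpow_iff_modEq.1 h1
      rw [hk] at this
      exact_mod_cast this
    · right
      have h1 : a ^ (e ^ m) = a ^ (-1 : ℤ) := by rw [h, zpow_neg_one]
      have := zpow_eq_zpow_iff_modEq.1 h1
      rw [hk] at this
      exact_mod_cast this
  rcases modEq_of_pow_modEq hm hX' with h | h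
  · left
    rw [← he]
    have h1 : e ≡ 1 [ZMOD (orderOf a : ℤ)] := by rw [hk]; exact_mod_cast h
    have := zpow_eq_zpow_iff_modEq.2 h1
    rw [this, zpow_one]
  · right
    rw [← he]
    have h1 : e ≡ -1 [ZMOD (orderOf a : ℤ)] := by rw [hk]; exact_mod_cast h
    have := zpow_eq_zpow_iff_modEq.2 h1
    rw [this, zpow_neg_one]

end fusion

section powers

variable {P : Sylow 2 G} {σ : G} {n : ℕ}

theorem DihData.pow_ne_one (hd : DihData P σ n) {l : ℕ} (hl1 : 1 ≤ l) (hl : l < 2 ^ (n - 1)) :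
    σ ^ l ≠ 1 := by
  apply pow_ne_one_of_lt_orderOf (by omega)
  rw [hd.order]; exact hl

theorem DihData.pow_eq_one_iff (hd : DihData P σ n) (m : ℕ) : σ ^ m = 1 ↔ 2 ^ (n - 1) ∣ m := by
  rw [← hd.order]; exact orderOf_dvd_iff_pow_eq_one.symm

theorem DihData.pow_sq_eq_one_iff (hd : DihData P σ n) {l : ℕ} (hl1 : 1 ≤ l)
    (hl : l < 2 ^ (n - 1)) : σ ^ l * σ ^ l = 1 ↔ l = 2 ^ (n - 2) := by
  rw [← pow_add, hd.pow_eq_one_iff, hd.two_pow_eq]
  constructor
  · intro h
    have := Nat.eq_of_dvd_of_lt_two_mul (by omega) h (by have := hd.two_pow_eq; omega)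
    omega
  · intro h
    rw [h]; exact ⟨1, by ring⟩

theorem DihData.pow_inv (hd : DihData P σ n) {l : ℕ} (hl : l ≤ 2 ^ (n - 1)) :
    σ ^ (2 ^ (n - 1) - l) = (σ ^ l)⁻¹ := by
  apply eq_inv_of_mul_eq_one_left
  rw [← pow_add, Nat.sub_add_cancel hl, ← hd.order, pow_orderOf_eq_one]

theorem DihData.isConj_pow_inv (hd : DihData P σ n) (l : ℕ) : IsConj (σ ^ l) (σ ^ l)⁻¹ := by
  obtain ⟨τ, hτP, hτA⟩ := hd.exists_tau
  rw [isConj_iff]
  exact ⟨τ, hd.conj_inv hτP hτA (DihData.pow_mem_A l)⟩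

/-- Distinct powers `σ^l`, `σ^l'` (`l' ≠ l, N - l`) are not conjugate. -/
theorem DihData.not_isConj_pow (hd : DihData P σ n) {l l' : ℕ} (hl1 : 1 ≤ l)
    (hl : l < 2 ^ (n - 1)) (hl'1 : 1 ≤ l') (hl' : l' < 2 ^ (n - 1)) (hne : l ≠ l')
    (hne2 : l + l' ≠ 2 ^ (n - 1)) : ¬ IsConj (σ ^ l) (σ ^ l') := by
  intro hc
  obtain ⟨c, hc⟩ := isConj_iff.1 hc
  by_cases ha2 : σ ^ l * σ ^ l = 1
  · have h1 := (hd.pow_sq_eq_one_iff hl1 hl).1 ha2
    have h2 : σ ^ l' * σ ^ l' = 1 := by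
      rw [← hc]
      have : c * σ ^ l * c⁻¹ * (c * σ ^ l * c⁻¹) = c * (σ ^ l * σ ^ l) * c⁻¹ := by group
      rw [this, ha2]; group
    have h3 := (hd.pow_sq_eq_one_iff hl'1 hl').1 h2
    omega
  · have hmem : c * σ ^ l * c⁻¹ ∈ Subgroup.zpowers σ := by rw [hc]; exact DihData.pow_mem_A l'
    rcases hd.fusion (DihData.pow_mem_A l) ha2 c hmem with h | h
    · rw [hc] at h
      have : l' = l := by
        apply pow_injOn_Iio_orderOf (x := σ)
        · rw [Set.mem_Iio, hd.order]; exact hl'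
        · rw [Set.mem_Iio, hd.order]; exact hl
        · exact h
      exact hne this.symm
    · rw [hc] at h
      have h1 : σ ^ (l' + l) = 1 := by rw [pow_add, h, inv_mul_cancel]
      have h2 := (hd.pow_eq_one_iff _).1 h1
      have := Nat.eq_of_dvd_of_lt_two_mul (by omega) h2 (by omega)
      omega

end powers

end Cfsg.Agent.Helper79.DihLocal
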