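import Cfsg.Agent.S0947
import Cfsg.Agent.S0925
import Cfsg.Agent.Helper79.DihLocal
import Cfsg.Agent.Helper79.CharComplete
import Cfsg.Agent.Helper79.ClassMult
import Cfsg.Agent.Helper79.Linear
import Cfsg.Agent.Helper78.LocalRing
import Cfsg.Agent.Helper78.IrrTransport
import Cfsg.Agent.Helper15.LinChar
import Cfsg.Agent.Helper15.IndChar
import Cfsg.Agent.Helper74.CharBasic

/-!
# Column relations in the principal 2-block for a dihedral Sylow 2-subgroup (helper79)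
-/

set_option autoImplicit false
set_option linter.unusedSectionVars false
set_option linter.style.haveILetI false

namespace Cfsg.Agent.Helper79.DihColumns

open Cfsg
open Cfsg.Agent.Helper79.DihLocal
open scoped ComplexConjugate

variable {G : Type*} [Group G] [Finite G] {M : Ideal AlgInt} {P : Sylow 2 G} {σ : G} {n : ℕ}

/-- Irreducible characters are real on the powers of `σ`. -/
theorem irr_pow_inv (hd : DihData P σ n) (χ : IrrCharacter G) (l : ℕ) :
    (χ : G → ℂ) (σ ^ l)⁻¹ = (χ : G → ℂ) (σ ^ l) :=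
  ((isClassFunction_iff_isConj.1 (irr_isClassFunction χ)) _ _ (hd.isConj_pow_inv l)).symm

theorem irr_pow_real (hd : DihData P σ n) (χ : IrrCharacter G) (l : ℕ) :
    conj ((χ : G → ℂ) (σ ^ l)) = (χ : G → ℂ) (σ ^ l) := by
  haveI : Fintype G := Fintype.ofFinite G
  rw [← irr_inv, irr_pow_inv hd]

theorem irr_pow_reflect (hd : DihData P σ n) (χ : IrrCharacter G) {l : ℕ}
    (hl : l ≤ 2 ^ (n - 1)) :
    (χ : G → ℂ) (σ ^ (2 ^ (n - 1) - l)) = (χ : G → ℂ) (σ ^ l) := by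
  rw [hd.pow_inv hl, irr_pow_inv hd]

theorem norm_sq_eq (hd : DihData P σ n) (χ : IrrCharacter G) (l : ℕ) :
    ((‖(χ : G → ℂ) (σ ^ l)‖ ^ 2 : ℝ) : ℂ) = (χ : G → ℂ) (σ ^ l) * (χ : G → ℂ) (σ ^ l) := by
  rw [← Complex.normSq_eq_norm_sq, ← Complex.mul_conj, irr_pow_real hd]

theorem exists_orderOf_pow (hd : DihData P σ n) (l : ℕ) : ∃ k : ℕ, orderOf (σ ^ l) = 2 ^ k := by
  obtain ⟨k, hk⟩ := (IsPGroup.iff_orderOf.mp P.2) ⟨σ ^ l, hd.pow_mem l⟩
  exact ⟨k, by rw [← hk, Subgroup.orderOf_mk]⟩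

theorem isPPart_pow (hd : DihData P σ n) (l : ℕ) : IsPPart 2 (σ ^ l) (σ ^ l) :=
  ⟨1, mul_one _, Commute.one_right _, exists_orderOf_pow hd l, by rw [orderOf_one]; norm_num⟩

/-- Squared norm of the column of `σ^l`. -/
theorem norm_sum (hM : IsPModular 2 M) (hd : DihData P σ n) {l : ℕ} (hl1 : 1 ≤ l)
    (hl : l < 2 ^ (n - 1)) :
    ∑ᶠ χ ∈ principalBlock M G, ‖(χ : G → ℂ) (σ ^ l)‖ ^ 2 =
      (((if l = 2 ^ (n - 2) then 2 ^ n else 2 ^ (n - 1)) : ℕ) : ℝ) := by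
  haveI : Fact (Nat.Prime 2) := ⟨Nat.prime_two⟩
  have h1reg : ¬ 2 ∣ orderOf (1 : Subgroup.centralizer ({σ ^ l} : Set G)) := by
    rw [orderOf_one]; norm_num
  have h := (Cfsg.Agent.S0947.result 2 M hM (σ ^ l) (exists_orderOf_pow hd l)
    (hd.pow_ne_one hl1 hl) 1 h1reg).2
  rw [Subgroup.coe_one, mul_one] at h
  by_cases hJ : l = 2 ^ (n - 2)
  · rw [if_pos hJ]
    subst hJ
    rw [h hd.pPrimeCore_centralizer_J, hd.factorization_card_centralizer_J]
  · rw [if_neg hJ]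
    have ha2 : σ ^ l * σ ^ l ≠ 1 := fun h2 => hJ ((hd.pow_sq_eq_one_iff hl1 hl).1 h2)
    rw [h (hd.pPrimeCore_centralizer (DihData.pow_mem_A l) ha2),
      hd.factorization_card_centralizer (DihData.pow_mem_A l) ha2]

/-- Orthogonality of the columns of non-conjugate powers. -/
theorem orth (hM : IsPModular 2 M) (hd : DihData P σ n) {l l' : ℕ}
    (hnc : ¬ IsConj (σ ^ l) (σ ^ l')) :
    ∑ᶠ χ ∈ principalBlock M G, (χ : G → ℂ) (σ ^ l) * (χ : G → ℂ) (σ ^ l') = 0 := by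
  haveI : Fact (Nat.Prime 2) := ⟨Nat.prime_two⟩
  have h := (Cfsg.Agent.S0925.result 2 M hM).2 (σ ^ l) (σ ^ l') (σ ^ l) (σ ^ l')
    (isPPart_pow hd l) (isPPart_pow hd l') hnc (principalBlock M G)
    (Cfsg.Agent.Helper78.isPBlock_principalBlock M G)
  rw [← h]
  refine finsum_mem_congr rfl (fun χ _ => ?_)
  rw [irr_pow_inv hd]

/-- Orthogonality with the columns of elements of odd order. -/
theorem orth_regular (hM : IsPModular 2 M) (hd : DihData P σ n) {l : ℕ} (hl1 : 1 ≤ l)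
    (hl : l < 2 ^ (n - 1)) {ρ : G} (hρ : ¬ 2 ∣ orderOf ρ) :
    ∑ᶠ χ ∈ principalBlock M G, (χ : G → ℂ) ρ * (χ : G → ℂ) (σ ^ l) = 0 := by
  haveI : Fact (Nat.Prime 2) := ⟨Nat.prime_two⟩
  have h := (Cfsg.Agent.S0925.result 2 M hM).2 ρ (σ ^ l) 1 (σ ^ l)
    ⟨ρ, one_mul ρ, Commute.one_left ρ, ⟨0, by simp⟩, hρ⟩
    (isPPart_pow hd l) (by
      intro hc
      exact hd.pow_ne_one hl1 hl (isConj_one_right.mp hc))
    (principalBlock M G) (Cfsg.Agent.Helper78.isPBlock_principalBlock M G)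
  rw [← h]
  refine finsum_mem_congr rfl (fun χ _ => ?_)
  rw [irr_pow_inv hd]

/-- A principal block character does not vanish at the central involution. -/
theorem apply_J_ne_zero (hM : IsPModular 2 M) (hd : DihData P σ n) (χ : IrrCharacter G)
    (hχ : χ ∈ principalBlock M G) : (χ : G → ℂ) (σ ^ (2 ^ (n - 2))) ≠ 0 := by
  intro h0
  have h : MemLocalIdeal M (centralChar (fun _ : G => (1 : ℂ)) (σ ^ (2 ^ (n - 2))) -
      centralChar (χ : G → ℂ) (σ ^ (2 ^ (n - 2)))) := hχ _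
  unfold centralChar at h
  rw [h0, mul_zero, zero_div, sub_zero, mul_one, div_one,
    Helper78.memLocalIdeal_natCast_iff hM] at h
  exact hd.not_two_dvd_index_centralizer_J h

theorem principalIrr_mem (hM : IsPModular 2 M) : Helper79.principalIrr G ∈ principalBlock M G :=
  Helper78.principalIrr_mem_principalBlock M (Helper78.isPrime_of_isPModular hM) G

/-- Integrality of the Fourier coefficients of a character along a cyclic subgroup. -/
theorem fourier_int {G : Type*} [Group G] [Finite G] {χ : G → ℂ} (hχ : IsCharacter G χ) (σ : G)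
    {N : ℕ} (hN : orderOf σ = N) {ζ : ℂ} (hζ : IsPrimitiveRoot ζ N) (k : ℕ) :
    ∃ m : ℤ, ∑ l ∈ Finset.range N, χ (σ ^ l) * (ζ⁻¹) ^ (k * l) = (N : ℂ) * m := by
  classical
  subst hN
  have hNpos : 0 < orderOf σ := orderOf_pos σ
  haveI : Fintype (Subgroup.zpowers σ) := Fintype.ofFinite _
  let g : Subgroup.zpowers σ := ⟨σ, Subgroup.mem_zpowers σ⟩
  have hg : ∀ x : Subgroup.zpowers σ, x ∈ Subgroup.zpowers g := by
    intro x
    obtain ⟨i, hi⟩ := Subgroup.mem_zpowers_iff.1 x.2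
    exact Subgroup.mem_zpowers_iff.2 ⟨i, Subtype.ext (by simpa [g] using hi)⟩
  let u : ℂˣ := Units.mk0 ζ (hζ.ne_zero hNpos.ne')
  have hu : u ^ orderOf σ = 1 := Units.ext (by simp [u, hζ.pow_eq_one])
  have hord : orderOf (u ^ k) ∣ orderOf g := by
    rw [Subgroup.orderOf_mk]
    apply orderOf_dvd_of_pow_eq_one
    rw [← pow_mul, mul_comm, pow_mul, hu, one_pow]
  let φ : Subgroup.zpowers σ →* ℂˣ := monoidHomOfForallMemZpowers hg hord
  have hφg : φ g = u ^ k := monoidHomOfForallMemZpowers_apply_gen hg hord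
  let ψ : Subgroup.zpowers σ →* ℂ := (Units.coeHom ℂ).comp φ
  have hψ := (Helper15.isCharacter_of_hom ψ).1
  have hres := Helper74.isCharacter_restrict (Subgroup.zpowers σ) hχ
  obtain ⟨m, hm⟩ := Helper15.isCharacter_inner_nat hres hψ
  refine ⟨(m : ℤ), ?_⟩
  rw [Int.cast_natCast]
  unfold classInner at hm
  rw [Nat.card_zpowers] at hm
  have hNC : (orderOf σ : ℂ) ≠ 0 := Nat.cast_ne_zero.2 hNpos.ne'
  have hsum : ∑ h : Subgroup.zpowers σ, χ h * conj (ψ h) = (orderOf σ : ℂ) * m := by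
    rw [← hm]; field_simp
  rw [← hsum]
  have hconj : conj ζ = ζ⁻¹ := (Complex.inv_eq_conj (hζ.norm'_eq_one hNpos.ne')).symm
  have hψpow : ∀ l : ℕ, ψ (⟨σ ^ l, Subgroup.pow_mem _ (Subgroup.mem_zpowers σ) l⟩ :
      Subgroup.zpowers σ) = (ζ ^ k) ^ l := by
    intro l
    have : (⟨σ ^ l, Subgroup.pow_mem _ (Subgroup.mem_zpowers σ) l⟩ : Subgroup.zpowers σ) = g ^ l :=
      Subtype.ext (by simp [g])
    rw [this, map_pow]
    show ((φ g : ℂˣ) : ℂ) ^ l = _
    rw [hφg]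
    simp [u]
  rw [← Fintype.sum_equiv (finEquivZPowers (isOfFinOrder_of_finite σ))
    (fun i => χ (σ ^ (i : ℕ)) * (ζ⁻¹) ^ (k * (i : ℕ))) (fun h => χ h * conj (ψ h))]
  · exact (Fin.sum_univ_eq_sum_range (fun l => χ (σ ^ l) * (ζ⁻¹) ^ (k * l)) (orderOf σ)).symm
  · intro i
    rw [finEquivZPowers_apply]
    have := hψpow (i : ℕ)
    simp only at this ⊢
    rw [this, map_pow, map_pow, hconj, ← pow_mul]


/-- A `finsum` over a set as a `Fintype` sum over the subtype. -/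
theorem sum_coe_eq_finsum_mem {α A : Type*} [AddCommMonoid A] (s : Set α) [Fintype s]
    (f : α → A) : ∑ i : s, f i = ∑ᶠ a ∈ s, f a := by
  rw [← finsum_set_coe_eq_finsum_mem, finsum_eq_sum_of_fintype]

end Cfsg.Agent.Helper79.DihColumns
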