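import Mathlib
import Cfsg.Agent.Helper79.CharComplete
import Cfsg.Agent.Helper79.Linear
import Cfsg.Agent.Helper74.CharBasic

/-!
# (CH1) of helper3's S3805 plan: value of an irreducible character at a real element of order 3

`χ t = χ 1 - 3 m` for a natural number `m` (the multiplicity of a faithful linear character of
`⟨t⟩` in the restriction of `χ`).
-/

set_option autoImplicit false
open Cfsg Finset
open scoped ComplexConjugate

namespace Cfsg.Agent.Helper79.S3S3

universe u
variable {G : Type u} [Group G] [Fintype G]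

/-- A cube root of unity different from `1` satisfies `1 + ζ + ζ² = 0`. -/
theorem one_add_add_sq_eq_zero {ζ : ℂ} (h3 : ζ ^ 3 = 1) (h1 : ζ ≠ 1) : 1 + ζ + ζ ^ 2 = 0 := by
  have h : (ζ - 1) * (1 + ζ + ζ ^ 2) = 0 := by ring_nf; rw [h3]; ring
  rcases mul_eq_zero.1 h with h | h
  · exact absurd (sub_eq_zero.1 h) h1
  · exact h

/-- (CH1) the value of an irreducible character at a real element of order 3. -/
theorem irr_order_three_value (χ : IrrCharacter G) (t : G) (ht : t ^ 3 = 1) (hc : IsConj t t⁻¹) :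
    ∃ m : ℕ, (χ : G → ℂ) t = (χ : G → ℂ) 1 - 3 * (m : ℂ) := by
  classical
  by_cases ht1 : t = 1
  · exact ⟨0, by rw [ht1]; simp⟩
  -- the order of `t` is 3
  have hord : orderOf t = 3 := by
    have hd : orderOf t ∣ 3 := orderOf_dvd_of_pow_eq_one ht
    rcases (Nat.dvd_prime Nat.prime_three).1 hd with h | h
    · exact absurd (orderOf_eq_one_iff.1 h) ht1
    · exact h
  set C : Subgroup G := Subgroup.zpowers t with hC
  have htC : t ∈ C := Subgroup.mem_zpowers t
  have hfo : IsOfFinOrder t := isOfFinOrder_of_finite t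
  have hcardC : Nat.card C = 3 := by rw [hC, Nat.card_zpowers, hord]
  -- a nontrivial linear character of `C`
  have hne : (⟨t, htC⟩ : C) ≠ 1 := fun h => ht1 (congrArg Subtype.val h)
  have : IsMulCommutative C := by rw [hC]; infer_instance
  let _ : CommGroup C := { (inferInstance : Group C) with mul_comm := fun a b => mul_comm' a b }
  obtain ⟨φ, hφ⟩ := CommGroup.exists_apply_ne_one_of_hasEnoughRootsOfUnity C ℂ hne
  set ζ : ℂ := ((φ ⟨t, htC⟩ : ℂˣ) : ℂ) with hζ
  have hζ3 : ζ ^ 3 = 1 := by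
    have : (φ ⟨t, htC⟩) ^ 3 = 1 := by
      rw [← map_pow]
      have : (⟨t, htC⟩ : C) ^ 3 = 1 := Subtype.ext (by simpa using ht)
      rw [this, map_one]
    rw [hζ, ← Units.val_pow_eq_pow_val, this, Units.val_one]
  have hζ1 : ζ ≠ 1 := by
    intro h
    apply hφ
    exact Units.ext (by simpa [hζ] using h)
  have hsum := one_add_add_sq_eq_zero hζ3 hζ1
  -- the multiplicity is a natural number
  have hχC : IsCharacter ↥C (fun x => (χ : G → ℂ) x) :=
    Cfsg.Agent.Helper74.isCharacter_restrict _ (Cfsg.Agent.Helper74.isCharacter_of_isIrr χ.2)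
  let ψ' : IrrCharacter ↥C :=
    ⟨fun x => ((φ x : ℂˣ) : ℂ),
      Cfsg.Agent.Helper79.isIrrCharacter_of_monoidHom ((Units.coeHom ℂ).comp φ)⟩
  obtain ⟨m, hm⟩ := Cfsg.Agent.Helper74.isCharacter_inner_irr_nat hχC ψ'
  refine ⟨m, ?_⟩
  -- compute the inner product
  have hinv : (χ : G → ℂ) (t ^ 2) = (χ : G → ℂ) t := by
    have h2 : t ^ 2 = t⁻¹ := by
      rw [eq_inv_iff_mul_eq_one, ← pow_succ, ht]
    rw [h2]
    exact ((Cfsg.Agent.Helper79.isClassFunction_iff_isConj.1
      (Cfsg.Agent.Helper79.irr_isClassFunction χ)) t t⁻¹ hc).symm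
  have hsumC : ∀ f : C → ℂ, ∑ g : C, f g
      = f 1 + f ⟨t, htC⟩ + f ⟨t ^ 2, C.pow_mem htC 2⟩ := by
    intro f
    have e := finEquivZPowers hfo
    have h1 : ∑ g : C, f g = ∑ i : Fin (orderOf t), f (finEquivZPowers hfo i) :=
      (Fintype.sum_equiv (finEquivZPowers hfo) _ _ (fun _ => rfl)).symm
    rw [h1]
    have h2 : ∀ (n : ℕ) (hn : n = orderOf t) (F : Fin (orderOf t) → ℂ),
        ∑ i : Fin (orderOf t), F i = ∑ i : Fin n, F (Fin.cast hn i) := by
      intro n hn F
      subst hn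
      rfl
    rw [h2 3 hord.symm, Fin.sum_univ_three]
    congr 1
    · congr 1
      · congr 1
        apply Subtype.ext
        simp [finEquivZPowers_apply]
      · congr 1
        apply Subtype.ext
        simp [finEquivZPowers_apply]
  have hconj : conj ζ + conj ζ ^ 2 = -1 := by
    have := congrArg conj hsum
    simp only [map_add, map_one, map_pow, map_zero] at this
    linear_combination this
  have hval : classInner (fun x : C => (χ : G → ℂ) x) (ψ' : C → ℂ)
      = ((χ : G → ℂ) 1 - (χ : G → ℂ) t) / 3 := by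
    unfold classInner
    rw [hcardC, hsumC]
    have e1 : ((ψ' : C → ℂ) 1) = 1 := by
      show ((φ 1 : ℂˣ) : ℂ) = 1
      rw [map_one, Units.val_one]
    have e2 : ((ψ' : C → ℂ) ⟨t, htC⟩) = ζ := rfl
    have e3 : ((ψ' : C → ℂ) ⟨t ^ 2, C.pow_mem htC 2⟩) = ζ ^ 2 := by
      show ((φ ⟨t ^ 2, C.pow_mem htC 2⟩ : ℂˣ) : ℂ) = ζ ^ 2
      have : (⟨t ^ 2, C.pow_mem htC 2⟩ : C) = (⟨t, htC⟩ : C) ^ 2 := Subtype.ext rfl
      rw [this, map_pow, Units.val_pow_eq_pow_val]
    rw [e1, e2, e3]
    simp only [map_one, map_pow, mul_one]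
    have : (((1 : C) : G)) = 1 := rfl
    rw [this, hinv]
    have h3 : ((3 : ℕ) : ℂ) = 3 := by norm_num
    rw [h3]
    have hc2 : conj ζ ^ 2 = -1 - conj ζ := by linear_combination hconj
    rw [hc2]
    field_simp
    ring
  rw [hval] at hm
  have : (χ : G → ℂ) 1 - (χ : G → ℂ) t = 3 * (m : ℂ) := by
    field_simp at hm
    linear_combination hm
  linear_combination -this

end Cfsg.Agent.Helper79.S3S3
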