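import Cfsg.Agent.Helper79.FeitCore6

/-!
# Feit's theorem on Zassenhaus groups: `c = 0` (helper79)
-/

set_option autoImplicit false

namespace Cfsg.Agent.Helper79.Feit

open Cfsg Cfsg.Agent.Helper75 Cfsg.Agent.Helper9.FP
open scoped ComplexConjugate

universe u

variable {G : Type u} [Group G] [Fintype G] {K : Subgroup G}
  [Fintype ↥(Subgroup.normalizer (K : Set G))]
  {star : (↥(Subgroup.normalizer (K : Set G)) → ℂ) → (G → ℂ)}

/-- Arithmetic core: `c² (h - 1) ≤ 2 c e` and `2 e < h - 1` force `c = 0`. -/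
theorem c_eq_zero_of_le (c : ℤ) (e h : ℕ) (hlt : 2 * e < h - 1)
    (hle : (c : ℝ) ^ 2 * ((h : ℝ) - 1) ≤ 2 * c * e) : c = 0 := by
  by_contra hc
  have hh : (2 * (e : ℝ)) + 1 ≤ (h : ℝ) - 1 := by
    have h1 : 2 * e + 1 ≤ h - 1 := hlt
    have h2 : 2 * e + 1 + 1 ≤ h := by omega
    have h3 : ((2 * e + 1 + 1 : ℕ) : ℝ) ≤ (h : ℝ) := by exact_mod_cast h2
    push_cast at h3
    linarith
  have hc2 : (1 : ℝ) ≤ (c : ℝ) ^ 2 := by
    have : (1 : ℤ) ≤ c ^ 2 := by
      have : 0 < c ^ 2 := by positivity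
      omega
    exact_mod_cast this
  have hcc : (c : ℝ) ≤ (c : ℝ) ^ 2 := by
    have : c ≤ c ^ 2 := by
      rcases le_or_gt c 0 with h | h
      · nlinarith [sq_nonneg c]
      · nlinarith
    exact_mod_cast this
  have he : (0 : ℝ) ≤ e := Nat.cast_nonneg e
  nlinarith

/-- In the situation of `FeitData`, coherence forces `star χ = χ` on `K \ {1}`. -/
theorem feit_c_zero {e h : ℕ} (D : FeitData K e h) (hS : CohStar K star) :
    ∀ χ ∈ tfS K, ∀ k ∈ Ksharp K,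
      star χ k = extendByZero (Subgroup.normalizer (K : Set G)) χ k := by
  classical
  let _ := Helper74.irrFintype G
  obtain ⟨φ, hφ, hφe⟩ := D.hdeg
  have hφ1 : φ 1 = (caE K : ℂ) := by rw [D.he]; exact hφe
  obtain ⟨c, hc⟩ := fp_c D.hC D.hTI hS
  obtain ⟨ε, hε, hεirr⟩ := fp_sign D.hC hS
  obtain ⟨ψ₀, hψ₀, hind, -⟩ := D.h2t
  suffices hc0 : c = 0 by
    intro χ hχ k hk
    rw [hc χ hχ k hk, hc0]
    simp
  set A := indFun (Subgroup.normalizer (K : Set G)) (alphaFun K φ) with hA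
  have hnorm : classInner A A = 1 + (caE K : ℂ) := inner_ind_alphaFun_self D.hC D.hTI hφ hφ1
  have hepos : (0 : ℝ) < e := by
    have := D.he1
    exact_mod_cast (by omega : 0 < e)
  have hcaE : (caE K : ℝ) = e := by rw [D.he]
  -- degrees of the relevant characters
  have hdeg : ∀ ζ : RelIrr K, ∃ n : ℕ, ζ.1.1 1 = n := fun ζ => by
    obtain ⟨d, _, hd⟩ := fk_irr_apply_one ζ.1
    exact ⟨d, hd⟩
  choose n hn using hdeg
  let ζφ : RelIrr K := ⟨⟨φ, hφ.1⟩, hφ⟩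
  have hnφ : n ζφ = e := by
    have h1 : φ 1 = (n ζφ : ℂ) := hn ζφ
    rw [hφe] at h1
    exact_mod_cast h1.symm
  -- sum of squares of degrees
  have hsq : ∑ ζ : RelIrr K, ((n ζ : ℝ)) ^ 2 = (e : ℝ) * ((h : ℝ) - 1) := by
    have h1 := sum_relIrr_degree_sq K
    rw [card_normalizer_eq, D.he, D.hh] at h1
    have h2 : ∑ ζ : RelIrr K, (ζ.1.1 1) * (ζ.1.1 1)
        = ∑ ζ : RelIrr K, ((n ζ : ℂ)) ^ 2 := by
      apply Finset.sum_congr rfl
      intro ζ _
      rw [hn ζ]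
      ring
    rw [h2] at h1
    have h3 : ((∑ ζ : RelIrr K, ((n ζ : ℝ)) ^ 2 : ℝ) : ℂ)
        = (((e : ℝ) * ((h : ℝ) - 1) : ℝ) : ℂ) := by
      push_cast
      linear_combination h1
    exact_mod_cast h3
  -- two distinct relevant characters
  have htwo : ∃ χ ∈ tfS K, ∃ ξ ∈ tfS K, χ ≠ ξ := by
    by_contra hcon
    push Not at hcon
    have hall : ∀ ζ : RelIrr K, ζ = ζφ := fun ζ =>
      Subtype.ext (Subtype.ext (hcon _ ζ.2 _ hφ))
    have h1 : ∑ ζ : RelIrr K, ((n ζ : ℝ)) ^ 2 = ((n ζφ : ℝ)) ^ 2 := by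
      rw [Finset.sum_eq_single ζφ]
      · intro ζ _ hne
        exact absurd (hall ζ) hne
      · intro h
        exact absurd (Finset.mem_univ _) h
    rw [hsq, hnφ] at h1
    have h2 : (e : ℝ) + 1 = h := by
      have : (e : ℝ) * ((h : ℝ) - 1 - e) = 0 := by linear_combination h1
      rcases mul_eq_zero.mp this with h | h
      · linarith
      · linarith
    have h3 : e + 1 = h := by exact_mod_cast h2
    have := D.hlt
    omega
  -- an element of `K \ {1}`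
  have hK2 : ∃ k ∈ K, k ≠ 1 := by
    obtain ⟨_, k, hk, hne⟩ := hφ
    exact ⟨k, hk, fun h => hne (by
      have : k = 1 := Subtype.ext h
      rw [this])⟩
  obtain ⟨k₀, hk₀, hk₀1⟩ := hK2
  -- Bessel
  have hbessel := Helper25.bessel_orthogonal (G := G) (Finset.univ : Finset (IrrCharacter G))
    (fun ψ => (ψ : G → ℂ)) (fun _ => (1 : ℝ)) (fun _ _ => one_pos)
    (fun i _ j _ => by
      rw [Helper74.irr_orthonormal i j]
      by_cases hij : i = j
      · rw [if_pos hij, if_pos hij]; simp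
      · rw [if_neg hij, if_neg hij]) A
  simp only [div_one] at hbessel
  rw [hnorm] at hbessel
  have hre : (1 + (caE K : ℂ)).re = 1 + (e : ℝ) := by
    rw [D.he]
    simp
  rw [hre] at hbessel
  -- split the sum
  set F : IrrCharacter G → ℝ := fun ψ => ‖classInner A (ψ : G → ℂ)‖ ^ 2 with hF
  have hFnn : ∀ ψ, 0 ≤ F ψ := fun ψ => by positivity
  let j : RelIrr K → IrrCharacter G := excIrr hεirr
  have hjinj : Function.Injective j := excIrr_injective hS hε hεirr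
  set I : Finset (IrrCharacter G) := Finset.univ.image j with hI
  have hsplit : ∑ ψ : IrrCharacter G, F ψ = ∑ ψ ∈ I, F ψ + ∑ ψ ∈ Iᶜ, F ψ :=
    (Finset.sum_add_sum_compl I F).symm
  -- the exceptional part
  have hexc : ∑ ψ ∈ I, F ψ = 1 - 2 * (c : ℝ) + (c : ℝ) ^ 2 * ((h : ℝ) - 1) / e := by
    rw [hI, Finset.sum_image (fun a _ b _ hab => hjinj hab)]
    have hterm : ∀ ζ : RelIrr K, F (j ζ)
        = (if ζ = ζφ then (1 - 2 * (c : ℝ) * n ζ / e) else 0)
          + (c : ℝ) ^ 2 / (e : ℝ) ^ 2 * (n ζ : ℝ) ^ 2 := by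
      intro ζ
      have h1 := norm_inner_exc D.hC hS hφ hφ1 hc hε ζ.2 (n ζ) (hn ζ)
      have h2 : F (j ζ) = ((if φ = ζ.1.1 then (1 : ℝ) else 0)
          - (c : ℝ) * n ζ / (caE K : ℝ)) ^ 2 := h1
      rw [h2, hcaE]
      by_cases hζ : ζ = ζφ
      · have : φ = ζ.1.1 := by rw [hζ]
        rw [if_pos this, if_pos hζ]
        field_simp
        ring
      · have : φ ≠ ζ.1.1 := fun h => hζ (Subtype.ext (Subtype.ext h.symm))
        rw [if_neg this, if_neg hζ]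
        field_simp
        ring
    rw [Finset.sum_congr rfl (fun ζ _ => hterm ζ), Finset.sum_add_distrib,
      Finset.sum_ite_eq' Finset.univ ζφ, if_pos (Finset.mem_univ _), ← Finset.mul_sum, hsq, hnφ]
    field_simp
  -- the non-exceptional part
  let ψ₀' : IrrCharacter G := ⟨ψ₀, hψ₀⟩
  have hrest : ∀ ψ ∈ Iᶜ.erase ψ₀', 1 ≤ F ψ := by
    intro ψ hψ
    rw [Finset.mem_erase, Finset.mem_compl] at hψ
    obtain ⟨hne0, hnI⟩ := hψ
    have hnot : (ψ : G → ℂ) ∉ excFam K := by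
      rintro ⟨_, a, ha, b, hb, ha1, hb1, hab⟩
      obtain ⟨χ, hχ, hor⟩ := (tf_S0852 D.hC hS.hadd hS.hsmul hS.hiso hS.hgen hS.hext htwo
        ψ.2).mpr ⟨a, ha, b, hb, ha1, hb1, hab⟩
      let ζ : RelIrr K := ⟨⟨χ, hχ.1⟩, hχ⟩
      have hjζ : ((j ζ : IrrCharacter G) : G → ℂ) = (ε : ℂ) • star χ := rfl
      have hcases : (ψ : G → ℂ) = (j ζ : G → ℂ) ∨ (ψ : G → ℂ) = -(j ζ : G → ℂ) := by
        rw [hjζ]
        rcases hε with h | h <;> rcases hor with h' | h' <;> rw [h, h'] <;> simp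
      rcases hcases with h | h
      · apply hnI
        rw [hI, Finset.mem_image]
        exact ⟨ζ, Finset.mem_univ _, (Subtype.ext h).symm⟩
      · exact fp_irr_ne_neg ψ (j ζ) h
    obtain ⟨a, ha⟩ := ca_const_of_not_mem ψ.2 hnot hk₀ hk₀1
    have ha0 : a ≠ 0 := by
      intro h0
      apply hne0
      apply Subtype.ext
      apply eq_psi0_of_vanish D hψ₀ hind ψ.2
      intro k hk hk1
      rw [ha k hk hk1, h0]
      simp
    exact norm_inner_const D.hC hφ hφ1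
      (Helper74.isClassFunction_of_isCharacter (Helper74.irr_isCharacter ψ)) a ha ha0
  have hrest_sum : ((Iᶜ.erase ψ₀').card : ℝ) ≤ ∑ ψ ∈ Iᶜ, F ψ := by
    calc ((Iᶜ.erase ψ₀').card : ℝ) = ∑ ψ ∈ Iᶜ.erase ψ₀', (1 : ℝ) := by simp
      _ ≤ ∑ ψ ∈ Iᶜ.erase ψ₀', F ψ := Finset.sum_le_sum hrest
      _ ≤ ∑ ψ ∈ Iᶜ, F ψ :=
        Finset.sum_le_sum_of_subset_of_nonneg (Finset.erase_subset _ _) (fun ψ _ _ => hFnn ψ)
  -- counting
  have hcardI : I.card = Nat.card (tfS K) := by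
    rw [hI, Finset.card_image_of_injective _ hjinj, Finset.card_univ, card_relIrr]
  have hcount : e ≤ (Iᶜ.erase ψ₀').card := by
    have h1 := card_irr_ge' D
    have h2 : Iᶜ.card = Fintype.card (IrrCharacter G) - I.card := Finset.card_compl I
    have h3 : Iᶜ.card - 1 ≤ (Iᶜ.erase ψ₀').card := Finset.pred_card_le_card_erase
    rw [Nat.card_eq_fintype_card (α := IrrCharacter G)] at h1
    omega
  have hcount' : (e : ℝ) ≤ ((Iᶜ.erase ψ₀').card : ℝ) := by exact_mod_cast hcount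
  -- conclusion
  rw [hsplit, hexc] at hbessel
  apply c_eq_zero_of_le c e h D.hlt
  have h1 : (c : ℝ) ^ 2 * ((h : ℝ) - 1) / e ≤ 2 * c := by linarith
  rw [div_le_iff₀ hepos] at h1
  linarith

end Cfsg.Agent.Helper79.Feit
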