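import Mathlib
import Cfsg.Agent.Helper16.Idempotent
import Cfsg.Agent.Helper79.BlockRankLemmas
import Cfsg.Agent.Helper80.CharLevel
import Cfsg.Agent.Helper80.Degree

/-!
# A character of `p`-defect zero is alone in its block
-/

set_option autoImplicit false

namespace Cfsg.Agent.Helper79

open Cfsg
open scoped ComplexConjugate

section
variable {G : Type*} [Group G] [Finite G]

/-- An irreducible character of `p`-defect zero is the only member of its `p`-block. -/
theorem eq_of_sameBlock_of_defect_zero {p : ℕ} [hp : Fact p.Prime] {M : Ideal AlgInt}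
    (hM : IsPModular p M) (χ ψ : IrrCharacter G)
    (hdef : (charDegree (χ : G → ℂ)).factorization p = (Nat.card G).factorization p)
    (h : SameBlock M (χ : G → ℂ) (ψ : G → ℂ)) : ψ = χ := by
  classical
  have := Fintype.ofFinite G
  have hMp : M.IsPrime := Helper16.IsPModular.isPrime hM
  by_contra hne
  set d := charDegree (χ : G → ℂ) with hd
  have hdpos : 0 < d := irr_charDegree_pos χ
  obtain ⟨n, hn⟩ : d ∣ Nat.card G := Helper80.IsIrrCharacter.charDegree_dvd_card χ.2
  have hn0 : n ≠ 0 := by
    rintro rfl
    rw [mul_zero] at hn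
    exact Nat.card_pos.ne' hn
  have hpn : ¬ p ∣ n := by
    intro hpn
    have h1 : (Nat.card G).factorization p = d.factorization p + n.factorization p := by
      rw [hn, Nat.factorization_mul hdpos.ne' hn0]; rfl
    have h2 : 0 < n.factorization p := hp.out.factorization_pos_of_dvd hn0 hpn
    omega
  -- the coefficients of the primitive idempotent of `χ`
  set s : G → ℂ := fun g => (n : ℂ)⁻¹ * conj ((χ : G → ℂ) g) with hs
  have hscl : IsClassFunction G s := by
    intro g k
    simp only [hs]
    rw [irr_isClassFunction χ g k]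
  have hsS : ∀ g, MemLocalRing M (s g) := by
    intro g
    refine Helper16.memLocalRing_mul (Helper16.memLocalRing_inv_natCast hM hpn) ?_
    apply Helper16.memLocalRing_of_isIntegral
    rw [← irr_inv]
    exact Helper80.IsCharacter.isIntegral (irr_isCharacter χ) _
  have hmem := Helper16.omega_sub_memLocalIdeal h hscl hsS
  have hcard : (Nat.card G : ℂ) = (d : ℂ) * (n : ℂ) := by exact_mod_cast hn
  have hd0 : (d : ℂ) ≠ 0 := by exact_mod_cast hdpos.ne'
  have hn0' : (n : ℂ) ≠ 0 := by exact_mod_cast hn0
  have homega : ∀ φ : IrrCharacter G, Helper16.omega (φ : G → ℂ) s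
      = (d : ℂ) / (φ : G → ℂ) 1 * classInner (φ : G → ℂ) (χ : G → ℂ) := by
    intro φ
    unfold Helper16.omega classInner
    rw [hcard]
    simp only [hs]
    have : ∑ x : G, (n : ℂ)⁻¹ * conj ((χ : G → ℂ) x) * (φ : G → ℂ) x
        = (n : ℂ)⁻¹ * ∑ x : G, (φ : G → ℂ) x * conj ((χ : G → ℂ) x) := by
      rw [Finset.mul_sum]
      refine Finset.sum_congr rfl fun x _ => ?_
      ring
    rw [this]
    field_simp
  rw [homega χ, homega ψ, classInner_irr_self, classInner_irr_ne hne, mul_zero, sub_zero,
    irr_one χ, div_self hd0, mul_one] at hmem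
  exact Helper16.not_memLocalIdeal_one hmem

/-- The block of a character of `p`-defect zero is a singleton. -/
theorem blockOf_eq_singleton_of_defect_zero {p : ℕ} [hp : Fact p.Prime] {M : Ideal AlgInt}
    (hM : IsPModular p M) (χ : IrrCharacter G)
    (hdef : (charDegree (χ : G → ℂ)).factorization p = (Nat.card G).factorization p) :
    blockOf M (χ : G → ℂ) = {χ} := by
  classical
  have := Fintype.ofFinite G
  have hMp : M.IsPrime := Helper16.IsPModular.isPrime hM
  ext ψ
  simp only [blockOf, Set.mem_setOf_eq, Set.mem_singleton_iff]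
  constructor
  · intro h
    exact eq_of_sameBlock_of_defect_zero hM χ ψ hdef h
  · rintro rfl
    exact Helper16.sameBlock_refl _

end

end Cfsg.Agent.Helper79
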