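import Cfsg.Agent.Helper49.FeitZ2
import Cfsg.Agent.Helper80.FeitW5
import Cfsg.Agent.Helper9.FP3
import Cfsg.Agent.S0878
import Cfsg.Agent.S0884

set_option autoImplicit false

namespace Cfsg.Agent.Helper79.Feit

open Cfsg MulAction Cfsg.Agent.Helper75
open Cfsg.Agent.Helper15.Zass Cfsg.Agent.Helper60.Zassenhaus

/-- The Frobenius kernel of a point stabilizer contains the centralizers of its non-identity
elements. -/
theorem kernel_centralizer_le {G Ω : Type*} [Group G] [Finite G] [MulAction G Ω] [Fintype Ω]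
    (hZ : Cfsg.IsZassenhausGroup G Ω) (a : Ω) (H : Subgroup G) (hHa : H ≤ stabilizer G a)
    (hHcard : Nat.card H + 1 = Fintype.card Ω)
    (hHfix : ∀ u ∈ H, u ≠ 1 → ∀ c : Ω, u • c = c → c = a) :
    ∀ k ∈ H, k ≠ 1 → Subgroup.centralizer ({k} : Set G) ≤ H := by
  intro k hk hk1 x hx
  rw [Subgroup.mem_centralizer_singleton_iff] at hx
  have h3 := hZ.2.2.1
  have hka : k • a = a := hHa hk
  have hxa : x • a = a := by
    apply hHfix k hk hk1
    rw [← mul_smul, ← hx, mul_smul, hka]
  by_cases hx1 : x = 1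
  · rw [hx1]; exact H.one_mem
  apply mem_kernel_of_fix_only hZ a H hHa hHcard hHfix hxa
  intro c hc
  by_contra hca
  have hkc : x • (k • c) = k • c := by
    rw [← mul_smul, hx, mul_smul, hc]
  have hne1 : k • c ≠ c := fun h => hca (hHfix k hk hk1 c h)
  have hne2 : k • c ≠ a := by
    intro h
    apply hca
    have : k • c = k • a := by rw [h, hka]
    exact MulAction.injective k this
  exact hx1 (h3 x a c (k • c) (Ne.symm hca) (Ne.symm hne1) (Ne.symm hne2) hxa hc hkc)

theorem feitData_of_zassenhaus' {G Ω : Type*} [Group G] [Fintype G] [MulAction G Ω] [Fintype Ω]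
    (hZ : Cfsg.IsZassenhausGroup G Ω) {a b : Ω} (hab : a ≠ b) [IsSimpleGroup G] (h e : ℕ)
    (hh : Fintype.card Ω = h + 1)
    (he : Nat.card ↥(MulAction.stabilizer G a ⊓ MulAction.stabilizer G b : Subgroup G) = e)
    (hodd : Odd e) (hlt : 2 * e < h - 1)
    (H : Subgroup G) (hHa : H ≤ MulAction.stabilizer G a)
    (hHcard : Nat.card H + 1 = Fintype.card Ω)
    (hHfix : ∀ u ∈ H, u ≠ 1 → ∀ c : Ω, u • c = c → c = a)
    [Fintype ↥(Subgroup.normalizer (H : Set G))] : FeitData H e h := by
  classical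
  obtain ⟨hTI0, hnorm⟩ := Cfsg.Agent.S0878.result hZ a H hHa hHcard hHfix
  have h2 := hZ.2.1
  have gC := kernel_centralizer_le hZ a H hHa hHcard hHfix
  have gTI : ∀ g : G, g ∉ Subgroup.normalizer (H : Set G) → ∀ k ∈ H, g * k * g⁻¹ ∈ H → k = 1 := by
    intro g hg
    rw [hnorm] at hg
    exact hTI0 g hg
  have gh : Nat.card H = h := by omega
  have gidx : (Subgroup.normalizer (H : Set G)).index = h + 1 := by
    rw [hnorm]
    haveI := h2
    haveI : IsPretransitive G Ω := isPretransitive_of_is_two_pretransitive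
    rw [index_stabilizer_of_transitive G a, Nat.card_eq_fintype_card, hh]
  have ge : caE H = e := by
    unfold caE
    have hG := card_group_eq h2 hab
    rw [he, hh] at hG
    have h1 := Subgroup.index_mul_card (H.subgroupOf (Subgroup.normalizer (H : Set G)))
    have h2' : Nat.card (H.subgroupOf (Subgroup.normalizer (H : Set G))) = Nat.card H :=
      Nat.card_congr (Subgroup.subgroupOfEquivOfLe Subgroup.le_normalizer).toEquiv
    have h3 := Subgroup.index_mul_card (Subgroup.normalizer (H : Set G))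
    rw [gidx, hG] at h3
    rw [h2', gh] at h1
    have e1 : (h + 1) * (h + 1) - (h + 1) = (h + 1) * h := by
      rw [Nat.sub_eq_iff_eq_add (Nat.le_mul_self _)]; ring
    rw [e1] at h3
    have h4 : Nat.card ↥(Subgroup.normalizer (H : Set G)) = h * e := by
      apply Nat.eq_of_mul_eq_mul_left (show 0 < h + 1 by omega)
      rw [h3]; ring
    rw [h4] at h1
    have hhpos : 0 < h := by omega
    apply Nat.eq_of_mul_eq_mul_right hhpos
    rw [h1]; ring
  have ge1 : 1 < e := by
    obtain ⟨y, hy1, hya, hyb⟩ := exists_ne_one_fix hZ hab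
    rw [← he]
    rw [Nat.one_lt_iff_ne_zero_and_ne_one]
    refine ⟨Nat.card_pos.ne', ?_⟩
    intro h1
    rw [Nat.card_eq_one_iff_unique] at h1
    obtain ⟨hs, _⟩ := h1
    apply hy1
    have : (⟨y, ⟨hya, hyb⟩⟩ : ↥(stabilizer G a ⊓ stabilizer G b)) = 1 := Subsingleton.elim _ _
    exact congrArg Subtype.val this
  have gcls := Cfsg.Agent.S0884.result hZ hab h e hh he hodd hlt H hHa hHcard hHfix
  have gdeg : ∃ χ₁ ∈ tfS H, χ₁ 1 = (e : ℂ) := by
    have hH1 : H ≠ ⊥ := by
      intro hbot
      rw [hbot, Subgroup.card_bot] at gh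
      omega
    have hK'top : H.subgroupOf (Subgroup.normalizer (H : Set G)) ≠ ⊤ := by
      intro htop
      have : caE H = 1 := by
        unfold caE
        rw [htop, Subgroup.index_top]
      omega
    obtain ⟨hnil', -⟩ := Cfsg.Agent.Helper9.FP.fp_frob_type
      (H.subgroupOf (Subgroup.normalizer (H : Set G))) hK'top (tf_hC' gC)
    have hnil : Group.IsNilpotent H := by
      have E : H.subgroupOf (Subgroup.normalizer (H : Set G)) ≃* H :=
        Subgroup.subgroupOfEquivOfLe Subgroup.le_normalizer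
      exact (Group.nilpotent_of_mulEquiv E)
    obtain ⟨χ₁, hχ₁, hdeg⟩ := Cfsg.Agent.Helper80.FeitW.exists_tfS_degree_caE gC hH1 hnil
    exact ⟨χ₁, hχ₁, by rw [hdeg, ge]⟩
  exact Cfsg.Agent.Helper49.FeitZ2.feitData_of_group_fields hZ hab h e hh he hodd hlt H hHa hHcard
    hHfix gC gTI ge gh gidx ge1 gdeg gcls

end Cfsg.Agent.Helper79.Feit
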