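import Cfsg.Agent.Helper9.FP1

/-!
# Data for Feit's theorem on Zassenhaus groups (helper79)

`FeitData K e h` packages the situation of Feit's theorem (`2e ≥ h - 1`) in a simple Zassenhaus
group with odd two-point stabilizer: `K` is the Frobenius kernel of a point stabilizer
`N = N_G(K)`, `|K| = h`, `|N : K| = e` odd, `|G : N| = h + 1`, and we assume `2e < h - 1`.
The character-theoretic core (`Helper79/FeitCore*.lean`) shows that `FeitData K e h` is
incompatible with coherence of `tfS K`.
-/

set_option autoImplicit false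

namespace Cfsg.Agent.Helper79.Feit

open Cfsg Cfsg.Agent.Helper75
open scoped ComplexConjugate

universe u

/-- The hypotheses of the character-theoretic core of Feit's theorem. -/
structure FeitData {G : Type u} [Group G] [Fintype G] (K : Subgroup G)
    [Fintype ↥(Subgroup.normalizer (K : Set G))] (e h : ℕ) : Prop where
  /-- `K` contains the centralizers of its non-identity elements. -/
  hC : ∀ k ∈ K, k ≠ 1 → Subgroup.centralizer ({k} : Set G) ≤ K
  /-- `K` is a T.I. subgroup. -/
  hTI : ∀ g : G, g ∉ Subgroup.normalizer (K : Set G) → ∀ k ∈ K, g * k * g⁻¹ ∈ K → k = 1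
  he : caE K = e
  hh : Nat.card K = h
  hidx : (Subgroup.normalizer (K : Set G)).index = h + 1
  hodd : Odd e
  he1 : 1 < e
  hlt : 2 * e < h - 1
  /-- a relevant character of degree `e` (induced from a linear character of `K`) -/
  hdeg : ∃ χ₁ ∈ tfS K, χ₁ 1 = (e : ℂ)
  /-- `N / K` is abelian: irreducible characters of `N` trivial on `K` are linear -/
  hlin : ∀ μ : ↥(Subgroup.normalizer (K : Set G)) → ℂ,
    IsIrrCharacter ↥(Subgroup.normalizer (K : Set G)) μ →
    (∀ u : ↥(Subgroup.normalizer (K : Set G)), (u : G) ∈ K → μ u = μ 1) → μ 1 = 1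
  /-- the principal series: non-principal characters of `N / K` induce irreducibly, with value
  `1` on `K \ {1}` -/
  hps : ∀ μ : ↥(Subgroup.normalizer (K : Set G)) → ℂ,
    IsIrrCharacter ↥(Subgroup.normalizer (K : Set G)) μ →
    (∀ u : ↥(Subgroup.normalizer (K : Set G)), (u : G) ∈ K → μ u = μ 1) →
    μ ≠ (fun _ => 1) →
    IsIrrCharacter G (indFun (Subgroup.normalizer (K : Set G)) μ) ∧
      ∀ u ∈ K, u ≠ 1 → indFun (Subgroup.normalizer (K : Set G)) μ u = 1
  /-- the fibres of `μ ↦ ind μ` on the characters of `N / K` have at most two elements -/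
  hpsd : ∀ μ ν : ↥(Subgroup.normalizer (K : Set G)) → ℂ,
    IsIrrCharacter ↥(Subgroup.normalizer (K : Set G)) μ →
    (∀ u : ↥(Subgroup.normalizer (K : Set G)), (u : G) ∈ K → μ u = μ 1) →
    IsIrrCharacter ↥(Subgroup.normalizer (K : Set G)) ν →
    (∀ u : ↥(Subgroup.normalizer (K : Set G)), (u : G) ∈ K → ν u = ν 1) →
    indFun (Subgroup.normalizer (K : Set G)) μ = indFun (Subgroup.normalizer (K : Set G)) ν →
    ν = μ ∨ ν = fun x => conj (μ x)
  /-- double transitivity: `1_N^G = 1 + ψ₀` with `ψ₀` irreducible, vanishing on `K \ {1}` -/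
  h2t : ∃ ψ₀ : G → ℂ, IsIrrCharacter G ψ₀ ∧
    indFun (Subgroup.normalizer (K : Set G)) (fun _ => (1 : ℂ)) = (fun _ => (1 : ℂ)) + ψ₀ ∧
    ∀ u ∈ K, u ≠ 1 → ψ₀ u = 0
  /-- at least `e` conjugacy classes of `G` miss `K` -/
  hcls : e ≤ Nat.card {C : ConjClasses G // ∀ g : G, ConjClasses.mk g = C → g ∉ K}

end Cfsg.Agent.Helper79.Feit
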