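import Mathlib
import Cfsg.Agent.Helper21.THDefs2
import Cfsg.Agent.Helper21.THMin

/-!
# Pieces (N2a) and (N2c) of WANTED #5542 (helper21, S3797): hyperplanes of `X` over `D`
-/

set_option autoImplicit false
set_option linter.unusedSectionVars false

namespace Cfsg.Agent.Helper79.TH

open Subgroup Cfsg Cfsg.Agent.Helper21.TH
open scoped commutatorElement

universe u

variable {G : Type u} [Group G] [Finite G]

theorem mem_normalizer_of_forall {K : Subgroup G} {x : G} (h1 : ∀ k ∈ K, x * k * x⁻¹ ∈ K)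
    (h2 : ∀ k ∈ K, x⁻¹ * k * x ∈ K) : x ∈ normalizer (K : Set G) := by
  rw [mem_normalizer_iff]
  intro k
  refine ⟨h1 k, fun hk => ?_⟩
  have := h2 _ hk
  have e : x⁻¹ * (x * k * x⁻¹) * x = k := by group
  rwa [e] at this

theorem conj_mem_of_mem_normalizer {K : Subgroup G} {x : G} (hx : x ∈ normalizer (K : Set G))
    {k : G} (hk : k ∈ K) : x * k * x⁻¹ ∈ K := (mem_normalizer_iff.1 hx k).1 hk

theorem conj_inv_mem_of_mem_normalizer {K : Subgroup G} {x : G}
    (hx : x ∈ normalizer (K : Set G)) {k : G} (hk : k ∈ K) : x⁻¹ * k * x ∈ K := by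
  have := conj_mem_of_mem_normalizer (inv_mem hx) hk
  simpa using this

theorem mem_cj {g : G} {H : Subgroup G} {y : G} : y ∈ cj g H ↔ ∃ k ∈ H, g * k * g⁻¹ = y := by
  unfold cj
  rw [Subgroup.mem_map]
  rfl

theorem cj_mono {g : G} {H K : Subgroup G} (h : H ≤ K) : cj g H ≤ cj g K := Subgroup.map_mono h

theorem cj_le_of_forall {g : G} {H K : Subgroup G} (h : ∀ k ∈ H, g * k * g⁻¹ ∈ K) : cj g H ≤ K := by
  intro y hy
  obtain ⟨k, hk, rfl⟩ := mem_cj.1 hy
  exact h k hk

theorem cj_eq_of_mem_normalizer {g : G} {K : Subgroup G} (hg : g ∈ normalizer (K : Set G)) :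
    cj g K = K := by
  apply le_antisymm
  · exact cj_le_of_forall (fun k hk => conj_mem_of_mem_normalizer hg hk)
  · intro y hy
    refine mem_cj.2 ⟨g⁻¹ * y * g, conj_inv_mem_of_mem_normalizer hg hy, by group⟩

theorem cj_one (H : Subgroup G) : cj (1 : G) H = H := by
  apply le_antisymm
  · exact cj_le_of_forall (fun k hk => by simpa using hk)
  · intro y hy
    exact mem_cj.2 ⟨y, hy, by group⟩

theorem conj_injective (g : G) : Function.Injective ((MulAut.conj g).toMonoidHom : G →* G) :=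
  (MulAut.conj g).injective

/-- (N2a) -/
theorem isHyp_le_normalizer {X D U R H : Subgroup G} (h : MCfg X D U R) (hH : IsHyp X D H) :
    X ≤ normalizer (H : Set G) := by
  intro x hx
  apply mem_normalizer_of_forall
  · intro k hk
    have h1 : ⁅x, k⁆ ∈ D := h.comm_mem hx (hH.2.1 hk)
    have e : x * k * x⁻¹ = ⁅x, k⁆ * k := by rw [commutatorElement_def]; group
    rw [e]
    exact mul_mem (hH.1 h1) hk
  · intro k hk
    have h1 : ⁅x⁻¹, k⁆ ∈ D := h.comm_mem (inv_mem hx) (hH.2.1 hk)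
    have e : x⁻¹ * k * x = ⁅x⁻¹, k⁆ * k := by rw [commutatorElement_def]; group
    rw [e]
    exact mul_mem (hH.1 h1) hk

/-- in a hyperplane situation, an element of `X` lies in `H` or differs from a fixed `x ∉ H` by an
element of `H`. -/
theorem isHyp_mem_or {X D H : Subgroup G} (hH : IsHyp X D H) {x : G} (hx : x ∈ X) (hxH : x ∉ H)
    {b : G} (hb : b ∈ X) : b ∈ H ∨ b * x⁻¹ ∈ H := by
  by_cases hbH : b ∈ H
  · exact Or.inl hbH
  · right
    have hidx : (H.subgroupOf X).index = 2 := hH.2.2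
    have key := Subgroup.mul_mem_iff_of_index_two hidx (a := (⟨b, hb⟩ : X))
      (b := (⟨x⁻¹, inv_mem hx⟩ : X))
    have h1 : ¬ ((⟨b, hb⟩ : X) ∈ H.subgroupOf X) := fun h => hbH (mem_subgroupOf.1 h)
    have h2 : ¬ ((⟨x⁻¹, inv_mem hx⟩ : X) ∈ H.subgroupOf X) := fun h =>
      hxH (by simpa using inv_mem (mem_subgroupOf.1 h))
    have h3 : (⟨b, hb⟩ : X) * ⟨x⁻¹, inv_mem hx⟩ ∈ H.subgroupOf X :=
      key.2 ⟨fun h => absurd h h1, fun h => absurd h h2⟩
    exact mem_subgroupOf.1 h3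

/-- (N2a) -/
theorem isHyp_cent_le {X D H : Subgroup G} (hH : IsHyp X D H) {x : G} (hx : x ∈ X) (hxH : x ∉ H) :
    centralizer (H : Set G) ⊓ centralizer {x} ≤ centralizer (X : Set G) := by
  intro g hg
  obtain ⟨hgH, hgx⟩ := mem_inf.1 hg
  rw [mem_centralizer_iff] at hgH
  rw [mem_centralizer_singleton_iff] at hgx
  rw [mem_centralizer_iff]
  intro b hb
  rcases isHyp_mem_or hH hx hxH hb with h1 | h1
  · exact hgH b h1
  · have h2 := hgH _ h1
    calc b * g = (b * x⁻¹) * (x * g) := by group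
      _ = (b * x⁻¹) * (g * x) := by rw [hgx]
      _ = ((b * x⁻¹) * g) * x := by group
      _ = (g * (b * x⁻¹)) * x := by rw [h2]
      _ = g * b := by group

/-- (N2a) -/
theorem isHyp_exists_mem_not_mem {X D H H' : Subgroup G} (hH : IsHyp X D H) (hH' : IsHyp X D H')
    (hne : H ≠ H') : ∃ x ∈ H, x ∉ H' := by
  by_contra hcon
  push Not at hcon
  have hle : H ≤ H' := fun x hx => hcon x hx
  have h1 := Subgroup.relIndex_mul_relIndex H H' X hle hH'.2.1
  rw [hH.2.2, hH'.2.2] at h1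
  have h2 : H.relIndex H' = 1 := by omega
  have h3 : H' ≤ H := Subgroup.relIndex_eq_one.1 h2
  exact hne (le_antisymm hle h3)

/-- (N2a) -/
theorem isHyp_cj {X D U R H : Subgroup G} (h : MCfg X D U R) (hH : IsHyp X D H) {r : G}
    (hr : r ∈ R) : IsHyp X D (cj r H) := by
  have hD : cj r D = D := cj_eq_of_mem_normalizer (h.R_norm_D hr)
  have hX : cj r X = X := cj_eq_of_mem_normalizer (h.hRX hr)
  refine ⟨?_, ?_, ?_⟩
  · rw [← hD]; exact cj_mono hH.1
  · rw [← hX]; exact cj_mono hH.2.1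
  · have := Subgroup.relIndex_map_map_of_injective H X (conj_injective r)
    have h2 : (cj r H).relIndex (cj r X) = H.relIndex X := this
    rw [hX] at h2
    rw [h2]; exact hH.2.2

end Cfsg.Agent.Helper79.TH
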