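import Mathlib
import Cfsg.Agent.Helper79.THN2a

/-!
# Piece (N2c) of WANTED #5542 (helper21, S3797): the `R`-orbit of a hyperplane
-/

set_option autoImplicit false
set_option linter.unusedSectionVars false

namespace Cfsg.Agent.Helper79.TH

open Subgroup Cfsg Cfsg.Agent.Helper21.TH
open scoped commutatorElement

universe u

variable {G : Type u} [Group G] [Finite G]

theorem cj_cj (r s : G) (H : Subgroup G) : cj r (cj s H) = cj (r * s) H := by
  ext y
  constructor
  · intro hy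
    obtain ⟨k, hk, rfl⟩ := mem_cj.1 hy
    obtain ⟨l, hl, rfl⟩ := mem_cj.1 hk
    exact mem_cj.2 ⟨l, hl, by group⟩
  · intro hy
    obtain ⟨l, hl, rfl⟩ := mem_cj.1 hy
    exact mem_cj.2 ⟨s * l * s⁻¹, mem_cj.2 ⟨l, hl, rfl⟩, by group⟩

/-- conjugation carries `U ⊓ C(H)` into `U ⊓ C(g H g⁻¹)` when `g` normalizes `U`. -/
theorem conj_mem_inf_centralizer_cj {U H : Subgroup G} {g : G}
    (hg : g ∈ normalizer (U : Set G)) {k : G} (hk : k ∈ U ⊓ centralizer (H : Set G)) :
    g * k * g⁻¹ ∈ U ⊓ centralizer ((cj g H : Subgroup G) : Set G) := by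
  obtain ⟨hkU, hkC⟩ := mem_inf.1 hk
  refine mem_inf.2 ⟨conj_mem_of_mem_normalizer hg hkU, ?_⟩
  rw [mem_centralizer_iff] at hkC ⊢
  intro y hy
  obtain ⟨l, hl, rfl⟩ := mem_cj.1 hy
  have h1 := hkC l hl
  calc g * l * g⁻¹ * (g * k * g⁻¹) = g * (l * k) * g⁻¹ := by group
    _ = g * (k * l) * g⁻¹ := by rw [h1]
    _ = g * k * g⁻¹ * (g * l * g⁻¹) := by group

/-- a supremum of subgroups is normalized by `g` if conjugation by `g` and `g⁻¹` permutes the
family up to inclusion. -/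
theorem mem_normalizer_iSup {ι : Type*} (A : ι → Subgroup G) (g : G)
    (h1 : ∀ i, ∃ j, ∀ k ∈ A i, g * k * g⁻¹ ∈ A j)
    (h2 : ∀ i, ∃ j, ∀ k ∈ A i, g⁻¹ * k * g ∈ A j) :
    g ∈ normalizer ((⨆ i, A i : Subgroup G) : Set G) := by
  have key : ∀ (x : G), (∀ i, ∃ j, ∀ k ∈ A i, x * k * x⁻¹ ∈ A j) →
      ∀ k ∈ (⨆ i, A i : Subgroup G), x * k * x⁻¹ ∈ (⨆ i, A i : Subgroup G) := by
    intro x hx k hk
    have hle : (⨆ i, A i : Subgroup G) ≤ (⨆ i, A i : Subgroup G).comap (MulAut.conj x).toMonoidHom := by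
      apply iSup_le
      intro i l hl
      obtain ⟨j, hj⟩ := hx i
      rw [Subgroup.mem_comap]
      exact (le_iSup A j) (by simpa using hj l hl)
    have := hle hk
    simpa using this
  apply mem_normalizer_of_forall
  · exact key g h1
  · have := key g⁻¹ (by simpa using h2)
    simpa using this

/-- (N2c) -/
theorem mcfg_iSup_orbit {X D U R H₀ : Subgroup G} (h : MCfg X D U R) (hH : IsHyp X D H₀)
    (hn : ¬ U ⊓ centralizer (H₀ : Set G) ≤ centralizer (X : Set G)) :
    U = ⨆ H : Orb R H₀, U ⊓ centralizer ((H : Subgroup G) : Set G) := by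
  set Us : Subgroup G := ⨆ H : Orb R H₀, U ⊓ centralizer ((H : Subgroup G) : Set G) with hUs
  have hle : Us ≤ U := iSup_le (fun _ => inf_le_left)
  by_contra hne
  have hlt : Us < U := lt_of_le_of_ne hle (fun h' => hne h'.symm)
  -- every member of the orbit is a hyperplane
  have hhyp : ∀ H : Orb R H₀, IsHyp X D (H : Subgroup G) := by
    rintro ⟨H, r, hr, rfl⟩
    exact isHyp_cj h hH hr
  -- `R` normalizes `Us`
  have hR : R ≤ normalizer (Us : Set G) := by
    intro r hr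
    apply mem_normalizer_iSup
    · rintro ⟨H, s, hs, rfl⟩
      refine ⟨⟨cj r (cj s H₀), r * s, mul_mem hr hs, cj_cj r s H₀⟩, ?_⟩
      · intro k hk
        exact conj_mem_inf_centralizer_cj (h.hRU hr) hk
    · rintro ⟨H, s, hs, rfl⟩
      refine ⟨⟨cj r⁻¹ (cj s H₀), r⁻¹ * s, mul_mem (inv_mem hr) hs, cj_cj r⁻¹ s H₀⟩, ?_⟩
      · intro k hk
        have := conj_mem_inf_centralizer_cj (H := cj s H₀) (h.hRU (inv_mem hr)) hk
        simpa using this
  -- `X` normalizes `Us`
  have hX : X ≤ normalizer (Us : Set G) := by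
    intro x hx
    have hxH : ∀ H : Orb R H₀, cj x (H : Subgroup G) = (H : Subgroup G) := fun H =>
      cj_eq_of_mem_normalizer (isHyp_le_normalizer h (hhyp H) hx)
    have hxH' : ∀ H : Orb R H₀, cj x⁻¹ (H : Subgroup G) = (H : Subgroup G) := fun H =>
      cj_eq_of_mem_normalizer (isHyp_le_normalizer h (hhyp H) (inv_mem hx))
    apply mem_normalizer_iSup
    · intro H
      refine ⟨H, fun k hk => ?_⟩
      have := conj_mem_inf_centralizer_cj (H := (H : Subgroup G)) (h.hXU hx) hk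
      rwa [hxH H] at this
    · intro H
      refine ⟨H, fun k hk => ?_⟩
      have := conj_mem_inf_centralizer_cj (H := (H : Subgroup G)) (h.hXU (inv_mem hx)) hk
      rw [hxH' H] at this
      simpa using this
  have hcent : X ≤ centralizer (Us : Set G) := h.hUmin Us hlt hX hR
  apply hn
  have h0 : U ⊓ centralizer (H₀ : Set G) ≤ Us := by
    have := le_iSup (fun H : Orb R H₀ => U ⊓ centralizer ((H : Subgroup G) : Set G))
      ⟨H₀, 1, one_mem R, (cj_one H₀).symm⟩
    exact this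
  exact h0.trans (Subgroup.le_centralizer_iff.1 hcent)

/-- (N2c) -/
theorem mcfg_orbit_ne {X D U R H₀ : Subgroup G} (h : MCfg X D U R) (hH : IsHyp X D H₀) :
    ∃ i j : Orb R H₀, i ≠ j := by
  by_contra hcon
  push Not at hcon
  have hfix : ∀ r ∈ R, cj r H₀ = H₀ := by
    intro r hr
    have := hcon ⟨cj r H₀, r, hr, rfl⟩ ⟨H₀, 1, one_mem R, (cj_one H₀).symm⟩
    exact congrArg Subtype.val this
  have hR : R ≤ normalizer (H₀ : Set G) := by
    intro r hr
    apply mem_normalizer_of_forall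
    · intro k hk
      have : r * k * r⁻¹ ∈ cj r H₀ := mem_cj.2 ⟨k, hk, rfl⟩
      rwa [hfix r hr] at this
    · intro k hk
      have : r⁻¹ * k * r⁻¹⁻¹ ∈ cj r⁻¹ H₀ := mem_cj.2 ⟨k, hk, rfl⟩
      rw [hfix r⁻¹ (inv_mem hr)] at this
      simpa using this
  have hne : H₀ ≠ X := by
    intro h'
    have := hH.2.2
    rw [h', Subgroup.relIndex_self] at this
    omega
  have hlt : H₀ < X := lt_of_le_of_ne hH.2.1 hne
  have hle : H₀ ≤ D := h.hXmin H₀ hlt hR
  have heq : D = H₀ := le_antisymm hH.1 hle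
  have hidx := h.hidx
  rw [heq, hH.2.2] at hidx
  omega

end Cfsg.Agent.Helper79.TH
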