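import Mathlib
import Cfsg.Agent.Helper52.PQDefs
import Cfsg.Agent.Helper31.WardW34

/-!
# Piece (FV) of WANTED #5134 (helper52, S4306): `fixV_of_normal`

A nontrivial `⟨σ,τ⟩`-, `Q`-, `R`-invariant subgroup `T` of `Q` has no fixed points on `V`.
-/

set_option autoImplicit false
set_option linter.unusedSectionVars false

namespace Cfsg.Agent.Helper79.PQ

open Subgroup Cfsg.Agent.Helper1.Shult Cfsg.Agent.Helper52.PQ
open scoped commutatorElement

variable {H : Type*} [Group H]

theorem mem_normalizer_of_forall {K : Subgroup H} {x : H} (h1 : ∀ k ∈ K, x * k * x⁻¹ ∈ K)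
    (h2 : ∀ k ∈ K, x⁻¹ * k * x ∈ K) : x ∈ normalizer (K : Set H) := by
  rw [mem_normalizer_iff]
  intro k
  refine ⟨h1 k, fun hk => ?_⟩
  have := h2 _ hk
  have e : x⁻¹ * (x * k * x⁻¹) * x = k := by group
  rwa [e] at this

theorem conj_mem_of_mem_normalizer {K : Subgroup H} {x : H} (hx : x ∈ normalizer (K : Set H))
    {k : H} (hk : k ∈ K) : x * k * x⁻¹ ∈ K := (mem_normalizer_iff.1 hx k).1 hk

theorem conj_inv_mem_of_mem_normalizer {K : Subgroup H} {x : H}
    (hx : x ∈ normalizer (K : Set H)) {k : H} (hk : k ∈ K) : x⁻¹ * k * x ∈ K := by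
  have := conj_mem_of_mem_normalizer (inv_mem hx) hk
  simpa using this

theorem conj_mem_commutator {A B : Subgroup H} {x : H} (hA : ∀ a ∈ A, x * a * x⁻¹ ∈ A)
    (hB : ∀ b ∈ B, x * b * x⁻¹ ∈ B) : ∀ k ∈ ⁅A, B⁆, x * k * x⁻¹ ∈ ⁅A, B⁆ := by
  have hle : ⁅A, B⁆ ≤ (⁅A, B⁆ : Subgroup H).comap (MulAut.conj x).toMonoidHom := by
    rw [Subgroup.commutator_le]
    intro a ha b hb
    rw [Subgroup.mem_comap, map_commutatorElement]
    exact Subgroup.commutator_mem_commutator (by simpa using hA a ha) (by simpa using hB b hb)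
  intro k hk
  have := hle hk
  simpa using this

theorem mem_normalizer_commutator_of {A B : Subgroup H} {x : H}
    (hA : x ∈ normalizer (A : Set H)) (hB : x ∈ normalizer (B : Set H)) :
    x ∈ normalizer ((⁅A, B⁆ : Subgroup H) : Set H) := by
  apply mem_normalizer_of_forall
  · exact conj_mem_commutator (fun a ha => conj_mem_of_mem_normalizer hA ha)
      (fun b hb => conj_mem_of_mem_normalizer hB hb)
  · have := conj_mem_commutator (x := x⁻¹) (A := A) (B := B)
      (fun a ha => by simpa using conj_inv_mem_of_mem_normalizer hA ha)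
      (fun b hb => by simpa using conj_inv_mem_of_mem_normalizer hB hb)
    simpa using this

theorem conj_mem_centralizer {B : Subgroup H} {x : H} (hB : ∀ b ∈ B, x⁻¹ * b * x ∈ B) :
    ∀ k ∈ centralizer (B : Set H), x * k * x⁻¹ ∈ centralizer (B : Set H) := by
  intro k hk
  rw [mem_centralizer_iff] at hk ⊢
  intro b hb
  have h1 := hk _ (hB b hb)
  calc b * (x * k * x⁻¹) = x * ((x⁻¹ * b * x) * k) * x⁻¹ := by group
    _ = x * (k * (x⁻¹ * b * x)) * x⁻¹ := by rw [h1]
    _ = x * k * x⁻¹ * b := by group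

theorem mem_normalizer_inf_centralizer_of {A B : Subgroup H} {x : H}
    (hA : x ∈ normalizer (A : Set H)) (hB : x ∈ normalizer (B : Set H)) :
    x ∈ normalizer ((A ⊓ centralizer (B : Set H) : Subgroup H) : Set H) := by
  apply mem_normalizer_of_forall
  · intro k hk
    exact mem_inf.2 ⟨conj_mem_of_mem_normalizer hA (mem_inf.1 hk).1,
      conj_mem_centralizer (fun b hb => conj_inv_mem_of_mem_normalizer hB hb) k (mem_inf.1 hk).2⟩
  · intro k hk
    refine mem_inf.2 ⟨conj_inv_mem_of_mem_normalizer hA (mem_inf.1 hk).1, ?_⟩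
    have := conj_mem_centralizer (x := x⁻¹) (B := B)
      (fun b hb => by simpa using conj_mem_of_mem_normalizer hB hb) k (mem_inf.1 hk).2
    simpa using this

/-- an abelian group of exponent dividing the prime `ℓ` has prime power order. -/
theorem IsEA.card_eq_pow [Finite H] {ℓ : ℕ} [hℓ : Fact ℓ.Prime] {V : Subgroup H} (hV : IsEA ℓ V) :
    ∃ n : ℕ, Nat.card V = ℓ ^ n := by
  have hp : IsPGroup ℓ V := by
    intro g
    refine ⟨1, ?_⟩
    apply Subtype.ext
    rw [pow_one, Subgroup.coe_pow, Subgroup.coe_one]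
    exact hV.2 g g.2
  exact (IsPGroup.iff_card).1 hp

variable [Finite H] {s t ℓ w u : ℕ} [Fact ℓ.Prime] [Fact w.Prime] [Fact u.Prime] {σ τ : H}
  {V Q R : Subgroup H}

/-- (FV) a nontrivial normal invariant subgroup of `Q` has no fixed points on `V`. -/
theorem fixV_of_normal (c : CoreCfg s t ℓ w u σ τ V Q R) (T : Subgroup H) (hTQ : T ≤ Q)
    (hT1 : T ≠ ⊥) (hTinv : Inv σ τ T) (hQT : Q ≤ normalizer (T : Set H))
    (hRT : R ≤ normalizer (T : Set H)) : V ⊓ centralizer (T : Set H) = ⊥ := by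
  have hℓ : ℓ.Prime := Fact.out
  have hw : w.Prime := Fact.out
  have hcop : (Nat.card V).Coprime (Nat.card Q) := by
    obtain ⟨n, hn⟩ := IsEA.card_eq_pow c.hV
    obtain ⟨m, hm⟩ := (IsPGroup.iff_card).1 c.hQ
    rw [hn, hm]
    exact Nat.Coprime.pow _ _ ((Nat.coprime_primes hℓ hw).2 (Ne.symm c.hwℓ))
  obtain ⟨-, hsplit2⟩ := Cfsg.Agent.Helper31.Ward.abelian_coprime_split V Q c.hV.1 c.hQV hcop
  have hVQle : ⁅V, Q⁆ ≤ V := by
    rw [Subgroup.commutator_le]
    intro v hv q hq
    have h1 : q * v⁻¹ * q⁻¹ ∈ V := conj_mem_of_mem_normalizer (c.hQV hq) (inv_mem hv)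
    have e : ⁅v, q⁆ = v * (q * v⁻¹ * q⁻¹) := by rw [commutatorElement_def]; group
    rw [e]
    exact mul_mem hv h1
  have hQQ : Q ≤ normalizer (Q : Set H) := le_normalizer
  have hVQ : ⁅V, Q⁆ = V := by
    by_contra hne
    have hcent : Q ≤ centralizer ((⁅V, Q⁆ : Subgroup H) : Set H) :=
      c.hminV ⁅V, Q⁆ hVQle hne
        ⟨mem_normalizer_commutator_of c.hVinv.1 c.hQinv.1,
          mem_normalizer_commutator_of c.hVinv.2 c.hQinv.2⟩
        (fun q hq => mem_normalizer_commutator_of (c.hQV hq) (hQQ hq))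
        (fun x hx => mem_normalizer_commutator_of (c.hRV hx) (c.hRQ hx))
    have hbot : ⁅V, Q⁆ = ⊥ := by
      rw [eq_bot_iff, ← hsplit2]
      intro x hx
      refine mem_inf.2 ⟨mem_inf.2 ⟨hVQle hx, ?_⟩, hx⟩
      exact (Subgroup.le_centralizer_iff.1 hcent) hx
    have hVcQ : V ≤ centralizer (Q : Set H) :=
      (Subgroup.commutator_eq_bot_iff_le_centralizer).1 hbot
    have hQcV : Q ≤ centralizer (V : Set H) := Subgroup.le_centralizer_iff.1 hVcQ
    have : Q = ⊥ := by
      rw [eq_bot_iff, ← c.hfaith]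
      exact le_inf le_rfl hQcV
    exact c.hQne this
  have hCVQ : V ⊓ centralizer (Q : Set H) = ⊥ := by
    rw [hVQ] at hsplit2
    rw [eq_bot_iff, ← hsplit2]
    exact le_inf le_rfl inf_le_left
  have hV2ne : V ⊓ centralizer (T : Set H) ≠ V := by
    intro h
    have hVT : V ≤ centralizer (T : Set H) := by
      rw [← h]; exact inf_le_right
    have hTV : T ≤ centralizer (V : Set H) := Subgroup.le_centralizer_iff.1 hVT
    have : T = ⊥ := by
      rw [eq_bot_iff, ← c.hfaith]
      exact le_inf hTQ hTV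
    exact hT1 this
  have hQV2 : Q ≤ centralizer ((V ⊓ centralizer (T : Set H) : Subgroup H) : Set H) :=
    c.hminV (V ⊓ centralizer (T : Set H)) inf_le_left hV2ne
      ⟨mem_normalizer_inf_centralizer_of c.hVinv.1 hTinv.1,
        mem_normalizer_inf_centralizer_of c.hVinv.2 hTinv.2⟩
      (fun q hq => mem_normalizer_inf_centralizer_of (c.hQV hq) (hQT hq))
      (fun x hx => mem_normalizer_inf_centralizer_of (c.hRV hx) (hRT hx))
  rw [eq_bot_iff, ← hCVQ]
  exact le_inf inf_le_left (Subgroup.le_centralizer_iff.1 hQV2)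

end Cfsg.Agent.Helper79.PQ
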