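import Cfsg.Agent.Helper79.BRTT
import Cfsg.Agent.Helper80.CharLevel

set_option autoImplicit false
set_option linter.style.haveILetI false
set_option linter.unusedSectionVars false
set_option linter.unusedVariables false

/-!
Piece (V) of helper25's Brauer-Reynolds plan (S0999 / S4701): a character of degree `p - 1` with value `-1` on
`(P \ 1) C_G(P)_{p'}` in a simple group forces `C_G(P) = P`.
-/

namespace Cfsg.Agent.Helper79.BR

open Cfsg Cfsg.Agent.Helper74
open scoped ComplexConjugate

universe u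

variable {G : Type u} [Group G] [Fintype G]

/-- If the restriction of a character to a subgroup `H` does not contain the principal character, then the sums of the
character over the cosets `H y` vanish. -/
theorem finsum_character_mul_eq_zero {n : ℕ} (ρ : Representation ℂ G (Fin n → ℂ)) (H : Subgroup G)
    (hsum : ∑ᶠ x : H, ρ.character (x : G) = 0) (y : G) :
    ∑ᶠ x : H, ρ.character ((x : G) * y) = 0 := by
  classical
  haveI : Fintype ↥H := Fintype.ofFinite _
  rw [finsum_eq_sum_of_fintype] at hsum ⊢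
  set E : Module.End ℂ (Fin n → ℂ) := ∑ x : H, ρ (x : G) with hE
  have hmul : ∀ x' : H, ρ (x' : G) * E = E := by
    intro x'
    rw [hE, Finset.mul_sum]
    have : ∀ x : H, ρ (x' : G) * ρ (x : G) = ρ ((x' * x : H) : G) := by
      intro x
      rw [Subgroup.coe_mul, map_mul]
    simp_rw [this]
    exact Fintype.sum_equiv (Equiv.mulLeft x') _ _ (fun x => rfl)
  have hEE : E * E = (Fintype.card H : ℂ) • E := by
    have h1 : E * E = ∑ x : H, ρ (x : G) * E := by
      rw [← Finset.sum_mul]
    rw [h1, Finset.sum_congr rfl (fun x _ => hmul x), Finset.sum_const, Finset.card_univ,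
      ← Nat.cast_smul_eq_nsmul ℂ]
  have hc : (Fintype.card H : ℂ) ≠ 0 := by
    exact_mod_cast Fintype.card_ne_zero
  set e : Module.End ℂ (Fin n → ℂ) := (Fintype.card H : ℂ)⁻¹ • E with he
  have hidem : IsIdempotentElem e := by
    show e * e = e
    rw [he, smul_mul_smul_comm, hEE, smul_smul, mul_assoc, inv_mul_cancel₀ hc, mul_one]
  have htrE : LinearMap.trace ℂ (Fin n → ℂ) E = 0 := by
    rw [hE, map_sum]
    exact hsum
  have htr : LinearMap.trace ℂ (Fin n → ℂ) e = 0 := by
    rw [he, map_smul, htrE, smul_zero]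
  have he0 : e = 0 := LinearMap.IsIdempotentElem.eq_zero_of_trace_eq_zero hidem htr
  have hE0 : E = 0 := by
    have := congrArg (fun z => (Fintype.card H : ℂ) • z) he0
    simp only [he, smul_smul, mul_inv_cancel₀ hc, one_smul, smul_zero] at this
    exact this
  have : ∑ x : H, ρ.character ((x : G) * y) = LinearMap.trace ℂ (Fin n → ℂ) (E * ρ y) := by
    rw [hE, Finset.sum_mul, map_sum]
    refine Finset.sum_congr rfl (fun x _ => ?_)
    show LinearMap.trace ℂ _ (ρ ((x : G) * y)) = _
    rw [map_mul]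
  rw [this, hE0, zero_mul, map_zero]

theorem cent_eq_of_char [IsSimpleGroup G] {p : ℕ}
    [Fact p.Prime] (P : Sylow p G) (hP : Nat.card P = p) (χ : IrrCharacter G)
    (hdeg : (χ : G → ℂ) 1 = ((p - 1 : ℕ) : ℂ))
    (hval : ∀ x : G, x ∈ (P : Subgroup G) → x ≠ 1 → ∀ y : G,
      y ∈ Subgroup.centralizer ((P : Subgroup G) : Set G) → ¬ p ∣ orderOf y →
      (χ : G → ℂ) (x * y) = -1) :
    Subgroup.centralizer ((P : Subgroup G) : Set G) = (P : Subgroup G) := by
  classical
  have hp : p.Prime := Fact.out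
  have hχc : IsCharacter G (χ : G → ℂ) := irr_isCharacter χ
  have hpc : ((p - 1 : ℕ) : ℂ) = (p : ℂ) - 1 := Nat.cast_pred hp.pos
  have hreg1 : ¬ p ∣ orderOf (1 : G) := by
    rw [orderOf_one]
    exact hp.one_lt.ne' ∘ Nat.dvd_one.mp
  have hone_mem : (1 : G) ∈ Subgroup.centralizer ((P : Subgroup G) : Set G) := Subgroup.one_mem _
  -- values on `P \ 1`
  have hvalP : ∀ x : G, x ∈ (P : Subgroup G) → x ≠ 1 → (χ : G → ℂ) x = -1 := by
    intro x hx hx1
    have := hval x hx hx1 1 hone_mem hreg1
    rwa [mul_one] at this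
  -- the sum over `P` vanishes
  have hsum0 : ∑ᶠ x : (P : Subgroup G), (χ : G → ℂ) (x : G) = 0 := by
    rw [finsum_sylow_of_const P hP (χ : G → ℂ) (-1) hvalP, hdeg, hpc]
    ring
  -- `p`-regular elements of the centralizer lie in the kernel
  have hker : ∀ y : G, y ∈ Subgroup.centralizer ((P : Subgroup G) : Set G) → ¬ p ∣ orderOf y →
      (χ : G → ℂ) y = (χ : G → ℂ) 1 := by
    intro y hy hyreg
    obtain ⟨n, ρ, hρ⟩ := hχc
    have h0 := finsum_character_mul_eq_zero ρ (P : Subgroup G) (by rw [hρ]; exact hsum0) y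
    rw [hρ] at h0
    rw [finsum_sylow_of_const P hP (fun x => (χ : G → ℂ) (x * y)) (-1)
      (fun x hx hx1 => hval x hx hx1 y hy hyreg)] at h0
    rw [one_mul] at h0
    rw [hdeg, hpc]
    linear_combination h0
  -- the kernel is trivial
  have hPnt : ∃ x : G, x ∈ (P : Subgroup G) ∧ x ≠ 1 := by
    haveI : Nontrivial ↥(P : Subgroup G) := by
      rw [← Finite.one_lt_card_iff_nontrivial, hP]
      exact hp.one_lt
    obtain ⟨x, hx⟩ := exists_ne (1 : ↥(P : Subgroup G))
    exact ⟨x, x.2, fun h => hx (Subtype.ext h)⟩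
  have hK : Cfsg.Agent.Helper80.kerChar (χ : G → ℂ) hχc = ⊥ := by
    rcases (Cfsg.Agent.Helper80.kerChar_normal (χ : G → ℂ) hχc).eq_bot_or_eq_top with h | h
    · exact h
    · exfalso
      obtain ⟨x, hx, hx1⟩ := hPnt
      have hxk : x ∈ Cfsg.Agent.Helper80.kerChar (χ : G → ℂ) hχc := by rw [h]; exact Subgroup.mem_top x
      rw [Cfsg.Agent.Helper80.mem_kerChar, hvalP x hx hx1, hdeg, hpc] at hxk
      have h2 : (p : ℂ) = 0 := by linear_combination -hxk
      exact hp.ne_zero (by exact_mod_cast h2)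
  have hreg_triv : ∀ y : G, y ∈ Subgroup.centralizer ((P : Subgroup G) : Set G) → ¬ p ∣ orderOf y →
      y = 1 := by
    intro y hy hyreg
    have : y ∈ Cfsg.Agent.Helper80.kerChar (χ : G → ℂ) hχc :=
      (Cfsg.Agent.Helper80.mem_kerChar hχc y).mpr (hker y hy hyreg)
    rw [hK] at this
    exact Subgroup.mem_bot.mp this
  -- the centralizer is a `p`-group
  have hCp : IsPGroup p ↥(Subgroup.centralizer ((P : Subgroup G) : Set G)) := by
    intro g
    refine ⟨(orderOf (g : G)).factorization p, ?_⟩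
    apply Subtype.ext
    rw [Subgroup.coe_pow, Subgroup.coe_one]
    apply hreg_triv _ (Subgroup.pow_mem _ g.2 _)
    rw [orderOf_pow, Nat.gcd_eq_right (Nat.ordProj_dvd _ _)]
    exact Nat.not_dvd_ordCompl hp (orderOf_pos (g : G)).ne'
  -- `P` is abelian
  have hPle : (P : Subgroup G) ≤ Subgroup.centralizer ((P : Subgroup G) : Set G) := by
    haveI : IsCyclic ↥(P : Subgroup G) := isCyclic_of_prime_card hP
    intro a ha
    rw [Subgroup.mem_centralizer_iff]
    intro b hb
    have := mul_comm' (⟨b, hb⟩ : ↥(P : Subgroup G)) ⟨a, ha⟩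
    exact congrArg Subtype.val this
  exact P.is_maximal' hCp hPle

end Cfsg.Agent.Helper79.BR
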