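import Mathlib
import Cfsg.Prelude.Def_DegreeGraph
import Cfsg.Prelude.Def_CharExt
import Cfsg.Agent.Helper15.DetChar
import Cfsg.Agent.Helper74.CharBasic

/-!
Piece (DS) of helper80's plan for S4776: the determinantal character is multiplicative on sums of
characters.
-/

set_option autoImplicit false

namespace Cfsg.Agent.Helper79.RelDeg

open Cfsg

universe u

/-- (DS1) the determinantal character of a sum of two characters -/
theorem detChar_add {G : Type u} [Group G] [Finite G] {χ ψ : G → ℂ} (hχ : IsCharacter G χ)
    (hψ : IsCharacter G ψ) (g : G) :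
    detChar (χ + ψ) g = detChar χ g * detChar ψ g := by
  obtain ⟨n, ρ, rfl⟩ := hχ
  obtain ⟨m, σ, rfl⟩ := hψ
  have h1 : ρ.character + σ.character = (ρ.prod σ).character := by
    funext x
    simp [Representation.character, Representation.prod, LinearMap.trace_prodMap']
  rw [h1, Helper15.detChar_eq_det, Helper15.detChar_eq_det, Helper15.detChar_eq_det]
  show LinearMap.det ((ρ g).prodMap (σ g)) = _
  exact LinearMap.det_prodMap (ρ g) (σ g)

/-- the determinantal character of the zero character -/
theorem detChar_zero {G : Type u} [Group G] [Finite G] (g : G) : detChar (0 : G → ℂ) g = 1 := by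
  have h0 : (0 : G → ℂ) = (1 : Representation ℂ G (Fin 0 → ℂ)).character := by
    ext x
    simp [Representation.character]
  rw [h0, Helper15.detChar_eq_det]
  exact LinearMap.det_eq_one_of_subsingleton _

theorem isCharacter_fsum {G : Type u} [Group G] {ι : Type*} (s : Finset ι) (f : ι → G → ℂ)
    (h : ∀ i ∈ s, IsCharacter G (f i)) : IsCharacter G (∑ i ∈ s, f i) := by
  classical
  induction s using Finset.induction_on with
  | empty => simpa using Helper74.isCharacter_zero
  | insert a s ha ih =>
    rw [Finset.sum_insert ha]
    exact Helper74.isCharacter_add (h a (Finset.mem_insert_self a s))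
      (ih fun i hi => h i (Finset.mem_insert_of_mem hi))

theorem detChar_fsum {G : Type u} [Group G] [Finite G] {ι : Type*} (s : Finset ι)
    (f : ι → G → ℂ) (hf : ∀ i ∈ s, IsCharacter G (f i)) (g : G) :
    detChar (∑ i ∈ s, f i) g = ∏ i ∈ s, detChar (f i) g := by
  classical
  induction s using Finset.induction_on with
  | empty => simpa using detChar_zero g
  | insert a s ha ih =>
    rw [Finset.sum_insert ha, Finset.prod_insert ha,
      detChar_add (hf a (Finset.mem_insert_self a s))
        (isCharacter_fsum s f fun i hi => hf i (Finset.mem_insert_of_mem hi)),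
      ih fun i hi => hf i (Finset.mem_insert_of_mem hi)]

theorem isCharacter_nsmul' {G : Type u} [Group G] {χ : G → ℂ} (hχ : IsCharacter G χ) (e : ℕ) :
    IsCharacter G (e • χ) := by
  induction e with
  | zero => simpa using Helper74.isCharacter_zero
  | succ e ih =>
    rw [succ_nsmul]
    exact Helper74.isCharacter_add ih hχ

theorem detChar_nsmul {G : Type u} [Group G] [Finite G] {χ : G → ℂ} (hχ : IsCharacter G χ)
    (e : ℕ) (g : G) : detChar (e • χ) g = detChar χ g ^ e := by
  induction e with
  | zero => simpa using detChar_zero g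
  | succ e ih =>
    rw [succ_nsmul, detChar_add (isCharacter_nsmul' hχ e) hχ, ih, pow_succ]

/-- (DS2) consequence of (DS1) by two inductions -/
theorem detChar_nsmul_finset_sum {G : Type u} [Group G] [Finite G] {ι : Type*} (s : Finset ι)
    (f : ι → G → ℂ) (hf : ∀ i ∈ s, IsCharacter G (f i)) (e : ℕ) (g : G) :
    detChar (e • ∑ i ∈ s, f i) g = (∏ i ∈ s, detChar (f i) g) ^ e := by
  rw [detChar_nsmul (isCharacter_fsum s f hf), detChar_fsum s f hf]

end Cfsg.Agent.Helper79.RelDeg
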