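import Mathlib
import Cfsg.Agent.Helper15.CliffordCorr
import Cfsg.Agent.Helper15.IndChar
import Cfsg.Agent.Helper81.CliffordInd
import Cfsg.Agent.Helper80.CharLevel
import Cfsg.Agent.Helper74.CharBasic
import Cfsg.Agent.Helper25.PSolvLin.Defs
import Cfsg.Agent.Helper25.PSolvLin.IndFacts

set_option autoImplicit false

/-!
# S4472 (helper25), piece (CL): Clifford induction

`H ⊴ X` a normal Hall subgroup, `ξ ∈ Irr(X)`: there is a character `ψ` of `X` with `ψ_H = ξ_H` and all values in
`ℚ(ζ_{|H|})`.  Here the piece (CE) (`exists_rat_ext`) is an explicit hypothesis.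
-/

namespace Cfsg.Agent.Helper79.S4472

open Cfsg Cfsg.Agent.Helper25.PSolvLin

universe u

/-- natural multiples of characters are characters -/
theorem CL_isCharacter_nsmul {G : Type u} [Group G] {χ : G → ℂ} (hχ : IsCharacter G χ) (e : ℕ) :
    IsCharacter G (e • χ) := by
  induction e with
  | zero => simpa using Helper74.isCharacter_zero
  | succ e ih =>
    rw [succ_nsmul]
    exact Helper74.isCharacter_add ih hχ

/-- **(CL)** with (CE) as an explicit hypothesis. -/
theorem exists_rat_of_irr_of
    (hCE : ∀ (X : Type u) [Group X] [Finite X] (H : Subgroup X) [hH : H.Normal],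
      Nat.Coprime H.index (Nat.card H) → ∀ (θ : H → ℂ), IsIrrCharacter H θ →
      (∀ (x : X) (h : H), θ ⟨x * h * x⁻¹, hH.conj_mem (h : X) h.2 x⟩ = θ h) →
      ∃ θh : X → ℂ, IsIrrCharacter X θh ∧ (∀ h : H, θh h = θ h) ∧
        ∀ x : X, θh x ∈ cycField (Nat.card H)) :
    ∀ (n : ℕ) (X : Type u) [Group X] [Finite X], Nat.card X = n →
    ∀ (H : Subgroup X) [H.Normal], Nat.Coprime H.index (Nat.card H) →
    ∀ ξ : X → ℂ, IsIrrCharacter X ξ →
    ∃ ψ : X → ℂ, IsCharacter X ψ ∧ (∀ h : H, ψ h = ξ h) ∧ ∀ x : X, ψ x ∈ cycField (Nat.card H) := by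
  intro n
  induction n using Nat.strong_induction_on with
  | _ n ih =>
  intro X _ _ hXn H hHn hcop ξ hξ
  classical
  let _ : Fintype X := Fintype.ofFinite X
  let _ : Fintype H := Fintype.ofFinite H
  have hξc : IsCharacter X ξ := Helper74.isCharacter_of_isIrr hξ
  have hξH : IsCharacter H (fun h : H => ξ h) := Helper74.isCharacter_restrict H hξc
  have hξ1 : (fun h : H => ξ h) 1 ≠ 0 := by
    show ξ ((1 : H) : X) ≠ 0
    rw [Subgroup.coe_one]
    exact Helper80.IsIrrCharacter.map_one_ne_zero hξ
  obtain ⟨⟨θ, hθ⟩, hcon⟩ := Helper81.exists_irr_constituent hξH hξ1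
  have hcon' : classInner (fun h : H => ξ h) θ ≠ 0 := hcon
  have hθc : IsCharacter H θ := Helper74.isCharacter_of_isIrr hθ
  have hHT : H ≤ Helper15.inertia H θ :=
    Helper15.le_inertia H (Helper74.isClassFunction_of_isCharacter hθc)
  by_cases hT : Helper15.inertia H θ = ⊤
  · -- `θ` is invariant
    have hinv : ∀ g : X, Helper15.conjFun H g θ = θ := by
      intro g
      have : g ∈ Helper15.inertia H θ := hT ▸ Subgroup.mem_top g
      exact this
    have hres := Helper15.restrict_eq_smul_of_invariant H hξ hθ hcon' hinv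
    obtain ⟨e, he⟩ := Helper74.isCharacter_inner_irr_nat hξH ⟨θ, hθ⟩
    have he' : classInner (fun h : H => ξ h) θ = (e : ℂ) := he
    obtain ⟨θh, hθh, hθhH, hθhF⟩ := hCE X H hcop θ hθ (by
      intro x h
      have := congrFun (hinv x) h
      exact this)
    refine ⟨e • θh, CL_isCharacter_nsmul (Helper74.isCharacter_of_isIrr hθh) e, ?_, ?_⟩
    · intro h
      have h1 := congrFun hres h
      rw [he'] at h1
      simp only [Pi.smul_apply, smul_eq_mul, nsmul_eq_mul] at h1 ⊢
      rw [hθhH h]
      exact h1.symm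
    · intro x
      rw [Pi.smul_apply]
      exact nsmul_mem (hθhF x) e
  · -- induce from the inertia group
    set T : Subgroup X := Helper15.inertia H θ with hTdef
    let _ : Fintype T := Fintype.ofFinite T
    obtain ⟨η, hη, hind, -⟩ :=
      Helper15.clifford_correspondence_exists H hθ T hTdef hHT hξ hcon'
    have hTlt : Nat.card T < n := by
      rw [← hXn]
      apply lt_of_le_of_ne (Subgroup.card_le_card_group T)
      intro h
      exact hT (Subgroup.eq_top_of_card_eq T h)
    have hcardH : Nat.card (H.subgroupOf T) = Nat.card H :=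
      Nat.card_congr (Subgroup.subgroupOfEquivOfLe hHT).toEquiv
    have hcop' : Nat.Coprime (H.subgroupOf T).index (Nat.card (H.subgroupOf T)) := by
      rw [hcardH]
      have hdvd : (H.subgroupOf T).index ∣ H.index := Subgroup.relIndex_dvd_index_of_normal H T
      exact Nat.Coprime.coprime_dvd_left hdvd hcop
    obtain ⟨ψ', hψ', hψ'H, hψ'F⟩ := ih (Nat.card T) hTlt ↥T rfl (H.subgroupOf T) hcop' η hη
    rw [hcardH] at hψ'F
    refine ⟨indFun T ψ', Helper15.isCharacter_indFun T hψ', ?_, ?_⟩
    · intro h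
      rw [← hind]
      apply indFun_congr_on_normal H T hHT ψ' η _ (h : X) h.2
      intro t ht
      exact hψ'H ⟨t, Subgroup.mem_subgroupOf.mpr ht⟩
    · intro x
      exact indFun_mem_field T (cycField (Nat.card H)) ψ' hψ'F x

end Cfsg.Agent.Helper79.S4472
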