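import Mathlib
import Cfsg.Agent.Helper3.E27Defs
import Cfsg.Agent.Helper79.ClassMult
import Cfsg.Agent.Helper79.Linear
import Cfsg.Agent.Helper79.CharComplete

/-!
# (B4), (B5), (B7) of helper3's S3701 plan: degree orthogonality, the principal character,
Fourier inversion.  The needed clauses of (B0) `lam_facts` are explicit hypotheses.
-/

set_option autoImplicit false
set_option linter.unusedSectionVars false
set_option linter.unusedVariables false
open Cfsg Finset
open scoped ComplexConjugate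

namespace Cfsg.Agent.Helper79.E27
open Cfsg.Agent.Helper3.E27

universe u

/-- the statement of (B0) `lam_facts` -/
def LamFacts (ζ : ℂ) : Prop :=
    (∀ u v v' : Vec, lam ζ u (v + v') = lam ζ u v * lam ζ u v') ∧
    (∀ u : Vec, lam ζ u 0 = 1) ∧ (∀ v : Vec, lam ζ 0 v = 1) ∧
    (∀ σ u v : Vec, lam ζ (σ * u) v = lam ζ u (σ * v)) ∧
    (∀ u v : Vec, conj (lam ζ u v) = lam ζ u (-v)) ∧
    (∀ u w : Vec, ∑ v : Vec, lam ζ u v * conj (lam ζ w v) = if u = w then 27 else 0) ∧
    (∀ v v' : Vec, ∑ u : Vec, lam ζ u v * conj (lam ζ u v') = if v = v' then 27 else 0)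

variable (ζ : ℂ)
variable {G : Type u} [Group G] [Fintype G] {T : Subgroup G} {τ : Vec → G} {a b : G}

omit [Fintype G] in
theorem tau_zero (h : HCfg T τ a b) : τ 0 = 1 := by
  have := h.τ_add 0 0
  rw [add_zero] at this
  exact (mul_eq_left.mp this.symm)

omit [Fintype G] in
theorem tau_eq_one_iff (h : HCfg T τ a b) (v : Vec) : τ v = 1 ↔ v = 0 := by
  constructor
  · intro hv
    rw [← tau_zero h] at hv
    exact h.τ_inj hv
  · rintro rfl
    exact tau_zero h

/-- `∑ χ, χ(1) m_u(χ) = |G| / 27` -/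
theorem sum_degree_mult [Fintype (IrrCharacter G)] (hF : LamFacts ζ) (h : HCfg T τ a b)
    (m : Vec → IrrCharacter G → ℕ) (hm : IsMult τ ζ m) (u : Vec) :
    ∑ χ : IrrCharacter G, (charDegree (χ : G → ℂ) : ℂ) * (m u χ : ℂ) = (Nat.card G : ℂ) / 27 := by
  classical
  obtain ⟨-, hF2, -, -, -, -, -⟩ := hF
  have h1 : ∀ χ : IrrCharacter G, (charDegree (χ : G → ℂ) : ℂ) * (m u χ : ℂ) =
      (1 / 27 : ℂ) * ∑ v : Vec, ((χ : G → ℂ) 1 * (χ : G → ℂ) (τ v)) * conj (lam ζ u v) := by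
    intro χ
    rw [hm u χ, ← Cfsg.Agent.Helper79.irr_one χ, Finset.mul_sum, Finset.mul_sum, Finset.mul_sum]
    refine Finset.sum_congr rfl (fun v _ => ?_)
    ring
  rw [Finset.sum_congr rfl (fun χ _ => h1 χ), ← Finset.mul_sum, Finset.sum_comm]
  have h2 : ∀ v : Vec, ∑ χ : IrrCharacter G,
      ((χ : G → ℂ) 1 * (χ : G → ℂ) (τ v)) * conj (lam ζ u v) =
      if v = 0 then (Nat.card G : ℂ) else 0 := by
    intro v
    rw [← Finset.sum_mul, Cfsg.Agent.Helper79.sum_irr_one_mul (τ v)]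
    by_cases hv : v = 0
    · rw [if_pos ((tau_eq_one_iff h v).mpr hv), if_pos hv, hv, hF2, map_one, mul_one]
    · rw [if_neg (fun hc => hv ((tau_eq_one_iff h v).mp hc)), if_neg hv, zero_mul]
  rw [Finset.sum_congr rfl (fun v _ => h2 v), Finset.sum_ite_eq' Finset.univ (0 : Vec)]
  simp only [Finset.mem_univ, if_true]
  ring

/-- (B4) degree orthogonality. -/
theorem degree_orth [Fintype (IrrCharacter G)] (hF : LamFacts ζ) (h : HCfg T τ a b)
    (m : Vec → IrrCharacter G → ℕ) (hm : IsMult τ ζ m) (u u' : Vec) :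
    ∑ χ : IrrCharacter G, (charDegree (χ : G → ℂ) : ℤ) * ((m u χ : ℤ) - m u' χ) = 0 := by
  have h1 := sum_degree_mult ζ hF h m hm u
  have h2 := sum_degree_mult ζ hF h m hm u'
  have h3 : ((∑ χ : IrrCharacter G, (charDegree (χ : G → ℂ) : ℤ) * ((m u χ : ℤ) - m u' χ) : ℤ) : ℂ)
      = 0 := by
    push_cast
    simp only [mul_sub, Finset.sum_sub_distrib]
    rw [h1, h2, sub_self]
  exact_mod_cast h3

/-- (B5) the principal character. -/
theorem mult_principal (hF : LamFacts ζ) (h : HCfg T τ a b)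
    (m : Vec → IrrCharacter G → ℕ) (hm : IsMult τ ζ m) (u : Vec) :
    m u (Cfsg.Agent.Helper79.principalIrr G) = if u = 0 then 1 else 0 := by
  obtain ⟨-, -, hF3, -, -, hF6, -⟩ := hF
  have h1 := hm u (Cfsg.Agent.Helper79.principalIrr G)
  have h2 : ∑ v : Vec, ((Cfsg.Agent.Helper79.principalIrr G : IrrCharacter G) : G → ℂ) (τ v) *
      conj (lam ζ u v) = if (0 : Vec) = u then 27 else 0 := by
    rw [← hF6 0 u]
    refine Finset.sum_congr rfl (fun v _ => ?_)
    rw [hF3 v]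
    rfl
  rw [h2] at h1
  have h3 : (m u (Cfsg.Agent.Helper79.principalIrr G) : ℂ) = ((if u = 0 then 1 else 0 : ℕ) : ℂ) := by
    rw [h1]
    by_cases hu : u = 0
    · rw [if_pos hu.symm, if_pos hu]; norm_num
    · rw [if_neg (fun hc => hu hc.symm), if_neg hu]; norm_num
  exact_mod_cast h3

/-- (B7) Fourier inversion. -/
theorem mult_inversion (hF : LamFacts ζ) (h : HCfg T τ a b)
    (m : Vec → IrrCharacter G → ℕ) (hm : IsMult τ ζ m) (χ : IrrCharacter G) (v : Vec) :
    (χ : G → ℂ) (τ v) = ∑ u : Vec, (m u χ : ℂ) * lam ζ u v := by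
  classical
  obtain ⟨-, -, -, -, -, -, hF7⟩ := hF
  have h1 : ∀ u : Vec, (m u χ : ℂ) * lam ζ u v =
      (1 / 27 : ℂ) * ∑ v' : Vec, (χ : G → ℂ) (τ v') * (lam ζ u v * conj (lam ζ u v')) := by
    intro u
    rw [hm u χ, mul_assoc, Finset.sum_mul]
    congr 1
    refine Finset.sum_congr rfl (fun v' _ => ?_)
    ring
  rw [Finset.sum_congr rfl (fun u _ => h1 u), ← Finset.mul_sum, Finset.sum_comm]
  have h2 : ∀ v' : Vec, ∑ u : Vec, (χ : G → ℂ) (τ v') * (lam ζ u v * conj (lam ζ u v')) =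
      if v' = v then 27 * (χ : G → ℂ) (τ v') else 0 := by
    intro v'
    rw [← Finset.mul_sum, hF7 v v']
    by_cases hv : v = v'
    · rw [if_pos hv, if_pos hv.symm]; ring
    · rw [if_neg hv, if_neg (fun hc => hv hc.symm), mul_zero]
  rw [Finset.sum_congr rfl (fun v' _ => h2 v'), Finset.sum_ite_eq' Finset.univ v]
  simp only [Finset.mem_univ, if_true]
  ring

end Cfsg.Agent.Helper79.E27
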