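import Mathlib
import Cfsg.Agent.Helper77.LocalRing
import Cfsg.Agent.Helper16.LocalRing
import Cfsg.Agent.Helper16.BlockIdem
import Cfsg.Agent.Helper80.CharBasic
import Cfsg.Agent.Helper80.Degree
import Cfsg.Agent.Helper80.Pullback
import Cfsg.Agent.Helper82.GaloisConj
import Cfsg.Agent.Helper82.GaloisRat
import Cfsg.Agent.Helper79.CharComplete
import Cfsg.Agent.Helper79.Counting
import Cfsg.Agent.Helper79.Linear
import Cfsg.Agent.Helper79.BlockIndep

/-!
# The principal block and the quotient by a normal `p'`-subgroup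

* `irr_eq_one_or_sum_eq_zero`: for `χ` irreducible and `K` normal, `K ≤ ker χ` or `∑_{k ∈ K} χ k = 0`.
* `ker_of_sameBlock_one`, `principalBlock_ker`: a normal `p'`-subgroup is in the kernel of every
  character of the principal block.
* `sameBlock_comp_mk`, `sameBlock_of_comp_mk`: `SameBlock` and inflation from `G ⧸ K`.
* `mem_principalBlock_quotient_iff`, `finsum_principalBlock_quotient`: the principal block of `G` is
  the inflation of the principal block of `G ⧸ K`, `K` a normal `p'`-subgroup.
* `irrPow`: Galois conjugate `g ↦ χ (g ^ k)`; the principal block is Galois stable.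
* `principalBlock_normSq_sum_nat`: `∑_{χ ∈ B₀} |χ x|²` is a positive integer.
-/

set_option autoImplicit false

namespace Cfsg.Agent.Helper79

open Cfsg
open scoped ComplexConjugate

section
variable {G : Type*} [Group G] [Fintype G]

/-- For an irreducible representation and a normal subgroup `K`: either `K` acts trivially or the
character sums to zero over `K`. -/
theorem rep_eq_one_or_sum_eq_zero {V : Type*} [AddCommGroup V] [Module ℂ V]
    [FiniteDimensional ℂ V] (ρ : Representation ℂ G V) [hirr : ρ.IsIrreducible]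
    (K : Subgroup G) [hK : K.Normal] [Fintype K] :
    (∀ k ∈ K, ρ k = 1) ∨ ∑ k : K, ρ.character k = 0 := by
  let σ : Representation ℂ K V := ρ.comp K.subtype
  let W : Subrepresentation ρ :=
    { toSubmodule := Representation.invariants σ
      apply_mem_toSubmodule := by
        intro g v hv
        rw [Representation.mem_invariants] at hv ⊢
        intro k
        have hk : g⁻¹ * (k : G) * g ∈ K := by
          have := hK.conj_mem (k : G) k.2 g⁻¹
          simpa using this
        have h1 := hv ⟨g⁻¹ * (k : G) * g, hk⟩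
        change ρ (k : G) (ρ g v) = ρ g v
        change ρ (g⁻¹ * (k : G) * g) v = v at h1
        have : ρ (k : G) (ρ g v) = ρ g (ρ (g⁻¹ * (k : G) * g) v) := by
          rw [← Module.End.mul_apply, ← Module.End.mul_apply, ← map_mul, ← map_mul]
          congr 2
          group
        rw [this, h1] }
  rcases eq_bot_or_eq_top W with h | h
  · right
    have hne : (Nat.card K : ℂ) ≠ 0 := card_ne_zero_complex
    have : Invertible (Nat.card K : ℂ) := invertibleOfNonzero hne
    have h1 := Representation.card_inv_mul_sum_char_eq_finrank σ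
    have h2 : Representation.invariants σ = ⊥ := by
      have := congrArg Subrepresentation.toSubmodule h
      exact this
    rw [h2, finrank_bot] at h1
    have h3 : ∑ k : K, σ.character k = 0 := by
      simpa using h1
    exact h3
  · left
    intro k hk
    have h2 : Representation.invariants σ = ⊤ := by
      have := congrArg Subrepresentation.toSubmodule h
      exact this
    ext v
    have hv : v ∈ Representation.invariants σ := by rw [h2]; trivial
    rw [Representation.mem_invariants] at hv
    exact hv ⟨k, hk⟩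

/-- For an irreducible character and a normal subgroup `K`: either `K` is in the kernel or the
character sums to zero over `K`. -/
theorem irr_eq_one_or_sum_eq_zero (χ : IrrCharacter G) (K : Subgroup G) [K.Normal] [Fintype K] :
    (∀ k ∈ K, (χ : G → ℂ) k = (χ : G → ℂ) 1) ∨ ∑ k : K, (χ : G → ℂ) k = 0 := by
  obtain ⟨n, ρ, hρ, hχ⟩ := χ.2
  have := hρ
  rcases rep_eq_one_or_sum_eq_zero ρ K with h | h
  · left
    intro k hk
    rw [← hχ]
    show LinearMap.trace ℂ _ (ρ k) = LinearMap.trace ℂ _ (ρ 1)
    rw [h k hk, map_one ρ]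
  · right
    rw [← hχ]
    exact h

end

section
variable {G : Type*} [Group G] [Fintype G]

/-- Dividing by a number prime to `p` inside the local ideal. -/
theorem memLocalIdeal_of_natCast_mul {p : ℕ} {M : Ideal AlgInt} (hM : IsPModular p M) (n : ℕ)
    (hn : n.Coprime p) (z : ℂ) (h : MemLocalIdeal M ((n : ℂ) * z)) : MemLocalIdeal M z := by
  have hMp := Helper77.isPrime_of_isPModular hM
  have hp := hM.1
  have h1 : ¬ MemLocalIdeal M (n : ℂ) := by
    rw [Helper77.memLocalIdeal_natCast_iff hM]
    intro hdvd
    have := Nat.Coprime.eq_one_of_dvd hn.symm hdvd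
    exact hp.one_lt.ne' this
  have h2 := Helper77.memLocalRing_inv M (Helper77.memLocalRing_natCast M n) h1
  have hn0 : (n : ℂ) ≠ 0 := by
    intro h0
    apply h1
    rw [h0]
    exact Helper77.memLocalIdeal_zero M
  have : z = (n : ℂ)⁻¹ * ((n : ℂ) * z) := by field_simp
  rw [this]
  exact Helper77.memLocalIdeal_mul_left M h2 h

theorem centralChar_one (g : G) :
    centralChar (fun _ : G => (1 : ℂ)) g = ((Subgroup.centralizer ({g} : Set G)).index : ℂ) := by
  simp [centralChar]

/-- A normal `p'`-subgroup lies in the kernel of every character in the principal block. -/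
theorem ker_of_sameBlock_one {p : ℕ} {M : Ideal AlgInt} (hM : IsPModular p M) (K : Subgroup G)
    [hKn : K.Normal] (hK : (Nat.card K).Coprime p) (χ : IrrCharacter G)
    (h : SameBlock M (fun _ : G => (1 : ℂ)) (χ : G → ℂ)) :
    ∀ k ∈ K, (χ : G → ℂ) k = (χ : G → ℂ) 1 := by
  classical
  have hMp := Helper77.isPrime_of_isPModular hM
  have := Fintype.ofFinite K
  rcases irr_eq_one_or_sum_eq_zero χ K with h1 | h1
  · exact h1
  · exfalso
    have hχ1 := irr_one_ne_zero χ
    set a : G → ℂ := fun g => if g ∈ K then (1 - (χ : G → ℂ) g / (χ : G → ℂ) 1) else 0 with ha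
    have hconj : ∀ g x : G, a (x * g * x⁻¹) = a g := by
      intro g x
      have hmem : x * g * x⁻¹ ∈ K ↔ g ∈ K := by
        constructor
        · intro hx
          have := hKn.conj_mem _ hx x⁻¹
          simpa [mul_assoc] using this
        · intro hg
          exact hKn.conj_mem g hg x
      simp only [ha, hmem, irr_isClassFunction χ g x]
    have hsum1 : ∑ g : G, a g = (Nat.card K : ℂ) := by
      have e1 : ∑ g : G, a g = ∑ k : K, (1 - (χ : G → ℂ) k / (χ : G → ℂ) 1) := by
        have e0 : ∑ g : G, a g = ∑ g ∈ Finset.univ.filter (fun g => g ∈ K),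
            (1 - (χ : G → ℂ) g / (χ : G → ℂ) 1) := by
          rw [Finset.sum_filter]
        rw [e0]
        exact Finset.sum_subtype _ (fun x => by simp) _
      rw [e1, Finset.sum_sub_distrib, ← Finset.sum_div, h1, zero_div, sub_zero]
      simp [Nat.card_eq_fintype_card]
    have hsum2 := Helper80.sum_eq_sum_classes a hconj
    have hmem : MemLocalIdeal M (∑ g : G, a g) := by
      rw [hsum2]
      refine Helper77.memLocalIdeal_sum M _ _ fun C _ => ?_
      rw [Helper80.card_classFinset, nsmul_eq_mul]
      simp only [ha]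
      split_ifs with hC
      · have := h (Quotient.out C)
        rw [centralChar_one] at this
        have e : ((Subgroup.centralizer ({Quotient.out C} : Set G)).index : ℂ) *
            (1 - (χ : G → ℂ) (Quotient.out C) / (χ : G → ℂ) 1) =
            ((Subgroup.centralizer ({Quotient.out C} : Set G)).index : ℂ) -
              centralChar (χ : G → ℂ) (Quotient.out C) := by
          unfold centralChar
          field_simp
        rw [e]
        exact this
      · rw [mul_zero]
        exact Helper77.memLocalIdeal_zero M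
    rw [hsum1, Helper77.memLocalIdeal_natCast_iff hM] at hmem
    have := Nat.Coprime.eq_one_of_dvd hK.symm hmem
    exact hM.1.one_lt.ne' this

end

section
variable {G : Type*} [Group G] [Fintype G]

/-- Summing a function of the coset over the group. -/
theorem sum_comp_mk (K : Subgroup G) [K.Normal] [Fintype (G ⧸ K)] {A : Type*} [AddCommMonoid A]
    (F : G ⧸ K → A) : ∑ g : G, F (g : G ⧸ K) = Nat.card K • ∑ y : G ⧸ K, F y := by
  classical
  have := Fintype.ofFinite K
  let e : (G ⧸ K) × K → G := fun yk => Quotient.out yk.1 * (yk.2 : G)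
  have hmk : ∀ yk : (G ⧸ K) × K, ((e yk : G) : G ⧸ K) = yk.1 := by
    intro yk
    show ((Quotient.out yk.1 * (yk.2 : G) : G) : G ⧸ K) = yk.1
    rw [QuotientGroup.mk_mul_of_mem _ yk.2.2]
    exact QuotientGroup.out_eq' yk.1
  have hbij : Function.Bijective e := by
    constructor
    · intro yk yk' h
      have h1 : yk.1 = yk'.1 := by rw [← hmk yk, ← hmk yk', h]
      have h2 : (yk.2 : G) = (yk'.2 : G) := by
        have : Quotient.out yk.1 * (yk.2 : G) = Quotient.out yk'.1 * (yk'.2 : G) := h
        rw [h1] at this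
        exact mul_left_cancel this
      exact Prod.ext h1 (Subtype.ext h2)
    · intro g
      have hmem : (Quotient.out (g : G ⧸ K))⁻¹ * g ∈ K := by
        rw [← QuotientGroup.eq]
        exact QuotientGroup.out_eq' _
      refine ⟨((g : G ⧸ K), ⟨_, hmem⟩), ?_⟩
      show Quotient.out (g : G ⧸ K) * ((Quotient.out (g : G ⧸ K))⁻¹ * g) = g
      group
  rw [← (Equiv.ofBijective e hbij).sum_comp]
  rw [Fintype.sum_prod_type]
  rw [Finset.smul_sum]
  refine Finset.sum_congr rfl fun y _ => ?_
  have : ∀ k : K, F (((Equiv.ofBijective e hbij) (y, k) : G) : G ⧸ K) = F y := by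
    intro k
    have := hmk (y, k)
    rw [Equiv.ofBijective_apply, this]
  rw [Finset.sum_congr rfl fun k _ => this k, Finset.sum_const, Finset.card_univ,
    Nat.card_eq_fintype_card]

/-- The class size in the quotient divides the class size in the group. -/
theorem index_centralizer_mk_dvd (K : Subgroup G) [K.Normal] (g : G) :
    (Subgroup.centralizer ({(g : G ⧸ K)} : Set (G ⧸ K))).index ∣
      (Subgroup.centralizer ({g} : Set G)).index := by
  have h1 : ((Subgroup.centralizer ({(g : G ⧸ K)} : Set (G ⧸ K))).comap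
      (QuotientGroup.mk' K)).index =
      (Subgroup.centralizer ({(g : G ⧸ K)} : Set (G ⧸ K))).index :=
    Subgroup.index_comap_of_surjective _ (QuotientGroup.mk'_surjective K)
  rw [← h1]
  apply Subgroup.index_dvd_of_le
  intro x hx
  rw [Subgroup.mem_comap, Subgroup.mem_centralizer_iff]
  rw [Subgroup.mem_centralizer_iff] at hx
  intro y hy
  rw [Set.mem_singleton_iff] at hy
  subst hy
  have := hx g rfl
  show (g : G ⧸ K) * (x : G ⧸ K) = (x : G ⧸ K) * (g : G ⧸ K)
  rw [← QuotientGroup.mk_mul, ← QuotientGroup.mk_mul, this]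

/-- Inflation preserves `SameBlock`. -/
theorem sameBlock_comp_mk {M : Ideal AlgInt} [hMp : M.IsPrime] (K : Subgroup G) [K.Normal]
    (a b : G ⧸ K → ℂ) (h : SameBlock M a b) :
    SameBlock M (fun g : G => a (g : G ⧸ K)) (fun g : G => b (g : G ⧸ K)) := by
  intro g
  obtain ⟨m, hm⟩ := index_centralizer_mk_dvd K g
  have e : centralChar (fun g : G => a (g : G ⧸ K)) g - centralChar (fun g : G => b (g : G ⧸ K)) g
      = (m : ℂ) * (centralChar a (g : G ⧸ K) - centralChar b (g : G ⧸ K)) := by
    unfold centralChar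
    rw [hm]
    push_cast
    rw [QuotientGroup.mk_one]
    ring
  rw [e]
  exact Helper77.memLocalIdeal_mul_left M (Helper77.memLocalRing_natCast M m) (h _)

/-- Deflation preserves `SameBlock` when the normal subgroup has order prime to `p`. -/
theorem sameBlock_of_comp_mk {p : ℕ} {M : Ideal AlgInt} (hM : IsPModular p M) (K : Subgroup G)
    [K.Normal] (hK : (Nat.card K).Coprime p)
    (a b : G ⧸ K → ℂ) (ha : IsClassFunction (G ⧸ K) a) (hb : IsClassFunction (G ⧸ K) b)
    (h : SameBlock M (fun g : G => a (g : G ⧸ K)) (fun g : G => b (g : G ⧸ K))) :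
    SameBlock M a b := by
  classical
  have hMp := Helper77.isPrime_of_isPModular hM
  have := Fintype.ofFinite (G ⧸ K)
  intro y₀
  set c : ℂ := a y₀ / a 1 - b y₀ / b 1 with hc
  set F : G ⧸ K → ℂ := fun y => if IsConj y₀ y then c else 0 with hF
  -- the sum of F over the quotient
  have hsumF : ∑ y : G ⧸ K, F y = centralChar a y₀ - centralChar b y₀ := by
    have : ∑ y : G ⧸ K, F y = ∑ y ∈ Helper80.classFinset y₀, c := by
      rw [Helper80.classFinset, Finset.sum_filter]
      refine Finset.sum_congr rfl fun y _ => ?_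
      simp only [hF]
      congr
    rw [this, Finset.sum_const, Helper80.card_classFinset, nsmul_eq_mul, hc]
    unfold centralChar
    ring
  -- the sum of F ∘ mk over the group
  have hsumG := sum_comp_mk K F
  have hconj : ∀ g x : G, F ((x * g * x⁻¹ : G) : G ⧸ K) = F (g : G ⧸ K) := by
    intro g x
    simp only [hF]
    have : IsConj y₀ ((x * g * x⁻¹ : G) : G ⧸ K) ↔ IsConj y₀ (g : G ⧸ K) := by
      have hcj : IsConj (g : G ⧸ K) ((x * g * x⁻¹ : G) : G ⧸ K) := by
        rw [isConj_iff]
        exact ⟨(x : G ⧸ K), by simp⟩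
      constructor
      · intro h1; exact h1.trans hcj.symm
      · intro h1; exact h1.trans hcj
    rw [if_congr this rfl rfl]
  have hsum2 := Helper80.sum_eq_sum_classes (fun g : G => F (g : G ⧸ K)) hconj
  have hmem : MemLocalIdeal M (∑ g : G, F (g : G ⧸ K)) := by
    rw [hsum2]
    refine Helper77.memLocalIdeal_sum M _ _ fun C _ => ?_
    rw [Helper80.card_classFinset, nsmul_eq_mul]
    simp only [hF]
    split_ifs with hC
    · have h1 := h (Quotient.out C)
      have ea : a ((Quotient.out C : G) : G ⧸ K) = a y₀ := by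
        rw [isConj_iff] at hC
        obtain ⟨u, hu⟩ := hC
        rw [← hu, ha]
      have eb : b ((Quotient.out C : G) : G ⧸ K) = b y₀ := by
        rw [isConj_iff] at hC
        obtain ⟨u, hu⟩ := hC
        rw [← hu, hb]
      have e : ((Subgroup.centralizer ({Quotient.out C} : Set G)).index : ℂ) * c =
          centralChar (fun g : G => a (g : G ⧸ K)) (Quotient.out C) -
            centralChar (fun g : G => b (g : G ⧸ K)) (Quotient.out C) := by
        unfold centralChar
        simp only [ea, eb, QuotientGroup.mk_one, hc]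
        ring
      rw [e]
      exact h1
    · rw [mul_zero]
      exact Helper77.memLocalIdeal_zero M
  rw [hsumG, hsumF, nsmul_eq_mul] at hmem
  exact memLocalIdeal_of_natCast_mul hM _ hK _ hmem

end

section
variable {G : Type*} [Group G] [Finite G]

theorem principalBlock_ker {p : ℕ} {M : Ideal AlgInt} (hM : IsPModular p M) (K : Subgroup G)
    [K.Normal] (hK : (Nat.card K).Coprime p) (χ : IrrCharacter G)
    (h : χ ∈ principalBlock M G) : ∀ k ∈ K, (χ : G → ℂ) k = (χ : G → ℂ) 1 := by
  have := Fintype.ofFinite G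
  exact ker_of_sameBlock_one hM K hK χ h

theorem mem_principalBlock_quotient_iff {p : ℕ} {M : Ideal AlgInt} (hM : IsPModular p M)
    (K : Subgroup G) [K.Normal] (hK : (Nat.card K).Coprime p) (ψ : IrrCharacter (G ⧸ K)) :
    ψ ∈ principalBlock M (G ⧸ K) ↔
      ((Helper80.irrQuotientEquiv K ψ).1 : IrrCharacter G) ∈ principalBlock M G := by
  have := Fintype.ofFinite G
  have hMp := Helper77.isPrime_of_isPModular hM
  constructor
  · intro h
    exact sameBlock_comp_mk K (fun _ => (1 : ℂ)) (ψ : G ⧸ K → ℂ) h
  · intro h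
    refine sameBlock_of_comp_mk hM K hK (fun _ => (1 : ℂ)) (ψ : G ⧸ K → ℂ) ?_ ?_ h
    · intro g h; rfl
    · exact irr_isClassFunction ψ

theorem finsum_principalBlock_quotient {p : ℕ} {M : Ideal AlgInt} (hM : IsPModular p M)
    (K : Subgroup G) [K.Normal] (hK : (Nat.card K).Coprime p) {A : Type*} [AddCommMonoid A]
    (F : IrrCharacter G → A) :
    ∑ᶠ χ ∈ principalBlock M G, F χ =
      ∑ᶠ ψ ∈ principalBlock M (G ⧸ K), F (Helper80.irrQuotientEquiv K ψ).1 := by
  symm
  refine finsum_mem_eq_of_bijOn (fun ψ => ((Helper80.irrQuotientEquiv K ψ).1 : IrrCharacter G))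
    ⟨?_, ?_, ?_⟩ (fun ψ _ => rfl)
  · intro ψ hψ
    exact (mem_principalBlock_quotient_iff hM K hK ψ).1 hψ
  · intro ψ _ ψ' _ h
    exact (Helper80.irrQuotientEquiv K).injective (Subtype.ext h)
  · intro χ hχ
    have hker := principalBlock_ker hM K hK χ hχ
    refine ⟨(Helper80.irrQuotientEquiv K).symm ⟨χ, hker⟩, ?_, ?_⟩
    · rw [mem_principalBlock_quotient_iff hM K hK, Equiv.apply_symm_apply]
      exact hχ
    · show ((Helper80.irrQuotientEquiv K) ((Helper80.irrQuotientEquiv K).symm ⟨χ, hker⟩)).1 = χ
      rw [Equiv.apply_symm_apply]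

end

section
variable {G : Type*} [Group G] [Finite G]

/-- Galois conjugate `g ↦ χ (g ^ k)` of an irreducible character, `k` prime to `|G|`. -/
noncomputable def irrPow (k : ℕ) (hk : k.Coprime (Nat.card G)) (χ : IrrCharacter G) :
    IrrCharacter G :=
  ⟨fun g => (χ : G → ℂ) (g ^ k), Helper82.galoisConj_isIrrCharacter χ.2 k hk⟩

theorem irrPow_apply (k : ℕ) (hk : k.Coprime (Nat.card G)) (χ : IrrCharacter G) (g : G) :
    (irrPow k hk χ : G → ℂ) g = (χ : G → ℂ) (g ^ k) := rfl

theorem irrPow_injective (k : ℕ) (hk : k.Coprime (Nat.card G)) :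
    Function.Injective (irrPow (G := G) k hk) := by
  intro χ ψ h
  apply Subtype.ext
  funext g
  obtain ⟨g', rfl⟩ := (powCoprime hk.symm).surjective g
  have := congrFun (congrArg Subtype.val h) g'
  exact this

theorem irrPow_mem_principalBlock {M : Ideal AlgInt} (k : ℕ) (hk : k.Coprime (Nat.card G))
    (χ : IrrCharacter G) (h : χ ∈ principalBlock M G) : irrPow k hk χ ∈ principalBlock M G := by
  intro g
  have hk' : k.Coprime (orderOf g) := Nat.Coprime.coprime_dvd_right (orderOf_dvd_natCard g) hk
  have h1 := h (g ^ k)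
  have e : centralChar (fun _ : G => (1 : ℂ)) g - centralChar (irrPow k hk χ : G → ℂ) g =
      centralChar (fun _ : G => (1 : ℂ)) (g ^ k) - centralChar (χ : G → ℂ) (g ^ k) := by
    unfold centralChar
    rw [centralizer_pow_of_coprime g k hk', irrPow_apply, irrPow_apply, one_pow]
  rw [e]
  exact h1

theorem finsum_principalBlock_irrPow {M : Ideal AlgInt} (k : ℕ) (hk : k.Coprime (Nat.card G))
    {A : Type*} [AddCommMonoid A] (F : IrrCharacter G → A) :
    ∑ᶠ χ ∈ principalBlock M G, F (irrPow k hk χ) = ∑ᶠ χ ∈ principalBlock M G, F χ := by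
  have hfin : Finite (IrrCharacter G) := irr_finite'
  refine finsum_mem_eq_of_bijOn (irrPow k hk) ?_ (fun ψ _ => rfl)
  have hmaps : Set.MapsTo (irrPow k hk) (principalBlock M G) (principalBlock M G) :=
    fun χ hχ => irrPow_mem_principalBlock k hk χ hχ
  exact (Set.Finite.injOn_iff_bijOn_of_mapsTo (Set.toFinite _) hmaps).1
    ((irrPow_injective k hk).injOn)

theorem isCharacter_finset_sum {ι : Type*} (s : Finset ι) (f : ι → G → ℂ)
    (h : ∀ i ∈ s, IsCharacter G (f i)) : IsCharacter G (∑ i ∈ s, f i) := by
  classical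
  induction s using Finset.induction_on with
  | empty => simpa using Helper74.isCharacter_zero
  | insert a s ha ih =>
    rw [Finset.sum_insert ha]
    exact Helper74.isCharacter_add (h a (Finset.mem_insert_self a s))
      (ih fun i hi => h i (Finset.mem_insert_of_mem hi))

/-- The sum of `|χ(x)|²` over the principal block is a positive integer. -/
theorem principalBlock_normSq_sum_nat {p : ℕ} {M : Ideal AlgInt} (hM : IsPModular p M) (x : G) :
    ∃ n : ℕ, 0 < n ∧ ∑ᶠ χ ∈ principalBlock M G, Complex.normSq ((χ : G → ℂ) x) = n := by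
  classical
  have hMp := Helper77.isPrime_of_isPModular hM
  have hfin : Finite (IrrCharacter G) := irr_finite'
  have := Fintype.ofFinite (IrrCharacter G)
  have := Fintype.ofFinite G
  set B := principalBlock M G with hB
  set Θ : G → ℂ := fun g => ∑ᶠ χ ∈ B, (χ : G → ℂ) g * conj ((χ : G → ℂ) g) with hΘ
  have hΘsum : Θ = ∑ χ ∈ (Set.toFinite B).toFinset,
      ((χ : G → ℂ) * fun g => conj ((χ : G → ℂ) g)) := by
    funext g
    simp only [hΘ]
    rw [finsum_mem_eq_finite_toFinset_sum _ (Set.toFinite B), Finset.sum_apply]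
    rfl
  have hΘchar : IsCharacter G Θ := by
    rw [hΘsum]
    refine isCharacter_finset_sum _ _ fun χ _ => ?_
    exact Helper74.isCharacter_mul (irr_isCharacter χ) (Helper74.isCharacter_conj (irr_isCharacter χ))
  -- Galois invariance
  have hinv : ∀ k, k < Nat.card G → k.Coprime (Nat.card G) → Θ (x ^ k) = Θ x := by
    intro k _ hk
    simp only [hΘ]
    exact finsum_principalBlock_irrPow k hk (fun χ => (χ : G → ℂ) x * conj ((χ : G → ℂ) x))
  obtain ⟨q, hq⟩ := Helper82.char_rational_of_pow_eq hΘchar x (Nat.card G) Nat.card_pos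
    (pow_card_eq_one') hinv
  -- integrality
  have hint : IsIntegral ℤ (Θ x) := by
    simp only [hΘ]
    rw [finsum_mem_eq_finite_toFinset_sum _ (Set.toFinite B)]
    refine IsIntegral.sum _ fun χ _ => ?_
    refine IsIntegral.mul (Helper80.IsCharacter.isIntegral (irr_isCharacter χ) x) ?_
    rw [← irr_inv]
    exact Helper80.IsCharacter.isIntegral (irr_isCharacter χ) _
  rw [hq] at hint
  have hq' : IsIntegral ℤ q := by
    have : (q : ℂ) = algebraMap ℚ ℂ q := rfl
    rw [this] at hint
    exact (isIntegral_algebraMap_iff (algebraMap ℚ ℂ).injective).1 hint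
  obtain ⟨m, hm⟩ := IsIntegrallyClosed.isIntegral_iff.1 hq'
  -- relate to the real sum
  have hreal : ((∑ᶠ χ ∈ B, Complex.normSq ((χ : G → ℂ) x) : ℝ) : ℂ) = Θ x := by
    simp only [hΘ]
    rw [finsum_mem_eq_finite_toFinset_sum _ (Set.toFinite B),
      finsum_mem_eq_finite_toFinset_sum _ (Set.toFinite B)]
    push_cast
    refine Finset.sum_congr rfl fun χ _ => ?_
    rw [Complex.mul_conj]
  have hval : (∑ᶠ χ ∈ B, Complex.normSq ((χ : G → ℂ) x) : ℝ) = (m : ℝ) := by
    have h1 : ((∑ᶠ χ ∈ B, Complex.normSq ((χ : G → ℂ) x) : ℝ) : ℂ) = ((m : ℝ) : ℂ) := by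
      rw [hreal, hq, ← hm]
      simp
    exact_mod_cast h1
  -- positivity
  have hpos : (1 : ℝ) ≤ ∑ᶠ χ ∈ B, Complex.normSq ((χ : G → ℂ) x) := by
    rw [finsum_mem_eq_finite_toFinset_sum _ (Set.toFinite B)]
    have hmem : principalIrr G ∈ (Set.toFinite B).toFinset := by
      rw [Set.Finite.mem_toFinset]
      exact Helper16.sameBlock_refl _
    have h1 : Complex.normSq ((principalIrr G : G → ℂ) x) = 1 := by
      show Complex.normSq (1 : ℂ) = 1
      simp
    rw [← h1]
    exact Finset.single_le_sum (f := fun χ : IrrCharacter G => Complex.normSq ((χ : G → ℂ) x))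
      (fun χ _ => Complex.normSq_nonneg _) hmem
  rw [hval] at hpos
  have hm1 : (1 : ℤ) ≤ m := by exact_mod_cast hpos
  refine ⟨m.toNat, by omega, ?_⟩
  rw [hval]
  have : ((m.toNat : ℤ) : ℝ) = (m : ℝ) := by
    rw [Int.toNat_of_nonneg (by omega)]
  exact_mod_cast this.symm

end

end Cfsg.Agent.Helper79
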