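import Mathlib
import Cfsg.Agent.Helper42.DZDefs

/-!
# Piece (GG-a) of WANTED #5421 (helper42, S4538 + S2440): Bruhat decomposition of `SL_n(F)`
with respect to the unitriangular group
-/

set_option autoImplicit false
set_option linter.unusedSectionVars false

namespace Cfsg.Agent.Helper79.DZ

open Matrix Cfsg Cfsg.Agent.Helper42.DZ

variable {n : ℕ} {F : Type*} [Field F]

/-- an upper triangular matrix with unit diagonal has determinant one -/
theorem det_eq_one_of_unitriangular (U : Matrix (Fin n) (Fin n) F)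
    (h : ∀ i j : Fin n, j ≤ i → U i j = if i = j then 1 else 0) : U.det = 1 := by
  have hup : U.BlockTriangular id := by
    intro i j hji
    have hji' : j < i := hji
    rw [h i j hji'.le, if_neg (ne_of_gt hji')]
  rw [Matrix.det_of_isUpperTriangular hup]
  apply Finset.prod_eq_one
  intro i _
  rw [h i i le_rfl, if_pos rfl]

/-- the diagonal entries of an invertible upper triangular matrix are nonzero -/
theorem diag_ne_zero_of_borel (b : GL (Fin n) F) (hb : b ∈ Cfsg.Agent.Helper42.borel F n)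
    (i : Fin n) : (b : Matrix (Fin n) (Fin n) F) i i ≠ 0 := by
  intro h0
  have hup : (b : Matrix (Fin n) (Fin n) F).BlockTriangular id := hb
  have hdet : (b : Matrix (Fin n) (Fin n) F).det ≠ 0 := by
    have := Matrix.isUnits_det_units b
    exact this.ne_zero
  apply hdet
  rw [Matrix.det_of_isUpperTriangular hup]
  exact Finset.prod_eq_zero (Finset.mem_univ i) h0

/-- (GG-a) Bruhat decomposition of `SL_n(F)` with respect to the unitriangular group -/
theorem bruhat_SL (g : SLn n F) :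
    ∃ u ∈ US n F, ∃ m : SLn n F, IsMono m ∧ ∃ u' ∈ US n F, g = u * m * u' := by
  obtain ⟨b₁, hb₁, σ, b₂, hb₂, hg⟩ :=
    Cfsg.Agent.Helper42.bruhat_exists (Matrix.SpecialLinearGroup.toGL g)
  have hB₁ : ∀ i j : Fin n, j < i → (b₁ : Matrix (Fin n) (Fin n) F) i j = 0 :=
    Cfsg.Agent.Helper42.mem_borel.1 hb₁
  have hB₂ : ∀ i j : Fin n, j < i → (b₂ : Matrix (Fin n) (Fin n) F) i j = 0 :=
    Cfsg.Agent.Helper42.mem_borel.1 hb₂
  have hd₁ := diag_ne_zero_of_borel b₁ hb₁
  have hd₂ := diag_ne_zero_of_borel b₂ hb₂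
  -- the matrix identity
  have hgm : g.1 = (b₁ : Matrix (Fin n) (Fin n) F) * Cfsg.Agent.Helper42.pm F σ
      * (b₂ : Matrix (Fin n) (Fin n) F) := by
    have := congrArg (fun x : GL (Fin n) F => (x : Matrix (Fin n) (Fin n) F)) hg
    simpa [Units.val_mul, Cfsg.Agent.Helper42.permGL_val] using this
  -- the unitriangular factors
  set U₁ : Matrix (Fin n) (Fin n) F :=
    (b₁ : Matrix (Fin n) (Fin n) F) * Matrix.diagonal (fun j => ((b₁ : Matrix (Fin n) (Fin n) F) j j)⁻¹)
    with hU₁def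
  set U₂ : Matrix (Fin n) (Fin n) F :=
    Matrix.diagonal (fun i => ((b₂ : Matrix (Fin n) (Fin n) F) i i)⁻¹) * (b₂ : Matrix (Fin n) (Fin n) F)
    with hU₂def
  have hU₁ : ∀ i j : Fin n, j ≤ i → U₁ i j = if i = j then 1 else 0 := by
    intro i j hji
    rw [hU₁def, Matrix.mul_diagonal]
    by_cases h : i = j
    · subst h
      rw [if_pos rfl, mul_inv_cancel₀ (hd₁ i)]
    · rw [if_neg h, hB₁ i j (lt_of_le_of_ne hji (Ne.symm h)), zero_mul]
  have hU₂ : ∀ i j : Fin n, j ≤ i → U₂ i j = if i = j then 1 else 0 := by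
    intro i j hji
    rw [hU₂def, Matrix.diagonal_mul]
    by_cases h : i = j
    · subst h
      rw [if_pos rfl, inv_mul_cancel₀ (hd₂ i)]
    · rw [if_neg h, hB₂ i j (lt_of_le_of_ne hji (Ne.symm h)), mul_zero]
  -- the monomial middle factor
  set M : Matrix (Fin n) (Fin n) F :=
    Matrix.diagonal (fun i => (b₁ : Matrix (Fin n) (Fin n) F) i i) * Cfsg.Agent.Helper42.pm F σ
      * Matrix.diagonal (fun i => (b₂ : Matrix (Fin n) (Fin n) F) i i) with hMdef
  have hUD₁ : U₁ * Matrix.diagonal (fun i => (b₁ : Matrix (Fin n) (Fin n) F) i i)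
      = (b₁ : Matrix (Fin n) (Fin n) F) := by
    rw [hU₁def, Matrix.mul_assoc, Matrix.diagonal_mul_diagonal]
    have : (fun i => ((b₁ : Matrix (Fin n) (Fin n) F) i i)⁻¹ * (b₁ : Matrix (Fin n) (Fin n) F) i i)
        = fun _ => (1 : F) := by
      funext i; exact inv_mul_cancel₀ (hd₁ i)
    rw [this, Matrix.diagonal_one, Matrix.mul_one]
  have hDU₂ : Matrix.diagonal (fun i => (b₂ : Matrix (Fin n) (Fin n) F) i i) * U₂
      = (b₂ : Matrix (Fin n) (Fin n) F) := by
    rw [hU₂def, ← Matrix.mul_assoc, Matrix.diagonal_mul_diagonal]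
    have : (fun i => (b₂ : Matrix (Fin n) (Fin n) F) i i * ((b₂ : Matrix (Fin n) (Fin n) F) i i)⁻¹)
        = fun _ => (1 : F) := by
      funext i; exact mul_inv_cancel₀ (hd₂ i)
    rw [this, Matrix.diagonal_one, Matrix.one_mul]
  have hgM : g.1 = U₁ * M * U₂ := by
    rw [hgm, ← hUD₁, ← hDU₂, hMdef]
    simp only [Matrix.mul_assoc]
  -- elements of `SL_n`
  let u : SLn n F := ⟨U₁, det_eq_one_of_unitriangular U₁ hU₁⟩
  let u' : SLn n F := ⟨U₂, det_eq_one_of_unitriangular U₂ hU₂⟩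
  have hu : u ∈ US n F := Cfsg.Agent.Helper14.AutPSL.mem_UT.2 hU₁
  have hu' : u' ∈ US n F := Cfsg.Agent.Helper14.AutPSL.mem_UT.2 hU₂
  refine ⟨u, hu, u⁻¹ * g * u'⁻¹, ?_, u', hu', by group⟩
  -- the middle factor is `M`
  have hm : (u⁻¹ * g * u'⁻¹ : SLn n F).1 = M := by
    have h1 : (u⁻¹ : SLn n F).1 * U₁ = 1 := by
      have : (u⁻¹ * u : SLn n F).1 = 1 := by rw [inv_mul_cancel]; rfl
      rwa [Matrix.SpecialLinearGroup.coe_mul] at this
    have h2 : U₂ * (u'⁻¹ : SLn n F).1 = 1 := by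
      have : (u' * u'⁻¹ : SLn n F).1 = 1 := by rw [mul_inv_cancel]; rfl
      rwa [Matrix.SpecialLinearGroup.coe_mul] at this
    rw [Matrix.SpecialLinearGroup.coe_mul, Matrix.SpecialLinearGroup.coe_mul, hgM]
    calc (u⁻¹ : SLn n F).1 * (U₁ * M * U₂) * (u'⁻¹ : SLn n F).1
        = ((u⁻¹ : SLn n F).1 * U₁) * M * (U₂ * (u'⁻¹ : SLn n F).1) := by
          simp only [Matrix.mul_assoc]
      _ = M := by rw [h1, h2, Matrix.one_mul, Matrix.mul_one]
  refine ⟨σ.symm, fun i j hj => ?_⟩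
  rw [hm, hMdef, Matrix.mul_diagonal, Matrix.diagonal_mul, Cfsg.Agent.Helper42.pm_apply, if_neg,
    mul_zero, zero_mul]
  intro h
  apply hj
  rw [h, Equiv.symm_apply_apply]

end Cfsg.Agent.Helper79.DZ
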