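import Cfsg.Agent.Helper79.PronAL_CJ
import Cfsg.Agent.Helper14.AutSylow

/-! (OR) for helper31's PRONAL farm #15201 (S2225 block AL). -/

set_option autoImplicit false
set_option linter.unusedSectionVars false
set_option linter.unusedVariables false

namespace Cfsg.Agent.Helper79.Pron

open Matrix Cfsg.Agent.Helper42.DZ Cfsg.Agent.Helper84.PSLn Cfsg.Agent.Helper31.Pron

variable {n : ℕ} {F : Type*} [Field F]

/-- local copy of (LT): positive root subgroups lie in `US` -/
theorem OR_RR_of_lt {X : Subgroup (SLn n F)} (hX : US n F ≤ X) {a b : Fin n} (hab : a < b) :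
    RR X a b := by
  refine ⟨hab.ne, fun c => hX ?_⟩
  rw [Cfsg.Agent.Helper14.AutPSL.mem_UT]
  intro i j hji
  rw [Matrix.SpecialLinearGroup.transvection_coe, Matrix.add_apply, Matrix.one_apply,
    Matrix.single_apply]
  have hne : ¬ (a = i ∧ b = j) := by
    rintro ⟨h1, h2⟩
    subst h1; subst h2
    exact absurd hab (not_lt.mpr hji)
  rw [if_neg hne, add_zero]

/-- iterating (CJ). -/
theorem OR_iter {X : Subgroup (SLn n F)} {m : SLn n F} (hm : m ∈ X) (σ : Equiv.Perm (Fin n))
    (hσ : ∀ i j : Fin n, j ≠ σ i → m.1 i j = 0) (t : ℕ) {x y : Fin n} (h : RR X x y) :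
    RR X ((σ ^ t) x) ((σ ^ t) y) := by
  induction t with
  | zero => simpa using h
  | succ t ih =>
    rw [pow_succ', Equiv.Perm.mul_apply, Equiv.Perm.mul_apply]
    exact RR_conj hm σ hσ ih

/-- (OR) all root subgroups inside an orbit of the permutation of a monomial element of `X` lie in `X` -/
theorem RR_of_sameCycle {X : Subgroup (SLn n F)} (hX : US n F ≤ X) {m : SLn n F} (hm : m ∈ X)
    (σ : Equiv.Perm (Fin n)) (hσ : ∀ i j : Fin n, j ≠ σ i → m.1 i j = 0) {a b : Fin n}
    (hab : a ≠ b) (hc : σ.SameCycle a b) : RR X a b := by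
  classical
  set S : Finset (Fin n) := Finset.univ.filter (fun x => σ.SameCycle a x) with hS
  have haS : a ∈ S := by
    rw [hS, Finset.mem_filter]
    exact ⟨Finset.mem_univ _, Equiv.Perm.SameCycle.refl σ a⟩
  have hne : S.Nonempty := ⟨a, haS⟩
  set a0 := S.min' hne with ha0
  have ha0S : a0 ∈ S := Finset.min'_mem S hne
  have hsc0 : σ.SameCycle a a0 := by
    rw [hS, Finset.mem_filter] at ha0S
    exact ha0S.2
  obtain ⟨t, ht⟩ := hsc0.symm.exists_nat_pow_eq
  set c := (σ ^ t).symm b with hcdef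
  have hcb : (σ ^ t) c = b := by rw [hcdef, Equiv.apply_symm_apply]
  have hcS : c ∈ S := by
    rw [hS, Finset.mem_filter]
    refine ⟨Finset.mem_univ _, ?_⟩
    have h1 : σ.SameCycle a ((σ ^ t) c) := by rw [hcb]; exact hc
    exact Equiv.Perm.sameCycle_pow_right.mp h1
  have hca0 : c ≠ a0 := by
    intro h
    apply hab
    rw [← ht, ← hcb, h]
  have hle : a0 ≤ c := Finset.min'_le S c hcS
  have hlt : a0 < c := lt_of_le_of_ne hle (Ne.symm hca0)
  have h1 : RR X a0 c := OR_RR_of_lt hX hlt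
  have h2 := OR_iter hm σ hσ t h1
  rwa [ht, hcb] at h2

end Cfsg.Agent.Helper79.Pron
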