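import Mathlib
import Cfsg.Agent.Helper77.Blk.Defs
import Cfsg.Agent.Helper63.PGroup
import Cfsg.Agent.Helper66.ClassSize

/-!
# S3888 (Blackburn) swarm, piece (IDX): `|G : C_G(E)|` divides `p` for `E ⊴ G` of order `p^2`
-/

set_option autoImplicit false

universe u

namespace Cfsg.Agent.Helper79.Blk

open Subgroup Cfsg.Agent.Helper77.Blk

section setup
variable {G : Type u} [Group G] [Finite G] {p : ℕ} [hp : Fact p.Prime]

/-- (IDX) `|G : C_G(E)|` divides `p` for `E ⊴ G` of order `p^2` (`G` a `p`-group). -/
theorem index_centralizer_dvd (hG : IsPGroup p G) (E : Subgroup G) [E.Normal]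
    (hEcard : Nat.card E = p ^ 2) : (centralizer (E : Set G)).index ∣ p := by
  classical
  have hpp : p.Prime := hp.out
  by_cases hEZ : E ≤ center G
  · have htop : centralizer (E : Set G) = ⊤ := by
      rw [eq_top_iff]
      intro g _
      rw [mem_centralizer_iff]
      intro e he
      exact ((mem_center_iff.mp (hEZ he)) g).symm
    rw [htop, index_top]
    exact one_dvd p
  · obtain ⟨e2, he2E, he2Z⟩ := SetLike.not_le_iff_exists.mp hEZ
    have hEbot : E ≠ ⊥ := by
      rintro rfl
      rw [Subgroup.card_bot] at hEcard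
      have : 1 < p ^ 2 := Nat.one_lt_pow (by norm_num) hpp.one_lt
      omega
    have hZbot : E ⊓ center G ≠ ⊥ := Cfsg.Agent.Helper63.normal_inf_center_ne_bot hG E hEbot
    have key : centralizer ({e2} : Set G) ≤ centralizer (E : Set G) := by
      intro g hg
      rw [mem_centralizer_singleton_iff] at hg
      have hZF : E ⊓ center G ≤ E ⊓ centralizer ({g} : Set G) := by
        intro z hz
        refine mem_inf.mpr ⟨(mem_inf.mp hz).1, ?_⟩
        rw [mem_centralizer_singleton_iff]
        exact ((mem_center_iff.mp (mem_inf.mp hz).2) g).symm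
      have he2F : e2 ∈ E ⊓ centralizer ({g} : Set G) := by
        refine mem_inf.mpr ⟨he2E, ?_⟩
        rw [mem_centralizer_singleton_iff]
        exact hg.symm
      have hFE : E ⊓ centralizer ({g} : Set G) = E := by
        have hFdvd : Nat.card ↥(E ⊓ centralizer ({g} : Set G)) ∣ p ^ 2 :=
          hEcard ▸ card_dvd_of_le inf_le_left
        have hZdvd : Nat.card ↥(E ⊓ center G) ∣ p ^ 2 :=
          hEcard ▸ card_dvd_of_le inf_le_left
        obtain ⟨b, hb, hFb⟩ := (Nat.dvd_prime_pow hpp).mp hFdvd
        obtain ⟨a, ha, hZa⟩ := (Nat.dvd_prime_pow hpp).mp hZdvd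
        have ha0 : a ≠ 0 := by
          rintro rfl
          rw [pow_zero] at hZa
          exact hZbot (Subgroup.card_eq_one.mp hZa)
        have hne : E ⊓ center G ≠ E ⊓ centralizer ({g} : Set G) := by
          intro h
          rw [← h] at he2F
          exact he2Z (mem_inf.mp he2F).2
        have hlt : E ⊓ center G < E ⊓ centralizer ({g} : Set G) := lt_of_le_of_ne hZF hne
        have hablt : p ^ a < p ^ b := by
          rw [← hZa, ← hFb]
          by_contra hcon
          push Not at hcon
          exact hne (Subgroup.eq_of_le_of_card_ge hZF hcon)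
        have hab : a < b := (Nat.pow_lt_pow_iff_right hpp.one_lt).mp hablt
        have hb2 : b = 2 := by omega
        apply Subgroup.eq_of_le_of_card_ge inf_le_left
        rw [hFb, hb2, hEcard]
      rw [mem_centralizer_iff]
      intro e he
      have heF : e ∈ E ⊓ centralizer ({g} : Set G) := by
        rw [hFE]
        exact he
      have := (mem_inf.mp heF).2
      rw [mem_centralizer_singleton_iff] at this
      exact this
    have hle : centralizer (E : Set G) ≤ centralizer ({e2} : Set G) :=
      centralizer_le (Set.singleton_subset_iff.mpr he2E)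
    have heq : centralizer (E : Set G) = centralizer ({e2} : Set G) := le_antisymm hle key
    obtain ⟨k, hk⟩ := hG.index (centralizer ({e2} : Set G))
    rw [heq, hk]
    have he2one : e2 ≠ 1 := by
      rintro rfl
      exact he2Z (one_mem _)
    have hsub : Set.range (fun a : G => a * e2 * a⁻¹) ⊂ (E : Set G) := by
      refine ⟨?_, ?_⟩
      · rintro _ ⟨a, rfl⟩
        exact ‹E.Normal›.conj_mem e2 he2E a
      · intro hcon
        obtain ⟨a, ha⟩ := hcon (one_mem E)
        apply he2one
        have ha' : a * e2 * a⁻¹ = 1 := ha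
        calc e2 = a⁻¹ * (a * e2 * a⁻¹) * a := by group
          _ = 1 := by rw [ha']; group
    have hlt : p ^ k < p ^ 2 := by
      rw [← hk, ← Cfsg.Agent.Helper66.card_range_conj_eq_index, ← hEcard]
      have := Set.ncard_lt_ncard hsub (Set.toFinite _)
      rw [← Nat.card_coe_set_eq, ← Nat.card_coe_set_eq] at this
      exact this
    have hk2 : k < 2 := (Nat.pow_lt_pow_iff_right hpp.one_lt).mp hlt
    have hk1 : k ≤ 1 := by omega
    calc p ^ k ∣ p ^ 1 := pow_dvd_pow p hk1
      _ = p := pow_one p

end setup

end Cfsg.Agent.Helper79.Blk
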