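import Cfsg.Agent.Helper78.Olsson.Defs
import Cfsg.Agent.Helper16.ContribMajor
import Cfsg.Agent.Helper77.DefectOrder

/-!
Piece (DIAGabs) of helper78's plan for S4539 (Olsson: `l(b_z) ≤ 2 ⇒ k(B) ≤ p^d`): the diagonal case
`C = diag(p^e, p^d)`, `e < d`, of the row count.
-/

set_option autoImplicit false
set_option linter.style.haveILetI false
set_option linter.unusedSectionVars false
set_option linter.unusedVariables false

noncomputable section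

namespace Cfsg.Agent.Helper79.Olsson

open Cfsg Polynomial
open scoped ComplexConjugate
open Cfsg.Agent.Helper78.Olsson

/-- Galois conjugates of a vanishing power form vanish: if `∑ a_θ μ_θ^γ = 0` for one unit `γ` mod
`N`, where the `μ_θ` are `N`-th roots of unity, then `∑ a_θ μ_θ = 0`. -/
theorem pow_form_eq_zero_of_coprime {N : ℕ} (hN : 0 < N) {ι : Type*} [Fintype ι] (a : ι → ℤ)
    (μ : ι → ℂ) (hμ : ∀ θ, μ θ ^ N = 1) (γ : ℕ) (hγ : Nat.Coprime N γ)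
    (h0 : ∑ θ, (a θ : ℂ) * μ θ ^ γ = 0) : ∑ θ, (a θ : ℂ) * μ θ = 0 := by
  haveI : NeZero N := ⟨hN.ne'⟩
  set ζ : ℂ := Complex.exp (2 * Real.pi * Complex.I / N) with hζdef
  have hζ : IsPrimitiveRoot ζ N := Complex.isPrimitiveRoot_exp N hN.ne'
  have hk : ∀ θ, ∃ i < N, ζ ^ i = μ θ := fun θ => hζ.eq_pow_of_pow_eq_one (hμ θ)
  choose k hkN hkμ using hk
  set F : ℤ[X] := ∑ θ, C (a θ) * X ^ (k θ) with hF
  have hFeval : ∀ z : ℂ, aeval z F = ∑ θ, (a θ : ℂ) * z ^ (k θ) := by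
    intro z
    rw [hF, map_sum]
    refine Finset.sum_congr rfl (fun θ _ => ?_)
    rw [map_mul, aeval_C, map_pow, aeval_X]
    rfl
  have hζ' : IsPrimitiveRoot (ζ ^ γ) N := hζ.pow_of_coprime γ hγ.symm
  have h1 : aeval (ζ ^ γ) F = 0 := by
    rw [hFeval, ← h0]
    refine Finset.sum_congr rfl (fun θ _ => ?_)
    rw [← hkμ θ, ← pow_mul, ← pow_mul, Nat.mul_comm γ (k θ)]
  have h2 : minpoly ℤ (ζ ^ γ) ∣ F := minpoly.isIntegrallyClosed_dvd (hζ'.isIntegral hN) h1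
  rw [← cyclotomic_eq_minpoly hζ' hN, cyclotomic_eq_minpoly hζ hN] at h2
  have h3 : aeval ζ F = 0 := aeval_eq_zero_of_dvd_aeval_eq_zero h2 (minpoly.aeval ℤ ζ)
  rw [hFeval] at h3
  rw [← h3]
  refine Finset.sum_congr rfl (fun θ _ => ?_)
  rw [hkμ θ]

/-- (A) a nonzero power form has Galois-averaged square norm at least `φ(p^n)` -/
theorem sum_normSq_ge {p : ℕ} (hp : p.Prime) (n : ℕ) {ι : Type*} [Fintype ι] (a : ι → ℤ)
    (μ : ι → ℂ) (hμ : ∀ θ, μ θ ^ (p ^ n) = 1) (h1 : ∑ θ, (a θ : ℂ) * μ θ ≠ 0) :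
    ((p ^ n).totient : ℝ) ≤
      ∑ γ ∈ unitsRange p n, Complex.normSq (∑ θ, (a θ : ℂ) * μ θ ^ γ) := by
  have h := Cfsg.Agent.Helper16.sum_normSq_ge_totient hp n Finset.univ a μ (fun i _ => hμ i) h1
  exact h

/-- (B) if moreover all `|Y^γ|² / p` are `p`-locally integral, the bound improves to `φ(p^n) p` -/
theorem sum_normSq_ge_mul {p : ℕ} (hp : p.Prime) {M : Ideal AlgInt} (hM : IsPModular p M) (n : ℕ)
    {ι : Type*} [Fintype ι] (a : ι → ℤ) (μ : ι → ℂ) (hμ : ∀ θ, μ θ ^ (p ^ n) = 1)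
    (h1 : ∑ θ, (a θ : ℂ) * μ θ ≠ 0)
    (hloc : ∀ γ ∈ unitsRange p n, MemLocalRing M ((∑ θ, (a θ : ℂ) * μ θ ^ γ) *
      conj (∑ θ, (a θ : ℂ) * μ θ ^ γ) / (p : ℂ))) :
    ((p ^ n).totient : ℝ) * (p : ℝ) ≤
      ∑ γ ∈ unitsRange p n, Complex.normSq (∑ θ, (a θ : ℂ) * μ θ ^ γ) := by
  classical
  have hN : 0 < p ^ n := pow_pos hp.pos n
  -- the product form
  set a' : ι × ι → ℤ := fun q => a q.1 * a q.2 with ha'
  set μ' : ι × ι → ℂ := fun q => μ q.1 * conj (μ q.2) with hμ'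
  have hμ'pow : ∀ q ∈ (Finset.univ : Finset (ι × ι)), μ' q ^ (p ^ n) = 1 := by
    intro q _
    rw [hμ', mul_pow, ← map_pow, hμ, hμ, map_one, mul_one]
  have hform : ∀ γ : ℕ, ∑ q ∈ (Finset.univ : Finset (ι × ι)), (a' q : ℂ) * μ' q ^ γ =
      (∑ θ, (a θ : ℂ) * μ θ ^ γ) * conj (∑ θ, (a θ : ℂ) * μ θ ^ γ) := by
    intro γ
    rw [map_sum, Finset.sum_mul_sum, ← Fintype.sum_prod_type']
    refine Finset.sum_congr rfl (fun q _ => ?_)
    rw [ha', hμ', map_mul, map_pow, map_intCast, mul_pow]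
    push_cast
    ring
  have hr : ∀ γ ∈ (Finset.range (p ^ n)).filter (fun γ => Nat.Coprime (p ^ n) γ),
      ∑ q ∈ (Finset.univ : Finset (ι × ι)), (a' q : ℂ) * μ' q ^ γ =
        ((Complex.normSq (∑ θ, (a θ : ℂ) * μ θ ^ γ) : ℝ) : ℂ) := by
    intro γ _
    rw [hform, Complex.mul_conj]
  have hpos : ∀ γ ∈ (Finset.range (p ^ n)).filter (fun γ => Nat.Coprime (p ^ n) γ),
      0 < Complex.normSq (∑ θ, (a θ : ℂ) * μ θ ^ γ) := by
    intro γ hγ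
    rw [Finset.mem_filter] at hγ
    rw [Complex.normSq_pos]
    intro h0
    exact h1 (pow_form_eq_zero_of_coprime hN a μ hμ γ hγ.2 h0)
  have hloc' : ∀ γ ∈ (Finset.range (p ^ n)).filter (fun γ => Nat.Coprime (p ^ n) γ),
      MemLocalRing M ((∑ q ∈ (Finset.univ : Finset (ι × ι)), (a' q : ℂ) * μ' q ^ γ) /
        ((p ^ 1 : ℕ) : ℂ)) := by
    intro γ hγ
    rw [hform, pow_one]
    exact hloc γ hγ
  have h := Cfsg.Agent.Helper16.sum_ge_totient_mul_pow hp hM n 1 Finset.univ a' μ' hμ'pow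
    (fun γ => Complex.normSq (∑ θ, (a θ : ℂ) * μ θ ^ γ)) hr hpos hloc'
  rw [pow_one] at h
  exact h

/-- the arithmetic at the end of the diagonal case -/
theorem diag_arith (p e d a t s' : ℕ) (hp : 2 ≤ p) (hed : e < d) (hts : t ≤ s')
    (hB : t + p * (s' - t) ≤ p ^ d) (hA : a = 0 ∨ a + t ≤ p ^ e) : a + s' ≤ p ^ d := by
  have hu : s' - t ≤ p * (s' - t) := Nat.le_mul_of_pos_left _ (by omega)
  rcases hA with hA | hA
  · omega
  · have h1 : p * (a + t) ≤ p ^ d := by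
      calc p * (a + t) ≤ p * p ^ e := Nat.mul_le_mul_left p hA
        _ = p ^ (e + 1) := by rw [pow_succ, mul_comm]
        _ ≤ p ^ d := Nat.pow_le_pow_right (by omega) (by omega)
    have h2 : p * (s' - t) ≤ p ^ d := by omega
    have h3 : p * (a + s') ≤ p * p ^ d := by
      have h4 : a + s' = (a + t) + (s' - t) := by omega
      rw [h4, Nat.mul_add]
      calc p * (a + t) + p * (s' - t) ≤ p ^ d + p ^ d := Nat.add_le_add h1 h2
        _ = 2 * p ^ d := by ring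
        _ ≤ p * p ^ d := Nat.mul_le_mul_right _ hp
    exact Nat.le_of_mul_le_mul_left h3 (by omega)

/-- (DIAGabs) the diagonal case `C = diag(p^e, p^d)`, `e < d`. -/
theorem card_le_of_rows_diag {p : ℕ} (hp : p.Prime) {M : Ideal AlgInt} (hM : IsPModular p M)
    (n : ℕ) {K ι : Type*} [Fintype K] [Fintype ι] (S T0 : Finset K) (hT0 : T0 ⊆ S)
    (A : K → ι → Fin 2 → ℤ) (μ : ι → ℂ) (hμ : ∀ θ, μ θ ^ (p ^ n) = 1) (e d : ℕ) (hed : e < d)
    (horth0 : ∀ γ ∈ unitsRange p n,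
      ∑ χ : K, (∑ θ, (A χ θ 0 : ℂ) * μ θ ^ γ) * conj (∑ θ, (A χ θ 0 : ℂ) * μ θ ^ γ) =
        ((p ^ e : ℕ) : ℂ))
    (horth1 : ∀ γ ∈ unitsRange p n,
      ∑ χ : K, (∑ θ, (A χ θ 1 : ℂ) * μ θ ^ γ) * conj (∑ θ, (A χ θ 1 : ℂ) * μ θ ^ γ) =
        ((p ^ d : ℕ) : ℂ))
    (hnz : ∀ χ ∈ S, ¬ (∑ θ, (A χ θ 0 : ℂ) * μ θ = 0 ∧ ∑ θ, (A χ θ 1 : ℂ) * μ θ = 0))
    (hT0Y : ∀ χ ∈ T0, ∑ θ, (A χ θ 1 : ℂ) * μ θ ≠ 0)
    (hT0X : ∀ ψ ∈ S, ∑ θ, (A ψ θ 1 : ℂ) * μ θ = 0 → ∀ χ ∈ T0, ∑ θ, (A χ θ 0 : ℂ) * μ θ ≠ 0)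
    (hloc : ∀ χ ∈ S, χ ∉ T0 → ∀ γ ∈ unitsRange p n,
      MemLocalRing M ((∑ θ, (A χ θ 1 : ℂ) * μ θ ^ γ) * conj (∑ θ, (A χ θ 1 : ℂ) * μ θ ^ γ) /
        (p : ℂ))) :
    S.card ≤ p ^ d := by
  classical
  set Γ := unitsRange p n with hΓ
  have hΓcard : Γ.card = (p ^ n).totient := (Nat.totient_eq_card_coprime _).symm
  set φ : ℝ := ((p ^ n).totient : ℝ) with hφ
  have hφpos : 0 < φ := by
    rw [hφ]
    exact_mod_cast Nat.totient_pos.mpr (pow_pos hp.pos n)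
  set sX : K → ℝ := fun χ => ∑ γ ∈ Γ, Complex.normSq (∑ θ, (A χ θ 0 : ℂ) * μ θ ^ γ) with hsX
  set sY : K → ℝ := fun χ => ∑ γ ∈ Γ, Complex.normSq (∑ θ, (A χ θ 1 : ℂ) * μ θ ^ γ) with hsY
  have hsX0 : ∀ χ, 0 ≤ sX χ := fun χ => Finset.sum_nonneg (fun γ _ => Complex.normSq_nonneg _)
  have hsY0 : ∀ χ, 0 ≤ sY χ := fun χ => Finset.sum_nonneg (fun γ _ => Complex.normSq_nonneg _)
  have htot : ∀ (i : Fin 2) (c : ℕ), (∀ γ ∈ Γ,
      ∑ χ : K, (∑ θ, (A χ θ i : ℂ) * μ θ ^ γ) * conj (∑ θ, (A χ θ i : ℂ) * μ θ ^ γ) = (c : ℂ)) →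
      ∑ χ : K, ∑ γ ∈ Γ, Complex.normSq (∑ θ, (A χ θ i : ℂ) * μ θ ^ γ) = φ * (c : ℝ) := by
    intro i c hc
    rw [Finset.sum_comm]
    have h1 : ∀ γ ∈ Γ, ∑ χ : K, Complex.normSq (∑ θ, (A χ θ i : ℂ) * μ θ ^ γ) = (c : ℝ) := by
      intro γ hγ
      have h := hc γ hγ
      simp only [Complex.mul_conj] at h
      have h2 : ((∑ χ : K, Complex.normSq (∑ θ, (A χ θ i : ℂ) * μ θ ^ γ) : ℝ) : ℂ) =
          ((c : ℝ) : ℂ) := by
        rw [Complex.ofReal_sum]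
        rw [h]
        norm_cast
      exact_mod_cast h2
    rw [Finset.sum_congr rfl h1, Finset.sum_const, hΓcard, nsmul_eq_mul]
  have htotX : ∑ χ : K, sX χ = φ * ((p ^ e : ℕ) : ℝ) := htot 0 (p ^ e) horth0
  have htotY : ∑ χ : K, sY χ = φ * ((p ^ d : ℕ) : ℝ) := htot 1 (p ^ d) horth1
  -- the two parts of `S`
  set S0 : Finset K := S.filter (fun χ => ∑ θ, (A χ θ 1 : ℂ) * μ θ = 0) with hS0
  set S' : Finset K := S.filter (fun χ => ¬ ∑ θ, (A χ θ 1 : ℂ) * μ θ = 0) with hS'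
  have hcardS : S0.card + S'.card = S.card := Finset.card_filter_add_card_filter_not _
  have hT0S' : T0 ⊆ S' := by
    intro χ hχ
    rw [hS', Finset.mem_filter]
    exact ⟨hT0 hχ, hT0Y χ hχ⟩
  have hts : T0.card ≤ S'.card := Finset.card_le_card hT0S'
  -- lower bounds for `sY`
  have hY1 : ∀ χ ∈ T0, φ ≤ sY χ := fun χ hχ =>
    sum_normSq_ge hp n (fun θ => A χ θ 1) μ hμ (hT0Y χ hχ)
  have hY2 : ∀ χ ∈ S' \ T0, φ * (p : ℝ) ≤ sY χ := by
    intro χ hχ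
    rw [Finset.mem_sdiff, hS', Finset.mem_filter] at hχ
    exact sum_normSq_ge_mul hp hM n (fun θ => A χ θ 1) μ hμ hχ.1.2 (hloc χ hχ.1.1 hχ.2)
  have hB : ((T0.card + p * (S'.card - T0.card) : ℕ) : ℝ) ≤ ((p ^ d : ℕ) : ℝ) := by
    have h1 : ∑ χ ∈ S', sY χ ≤ ∑ χ : K, sY χ :=
      Finset.sum_le_sum_of_subset_of_nonneg (Finset.subset_univ _) (fun χ _ _ => hsY0 χ)
    have h2 : ∑ χ ∈ S', sY χ = ∑ χ ∈ T0, sY χ + ∑ χ ∈ S' \ T0, sY χ := by
      rw [add_comm, Finset.sum_sdiff hT0S']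
    have h3 : (T0.card : ℝ) * φ ≤ ∑ χ ∈ T0, sY χ := by
      have := Finset.card_nsmul_le_sum T0 sY φ hY1
      rwa [nsmul_eq_mul] at this
    have h4 : ((S' \ T0).card : ℝ) * (φ * (p : ℝ)) ≤ ∑ χ ∈ S' \ T0, sY χ := by
      have := Finset.card_nsmul_le_sum (S' \ T0) sY (φ * (p : ℝ)) hY2
      rwa [nsmul_eq_mul] at this
    have h5 : (S' \ T0).card = S'.card - T0.card := Finset.card_sdiff_of_subset hT0S'
    have h6 : φ * ((T0.card + p * (S'.card - T0.card) : ℕ) : ℝ) ≤ φ * ((p ^ d : ℕ) : ℝ) := by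
      rw [← htotY]
      refine le_trans ?_ h1
      rw [h2]
      refine le_trans (le_of_eq ?_) (add_le_add h3 h4)
      rw [h5]
      push_cast
      ring
    exact le_of_mul_le_mul_left h6 hφpos
  have hB' : T0.card + p * (S'.card - T0.card) ≤ p ^ d := by exact_mod_cast hB
  -- lower bounds for `sX`
  have hA : S0.card = 0 ∨ S0.card + T0.card ≤ p ^ e := by
    rcases Finset.eq_empty_or_nonempty S0 with h0 | ⟨ψ, hψ⟩
    · left
      rw [h0, Finset.card_empty]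
    · right
      rw [hS0, Finset.mem_filter] at hψ
      have hdisj : Disjoint S0 T0 := by
        rw [Finset.disjoint_left]
        intro χ h1 h2
        rw [hS0, Finset.mem_filter] at h1
        exact hT0Y χ h2 h1.2
      have hX1 : ∀ χ ∈ S0 ∪ T0, φ ≤ sX χ := by
        intro χ hχ
        rw [Finset.mem_union] at hχ
        rcases hχ with hχ | hχ
        · rw [hS0, Finset.mem_filter] at hχ
          refine sum_normSq_ge hp n (fun θ => A χ θ 0) μ hμ (fun h0 => ?_)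
          exact hnz χ hχ.1 ⟨h0, hχ.2⟩
        · exact sum_normSq_ge hp n (fun θ => A χ θ 0) μ hμ (hT0X ψ hψ.1 hψ.2 χ hχ)
      have h1 : ∑ χ ∈ S0 ∪ T0, sX χ ≤ ∑ χ : K, sX χ :=
        Finset.sum_le_sum_of_subset_of_nonneg (Finset.subset_univ _) (fun χ _ _ => hsX0 χ)
      have h3 : ((S0 ∪ T0).card : ℝ) * φ ≤ ∑ χ ∈ S0 ∪ T0, sX χ := by
        have := Finset.card_nsmul_le_sum (S0 ∪ T0) sX φ hX1
        rwa [nsmul_eq_mul] at this
      have h6 : φ * ((S0.card + T0.card : ℕ) : ℝ) ≤ φ * ((p ^ e : ℕ) : ℝ) := by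
        rw [← htotX, ← Finset.card_union_of_disjoint hdisj]
        refine le_trans (le_of_eq ?_) (h3.trans h1)
        ring
      have h7 := le_of_mul_le_mul_left h6 hφpos
      exact_mod_cast h7
  rw [← hcardS]
  exact diag_arith p e d S0.card T0.card S'.card hp.two_le hed hts hB' hA

end Cfsg.Agent.Helper79.Olsson

end
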