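import Mathlib
import Cfsg.Agent.Helper52.PQDefs
import Cfsg.Agent.Helper71.QuotImage
import Cfsg.Agent.Helper25.PQL
import Cfsg.Agent.Helper79.PQFV

/-!
# Piece (PR) of WANTED #5134 (helper52, S4306): `lemmaP_rel`, core transport

Relative form of Lemma P: pass to `N_H(Q1) / Q1` (`Helper71.QuotImage`) and apply Lemma P there.
The statement of Lemma P for the quotient group enters as the hypothesis `hP : LemmaPStmt _`.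
-/

set_option autoImplicit false
set_option linter.unusedSectionVars false

namespace Cfsg.Agent.Helper79.PQ

open Subgroup Cfsg.Agent.Helper1.Shult Cfsg.Agent.Helper52.PQ Cfsg.Agent.Helper71

/-- The statement of Lemma P ((P) of #5134) for all configurations inside the group `K`. -/
def LemmaPStmt (K : Type*) [Group K] : Prop :=
  ∀ (s t w u : ℕ) (_ : Fact w.Prime) (_ : Fact u.Prime) (σ τ : K), FrobPair s t σ τ →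
    w ≠ u → w ≠ s → w ≠ t → u ≠ s → u ≠ t →
    ∀ (Q R R0 : Subgroup K), IsEA w Q → IsPGroup u R → Inv σ τ Q → Inv σ τ R → Inv σ τ R0 →
    R ≤ normalizer (Q : Set K) → R0 ≤ R → R0 ≤ centralizer (Q : Set K) →
    (∀ x ∈ R, ∀ y ∈ R, x * y * x⁻¹ * y⁻¹ ∈ R0) → (∀ x ∈ R, x ^ u ∈ R0) →
    Q ⊓ centralizer (R : Set K) = ⊥ → Fix σ τ Q = ⊥ →
    (∀ x ∈ R, x⁻¹ * (σ * x * σ⁻¹) ∈ R0 → x ∈ R0) →
    ∀ (N : Subgroup K), N ≤ Q → (∀ g ∈ Q, g⁻¹ * (τ * g * τ⁻¹) ∈ N) →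
    (∀ x ∈ R, ∀ g ∈ Q,
      g⁻¹ * ((x⁻¹ * (τ * x * τ⁻¹)) * g * (x⁻¹ * (τ * x * τ⁻¹))⁻¹) ∈ N) → N = Q

variable {H : Type*} [Group H] [Finite H]

theorem mem_img_of (Q1 : Subgroup H) {S : Subgroup H} (a : ↥(normalizer (Q1 : Set H)))
    (ha : (a : H) ∈ S) : QI.proj Q1 a ∈ QI.img Q1 S := QI.mem_img.2 ⟨a.1, a.2, ha, rfl⟩

theorem exists_of_mem_img (Q1 : Subgroup H) {S : Subgroup H} {y : QI.Quo Q1}
    (hy : y ∈ QI.img Q1 S) :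
    ∃ a : ↥(normalizer (Q1 : Set H)), (a : H) ∈ S ∧ QI.proj Q1 a = y := by
  obtain ⟨s, hs, hsS, rfl⟩ := QI.mem_img.1 hy
  exact ⟨⟨s, hs⟩, hsS, rfl⟩

theorem proj_mem_normalizer_img (Q1 : Subgroup H) {T : Subgroup H}
    (a : ↥(normalizer (Q1 : Set H))) (ha : (a : H) ∈ normalizer (T : Set H)) :
    QI.proj Q1 a ∈ normalizer ((QI.img Q1 T : Subgroup (QI.Quo Q1)) : Set (QI.Quo Q1)) := by
  have h1 : zpowers (a : H) ≤ normalizer (T : Set H) := (zpowers_le).2 ha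
  exact QI.img_le_normalizer h1 (mem_img_of Q1 a (mem_zpowers _))

/-- an element of a `w`-group killed by a prime `s ≠ w` is trivial. -/
theorem eq_one_of_pow_prime_eq_one {w s : ℕ} [Fact w.Prime] (hs : s.Prime) (hws : w ≠ s)
    {Q : Subgroup H} (hQ : IsPGroup w Q) {z : H} (hz : z ∈ Q) (hzs : z ^ s = 1) : z = 1 := by
  have hw : w.Prime := Fact.out
  obtain ⟨k, hk⟩ := hQ ⟨z, hz⟩
  have hk' : z ^ (w ^ k) = 1 := by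
    have := congrArg Subtype.val hk
    simpa using this
  have h1 : orderOf z ∣ s := orderOf_dvd_of_pow_eq_one hzs
  have h2 : orderOf z ∣ w ^ k := orderOf_dvd_of_pow_eq_one hk'
  have hcop : Nat.Coprime s (w ^ k) :=
    Nat.Coprime.pow_right _ ((Nat.coprime_primes hs hw).2 (Ne.symm hws))
  have h3 := Nat.dvd_gcd h1 h2
  rw [hcop.gcd_eq_one] at h3
  exact orderOf_eq_one_iff.1 (Nat.dvd_one.1 h3)

/-- FrobPair passes to `N_H(Q1) / Q1` when `Q1` lies in a `w`-group, `w ≠ s, t`. -/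
theorem frobPair_proj {s t w : ℕ} [Fact w.Prime] {σ τ : H} (hF : FrobPair s t σ τ)
    (hws : w ≠ s) (hwt : w ≠ t) (Q Q1 : Subgroup H) (hQ : IsPGroup w Q) (hQ1Q : Q1 ≤ Q)
    (hσ : σ ∈ normalizer (Q1 : Set H)) (hτ : τ ∈ normalizer (Q1 : Set H)) :
    FrobPair s t (QI.proj Q1 ⟨σ, hσ⟩) (QI.proj Q1 ⟨τ, hτ⟩) := by
  have hσs : σ ^ s = 1 := by rw [← hF.oσ]; exact pow_orderOf_eq_one σ
  have hτt : τ ^ t = 1 := by rw [← hF.oτ]; exact pow_orderOf_eq_one τ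
  have hσ1 : σ ≠ 1 := by
    intro h
    have := hF.oσ
    rw [h, orderOf_one] at this
    exact hF.hs.one_lt.ne this
  have hτ1 : τ ≠ 1 := by
    intro h
    have := hF.oτ
    rw [h, orderOf_one] at this
    exact hF.ht.one_lt.ne this
  have : Fact s.Prime := ⟨hF.hs⟩
  have : Fact t.Prime := ⟨hF.ht⟩
  refine ⟨hF.hs, hF.ht, ?_, ?_, ?_, ?_⟩
  · apply orderOf_eq_prime
    · rw [← map_pow]
      have : (⟨σ, hσ⟩ : ↥(normalizer (Q1 : Set H))) ^ s = 1 := by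
        apply Subtype.ext
        rw [Subgroup.coe_pow, Subgroup.coe_one]
        exact hσs
      rw [this, map_one]
    · intro h
      rw [QI.proj_eq_one_iff] at h
      exact hσ1 (eq_one_of_pow_prime_eq_one hF.hs hws hQ (hQ1Q h) hσs)
  · apply orderOf_eq_prime
    · rw [← map_pow]
      have : (⟨τ, hτ⟩ : ↥(normalizer (Q1 : Set H))) ^ t = 1 := by
        apply Subtype.ext
        rw [Subgroup.coe_pow, Subgroup.coe_one]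
        exact hτt
      rw [this, map_one]
    · intro h
      rw [QI.proj_eq_one_iff] at h
      exact hτ1 (eq_one_of_pow_prime_eq_one hF.ht hwt hQ (hQ1Q h) hτt)
  · obtain ⟨k, hk⟩ := mem_zpowers_iff.1 hF.norm
    rw [mem_zpowers_iff]
    refine ⟨k, ?_⟩
    rw [← map_zpow, ← map_inv, ← map_mul, ← map_mul]
    congr 1
    apply Subtype.ext
    rw [Subgroup.coe_zpow]
    exact hk
  · intro hcomm
    have h1 : QI.proj Q1 ((⟨τ, hτ⟩ : ↥(normalizer (Q1 : Set H))) * ⟨σ, hσ⟩ * ⟨τ, hτ⟩⁻¹ * ⟨σ, hσ⟩⁻¹)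
        = 1 := by
      rw [map_mul, map_mul, map_mul, map_inv, map_inv, hcomm]
      group
    rw [QI.proj_eq_one_iff] at h1
    have h2 : τ * σ * τ⁻¹ * σ⁻¹ ∈ Q1 := h1
    obtain ⟨k, hk⟩ := mem_zpowers_iff.1 hF.norm
    have h3 : (τ * σ * τ⁻¹ * σ⁻¹) ^ s = 1 := by
      have e : τ * σ * τ⁻¹ * σ⁻¹ = σ ^ (k - 1) := by
        rw [zpow_sub_one, hk]
      rw [e, ← zpow_natCast, ← zpow_mul, mul_comm, zpow_mul, zpow_natCast, hσs, one_zpow]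
    have h4 := eq_one_of_pow_prime_eq_one hF.hs hws hQ (hQ1Q h2) h3
    apply hF.ncomm
    calc τ * σ = (τ * σ * τ⁻¹ * σ⁻¹) * σ * τ := by group
      _ = σ * τ := by rw [h4, one_mul]

theorem lemmaP_rel_core {s t w u : ℕ} [Fact w.Prime] [Fact u.Prime] {σ τ : H}
    (hF : FrobPair s t σ τ)
    (hwu : w ≠ u) (hws : w ≠ s) (hwt : w ≠ t) (hus : u ≠ s) (hut : u ≠ t)
    (Q Q1 R R0 : Subgroup H) (hP : LemmaPStmt (QI.Quo Q1))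
    (hQ : IsPGroup w Q) (hR : IsPGroup u R) (hQ1Q : Q1 ≤ Q)
    (hQcomm : ∀ g ∈ Q, ∀ h ∈ Q, g * h * g⁻¹ * h⁻¹ ∈ Q1) (hQpow : ∀ g ∈ Q, g ^ w ∈ Q1)
    (hQinv : Inv σ τ Q) (hQ1inv : Inv σ τ Q1) (hRinv : Inv σ τ R) (hR0inv : Inv σ τ R0)
    (hRQ : R ≤ normalizer (Q : Set H)) (hRQ1 : R ≤ normalizer (Q1 : Set H)) (hR0R : R0 ≤ R)
    (hR0 : ∀ x ∈ R0, ∀ g ∈ Q, g⁻¹ * (x * g * x⁻¹) ∈ Q1)
    (hRcomm : ∀ x ∈ R, ∀ y ∈ R, x * y * x⁻¹ * y⁻¹ ∈ R0) (hRpow : ∀ x ∈ R, x ^ u ∈ R0)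
    (hQR : ∀ g ∈ Q, (∀ x ∈ R, g⁻¹ * (x * g * x⁻¹) ∈ Q1) → g ∈ Q1) (hfixQ : Fix σ τ Q = ⊥)
    (hρ : ∀ x ∈ R, x⁻¹ * (σ * x * σ⁻¹) ∈ R0 → x ∈ R0)
    (N : Subgroup H) (hQ1N : Q1 ≤ N) (hNQ : N ≤ Q) (hNτ : ∀ g ∈ Q, g⁻¹ * (τ * g * τ⁻¹) ∈ N)
    (hNy : ∀ x ∈ R, ∀ g ∈ Q,
      g⁻¹ * ((x⁻¹ * (τ * x * τ⁻¹)) * g * (x⁻¹ * (τ * x * τ⁻¹))⁻¹) ∈ N) :
    N = Q := by
  have hwp : w.Prime := Fact.out
  have hup : u.Prime := Fact.out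
  -- `Q` normalizes `Q1`
  have hQQ1 : Q ≤ normalizer (Q1 : Set H) := by
    intro g hg
    apply mem_normalizer_of_forall
    · intro k hk
      have h1 := hQcomm g hg k (hQ1Q hk)
      have e : g * k * g⁻¹ = (g * k * g⁻¹ * k⁻¹) * k := by group
      rw [e]; exact mul_mem h1 hk
    · intro k hk
      have h1 := hQcomm g⁻¹ (inv_mem hg) k (hQ1Q hk)
      have e : g⁻¹ * k * g = (g⁻¹ * k * g⁻¹⁻¹ * k⁻¹) * k := by group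
      rw [e]; exact mul_mem h1 hk
  have hR0Q1 : R0 ≤ normalizer (Q1 : Set H) := hR0R.trans hRQ1
  have hRQbot : R ⊓ Q = ⊥ :=
    disjoint_iff.1 (IsPGroup.disjoint_of_ne u w (Ne.symm hwu) R Q hR hQ)
  have hσ := hQ1inv.1
  have hτ := hQ1inv.2
  have hF' := frobPair_proj hF hws hwt Q Q1 hQ hQ1Q hσ hτ
  -- the data in the quotient
  have hQ' : IsEA w (QI.img Q1 Q) := by
    constructor
    · intro y1 hy1 y2 hy2
      obtain ⟨a1, ha1, rfl⟩ := exists_of_mem_img Q1 hy1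
      obtain ⟨a2, ha2, rfl⟩ := exists_of_mem_img Q1 hy2
      rw [← map_mul, ← map_mul, QI.proj_eq_proj_iff]
      show ((a1 : H) * a2)⁻¹ * ((a2 : H) * a1) ∈ Q1
      have h1 := hQcomm _ (inv_mem ha2) _ (inv_mem ha1)
      have e : ((a1 : H) * a2)⁻¹ * ((a2 : H) * a1)
          = (a2 : H)⁻¹ * (a1 : H)⁻¹ * (a2 : H)⁻¹⁻¹ * (a1 : H)⁻¹⁻¹ := by group
      rw [e]; exact h1
    · intro y hy
      obtain ⟨a, ha, rfl⟩ := exists_of_mem_img Q1 hy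
      rw [← map_pow, QI.proj_eq_one_iff]
      show (a : H) ^ w ∈ Q1
      exact hQpow _ ha
  have hR' : IsPGroup u (QI.img Q1 R) := QI.isPGroup_img hR
  have hQinv' : Inv (QI.proj Q1 ⟨σ, hσ⟩) (QI.proj Q1 ⟨τ, hτ⟩) (QI.img Q1 Q) :=
    ⟨proj_mem_normalizer_img Q1 ⟨σ, hσ⟩ hQinv.1, proj_mem_normalizer_img Q1 ⟨τ, hτ⟩ hQinv.2⟩
  have hRinv' : Inv (QI.proj Q1 ⟨σ, hσ⟩) (QI.proj Q1 ⟨τ, hτ⟩) (QI.img Q1 R) :=
    ⟨proj_mem_normalizer_img Q1 ⟨σ, hσ⟩ hRinv.1, proj_mem_normalizer_img Q1 ⟨τ, hτ⟩ hRinv.2⟩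
  have hR0inv' : Inv (QI.proj Q1 ⟨σ, hσ⟩) (QI.proj Q1 ⟨τ, hτ⟩) (QI.img Q1 R0) :=
    ⟨proj_mem_normalizer_img Q1 ⟨σ, hσ⟩ hR0inv.1, proj_mem_normalizer_img Q1 ⟨τ, hτ⟩ hR0inv.2⟩
  have hRQ' : QI.img Q1 R ≤ normalizer ((QI.img Q1 Q : Subgroup (QI.Quo Q1)) : Set (QI.Quo Q1)) :=
    QI.img_le_normalizer hRQ
  have hR0R' : QI.img Q1 R0 ≤ QI.img Q1 R := QI.img_mono hR0R
  have hR0' : QI.img Q1 R0 ≤ centralizer ((QI.img Q1 Q : Subgroup (QI.Quo Q1)) : Set (QI.Quo Q1)) := by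
    intro y hy
    obtain ⟨x, hx, rfl⟩ := exists_of_mem_img Q1 hy
    rw [mem_centralizer_iff]
    intro z hz
    obtain ⟨g, hg, rfl⟩ := exists_of_mem_img Q1 hz
    rw [← map_mul, ← map_mul, QI.proj_eq_proj_iff]
    show ((g : H) * x)⁻¹ * ((x : H) * g) ∈ Q1
    have h1 := hR0 _ (inv_mem hx) _ hg
    have e : ((g : H) * x)⁻¹ * ((x : H) * g) = ((g : H)⁻¹ * ((x : H)⁻¹ * g * (x : H)⁻¹⁻¹))⁻¹ := by
      group
    rw [e]; exact inv_mem h1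
  have hRcomm' : ∀ x ∈ QI.img Q1 R, ∀ y ∈ QI.img Q1 R, x * y * x⁻¹ * y⁻¹ ∈ QI.img Q1 R0 := by
    intro x' hx' y' hy'
    obtain ⟨x, hx, rfl⟩ := exists_of_mem_img Q1 hx'
    obtain ⟨y, hy, rfl⟩ := exists_of_mem_img Q1 hy'
    rw [← map_inv, ← map_inv, ← map_mul, ← map_mul, ← map_mul]
    exact mem_img_of Q1 _ (hRcomm _ hx _ hy)
  have hRpow' : ∀ x ∈ QI.img Q1 R, x ^ u ∈ QI.img Q1 R0 := by
    intro x' hx'
    obtain ⟨x, hx, rfl⟩ := exists_of_mem_img Q1 hx'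
    rw [← map_pow]
    exact mem_img_of Q1 _ (hRpow _ hx)
  have hQR' : QI.img Q1 Q ⊓ centralizer ((QI.img Q1 R : Subgroup (QI.Quo Q1)) : Set (QI.Quo Q1))
      = ⊥ := by
    rw [eq_bot_iff]
    intro y hy
    obtain ⟨g, hgn, hgQ, hcomm, rfl⟩ := (QI.mem_img_inf_centralizer hRQ1).1 hy
    rw [mem_bot, QI.proj_eq_one_iff]
    apply hQR g hgQ
    intro x hx
    have h1 := hcomm x⁻¹ (inv_mem hx)
    have e : g⁻¹ * (x * g * x⁻¹) = (x⁻¹ * g)⁻¹ * (g * x⁻¹) := by group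
    rw [e]; exact h1
  have hcop : (Nat.card Q1).Coprime (s * t) := by
    obtain ⟨k, hk⟩ := (IsPGroup.iff_card).1 (hQ.to_le hQ1Q)
    rw [hk]
    apply Nat.Coprime.pow_left
    exact Nat.Coprime.mul_right ((Nat.coprime_primes hwp hF.hs).2 hws)
      ((Nat.coprime_primes hwp hF.ht).2 hwt)
  have hfixQ' : Fix (QI.proj Q1 ⟨σ, hσ⟩) (QI.proj Q1 ⟨τ, hτ⟩) (QI.img Q1 Q) = ⊥ := by
    rw [eq_bot_iff]
    intro y hy
    obtain ⟨hyQ, hyC⟩ := mem_inf.1 hy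
    obtain ⟨g, hg, rfl⟩ := exists_of_mem_img Q1 hyQ
    rw [mem_centralizer_iff] at hyC
    -- the two commutation relations
    have key : ∀ (x : H) (hx : x ∈ normalizer (Q1 : Set H)),
        QI.proj Q1 ⟨x, hx⟩ * QI.proj Q1 g = QI.proj Q1 g * QI.proj Q1 ⟨x, hx⟩ →
        (g : H)⁻¹ * (x * g * x⁻¹) ∈ Q1 := by
      intro x hx h
      rw [← map_mul, ← map_mul, QI.proj_eq_proj_iff] at h
      have h1 : (x * (g : H))⁻¹ * ((g : H) * x) ∈ Q1 := h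
      have h2 := conj_mem_of_mem_normalizer hx h1
      have e : (g : H)⁻¹ * (x * g * x⁻¹) = (x * ((x * (g : H))⁻¹ * ((g : H) * x)) * x⁻¹)⁻¹ := by
        group
      rw [e]; exact inv_mem h2
    have hσg := key σ hσ (hyC _ (by left; rfl))
    have hτg := key τ hτ (hyC _ (by right; rfl))
    obtain ⟨n, hn, hfσ, hfτ⟩ :=
      Cfsg.Agent.Helper25.PQ.pq_fixed_lift hF Q1 hQ1inv hcop (g : H) hσg hτg
    have hgn : (g : H) * n ∈ Fix σ τ Q := by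
      refine mem_inf.2 ⟨mul_mem hg (hQ1Q hn), ?_⟩
      rw [mem_centralizer_iff]
      intro a ha
      rcases ha with rfl | ha
      · calc a * ((g : H) * n) = (a * ((g : H) * n) * a⁻¹) * a := by group
          _ = (g : H) * n * a := by rw [hfσ]
      · rw [Set.mem_singleton_iff] at ha
        subst ha
        calc a * ((g : H) * n) = (a * ((g : H) * n) * a⁻¹) * a := by group
          _ = (g : H) * n * a := by rw [hfτ]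
    rw [hfixQ, mem_bot] at hgn
    rw [mem_bot, QI.proj_eq_one_iff]
    have e : (g : H) = n⁻¹ := eq_inv_of_mul_eq_one_left hgn
    rw [e]; exact inv_mem hn
  have hρ' : ∀ x ∈ QI.img Q1 R,
      x⁻¹ * (QI.proj Q1 ⟨σ, hσ⟩ * x * (QI.proj Q1 ⟨σ, hσ⟩)⁻¹) ∈ QI.img Q1 R0 → x ∈ QI.img Q1 R0 := by
    intro x' hx' h
    obtain ⟨x, hx, rfl⟩ := exists_of_mem_img Q1 hx'
    obtain ⟨r0, hr0, hr0eq⟩ := exists_of_mem_img Q1 h
    rw [← map_inv, ← map_inv, ← map_mul, ← map_mul, ← map_mul, QI.proj_eq_proj_iff] at hr0eq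
    have h1 : (r0 : H)⁻¹ * ((x : H)⁻¹ * (σ * x * σ⁻¹)) ∈ Q1 := hr0eq
    have hcR : (x : H)⁻¹ * (σ * x * σ⁻¹) ∈ R :=
      mul_mem (inv_mem hx) (conj_mem_of_mem_normalizer hRinv.1 hx)
    have h2 : (r0 : H)⁻¹ * ((x : H)⁻¹ * (σ * x * σ⁻¹)) ∈ R ⊓ Q :=
      mem_inf.2 ⟨mul_mem (inv_mem (hR0R hr0)) hcR, hQ1Q h1⟩
    rw [hRQbot, mem_bot] at h2
    have h3 : (x : H)⁻¹ * (σ * x * σ⁻¹) = r0 := by
      calc (x : H)⁻¹ * (σ * x * σ⁻¹) = r0 * ((r0 : H)⁻¹ * ((x : H)⁻¹ * (σ * x * σ⁻¹))) := by group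
        _ = r0 := by rw [h2, mul_one]
    exact mem_img_of Q1 x (hρ _ hx (by rw [h3]; exact hr0))
  have hNQ' : QI.img Q1 N ≤ QI.img Q1 Q := QI.img_mono hNQ
  have hNτ' : ∀ g ∈ QI.img Q1 Q,
      g⁻¹ * (QI.proj Q1 ⟨τ, hτ⟩ * g * (QI.proj Q1 ⟨τ, hτ⟩)⁻¹) ∈ QI.img Q1 N := by
    intro g' hg'
    obtain ⟨g, hg, rfl⟩ := exists_of_mem_img Q1 hg'
    rw [← map_inv, ← map_inv, ← map_mul, ← map_mul, ← map_mul]
    exact mem_img_of Q1 _ (hNτ _ hg)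
  have hNy' : ∀ x ∈ QI.img Q1 R, ∀ g ∈ QI.img Q1 Q,
      g⁻¹ * ((x⁻¹ * (QI.proj Q1 ⟨τ, hτ⟩ * x * (QI.proj Q1 ⟨τ, hτ⟩)⁻¹)) * g *
        (x⁻¹ * (QI.proj Q1 ⟨τ, hτ⟩ * x * (QI.proj Q1 ⟨τ, hτ⟩)⁻¹))⁻¹) ∈ QI.img Q1 N := by
    intro x' hx' g' hg'
    obtain ⟨x, hx, rfl⟩ := exists_of_mem_img Q1 hx'
    obtain ⟨g, hg, rfl⟩ := exists_of_mem_img Q1 hg'
    have e : (QI.proj Q1 g)⁻¹ * (((QI.proj Q1 x)⁻¹ * (QI.proj Q1 ⟨τ, hτ⟩ * QI.proj Q1 x *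
          (QI.proj Q1 ⟨τ, hτ⟩)⁻¹)) * QI.proj Q1 g *
        ((QI.proj Q1 x)⁻¹ * (QI.proj Q1 ⟨τ, hτ⟩ * QI.proj Q1 x * (QI.proj Q1 ⟨τ, hτ⟩)⁻¹))⁻¹)
        = QI.proj Q1 (g⁻¹ * ((x⁻¹ * (⟨τ, hτ⟩ * x * ⟨τ, hτ⟩⁻¹)) * g *
            (x⁻¹ * (⟨τ, hτ⟩ * x * ⟨τ, hτ⟩⁻¹))⁻¹)) := by
      simp only [map_mul, map_inv]
    rw [e]
    exact mem_img_of Q1 _ (hNy _ hx _ hg)
  have hconc : QI.img Q1 N = QI.img Q1 Q :=
    hP s t w u inferInstance inferInstance _ _ hF' hwu hws hwt hus hut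
      (QI.img Q1 Q) (QI.img Q1 R) (QI.img Q1 R0) hQ' hR' hQinv' hRinv' hR0inv' hRQ' hR0R' hR0'
      hRcomm' hRpow' hQR' hfixQ' hρ' (QI.img Q1 N) hNQ' hNτ' hNy'
  apply le_antisymm hNQ
  intro g hg
  have h1 : QI.proj Q1 ⟨g, hQQ1 hg⟩ ∈ QI.img Q1 N := by
    rw [hconc]; exact mem_img_of Q1 ⟨g, hQQ1 hg⟩ hg
  obtain ⟨n, hn, hneq⟩ := exists_of_mem_img Q1 h1
  rw [QI.proj_eq_proj_iff] at hneq
  have h2 : (n : H)⁻¹ * g ∈ Q1 := hneq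
  have e : g = (n : H) * ((n : H)⁻¹ * g) := by group
  rw [e]
  exact mul_mem hn (hQ1N h2)

end Cfsg.Agent.Helper79.PQ
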