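import Mathlib
import Cfsg.Agent.Helper79.PQPRCore
import Cfsg.Agent.Helper33.PQP

/-!
# Piece (PR) of WANTED #5134 (helper52, S4306): `lemmaP_rel`

Relative form of Lemma P: `lemmaP_rel_core` (transport to `N_H(Q1) / Q1`) applied to helper33's
`lemmaP`.
-/

set_option autoImplicit false
set_option linter.unusedSectionVars false

namespace Cfsg.Agent.Helper79.PQ

open Subgroup Cfsg.Agent.Helper1.Shult Cfsg.Agent.Helper52.PQ Cfsg.Agent.Helper71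

variable {H : Type*} [Group H] [Finite H]

/-- Lemma P holds in every finite group. -/
theorem lemmaPStmt_of_finite (K : Type*) [Group K] [Finite K] : LemmaPStmt K := by
  intro s t w u hw hu σ τ hF hwu hws hwt hus hut Q R R0 hQ hR hQinv hRinv hR0inv hRQ hR0R hR0
    hRcomm hRpow hQR hfixQ hρ N hNQ hNτ hNy
  exact Cfsg.Agent.Helper33.PQ.lemmaP hF hwu hws hwt hus hut Q R R0 hQ hR hQinv hRinv hR0inv hRQ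
    hR0R hR0 hRcomm hRpow hQR hfixQ hρ N hNQ hNτ hNy

/-- (P') relative form: the same modulo an invariant subgroup `Q1` with `Q / Q1` elementary
abelian. -/
theorem lemmaP_rel {s t w u : ℕ} [Fact w.Prime] [Fact u.Prime] {σ τ : H} (hF : FrobPair s t σ τ)
    (hwu : w ≠ u) (hws : w ≠ s) (hwt : w ≠ t) (hus : u ≠ s) (hut : u ≠ t)
    (Q Q1 R R0 : Subgroup H) (hQ : IsPGroup w Q) (hR : IsPGroup u R) (hQ1Q : Q1 ≤ Q)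
    (hQcomm : ∀ g ∈ Q, ∀ h ∈ Q, g * h * g⁻¹ * h⁻¹ ∈ Q1) (hQpow : ∀ g ∈ Q, g ^ w ∈ Q1)
    (hQinv : Inv σ τ Q) (hQ1inv : Inv σ τ Q1) (hRinv : Inv σ τ R) (hR0inv : Inv σ τ R0)
    (hRQ : R ≤ normalizer (Q : Set H)) (hRQ1 : R ≤ normalizer (Q1 : Set H)) (hR0R : R0 ≤ R)
    (hR0 : ∀ x ∈ R0, ∀ g ∈ Q, g⁻¹ * (x * g * x⁻¹) ∈ Q1)
    (hRcomm : ∀ x ∈ R, ∀ y ∈ R, x * y * x⁻¹ * y⁻¹ ∈ R0) (hRpow : ∀ x ∈ R, x ^ u ∈ R0)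
    (hQR : ∀ g ∈ Q, (∀ x ∈ R, g⁻¹ * (x * g * x⁻¹) ∈ Q1) → g ∈ Q1) (hfixQ : Fix σ τ Q = ⊥)
    (hρ : ∀ x ∈ R, x⁻¹ * (σ * x * σ⁻¹) ∈ R0 → x ∈ R0)
    (N : Subgroup H) (hQ1N : Q1 ≤ N) (hNQ : N ≤ Q) (hNτ : ∀ g ∈ Q, g⁻¹ * (τ * g * τ⁻¹) ∈ N)
    (hNy : ∀ x ∈ R, ∀ g ∈ Q,
      g⁻¹ * ((x⁻¹ * (τ * x * τ⁻¹)) * g * (x⁻¹ * (τ * x * τ⁻¹))⁻¹) ∈ N) :
    N = Q :=
  lemmaP_rel_core hF hwu hws hwt hus hut Q Q1 R R0 (lemmaPStmt_of_finite _) hQ hR hQ1Q hQcomm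
    hQpow hQinv hQ1inv hRinv hR0inv hRQ hRQ1 hR0R hR0 hRcomm hRpow hQR hfixQ hρ N hQ1N hNQ hNτ hNy

end Cfsg.Agent.Helper79.PQ
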