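import Mathlib
import Cfsg.Agent.Helper42.DZDefs

/-!
# Piece (GG-c) of WANTED #5421 (helper42, S4538 + S2440): the anti-involution `iota`
-/

set_option autoImplicit false
set_option linter.unusedSectionVars false

namespace Cfsg.Agent.Helper79.DZ

open Matrix Cfsg Cfsg.Agent.Helper42.DZ

variable {n : ℕ} {F : Type*} [Field F]

/-- (GG-c) the anti-involution -/
theorem iota_mul (a b : SLn n F) : iota (a * b) = iota b * iota a := by
  apply Subtype.ext
  show ((a.1 * b.1)ᵀ).submatrix (Fin.revPerm : Fin n ≃ Fin n) (Fin.revPerm : Fin n ≃ Fin n)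
    = (b.1ᵀ).submatrix (Fin.revPerm : Fin n ≃ Fin n) (Fin.revPerm : Fin n ≃ Fin n)
      * (a.1ᵀ).submatrix (Fin.revPerm : Fin n ≃ Fin n) (Fin.revPerm : Fin n ≃ Fin n)
  rw [Matrix.transpose_mul, Matrix.submatrix_mul_equiv]

theorem iota_involutive : Function.Involutive (iota : SLn n F → SLn n F) := by
  intro g
  apply Subtype.ext
  ext i j
  rw [iota_apply, iota_apply, Fin.rev_rev, Fin.rev_rev]

theorem iota_mem_US (u : SLn n F) (hu : u ∈ US n F) : iota u ∈ US n F := by
  rw [Cfsg.Agent.Helper14.AutPSL.mem_UT] at hu ⊢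
  intro i j hji
  rw [iota_apply, hu (Fin.rev j) (Fin.rev i) (Fin.rev_le_rev.2 hji)]
  by_cases h : i = j
  · subst h
    rw [if_pos rfl, if_pos rfl]
  · rw [if_neg h, if_neg]
    intro h'
    exact h (Fin.rev_injective h').symm

/-- the superdiagonal sum as a double sum -/
theorem superdiag_sum_eq (g : Matrix (Fin n) (Fin n) F) :
    (∑ i : Fin n, if h : i.val + 1 < n then g i ⟨i.val + 1, h⟩ else 0)
      = ∑ i : Fin n, ∑ j : Fin n, if j.val = i.val + 1 then g i j else 0 := by
  apply Finset.sum_congr rfl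
  intro i _
  by_cases h : i.val + 1 < n
  · rw [dif_pos h, Finset.sum_eq_single (⟨i.val + 1, h⟩ : Fin n)]
    · rw [if_pos rfl]
    · intro j _ hj
      rw [if_neg]
      intro h'
      exact hj (Fin.ext h')
    · intro h'; exact absurd (Finset.mem_univ _) h'
  · rw [dif_neg h]
    symm
    apply Finset.sum_eq_zero
    intro j _
    rw [if_neg]
    intro h'
    have := j.2
    omega

theorem psiU_iota (ψ₀ : AddChar F ℂ) (u : SLn n F) : psiU ψ₀ (iota u) = psiU ψ₀ u := by
  unfold psiU
  congr 1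
  rw [superdiag_sum_eq, superdiag_sum_eq, Finset.sum_comm]
  rw [← Equiv.sum_comp (Fin.revPerm : Fin n ≃ Fin n)]
  apply Finset.sum_congr rfl
  intro j _
  rw [← Equiv.sum_comp (Fin.revPerm : Fin n ≃ Fin n)]
  apply Finset.sum_congr rfl
  intro i _
  rw [iota_apply]
  simp only [Fin.revPerm_apply, Fin.rev_rev]
  have hi := i.2
  have hj := j.2
  by_cases h : i.val = j.val + 1
  · rw [if_pos h, if_pos]
    rw [Fin.val_rev, Fin.val_rev]
    omega
  · rw [if_neg h, if_neg]
    rw [Fin.val_rev, Fin.val_rev]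
    omega

end Cfsg.Agent.Helper79.DZ
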