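import Mathlib

/-!
# `GL` is transitive on flags of a given type (helper79, piece (T) of board #4228 for helper42)
-/

set_option autoImplicit false

namespace Cfsg.Agent.Helper79.StFlag

open Module

theorem exists_linearEquiv_map_flag_aux {F : Type*} [Field F] (k : ℕ) :
    ∀ {V V' : Type*} [AddCommGroup V] [Module F V] [FiniteDimensional F V]
      [AddCommGroup V'] [Module F V'] [FiniteDimensional F V']
      (_ : finrank F V = finrank F V') (W : Fin k → Submodule F V) (W' : Fin k → Submodule F V'),
      Monotone W → Monotone W' → (∀ i, finrank F (W i) = finrank F (W' i)) →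
      ∃ g : V ≃ₗ[F] V', ∀ i, (W i).map (g : V →ₗ[F] V') = W' i := by
  induction k with
  | zero =>
    intro V V' _ _ _ _ _ _ hVV' W W' _ _ _
    exact ⟨LinearEquiv.ofFinrankEq V V' hVV', fun i => i.elim0⟩
  | succ k ih =>
    intro V V' _ _ _ _ _ _ hVV' W W' hW hW' hdim
    set T := W (Fin.last k) with hTdef
    set T' := W' (Fin.last k) with hT'def
    have hT : finrank F T = finrank F T' := hdim (Fin.last k)
    have hle : ∀ i : Fin k, W i.castSucc ≤ T := fun i => hW (Fin.le_last _)
    have hle' : ∀ i : Fin k, W' i.castSucc ≤ T' := fun i => hW' (Fin.le_last _)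
    let U : Fin k → Submodule F T := fun i => (W i.castSucc).comap T.subtype
    let U' : Fin k → Submodule F T' := fun i => (W' i.castSucc).comap T'.subtype
    have hU : Monotone U := fun i j hij =>
      Submodule.comap_mono (hW (Fin.castSucc_le_castSucc_iff.mpr hij))
    have hU' : Monotone U' := fun i j hij =>
      Submodule.comap_mono (hW' (Fin.castSucc_le_castSucc_iff.mpr hij))
    have hUd : ∀ i, finrank F (U i) = finrank F (U' i) := by
      intro i
      rw [(Submodule.comapSubtypeEquivOfLe (hle i)).finrank_eq,
        (Submodule.comapSubtypeEquivOfLe (hle' i)).finrank_eq]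
      exact hdim _
    obtain ⟨h, hh⟩ := ih hT U U' hU hU' hUd
    obtain ⟨C, hC⟩ := Submodule.exists_isCompl T
    obtain ⟨C', hC'⟩ := Submodule.exists_isCompl T'
    have hCd : finrank F C = finrank F C' := by
      have h1 := Submodule.finrank_add_eq_of_isCompl hC
      have h2 := Submodule.finrank_add_eq_of_isCompl hC'
      omega
    let u : C ≃ₗ[F] C' := LinearEquiv.ofFinrankEq C C' hCd
    let g : V ≃ₗ[F] V' := (Submodule.prodEquivOfIsCompl T C hC).symm ≪≫ₗ
      (h.prodCongr u) ≪≫ₗ (Submodule.prodEquivOfIsCompl T' C' hC')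
    have hg : ∀ x : T, g (x : V) = (h x : V') := by
      intro x
      simp [g]
    refine ⟨g, fun i => ?_⟩
    induction i using Fin.lastCases with
    | last =>
      ext y
      simp only [Submodule.mem_map, LinearEquiv.coe_coe]
      constructor
      · rintro ⟨x, hx, rfl⟩
        have := hg ⟨x, hx⟩
        simp only at this
        rw [this]
        exact (h ⟨x, hx⟩).2
      · intro hy
        refine ⟨(h.symm ⟨y, hy⟩ : V), (h.symm ⟨y, hy⟩).2, ?_⟩
        rw [hg]
        simp
    | cast j =>
      ext y
      simp only [Submodule.mem_map, LinearEquiv.coe_coe]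
      constructor
      · rintro ⟨x, hx, rfl⟩
        have hxT : x ∈ T := hle j hx
        have h1 : (⟨x, hxT⟩ : T) ∈ U j := hx
        have h2 : h ⟨x, hxT⟩ ∈ (U j).map (h : T →ₗ[F] T') := ⟨_, h1, rfl⟩
        rw [hh j] at h2
        have := hg ⟨x, hxT⟩
        simp only at this
        rw [this]
        exact h2
      · intro hy
        have hyT : y ∈ T' := hle' j hy
        have h1 : (⟨y, hyT⟩ : T') ∈ U' j := hy
        rw [← hh j] at h1
        obtain ⟨x', hx', hx'y⟩ := h1
        refine ⟨(x' : V), hx', ?_⟩
        rw [hg]
        have := congrArg Subtype.val hx'y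
        simpa using this

/-- Two flags of the same type in a finite-dimensional space are conjugate under `GL`. -/
theorem exists_linearEquiv_map_flag {F V : Type*} [Field F] [AddCommGroup V] [Module F V]
    [FiniteDimensional F V] {k : ℕ} (W W' : Fin k → Submodule F V) (hW : Monotone W)
    (hW' : Monotone W') (hdim : ∀ i, Module.finrank F (W i) = Module.finrank F (W' i)) :
    ∃ g : V ≃ₗ[F] V, ∀ i, (W i).map (g : V →ₗ[F] V) = W' i :=
  exists_linearEquiv_map_flag_aux k rfl W W' hW hW' hdim

end Cfsg.Agent.Helper79.StFlag
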