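import Mathlib

/-!
# Philip Hall's theorem: the Möbius function counts chains (helper79, piece (HALL) of board #4228)
-/

set_option autoImplicit false

namespace Cfsg.Agent.Helper79.StHall

open Finset

open Classical in
/-- The chains contained in a finset. -/
noncomputable def chainsIn {L : Type*} [PartialOrder L] (S : Finset L) : Finset (Finset L) :=
  S.powerset.filter (fun C : Finset L => IsChain (· ≤ ·) (C : Set L))

theorem mem_chainsIn {L : Type*} [PartialOrder L] (S C : Finset L) :
    C ∈ chainsIn S ↔ C ⊆ S ∧ IsChain (· ≤ ·) (C : Set L) := by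
  classical
  simp [chainsIn]

open Classical in
/-- `μ(⊥, a)` is the alternating count of chains in the open interval `(⊥, a)`. -/
theorem mu_bot_eq_chain_sum {L : Type*} [PartialOrder L] [OrderBot L] [Fintype L] [DecidableEq L]
    [LocallyFiniteOrder L] (a : L) (ha : a ≠ ⊥) :
    IncidenceAlgebra.mu ℤ (⊥ : L) a =
      ∑ C ∈ chainsIn (Finset.Ioo (⊥ : L) a),
        (-1 : ℤ) ^ (C.card + 1) := by
  induction a using WellFoundedLT.induction with
  | ind a ih =>
  have hlt : (⊥ : L) < a := bot_lt_iff_ne_bot.mpr ha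
  set S := Ioo (⊥ : L) a with hS
  -- the Möbius side
  have hmu : IncidenceAlgebra.mu ℤ (⊥ : L) a = -1 - ∑ m ∈ S,
      ∑ C ∈ chainsIn (Finset.Ioo (⊥ : L) m),
        (-1 : ℤ) ^ (C.card + 1) := by
    rw [IncidenceAlgebra.mu_eq_neg_sum_Ico_of_ne (Ne.symm ha), ← Ioo_insert_left hlt,
      sum_insert left_notMem_Ioo, IncidenceAlgebra.mu_self]
    have : ∑ x ∈ Ioo (⊥ : L) a, IncidenceAlgebra.mu ℤ (⊥ : L) x = ∑ m ∈ S,
        ∑ C ∈ chainsIn (Finset.Ioo (⊥ : L) m),
          (-1 : ℤ) ^ (C.card + 1) := by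
      refine sum_congr rfl fun m hm => ?_
      have hm' := mem_Ioo.mp hm
      exact ih m hm'.2 (bot_lt_iff_ne_bot.mp hm'.1)
    rw [this]
    ring
  rw [hmu]
  -- the chain side: split off the empty chain
  set ch : Finset (Finset L) := chainsIn S with hch
  have hempty : (∅ : Finset L) ∈ ch := by
    rw [hch, mem_chainsIn]
    exact ⟨empty_subset _, by simp⟩
  have hsplit : ∑ C ∈ ch, (-1 : ℤ) ^ (C.card + 1)
      = -1 + ∑ C ∈ ch.erase ∅, (-1 : ℤ) ^ (C.card + 1) := by
    rw [← add_sum_erase ch _ hempty]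
    simp
  rw [hsplit]
  -- the bijection `(m, C') ↦ insert m C'`
  have hbij : ∑ m ∈ S,
      ∑ C ∈ chainsIn (Finset.Ioo (⊥ : L) m),
        (-1 : ℤ) ^ (C.card + 1) = ∑ C ∈ ch.erase ∅, -(-1 : ℤ) ^ (C.card + 1) := by
    rw [sum_sigma']
    refine sum_bij (fun x _ => insert x.1 x.2) ?_ ?_ ?_ ?_
    · rintro ⟨m, C'⟩ hx
      simp only [mem_sigma, mem_chainsIn] at hx
      obtain ⟨hm, hC'S, hC'ch⟩ := hx
      have hm' := mem_Ioo.mp hm
      rw [mem_erase]
      refine ⟨insert_ne_empty _ _, ?_⟩
      rw [hch, mem_chainsIn]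
      constructor
      · intro b hb
        rcases mem_insert.mp hb with rfl | hb
        · exact hm
        · have := mem_Ioo.mp (hC'S hb)
          exact mem_Ioo.mpr ⟨this.1, this.2.trans hm'.2⟩
      · rw [coe_insert]
        apply hC'ch.insert
        intro b hb _
        right
        exact (mem_Ioo.mp (hC'S hb)).2.le
    · rintro ⟨m, C'⟩ hx ⟨m', C''⟩ hx' heq
      simp only [mem_sigma, mem_chainsIn] at hx hx'
      simp only at heq
      have h1 : ∀ b ∈ C', b < m := fun b hb => (mem_Ioo.mp (hx.2.1 hb)).2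
      have h2 : ∀ b ∈ C'', b < m' := fun b hb => (mem_Ioo.mp (hx'.2.1 hb)).2
      have hmm : m = m' := by
        have hm : m ∈ insert m' C'' := by rw [← heq]; exact mem_insert_self _ _
        have hm' : m' ∈ insert m C' := by rw [heq]; exact mem_insert_self _ _
        rcases mem_insert.mp hm with h | h
        · exact h
        · rcases mem_insert.mp hm' with h' | h'
          · exact h'.symm
          · exact absurd (h2 m h) (not_lt_of_gt (h1 m' h'))
      subst hmm
      have hn1 : m ∉ C' := fun h => lt_irrefl _ (h1 m h)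
      have hn2 : m ∉ C'' := fun h => lt_irrefl _ (h2 m h)
      have : C' = C'' := by
        have := congrArg (fun s => s.erase m) heq
        simpa [erase_insert hn1, erase_insert hn2] using this
      subst this
      rfl
    · intro C hC
      rw [mem_erase, hch, mem_chainsIn] at hC
      obtain ⟨hne, hCS, hCch⟩ := hC
      have hnon : C.Nonempty := nonempty_iff_ne_empty.mpr hne
      obtain ⟨m, hmax⟩ := C.exists_maximal hnon
      have hmC : m ∈ C := hmax.prop
      have hle : ∀ b ∈ C, b ≠ m → b < m := by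
        intro b hb hbm
        rcases hCch (mem_coe.mpr hb) (mem_coe.mpr hmC) hbm with h | h
        · exact lt_of_le_of_ne h hbm
        · exact absurd (hmax.le_of_ge hb h) (fun h' => hbm (le_antisymm h' h))
      refine ⟨⟨m, C.erase m⟩, ?_, insert_erase hmC⟩
      simp only [mem_sigma, mem_chainsIn]
      refine ⟨hCS hmC, ?_, ?_⟩
      · intro b hb
        have hb' := mem_erase.mp hb
        have hbS := mem_Ioo.mp (hCS hb'.2)
        exact mem_Ioo.mpr ⟨hbS.1, hle b hb'.2 hb'.1⟩
      · refine IsChain.mono ?_ hCch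
        intro b hb
        exact (mem_erase.mp (mem_coe.mp hb)).2
    · rintro ⟨m, C'⟩ hx
      simp only [mem_sigma, mem_chainsIn] at hx
      have hn1 : m ∉ C' := fun h => lt_irrefl _ (mem_Ioo.mp (hx.2.1 h)).2
      simp only
      rw [card_insert_of_notMem hn1]
      ring
  rw [hbij, sum_neg_distrib]
  ring

open Classical in
/-- **Philip Hall's theorem.** -/
theorem hall_chains {L : Type*} [PartialOrder L] [BoundedOrder L] [Fintype L] [DecidableEq L] [LocallyFiniteOrder L] (h : (⊥ : L) ≠ ⊤) : IncidenceAlgebra.mu ℤ (⊥ : L) ⊤ = ∑ C : Finset L, if IsChain (· ≤ ·) (C : Set L) ∧ ⊥ ∉ C ∧ ⊤ ∉ C then (-1 : ℤ) ^ (C.card + 1) else 0 := by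
  rw [mu_bot_eq_chain_sum (⊤ : L) (Ne.symm h), ← sum_filter]
  refine sum_congr ?_ fun _ _ => rfl
  ext C
  simp only [mem_filter, mem_chainsIn, mem_univ, true_and]
  constructor
  · rintro ⟨hsub, hch⟩
    refine ⟨hch, fun hb => ?_, fun ht => ?_⟩
    · exact lt_irrefl _ (mem_Ioo.mp (hsub hb)).1
    · exact lt_irrefl _ (mem_Ioo.mp (hsub ht)).2
  · rintro ⟨hch, hb, ht⟩
    refine ⟨fun x hx => ?_, hch⟩
    rw [mem_Ioo]
    constructor
    · apply bot_lt_iff_ne_bot.mpr
      rintro rfl
      exact hb hx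
    · apply lt_top_iff_ne_top.mpr
      rintro rfl
      exact ht hx

end Cfsg.Agent.Helper79.StHall
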