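import Mathlib
import Cfsg.Agent.Helper99.QSpEllDefs
import Cfsg.Agent.Helper99.QSpGlue
import Cfsg.Agent.Helper4.QSpQE2

/-!
# Piece (ME4b) of helper99's elliptic counting (S5988 / S5990): the span of an elliptic frame is an
elliptic space. (ME4a) `epair_span_props` enters as the explicit hypothesis `h4a`.
-/

set_option autoImplicit false
set_option linter.unusedSectionVars false
set_option linter.unusedVariables false
set_option linter.style.haveILetI false

namespace Cfsg.Agent.Helper79.QSpEll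

open Module
open Cfsg.Agent.Helper99.SpStruct
open Cfsg.Agent.Helper44 Cfsg.Agent.Helper44.QType
open Cfsg.Agent.Helper99.QSp
open Cfsg.Agent.Helper94

universe u v

variable {F : Type u} [Field F] [Fintype F]
variable {V : Type v} [AddCommGroup V] [Module F V] [FiniteDimensional F V]

/-- (ME4b), with the conclusion of (ME4a) for the elliptic pair of the frame as a hypothesis -/
theorem qeSpan_props' (Q : QuadraticForm F V) (hnd : (pB Q).Nondegenerate) {ζ : F}
    (hζ : ∀ t : F, t ^ 2 + t + ζ ≠ 0) {e : ℕ} {x : (Fin e → V × V) × (V × V)}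
    (hx : IsQEFrame Q ζ x)
    (h4a : finrank F ↥(Submodule.span F {x.2.1, x.2.2}) = 2 ∧
      Nd (pB Q) (Submodule.span F {x.2.1, x.2.2}) ∧
      QType Q (Submodule.span F {x.2.1, x.2.2}) 1 (-1)) :
    finrank F ↥(qeSpan (F := F) x) = 2 * (e + 1) ∧ Nd (pB Q) (qeSpan (F := F) x) ∧
      ¬ Hyp Q (qeSpan (F := F) x) := by
  obtain ⟨hs, h1, h2, hp⟩ := hx
  obtain ⟨hAdim, hAnd, hAty⟩ := h4a
  have hB := pB_symm Q
  have hHnd : Nd (pB Q) (Tn.hSpan (F := F) x.1) := Tn.nd_hSpan hB hs.1
  have hHdim : finrank F ↥(Tn.hSpan (F := F) x.1) = 2 * e := Tn.finrank_hSpan hB hs.1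
  have hHty : QType Q (Tn.hSpan (F := F) x.1) e 1 :=
    (Cfsg.Agent.Helper99.QSpGlue.hyp_iff_qType Q hHnd hHdim).mp (Cfsg.Agent.Helper4.QSp.hyp_hSpan Q hs)
  have horth : Orth (pB Q) (Tn.hSpan (F := F) x.1) (Submodule.span F {x.2.1, x.2.2}) := by
    rw [orth_iff_le, Submodule.span_le]
    intro y hy
    rcases hy with rfl | hy
    · exact h1
    · rw [Set.mem_singleton_iff] at hy
      rw [hy]
      exact h2
  have hdis : Disjoint (Tn.hSpan (F := F) x.1) (Submodule.span F {x.2.1, x.2.2}) :=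
    horth.disjoint hHnd
  have hdim : finrank F ↥(qeSpan (F := F) x) = 2 * (e + 1) := by
    have h := Submodule.finrank_sup_add_finrank_inf_eq (Tn.hSpan (F := F) x.1)
      (Submodule.span F {x.2.1, x.2.2})
    rw [hdis.eq_bot, finrank_bot, hHdim, hAdim] at h
    unfold qeSpan
    omega
  have hNd : Nd (pB Q) (qeSpan (F := F) x) := hHnd.sup hB.isRefl hAnd horth
  refine ⟨hdim, hNd, ?_⟩
  intro hHyp
  have hty1 : QType Q (qeSpan (F := F) x) (e + 1) 1 :=
    (Cfsg.Agent.Helper99.QSpGlue.hyp_iff_qType Q hNd hdim).mp hHyp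
  have hty2 : QType Q (qeSpan (F := F) x) (e + 1) (1 * -1) :=
    qType_sup Q hHnd hAnd horth hHdim (by rw [hAdim]) hHty hAty
  have := QType.unique hty1 hty2
  norm_num at this

end Cfsg.Agent.Helper79.QSpEll
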