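import Mathlib
import Cfsg.Agent.Helper45.VL.Defs

set_option autoImplicit false

universe u

namespace Cfsg.Agent.Helper79.VL

open Cfsg.Agent.Helper1.HKK Cfsg.Agent.Helper93.HKKLG Cfsg.Agent.Helper45.VL
open scoped commutatorElement

variable {G : Type u} [Group G]

theorem MEET_mem_Gam_one (x : G) : x ∈ Gam G 1 := by
  unfold Gam
  simp

/-- antisymmetry of the bracket in degree `(1, 1)` on classes of elements -/
theorem MEET_brk_antisymm (x y : G) :
    brkFun (cls 1 x) (cls 1 y) = - brkFun (cls 1 y) (cls 1 x) := by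
  rw [brkFun_cls (MEET_mem_Gam_one x) (MEET_mem_Gam_one y),
    brkFun_cls (MEET_mem_Gam_one y) (MEET_mem_Gam_one x)]
  have hmem : ⁅y, x⁆ ∈ Gam G (1 + 1) := comm_mem_Gam (MEET_mem_Gam_one y) (MEET_mem_Gam_one x)
  rw [← cls_inv hmem, commutatorElement_inv]

/-- (MEET) in degree 2 the bracket of `z i` with the span of the earlier generators lies in
the sum of the earlier ranges. -/
theorem map_closure_le_meet {d : ℕ} (z : Fin d → G) (i : Fin d) :
    (AddSubgroup.closure {a : A G 1 | ∃ l : Fin d, l < i ∧ a = cls 1 (z l)}).map (adz (z i) 1) ≤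
      (adz (z i) 1).range ⊓ ⨆ l : {l : Fin d // l < i}, (adz (z (l : Fin d)) 1).range := by
  refine le_inf ?_ ?_
  · rintro _ ⟨a, -, rfl⟩
    exact ⟨a, rfl⟩
  · rw [AddMonoidHom.map_closure, AddSubgroup.closure_le]
    rintro _ ⟨a, ⟨l, hl, rfl⟩, rfl⟩
    have hmem : (adz (z i) 1) (cls 1 (z l)) ∈ (adz (z (l : Fin d)) 1).range := by
      refine ⟨- cls 1 (z i), ?_⟩
      rw [map_neg, adz_apply, adz_apply, MEET_brk_antisymm (z i) (z l)]
    exact (le_iSup (fun l : {l : Fin d // l < i} => (adz (z (l : Fin d)) 1).range) ⟨l, hl⟩) hmem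

end Cfsg.Agent.Helper79.VL
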