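import Mathlib
import Cfsg.Agent.Helper45.VL.Defs

set_option autoImplicit false

universe u

namespace Cfsg.Agent.Helper79.VL

open Cfsg.Agent.Helper1.HKK Cfsg.Agent.Helper93.HKKLG Cfsg.Agent.Helper45.VL

variable {G : Type u} [Group G]

/-- (SUB1) breadth passes to subgroups. -/
theorem index_centralizer_subgroup_le [Finite G] (M : Subgroup G) (x : ↥M) :
    (Subgroup.centralizer ({x} : Set ↥M)).index ≤
      (Subgroup.centralizer ({(x : G)} : Set G)).index := by
  have heq : Subgroup.centralizer ({x} : Set ↥M) =
      (Subgroup.centralizer ({(x : G)} : Set G)).subgroupOf M := by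
    ext g
    rw [Subgroup.mem_subgroupOf, Subgroup.mem_centralizer_singleton_iff,
      Subgroup.mem_centralizer_singleton_iff]
    constructor
    · intro h
      have := congrArg Subtype.val h
      simpa using this
    · intro h
      apply Subtype.ext
      simpa using h
  rw [heq]
  have h1 : ((Subgroup.centralizer ({(x : G)} : Set G)).subgroupOf M).index =
      (Subgroup.centralizer ({(x : G)} : Set G)).relIndex M := rfl
  rw [h1, ← Subgroup.relIndex_top_right (Subgroup.centralizer ({(x : G)} : Set G))]
  apply Subgroup.relIndex_le_of_le_right le_top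
  rw [Subgroup.relIndex_top_right]
  exact Subgroup.index_ne_zero_of_finite

end Cfsg.Agent.Helper79.VL
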