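import Mathlib

/-!
# Piece (VIETA) of helper95's #10889 (order of the Suzuki-type Zassenhaus groups)
-/

set_option autoImplicit false

namespace Cfsg.Agent.Helper79.SzOrd

/-- the Vieta descent: `(a+b-2)^2 + 4 = 4 j a b` has no solution in positive integers for `j ≥ 2` -/
theorem vieta_descent (j : ℤ) (hj : 2 ≤ j) : ∀ n : ℕ, ∀ a b : ℤ, 1 ≤ a → a ≤ b → a + b ≤ n →
    (a + b - 2) ^ 2 + 4 = 4 * j * a * b → False := by
  intro n
  induction n with
  | zero =>
    intro a b ha hab hn _
    have : (0 : ℤ) = ((0 : ℕ) : ℤ) := rfl
    simp only [Nat.cast_zero] at hn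
    linarith
  | succ n ih =>
    intro a b ha hab hn hE
    rcases eq_or_lt_of_le hab with h | h
    · -- a = b
      subst h
      nlinarith [mul_pos (show (0 : ℤ) < a by linarith) (show (0 : ℤ) < a by linarith)]
    · rcases eq_or_lt_of_le ha with h1 | h1
      · -- a = 1
        subst h1
        have hb2 : 2 ≤ b := by linarith
        have hprod : b * (4 * j + 2 - b) = 5 := by linarith [hE]
        have hpos : 0 < 4 * j + 2 - b := by
          by_contra hneg
          push Not at hneg
          nlinarith
        have hb5 : b ≤ 5 := by nlinarith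
        interval_cases b <;> omega
      · -- 2 ≤ a < b
        have ha2 : 2 ≤ a := by linarith
        set b' := (4 * j - 2) * a + 4 - b with hb'
        have hprod : b * b' = a ^ 2 - 4 * a + 8 := by
          rw [hb']; linarith [hE]
        have hbpos : 0 < b := by linarith
        have hb'pos : 1 ≤ b' := by
          by_contra hneg
          push Not at hneg
          have h0 : b' ≤ 0 := by linarith
          nlinarith [mul_nonneg (le_of_lt hbpos) (show (0 : ℤ) ≤ -b' by linarith)]
        have hb'lt : b' < a := by
          by_contra hneg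
          push Not at hneg
          nlinarith [mul_le_mul_of_nonneg_left hneg (le_of_lt hbpos)]
        have hE' : (b' + a - 2) ^ 2 + 4 = 4 * j * b' * a := by
          rw [hb']; linarith [hE]
        refine ih b' a hb'pos (le_of_lt hb'lt) ?_ hE'
        have : b' + a < (n : ℤ) + 1 := by
          have : b' + a < a + b := by linarith
          push_cast at hn
          linarith
        linarith

/-- (VIETA) If `a + b = 2q + 2` and `ab ∣ q² + 1` then `ab = q² + 1`. -/
theorem vieta (a b q : ℕ) (hab : a + b = 2 * q + 2) (hdvd : a * b ∣ q ^ 2 + 1) :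
    a * b = q ^ 2 + 1 := by
  obtain ⟨j, hj⟩ := hdvd
  have ha : 1 ≤ a := by
    rcases Nat.eq_zero_or_pos a with h | h
    · subst h; simp at hj
    · exact h
  have hb : 1 ≤ b := by
    rcases Nat.eq_zero_or_pos b with h | h
    · subst h; simp at hj
    · exact h
  have hj1 : 1 ≤ j := by
    rcases Nat.eq_zero_or_pos j with h | h
    · subst h; simp at hj
    · exact h
  rcases eq_or_lt_of_le hj1 with h | h
  · rw [hj, ← h, mul_one]
  · exfalso
    have hjZ : (2 : ℤ) ≤ (j : ℤ) := by exact_mod_cast h
    have hE : ((a : ℤ) + b - 2) ^ 2 + 4 = 4 * (j : ℤ) * a * b := by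
      have h1 : ((a : ℤ) + b) = 2 * q + 2 := by exact_mod_cast hab
      have h2 : ((q : ℤ)) ^ 2 + 1 = a * b * j := by exact_mod_cast hj
      have : ((a : ℤ) + b - 2) = 2 * q := by linarith
      rw [this]; linarith
    rcases le_total a b with hle | hle
    · exact vieta_descent j hjZ (a + b) a b (by exact_mod_cast ha) (by exact_mod_cast hle)
        (by push_cast; exact le_refl _) hE
    · refine vieta_descent j hjZ (a + b) b a (by exact_mod_cast hb) (by exact_mod_cast hle)
        (by push_cast; linarith) ?_
      rw [show ((b : ℤ) + a - 2) = (a : ℤ) + b - 2 by ring, hE]; ring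

end Cfsg.Agent.Helper79.SzOrd
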