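import Mathlib
import Cfsg.Agent.Helper52.PQDefs
import Cfsg.Agent.Helper1.FpfThompson
import Cfsg.Agent.Helper65.Nilpotent

/-!
# Piece (NS) of WANTED #5134 (helper52, S4306): `not_sigma_central`

`σ` cannot centralize both `Q` and `R`: otherwise `τ` acts fixed-point-freely on `Q R`, which is
then nilpotent (Thompson), so `[Q, R] = 1`.
-/

set_option autoImplicit false
set_option linter.unusedSectionVars false

namespace Cfsg.Agent.Helper79.PQ

open Subgroup Cfsg.Agent.Helper1.Shult Cfsg.Agent.Helper52.PQ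
open scoped Pointwise

variable {H : Type*} [Group H] [Finite H]

variable {s t ℓ w u : ℕ} [Fact ℓ.Prime] [Fact w.Prime] [Fact u.Prime] {σ τ : H}
  {V Q R : Subgroup H}

/-- (NS) `σ` cannot centralize both `Q` and `R`. -/
theorem not_sigma_central (c : CoreCfg s t ℓ w u σ τ V Q R) (hQσ : Q ≤ centralizer {σ})
    (hRσ : R ≤ centralizer {σ}) : False := by
  have ht : t.Prime := c.hF.ht
  have hdisj : Disjoint Q R :=
    IsPGroup.disjoint_of_ne w u c.hwu Q R c.hQ c.hR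
  have hQRbot : Q ⊓ R = ⊥ := disjoint_iff.1 hdisj
  -- elements of `Q ⊔ R` are products
  have hKmem : ∀ y ∈ Q ⊔ R, ∃ q ∈ Q, ∃ x ∈ R, q * x = y := by
    intro y hy
    have h1 : y ∈ ((Q ⊔ R : Subgroup H) : Set H) := hy
    rw [Subgroup.coe_mul_of_right_le_normalizer_left Q R c.hRQ] at h1
    exact Set.mem_mul.1 h1
  -- uniqueness of the decomposition
  have huniq : ∀ q ∈ Q, ∀ q' ∈ Q, ∀ x ∈ R, ∀ x' ∈ R, q * x = q' * x' → q = q' ∧ x = x' := by
    intro q hq q' hq' x hx x' hx' h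
    have h1 : q'⁻¹ * q = x' * x⁻¹ := by
      calc q'⁻¹ * q = q'⁻¹ * (q * x) * x⁻¹ := by group
        _ = q'⁻¹ * (q' * x') * x⁻¹ := by rw [h]
        _ = x' * x⁻¹ := by group
    have h2 : q'⁻¹ * q ∈ Q ⊓ R :=
      mem_inf.2 ⟨mul_mem (inv_mem hq') hq, by rw [h1]; exact mul_mem hx' (inv_mem hx)⟩
    rw [hQRbot, mem_bot] at h2
    have h3 : x' * x⁻¹ = 1 := by rw [← h1, h2]
    constructor
    · calc q = q' * (q'⁻¹ * q) := by group
        _ = q' := by rw [h2, mul_one]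
    · calc x = (x' * x⁻¹)⁻¹ * x' := by group
        _ = x' := by rw [h3, inv_one, one_mul]
  -- `τ` normalizes `Q ⊔ R`
  have hτK : τ ∈ normalizer (((Q ⊔ R : Subgroup H)) : Set H) :=
    Subgroup.normalizer_inf_normalizer_le_normalizer_sup Q R (mem_inf.2 ⟨c.hQinv.2, c.hRinv.2⟩)
  let φ : MulAut ↥(Q ⊔ R) := Subgroup.normalizerMonoidHom (Q ⊔ R) ⟨τ, hτK⟩
  have hφ : ∀ y : ↥(Q ⊔ R), ((φ y : ↥(Q ⊔ R)) : H) = τ * y * τ⁻¹ := fun y => rfl
  have hpow : φ ^ t = 1 := by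
    show (Subgroup.normalizerMonoidHom (Q ⊔ R) ⟨τ, hτK⟩) ^ t = 1
    rw [← map_pow]
    have : (⟨τ, hτK⟩ : normalizer (((Q ⊔ R : Subgroup H)) : Set H)) ^ t = 1 := by
      apply Subtype.ext
      rw [Subgroup.coe_pow, Subgroup.coe_one]
      show τ ^ t = 1
      rw [← c.hF.oτ]
      exact pow_orderOf_eq_one τ
    rw [this, map_one]
  -- fixed point free
  have hfpf : MonoidHom.FixedPointFree ((φ : ↥(Q ⊔ R) ≃* ↥(Q ⊔ R)) : ↥(Q ⊔ R) →* ↥(Q ⊔ R)) := by
    intro y hy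
    have h1 : τ * (y : H) * τ⁻¹ = y := by
      have := congrArg Subtype.val hy
      simpa [hφ] using this
    obtain ⟨q, hq, x, hx, hqx⟩ := hKmem y y.2
    have hq' : τ * q * τ⁻¹ ∈ Q := (mem_normalizer_iff.1 c.hQinv.2 q).1 hq
    have hx' : τ * x * τ⁻¹ ∈ R := (mem_normalizer_iff.1 c.hRinv.2 x).1 hx
    have h2 : (τ * q * τ⁻¹) * (τ * x * τ⁻¹) = q * x := by
      calc (τ * q * τ⁻¹) * (τ * x * τ⁻¹) = τ * (q * x) * τ⁻¹ := by group
        _ = q * x := by rw [hqx, h1]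
    obtain ⟨e1, e2⟩ := huniq _ hq' _ hq _ hx' _ hx h2
    have hqfix : q ∈ Fix σ τ Q := by
      refine mem_inf.2 ⟨hq, ?_⟩
      rw [mem_centralizer_iff]
      intro a ha
      rcases ha with rfl | ha
      · have := hQσ hq
        rw [mem_centralizer_singleton_iff] at this
        exact this.symm
      · rw [Set.mem_singleton_iff] at ha
        subst ha
        calc a * q = (a * q * a⁻¹) * a := by group
          _ = q * a := by rw [e1]
    have hxfix : x ∈ Fix σ τ R := by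
      refine mem_inf.2 ⟨hx, ?_⟩
      rw [mem_centralizer_iff]
      intro a ha
      rcases ha with rfl | ha
      · have := hRσ hx
        rw [mem_centralizer_singleton_iff] at this
        exact this.symm
      · rw [Set.mem_singleton_iff] at ha
        subst ha
        calc a * x = (a * x * a⁻¹) * a := by group
          _ = x * a := by rw [e2]
    rw [c.hfixQ, mem_bot] at hqfix
    rw [c.hfixR, mem_bot] at hxfix
    apply Subtype.ext
    rw [Subgroup.coe_one, ← hqx, hqfix, hxfix, mul_one]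
  have : Group.IsNilpotent ↥(Q ⊔ R) := Cfsg.Agent.Helper1.fpf_prime_nilpotent ht φ hfpf hpow
  -- elements of `Q` and `R` commute
  have hw : w.Prime := Fact.out
  have hu : u.Prime := Fact.out
  have hcomm : ∀ q ∈ Q, ∀ x ∈ R, q * x = x * q := by
    intro q hq x hx
    have hqK : q ∈ Q ⊔ R := (le_sup_left : Q ≤ Q ⊔ R) hq
    have hxK : x ∈ Q ⊔ R := (le_sup_right : R ≤ Q ⊔ R) hx
    obtain ⟨k1, hk1⟩ := (IsPGroup.iff_orderOf.1 c.hQ) ⟨q, hq⟩
    obtain ⟨k2, hk2⟩ := (IsPGroup.iff_orderOf.1 c.hR) ⟨x, hx⟩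
    have ho1 : orderOf (⟨q, hqK⟩ : ↥(Q ⊔ R)) = w ^ k1 := by
      rw [← hk1, Subgroup.orderOf_mk, Subgroup.orderOf_mk]
    have ho2 : orderOf (⟨x, hxK⟩ : ↥(Q ⊔ R)) = u ^ k2 := by
      rw [← hk2, Subgroup.orderOf_mk, Subgroup.orderOf_mk]
    have hco : (orderOf (⟨q, hqK⟩ : ↥(Q ⊔ R))).Coprime (orderOf (⟨x, hxK⟩ : ↥(Q ⊔ R))) := by
      rw [ho1, ho2]
      exact Nat.Coprime.pow _ _ ((Nat.coprime_primes hw hu).2 c.hwu)
    have := Cfsg.Agent.Helper65.commute_of_coprime_orderOf ↥(Q ⊔ R) ⟨q, hqK⟩ ⟨x, hxK⟩ hco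
    exact congrArg Subtype.val this.eq
  have hQcR : Q ≤ centralizer (R : Set H) := by
    intro q hq
    rw [mem_centralizer_iff]
    intro x hx
    exact (hcomm q hq x hx).symm
  have hbot : ⁅Q, R⁆ = ⊥ := (Subgroup.commutator_eq_bot_iff_le_centralizer).2 hQcR
  have : Q = ⊥ := by
    rw [eq_bot_iff, ← hbot]
    exact c.hQR
  exact c.hQne this

end Cfsg.Agent.Helper79.PQ
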