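import Mathlib

/-!
# (D) of helper6's S2343 plan: the sum of the traces over a finite subgroup is a multiple of the
order of the subgroup (it is `|S|` times the dimension of the space of `S`-invariants).
-/

set_option autoImplicit false

namespace Cfsg.Agent.Helper79.ReeTrace

variable {V : Type*} [AddCommGroup V] [Module ℂ V] [FiniteDimensional ℂ V]

theorem sum_trace_subgroup {G : Type*} [Group G] (ρ : Representation ℂ G V) (S : Subgroup G)
    [Fintype S] :
    ∃ n : ℕ, ∑ s : S, LinearMap.trace ℂ V (ρ s) = ((Fintype.card S * n : ℕ) : ℂ) := by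
  classical
  set ρS : Representation ℂ S V := ρ.comp S.subtype with hρS
  have hcard : (Fintype.card S : ℂ) ≠ 0 := Nat.cast_ne_zero.mpr Fintype.card_ne_zero
  have : Invertible (Fintype.card S : ℂ) := invertibleOfNonzero hcard
  refine ⟨Module.finrank ℂ ρS.invariants, ?_⟩
  have htr := (Representation.isProj_averageMap ρS).trace
  have havg : ρS.averageMap = (Fintype.card S : ℂ)⁻¹ • ∑ s : S, ρ (s : G) := by
    rw [Representation.averageMap, GroupAlgebra.average, map_smul, map_sum, invOf_eq_inv]
    congr 1
    refine Finset.sum_congr rfl (fun s _ => ?_)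
    rw [Representation.asAlgebraHom_of]
    rfl
  rw [havg, map_smul, map_sum, smul_eq_mul] at htr
  push_cast
  rw [← htr]
  field_simp

end Cfsg.Agent.Helper79.ReeTrace
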