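import Cfsg.Agent.Helper61.HallDefs
import Cfsg.Agent.S0708

/-!
# The pairing lemma (helper79, piece (T4) of board #4683 for helper61, S4221)

Element-wise proof, no cardinalities: `Fix (stab4 q1 q2 q3 q4) = {q1, q2, q3, q4, y}` for every four
distinct points (conjugate `hfixH`), and `u p ∈ Fix (stab4 e1 e2 x p)` for every point `p` moved by `u`.
-/

set_option autoImplicit false

namespace Cfsg.Agent.Helper79.HallT

open MulAction Cfsg.Agent.Helper61.Hall

variable {G : Type*} [Group G] {Ω : Type*} [MulAction G Ω]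

/-- `q` is fixed by every element fixing `T` pointwise. -/
def FixOf (G : Type*) [Group G] {Ω : Type*} [MulAction G Ω] (T : Set Ω) (q : Ω) : Prop :=
  ∀ h : G, (∀ t ∈ T, h • t = t) → h • q = q

theorem FixOf.mono {T T' : Set Ω} {q : Ω} (h : FixOf G T q) (hT : T ⊆ T') : FixOf G T' q :=
  fun g hg => h g (fun t ht => hg t (hT ht))

theorem FixOf.smul {T : Set Ω} {q : Ω} (h : FixOf G T q) (g : G) :
    FixOf G ((fun t => g • t) '' T) (g • q) := by
  intro k hk
  have h1 : (g⁻¹ * k * g) • q = q := by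
    apply h
    intro t ht
    rw [mul_smul, mul_smul, hk (g • t) ⟨t, ht, rfl⟩, inv_smul_smul]
  rw [mul_smul, mul_smul, inv_smul_eq_iff] at h1
  exact h1

theorem fixOf_iff_stab4 (a b c d q : Ω) :
    FixOf G ({a, b, c, d} : Set Ω) q ↔ ∀ h ∈ stab4 G a b c d, h • q = q := by
  constructor
  · intro h k hk
    rw [mem_stab4] at hk
    apply h
    intro t ht
    simp only [Set.mem_insert_iff, Set.mem_singleton_iff] at ht
    rcases ht with rfl | rfl | rfl | rfl
    · exact hk.1
    · exact hk.2.1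
    · exact hk.2.2.1
    · exact hk.2.2.2
  · intro h k hk
    apply h
    rw [mem_stab4]
    refine ⟨hk a ?_, hk b ?_, hk c ?_, hk d ?_⟩ <;> simp

theorem pair_centralizes [FaithfulSMul G Ω] [Finite G] (h4 : IsMultiplyPretransitive G Ω 4)
    {u : G} (hu : u * u = 1) {d1 d2 e1 e2 x : Ω}
    (hd12 : d1 ≠ d2) (hd1e1 : d1 ≠ e1) (hd1e2 : d1 ≠ e2) (hd1x : d1 ≠ x) (hd2e1 : d2 ≠ e1)
    (hd2e2 : d2 ≠ e2) (hd2x : d2 ≠ x) (he12 : e1 ≠ e2) (he1x : e1 ≠ x) (he2x : e2 ≠ x)
    (ud1 : u • d1 = d2)
    (hfixu : ∀ q : Ω, u • q = q ↔ q = e1 ∨ q = e2 ∨ q = x)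
    (hfixH : ∀ q : Ω, (∀ h ∈ stab4 G d1 d2 e1 e2, h • q = q) ↔
      q = d1 ∨ q = d2 ∨ q = e1 ∨ q = e2 ∨ q = x)
    (htrans : ∀ q q' : Ω, u • q ≠ q → u • q' ≠ q' → ∃ g : G, g * u = u * g ∧ g • q = q') :
    stab4 G d1 d2 e1 e2 ≤ Subgroup.centralizer {u} := by
  have huu : ∀ q : Ω, u • u • q = q := fun q => by rw [← mul_smul, hu, one_smul]
  -- conjugating `hfixH`
  have L1 : ∀ (g : G) (q : Ω), FixOf G ({g • d1, g • d2, g • e1, g • e2} : Set Ω) q ↔
      q = g • d1 ∨ q = g • d2 ∨ q = g • e1 ∨ q = g • e2 ∨ q = g • x := by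
    intro g q
    have himg : (fun t => g • t) '' ({d1, d2, e1, e2} : Set Ω) = {g • d1, g • d2, g • e1, g • e2} := by
      simp [Set.image_insert_eq]
    have himg' : (fun t => g⁻¹ • t) '' ({g • d1, g • d2, g • e1, g • e2} : Set Ω) = {d1, d2, e1, e2} := by
      simp [Set.image_insert_eq]
    have hiff : FixOf G ({g • d1, g • d2, g • e1, g • e2} : Set Ω) q ↔
        FixOf G ({d1, d2, e1, e2} : Set Ω) (g⁻¹ • q) := by
      constructor
      · intro h
        have := h.smul g⁻¹
        rwa [himg'] at this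
      · intro h
        have := h.smul g
        rwa [himg, smul_inv_smul] at this
    rw [hiff, fixOf_iff_stab4, hfixH]
    simp only [inv_smul_eq_iff]
  -- five fixed points for every four distinct points
  have L2 : ∀ q1 q2 q3 q4 : Ω, q1 ≠ q2 → q1 ≠ q3 → q1 ≠ q4 → q2 ≠ q3 → q2 ≠ q4 → q3 ≠ q4 →
      ∃ y : Ω, y ≠ q1 ∧ y ≠ q2 ∧ y ≠ q3 ∧ y ≠ q4 ∧ ∀ q, FixOf G ({q1, q2, q3, q4} : Set Ω) q ↔
        q = q1 ∨ q = q2 ∨ q = q3 ∨ q = q4 ∨ q = y := by
    intro q1 q2 q3 q4 h12 h13 h14 h23 h24 h34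
    obtain ⟨g, g1, g2, g3, g4⟩ := Cfsg.Agent.S0708.exists_map4 h4 hd12 hd1e1 hd1e2 hd2e1 hd2e2 he12
      h12 h13 h14 h23 h24 h34
    have hinj := MulAction.injective (β := Ω) g
    refine ⟨g • x, ?_, ?_, ?_, ?_, ?_⟩
    · rw [← g1]; exact fun h => hd1x (hinj h).symm
    · rw [← g2]; exact fun h => hd2x (hinj h).symm
    · rw [← g3]; exact fun h => he1x (hinj h).symm
    · rw [← g4]; exact fun h => he2x (hinj h).symm
    · intro q
      have := L1 g q
      rwa [g1, g2, g3, g4] at this
  -- elements of `H` fix `x`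
  have hHx : ∀ h ∈ stab4 G d1 d2 e1 e2, h • x = x :=
    (hfixH x).mpr (Or.inr (Or.inr (Or.inr (Or.inr rfl))))
  -- `u p` is not fixed by `u` when `p` is moved
  have hup_moved : ∀ p : Ω, u • p ≠ p → u • u • p ≠ u • p := by
    intro p hp h
    apply hp
    rw [huu] at h
    exact h.symm
  have not_fixed : ∀ p : Ω, u • p ≠ p → p ≠ e1 ∧ p ≠ e2 ∧ p ≠ x := by
    intro p hp
    refine ⟨?_, ?_, ?_⟩ <;> intro h <;> apply hp <;> rw [hfixu] <;> simp [h]
  -- (a) `d2 ∈ Fix (stab4 e1 e2 x d1)`
  have hA : FixOf G ({e1, e2, x, d1} : Set Ω) d2 := by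
    obtain ⟨y, y1, y2, y3, y4, hy⟩ := L2 e1 e2 x d1 he12 he1x hd1e1.symm he2x hd1e2.symm hd1x.symm
    have hyfix : FixOf G ({e1, e2, x, d1} : Set Ω) y :=
      (hy y).mpr (Or.inr (Or.inr (Or.inr (Or.inr rfl))))
    have hyB : ∀ h ∈ stab4 G d1 d2 e1 e2, h • y = y := by
      intro h hh
      apply hyfix
      have hh' := mem_stab4.mp hh
      intro t ht
      simp only [Set.mem_insert_iff, Set.mem_singleton_iff] at ht
      rcases ht with rfl | rfl | rfl | rfl
      · exact hh'.2.2.1
      · exact hh'.2.2.2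
      · exact hHx h hh
      · exact hh'.1
    rcases (hfixH y).mp hyB with h | h | h | h | h
    · exact absurd h y4
    · rw [← h]; exact hyfix
    · exact absurd h y1
    · exact absurd h y2
    · exact absurd h y3
  -- (c) `u p ∈ Fix (stab4 e1 e2 x p)` for every moved `p`
  have hC : ∀ p : Ω, u • p ≠ p → FixOf G ({e1, e2, x, p} : Set Ω) (u • p) := by
    intro p hp
    have hd1m : u • d1 ≠ d1 := by rw [ud1]; exact hd12.symm
    obtain ⟨g, hgu, hgp⟩ := htrans d1 p hd1m hp
    have h1 := hA.smul g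
    have h2 : g • d2 = u • p := by
      rw [← ud1, ← mul_smul, hgu, mul_smul, hgp]
    rw [h2] at h1
    refine h1.mono ?_
    have hgF : ∀ e : Ω, u • e = e → (g • e = e1 ∨ g • e = e2 ∨ g • e = x) := by
      intro e he
      rw [← hfixu, ← mul_smul, ← hgu, mul_smul, he]
    rintro _ ⟨t, ht, rfl⟩
    simp only [Set.mem_insert_iff, Set.mem_singleton_iff] at ht ⊢
    rcases ht with rfl | rfl | rfl | rfl
    · rcases hgF t ((hfixu t).mpr (Or.inl rfl)) with h | h | h <;> simp [h]
    · rcases hgF t ((hfixu t).mpr (Or.inr (Or.inl rfl))) with h | h | h <;> simp [h]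
    · rcases hgF t ((hfixu t).mpr (Or.inr (Or.inr rfl))) with h | h | h <;> simp [h]
    · right; right; right; exact hgp
  -- (d) elements of `H` commute with `u`
  intro h hh
  rw [mem_cen]
  have hh' := mem_stab4.mp hh
  have hx := hHx h hh
  apply FaithfulSMul.eq_of_smul_eq_smul (α := Ω)
  intro q
  rw [mul_smul, mul_smul]
  by_cases hq : u • q = q
  · rw [hq]
    have hhq : h • q = q := by
      rcases (hfixu q).mp hq with rfl | rfl | rfl
      · exact hh'.2.2.1
      · exact hh'.2.2.2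
      · exact hx
    rw [hhq, hq]
  · -- `q` moved
    obtain ⟨n1, n2, n3⟩ := not_fixed q hq
    have hhq_moved : u • h • q ≠ h • q := by
      intro hfix
      rcases (hfixu _).mp hfix with h1 | h1 | h1
      · apply n1
        have : h • q = h • e1 := by rw [h1, hh'.2.2.1]
        exact MulAction.injective h this
      · apply n2
        have : h • q = h • e2 := by rw [h1, hh'.2.2.2]
        exact MulAction.injective h this
      · apply n3
        have : h • q = h • x := by rw [h1, hx]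
        exact MulAction.injective h this
    obtain ⟨m1, m2, m3⟩ := not_fixed _ hhq_moved
    obtain ⟨y, y1, y2, y3, y4, hy⟩ := L2 e1 e2 x (h • q) he12 he1x m1.symm he2x m2.symm m3.symm
    -- `u h q` is the fifth point
    have h5 : u • h • q = y := by
      rcases (hy _).mp (hC _ hhq_moved) with h1 | h1 | h1 | h1 | h1
      · exact absurd h1 (not_fixed _ (hup_moved _ hhq_moved)).1
      · exact absurd h1 (not_fixed _ (hup_moved _ hhq_moved)).2.1
      · exact absurd h1 (not_fixed _ (hup_moved _ hhq_moved)).2.2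
      · exact absurd h1 hhq_moved
      · exact h1
    -- `h u q` is a fixed point of `stab4 e1 e2 x (h q)`
    have h6 : FixOf G ({e1, e2, x, h • q} : Set Ω) (h • u • q) := by
      have h1 := (hC q hq).smul h
      refine h1.mono ?_
      rintro _ ⟨t, ht, rfl⟩
      simp only [Set.mem_insert_iff, Set.mem_singleton_iff] at ht ⊢
      rcases ht with rfl | rfl | rfl | rfl
      · left; exact hh'.2.2.1
      · right; left; exact hh'.2.2.2
      · right; right; left; exact hx
      · right; right; right; rfl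
    obtain ⟨k1, k2, k3⟩ := not_fixed _ (hup_moved q hq)
    rcases (hy _).mp h6 with h1 | h1 | h1 | h1 | h1
    · exfalso; apply k1
      have : h • u • q = h • e1 := by rw [h1, hh'.2.2.1]
      exact MulAction.injective h this
    · exfalso; apply k2
      have : h • u • q = h • e2 := by rw [h1, hh'.2.2.2]
      exact MulAction.injective h this
    · exfalso; apply k3
      have : h • u • q = h • x := by rw [h1, hx]
      exact MulAction.injective h this
    · exfalso; apply hq
      exact MulAction.injective h h1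
    · rw [h1, h5]

end Cfsg.Agent.Helper79.HallT
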