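import Cfsg.Agent.Helper61.HallDefs

/-!
# The tournament lemma (helper79, piece (T3) of board #4683 for helper61, S4221)

The proof is element-wise (no cardinalities of sets): the `K`-orbit of `(p, a)` is a `K`-invariant
tournament `→` on `K • p`; `Out(p) = K_p • a`, `In(p) = K_p • b`; `htr` forces either
`In(p) ∪ {p} ⊆ In(a)` (impossible: iterate `g⁻¹` with `g p = a` up to the order of `g`) or
"every path `x → r → r'` closes to a 3-cycle" (impossible for `p → a, a'` with `a ≠ a'`).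
-/

set_option autoImplicit false

namespace Cfsg.Agent.Helper79.HallT

open MulAction

variable {G : Type*} [Group G] {Ω : Type*} [MulAction G Ω]

theorem tournament_contra (K : Subgroup G) (hK : Odd (Nat.card K)) {p a b a' : Ω}
    (hcover : ∀ q : Ω, q ≠ p → (∃ k ∈ K, k • p = q) →
      (∃ k ∈ K, k • p = p ∧ k • a = q) ∨ (∃ k ∈ K, k • p = p ∧ k • b = q))
    (hap : a ≠ p) (hbp : b ≠ p) (ha : ∃ k ∈ K, k • p = a) (hb : ∃ k ∈ K, k • p = b)
    (hab : ¬ ∃ k ∈ K, k • p = p ∧ k • a = b)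
    (htr : ∀ b' : Ω, (∃ k ∈ K, k • p = p ∧ k • b = b') →
      ∃ k ∈ K, k • p = p ∧ k • a = a ∧ k • b = b')
    (ha' : a' ≠ a) (haa' : ∃ k ∈ K, k • p = p ∧ k • a = a') : False := by
  -- every element of `K` has odd order dividing `Nat.card K`
  obtain ⟨m, hm⟩ := hK
  have hpowK : ∀ k ∈ K, k ^ (2 * m + 1) = 1 := by
    intro k hk
    have h2 : ((⟨k, hk⟩ : K) ^ Nat.card K : K) = 1 := pow_card_eq_one'
    have h3 : (((⟨k, hk⟩ : K) ^ Nat.card K : K) : G) = ((1 : K) : G) := congrArg Subtype.val h2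
    rw [Subgroup.coe_pow, Subgroup.coe_one, hm] at h3
    exact h3
  -- no element of `K` swaps two distinct points
  have noswap : ∀ k ∈ K, ∀ r r' : Ω, k • r = r' → k • r' = r → r = r' := by
    intro k hk r r' h1 h2
    have hsq : ∀ n : ℕ, (k * k) ^ n • r = r := by
      intro n
      induction n with
      | zero => simp
      | succ n ih => rw [pow_succ, mul_smul, mul_smul, h1, h2, ih]
    have h3 : k ^ (2 * m + 1) • r = r' := by
      rw [pow_succ', mul_smul, pow_mul, sq, hsq, h1]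
    rw [hpowK k hk, one_smul] at h3
    exact h3
  -- the arrow relation: the `K`-orbit of `(p, a)`
  let Arr : Ω → Ω → Prop := fun r r' => ∃ k ∈ K, k • p = r ∧ k • a = r'
  have arr_smul : ∀ {r r' : Ω}, Arr r r' → ∀ g ∈ K, Arr (g • r) (g • r') := by
    rintro r r' ⟨k, hk, h1, h2⟩ g hg
    exact ⟨g * k, K.mul_mem hg hk, by rw [mul_smul, h1], by rw [mul_smul, h2]⟩
  have anti : ∀ {r r' : Ω}, Arr r r' → Arr r' r → False := by
    rintro r r' ⟨k, hk, h1, h2⟩ ⟨k', hk', h3, h4⟩
    have e1 : (k⁻¹ * k') • p = a := by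
      rw [mul_smul, h3, inv_smul_eq_iff, h2]
    have e2 : (k⁻¹ * k') • a = p := by
      rw [mul_smul, h4, inv_smul_eq_iff, h1]
    exact hap (noswap _ (K.mul_mem (K.inv_mem hk) hk') p a e1 e2).symm
  have hpa : Arr p a := ⟨1, K.one_mem, one_smul _ _, one_smul _ _⟩
  have not_refl : ¬ Arr p p := by
    rintro ⟨k, hk, h1, h2⟩
    apply hap
    have : k • a = k • p := by rw [h1, h2]
    exact MulAction.injective k this
  -- `(a, p)` lies in the `K`-orbit of `(p, b)`
  obtain ⟨g0, hg0, g0p, g0b⟩ : ∃ g0 ∈ K, g0 • p = a ∧ g0 • b = p := by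
    obtain ⟨g, hg, hgp⟩ := ha
    have hq : g⁻¹ • p ≠ p := by
      intro h
      apply hap
      rw [inv_smul_eq_iff] at h
      rw [← hgp, ← h]
    rcases hcover (g⁻¹ • p) hq ⟨g⁻¹, K.inv_mem hg, rfl⟩ with ⟨h, hh, h1, h2⟩ | ⟨h, hh, h1, h2⟩
    · exfalso
      have e1 : (g * h) • p = a := by rw [mul_smul, h1, hgp]
      have e2 : (g * h) • a = p := by rw [mul_smul, h2, smul_inv_smul]
      exact hap (noswap _ (K.mul_mem hg hh) p a e1 e2).symm
    · refine ⟨g * h, K.mul_mem hg hh, ?_, ?_⟩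
      · rw [mul_smul, h1, hgp]
      · rw [mul_smul, h2, smul_inv_smul]
  have g0ia : g0⁻¹ • a = p := by rw [inv_smul_eq_iff, g0p]
  have g0ip : g0⁻¹ • p = b := by rw [inv_smul_eq_iff, g0b]
  -- `K_p • b = In(p)`
  have in_of_O2 : ∀ q, (∃ k ∈ K, k • p = p ∧ k • b = q) → Arr q p := by
    rintro q ⟨h, hh, h1, h2⟩
    refine ⟨h * g0⁻¹, K.mul_mem hh (K.inv_mem hg0), ?_, ?_⟩
    · rw [mul_smul, g0ip, h2]
    · rw [mul_smul, g0ia, h1]
  have O2_of_in : ∀ q, Arr q p → ∃ k ∈ K, k • p = p ∧ k • b = q := by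
    rintro q ⟨k, hk, h1, h2⟩
    refine ⟨k * g0, K.mul_mem hk hg0, ?_, ?_⟩
    · rw [mul_smul, g0p, h2]
    · rw [mul_smul, g0b, h1]
  -- totality on the orbit of `p`
  have total : ∀ r r' : Ω, (∃ k ∈ K, k • p = r) → (∃ k ∈ K, k • p = r') → r ≠ r' →
      Arr r r' ∨ Arr r' r := by
    rintro r r' ⟨g, hg, rfl⟩ ⟨g', hg', rfl⟩ hne
    have hq : g⁻¹ • g' • p ≠ p := by
      intro h
      apply hne
      rw [inv_smul_eq_iff] at h
      exact h.symm
    have hqo : ∃ k ∈ K, k • p = g⁻¹ • g' • p :=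
      ⟨g⁻¹ * g', K.mul_mem (K.inv_mem hg) hg', by rw [mul_smul]⟩
    rcases hcover _ hq hqo with h | h
    · left
      have h1 : Arr p (g⁻¹ • g' • p) := h
      have h2 := arr_smul h1 g hg
      rwa [smul_inv_smul] at h2
    · right
      have h1 : Arr (g⁻¹ • g' • p) p := in_of_O2 _ h
      have h2 := arr_smul h1 g hg
      rwa [smul_inv_smul] at h2
  -- `b ∈ In(p)`, `a ≠ b`
  have hbO2 : ∃ k ∈ K, k • p = p ∧ k • b = b := ⟨1, K.one_mem, one_smul _ _, one_smul _ _⟩
  have hbp' : Arr b p := in_of_O2 b hbO2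
  have hab' : a ≠ b := by
    intro h
    rw [← h] at hbp'
    exact anti hpa hbp'
  rcases total a b ha hb hab' with hcase | hcase
  · -- case (ii): `a → b`, hence `a → x` for all `x → p`
    have key : ∀ x, Arr x p → Arr a x := by
      intro x hx
      obtain ⟨k, hk, k1, k2, k3⟩ := htr x (O2_of_in x hx)
      have := arr_smul hcase k hk
      rwa [k2, k3] at this
    -- `K`-invariant form: `x → r → r'` implies `r' → x`
    have star : ∀ r r' x : Ω, Arr r r' → Arr x r → Arr r' x := by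
      rintro r r' x ⟨k, hk, h1, h2⟩ hx
      have h3 := arr_smul hx k⁻¹ (K.inv_mem hk)
      have h4 : k⁻¹ • r = p := by rw [inv_smul_eq_iff, h1]
      rw [h4] at h3
      have h5 := arr_smul (key _ h3) k hk
      rwa [h2, smul_inv_smul] at h5
    have hpa' : Arr p a' := haa'
    have ha'o : ∃ k ∈ K, k • p = a' := by
      obtain ⟨k, hk, h1, h2⟩ := haa'
      obtain ⟨g, hg, hgp⟩ := ha
      exact ⟨k * g, K.mul_mem hk hg, by rw [mul_smul, hgp, h2]⟩
    rcases total a a' ha ha'o (Ne.symm ha') with h | h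
    · exact anti hpa' (star a a' p h hpa)
    · exact anti hpa (star a' a p h hpa')
  · -- case (i): `b → a`, hence `x → a` for all `x → p`
    have key : ∀ x, Arr x p → Arr x a := by
      intro x hx
      obtain ⟨k, hk, k1, k2, k3⟩ := htr x (O2_of_in x hx)
      have := arr_smul hcase k hk
      rwa [k2, k3] at this
    obtain ⟨g, hg, hgp⟩ := ha
    have hgia : g⁻¹ • a = p := by rw [inv_smul_eq_iff, hgp]
    have step : ∀ x, (x = p ∨ Arr x p) → Arr (g⁻¹ • x) p := by
      rintro x (rfl | hx)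
      · have := arr_smul hpa g⁻¹ (K.inv_mem hg)
        rwa [hgia] at this
      · have := arr_smul (key x hx) g⁻¹ (K.inv_mem hg)
        rwa [hgia] at this
    have iter : ∀ n : ℕ, Arr ((g⁻¹) ^ (n + 1) • p) p := by
      intro n
      induction n with
      | zero =>
        rw [zero_add, pow_one]
        exact step p (Or.inl rfl)
      | succ n ih =>
        rw [pow_succ', mul_smul]
        exact step _ (Or.inr ih)
    have h1 := iter (2 * m)
    rw [hpowK _ (K.inv_mem hg), one_smul] at h1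
    exact not_refl h1

end Cfsg.Agent.Helper79.HallT
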