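import Mathlib
import Cfsg.Prelude.Def_Characters
import Cfsg.Prelude.Def_Blocks
import Cfsg.Agent.Helper17.O459Defs
import Cfsg.Agent.Helper17.ExcApply
import Cfsg.Agent.Helper78.IrrTransport
import Cfsg.Agent.Helper74.DegP
import Cfsg.Agent.Helper79.CharComplete

/-!
# (A1), (A3) of helper17's S1022 plan (no simple group of order 459648)
-/

set_option autoImplicit false

namespace Cfsg.Agent.Helper79.O459

open Cfsg Subgroup
open Cfsg.Agent.Helper17.O459

universe u
variable {G : Type u} [Group G] [Finite G]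

theorem not_prime_459648 : ¬ (459648 : ℕ).Prime := by norm_num

theorem orderOf_one_not_dvd : ¬ 19 ∣ orderOf (1 : G) := by
  rw [orderOf_one]; norm_num

/-- (A1) -/
theorem principal_mem_X [IsSimpleGroup G] (hG : Nat.card G = 459648) (M : Ideal AlgInt)
    (hM : IsPModular 19 M) (P : Sylow 19 G) (e : ℕ) (he : e = 2 ∨ e = 3 ∨ e = 6)
    (X Y : Set (IrrCharacter G)) (εX : IrrCharacter G → ℤ) (ε : ℤ)
    (hB : BrauerData G M P e X Y εX ε) :
    Cfsg.Agent.Helper79.principalIrr G ∈ X ∧ εX (Cfsg.Agent.Helper79.principalIrr G) = 1 := by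
  classical
  obtain ⟨hXY, hdis, hcX, hcY, hX, hε, hYdeg, hYeq, hYsum⟩ := hB
  have hperf : commutator G = ⊤ :=
    Cfsg.Agent.Helper17.Exc.commutator_eq_top_of_simple (by rw [hG]; exact not_prime_459648)
  have hmem : Cfsg.Agent.Helper79.principalIrr G ∈ X ∪ Y := by
    rw [← hXY]
    exact Cfsg.Agent.Helper78.principalIrr_mem_principalBlock M hM.2.1.isPrime G
  have hdeg1 : charDegree ((Cfsg.Agent.Helper79.principalIrr G : IrrCharacter G) : G → ℂ) = 1 := by
    have h1 := Cfsg.Agent.Helper78.irrChar_one_eq_charDegree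
      (Cfsg.Agent.Helper79.principalIrr G).2
    have h2 : ((Cfsg.Agent.Helper79.principalIrr G : IrrCharacter G) : G → ℂ) 1 = 1 := rfl
    rw [h2] at h1
    exact_mod_cast h1.symm
  have hX' : Cfsg.Agent.Helper79.principalIrr G ∈ X := by
    rcases hmem with h | h
    · exact h
    · exfalso
      -- `Y` has at least two elements
      have hY2 : 1 < Nat.card Y := by
        rw [hcY]
        rcases he with rfl | rfl | rfl <;> norm_num
      have hYfin : Finite Y := Nat.finite_of_card_ne_zero (by omega)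
      obtain ⟨θ', hθ'ne⟩ : ∃ θ' : Y, θ' ≠ ⟨_, h⟩ := by
        by_contra hcon
        push Not at hcon
        have : Nat.card Y ≤ 1 := by
          rw [Finite.card_le_one_iff_subsingleton]
          exact ⟨fun a b => (hcon a).trans (hcon b).symm⟩
        omega
      have hne : (θ' : IrrCharacter G) ≠ Cfsg.Agent.Helper79.principalIrr G := by
        intro hc
        exact hθ'ne (Subtype.ext hc)
      have hlt := Cfsg.Agent.Helper17.Exc.one_lt_charDegree_of_perfect hperf θ' hne
      have hval := hYeq θ' θ'.2 _ h 1 orderOf_one_not_dvd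
      have h3 : ((θ' : IrrCharacter G) : G → ℂ) 1 = 1 := by
        rw [hval]; rfl
      rw [Cfsg.Agent.Helper78.irrChar_one_eq_charDegree (θ' : IrrCharacter G).2] at h3
      have : charDegree ((θ' : IrrCharacter G) : G → ℂ) = 1 := by exact_mod_cast h3
      omega
  refine ⟨hX', ?_⟩
  obtain ⟨hs, hcong, -⟩ := hX _ hX'
  rcases hs with h1 | h1
  · exact h1
  · exfalso
    rw [hdeg1, h1] at hcong
    have := hcong.dvd
    norm_num at this

/-- (A3) -/
theorem exists_degree_Y (hG : Nat.card G = 459648) (M : Ideal AlgInt)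
    (P : Sylow 19 G) (e : ℕ) (he : e = 2 ∨ e = 3 ∨ e = 6)
    (X Y : Set (IrrCharacter G)) (εX : IrrCharacter G → ℤ) (ε : ℤ)
    (hB : BrauerData G M P e X Y εX ε) :
    ∃ y : ℕ, (∀ θ ∈ Y, charDegree (θ : G → ℂ) = y) ∧ y ∣ 24192 ∧
      (y : ℤ) ≡ ε * e [ZMOD 19] ∧ (18 / e) * y ^ 2 ≤ 459648 := by
  classical
  obtain ⟨hXY, hdis, hcX, hcY, hX, hε, hYdeg, hYeq, hYsum⟩ := hB
  have : Fintype G := Fintype.ofFinite G
  have hIrrFin : Finite (IrrCharacter G) := Cfsg.Agent.Helper79.irr_finite
  have : Fintype (IrrCharacter G) := Fintype.ofFinite _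
  have hYpos : 0 < Nat.card Y := by
    rw [hcY]
    rcases he with rfl | rfl | rfl <;> norm_num
  have hYfin : Finite Y := Nat.finite_of_card_ne_zero (by omega)
  have hYne : Nonempty Y := (Nat.card_pos_iff.mp hYpos).1
  obtain ⟨θ0⟩ := hYne
  refine ⟨charDegree ((θ0 : IrrCharacter G) : G → ℂ), ?_, ?_, hYdeg θ0 θ0.2, ?_⟩
  · intro θ hθ
    have hval := hYeq θ hθ θ0 θ0.2 1 orderOf_one_not_dvd
    rw [Cfsg.Agent.Helper78.irrChar_one_eq_charDegree θ.2,
      Cfsg.Agent.Helper78.irrChar_one_eq_charDegree (θ0 : IrrCharacter G).2] at hval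
    exact_mod_cast hval
  · -- `y ∣ |G| = 19 * 24192` and `19 ∤ y`
    set y := charDegree ((θ0 : IrrCharacter G) : G → ℂ) with hy
    have hdvd : y ∣ 19 * 24192 := by
      have := Cfsg.Agent.Helper74.charDegree_dvd_card (θ0 : IrrCharacter G)
      rw [hG] at this
      exact this
    have hcong := hYdeg θ0 θ0.2
    have h19 : ¬ (19 : ℕ) ∣ y := by
      intro h19
      have h1 : (19 : ℤ) ∣ (y : ℤ) := by exact_mod_cast h19
      have h2 : (19 : ℤ) ∣ ε * (e : ℤ) := by
        have := hcong.symm.dvd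
        have h3 : (19 : ℤ) ∣ (y : ℤ) - ε * e := this
        have := dvd_sub h1 h3
        simpa using this
      rcases hε with rfl | rfl <;> rcases he with rfl | rfl | rfl <;> norm_num at h2
    have hcop : Nat.Coprime y 19 := by
      rw [Nat.coprime_comm]
      exact (Nat.Prime.coprime_iff_not_dvd (by norm_num)).mpr h19
    exact hcop.dvd_of_dvd_mul_left hdvd
  · -- sum of squares
    set y := charDegree ((θ0 : IrrCharacter G) : G → ℂ) with hy
    have hall : ∀ θ ∈ Y, charDegree (θ : G → ℂ) = y := by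
      intro θ hθ
      have hval := hYeq θ hθ θ0 θ0.2 1 orderOf_one_not_dvd
      rw [Cfsg.Agent.Helper78.irrChar_one_eq_charDegree θ.2,
        Cfsg.Agent.Helper78.irrChar_one_eq_charDegree (θ0 : IrrCharacter G).2] at hval
      exact_mod_cast hval
    have hsum := Cfsg.Agent.Helper79.sum_charDegree_sq (G := G)
    rw [hG] at hsum
    have hYcard : (Finset.univ.filter (fun θ : IrrCharacter G => θ ∈ Y)).card = 18 / e := by
      rw [← hcY, Nat.card_eq_fintype_card, Fintype.card_subtype]
    have hle : ∑ θ ∈ Finset.univ.filter (fun θ : IrrCharacter G => θ ∈ Y),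
        charDegree (θ : G → ℂ) ^ 2 ≤ ∑ θ : IrrCharacter G, charDegree (θ : G → ℂ) ^ 2 :=
      Finset.sum_le_sum_of_subset (Finset.filter_subset _ _)
    have heq : ∑ θ ∈ Finset.univ.filter (fun θ : IrrCharacter G => θ ∈ Y),
        charDegree (θ : G → ℂ) ^ 2 = (18 / e) * y ^ 2 := by
      rw [Finset.sum_congr rfl (fun θ hθ => by
        rw [hall θ (Finset.mem_filter.mp hθ).2]), Finset.sum_const, hYcard, smul_eq_mul]
    rw [heq, hsum] at hle
    exact hle

end Cfsg.Agent.Helper79.O459
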