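import Mathlib
import Cfsg.Agent.Helper62.Ore.Defs

/-!
# S2444 (Thompson/Ore) piece (UTN) `nilpotent_of_strictUT` for helper62's farm (#12939)
-/

set_option autoImplicit false

namespace Cfsg.Agent.Helper79.Ore

open Polynomial Module Cfsg.Agent.Helper62.Ore

variable {F : Type*} [Field F] {V : Type*} [AddCommGroup V] [Module F V]

/-- the flag `W j = span {p i | i < j}` -/
theorem UTN_step {P : Type*} [AddCommGroup P] [Module F P] {l : ℕ} (p : Fin l → P)
    (Δ : Module.End F P) (hΔ : ∀ j, Δ (p j) ∈ Submodule.span F (p '' {i | i < j})) (j : ℕ) :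
    ∀ x ∈ Submodule.span F (p '' {i : Fin l | (i : ℕ) < j + 1}),
      Δ x ∈ Submodule.span F (p '' {i : Fin l | (i : ℕ) < j}) := by
  intro x hx
  induction hx using Submodule.span_induction with
  | mem y hy =>
    obtain ⟨i, hi, rfl⟩ := hy
    have hi' : (i : ℕ) < j + 1 := hi
    refine Submodule.span_mono ?_ (hΔ i)
    rintro _ ⟨i', hi', rfl⟩
    have : (i' : ℕ) < (i : ℕ) := hi'
    exact ⟨i', by show (i' : ℕ) < j; omega, rfl⟩
  | zero => simp
  | add y z _ _ hy hz => rw [map_add]; exact add_mem hy hz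
  | smul a y _ hy => rw [map_smul]; exact Submodule.smul_mem _ a hy

theorem UTN_pow {P : Type*} [AddCommGroup P] [Module F P] {l : ℕ} (p : Fin l → P)
    (Δ : Module.End F P) (hΔ : ∀ j, Δ (p j) ∈ Submodule.span F (p '' {i | i < j})) (k j : ℕ) :
    ∀ x ∈ Submodule.span F (p '' {i : Fin l | (i : ℕ) < j + k}),
      (Δ ^ k) x ∈ Submodule.span F (p '' {i : Fin l | (i : ℕ) < j}) := by
  induction k generalizing j with
  | zero => intro x hx; simpa using hx
  | succ k ih =>
    intro x hx
    rw [pow_succ, Module.End.mul_apply]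
    apply ih j
    have hx' : x ∈ Submodule.span F (p '' {i : Fin l | (i : ℕ) < (j + k) + 1}) := by
      rw [show j + k + 1 = j + (k + 1) by ring]; exact hx
    exact UTN_step p Δ hΔ (j + k) x hx'

/-- (UTN) strictly upper triangular w.r.t. a basis ⇒ nilpotent. -/
theorem nilpotent_of_strictUT {P : Type*} [AddCommGroup P] [Module F P] [FiniteDimensional F P]
    {l : ℕ} (hl : finrank F P = l) (p : Fin l → P) (hp : LinearIndependent F p)
    (Δ : Module.End F P) (hΔ : ∀ j, Δ (p j) ∈ Submodule.span F (p '' {i | i < j})) :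
    IsNilpotent Δ := by
  refine ⟨l, ?_⟩
  have htop : Submodule.span F (Set.range p) = ⊤ :=
    hp.span_eq_top_of_card_eq_finrank' (by rw [Fintype.card_fin, hl])
  have hall : (p '' {i : Fin l | (i : ℕ) < 0 + l}) = Set.range p := by
    ext y
    constructor
    · rintro ⟨i, _, rfl⟩; exact ⟨i, rfl⟩
    · rintro ⟨i, rfl⟩; exact ⟨i, by show (i : ℕ) < 0 + l; have := i.2; omega, rfl⟩
  have hbot : Submodule.span F (p '' {i : Fin l | (i : ℕ) < 0}) = ⊥ := by
    have : {i : Fin l | (i : ℕ) < 0} = ∅ := by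
      ext i; simp
    rw [this, Set.image_empty, Submodule.span_empty]
  apply LinearMap.ext
  intro x
  have hx : x ∈ Submodule.span F (p '' {i : Fin l | (i : ℕ) < 0 + l}) := by
    rw [hall, htop]; exact Submodule.mem_top
  have := UTN_pow p Δ hΔ l 0 x hx
  rw [hbot, Submodule.mem_bot] at this
  rw [this, LinearMap.zero_apply]

end Cfsg.Agent.Helper79.Ore
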