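import Cfsg.Agent.Helper79.FeitCore1

/-!
# Feit's theorem on Zassenhaus groups: inner products of `ind (φ - e·1_K)` (helper79)
-/

set_option autoImplicit false

namespace Cfsg.Agent.Helper79.Feit

open Cfsg Cfsg.Agent.Helper75 Cfsg.Agent.Helper9.FP
open scoped ComplexConjugate

universe u

variable {G : Type u} [Group G] [Fintype G] {K : Subgroup G}
  [Fintype ↥(Subgroup.normalizer (K : Set G))]

omit [Fintype G] [Fintype ↥(Subgroup.normalizer (K : Set G))] in
theorem card_normalizer_eq :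
    (Nat.card ↥(Subgroup.normalizer (K : Set G)) : ℂ) = (caE K : ℂ) * (Nat.card K : ℂ) := by
  unfold caE
  exact ca_card_normalizer

omit [Fintype G] in
theorem card_normalizer_ne_zero :
    (Nat.card ↥(Subgroup.normalizer (K : Set G)) : ℂ) ≠ 0 := by
  have : Nat.card ↥(Subgroup.normalizer (K : Set G)) ≠ 0 := Nat.card_pos.ne'
  exact_mod_cast this

theorem card_Ksharp_cast (K : Subgroup G) : ((Ksharp K).card : ℂ) = (Nat.card K : ℂ) - 1 := by
  have := card_Ksharp K
  have h2 : ((Ksharp K).card : ℂ) + 1 = (Nat.card K : ℂ) := by exact_mod_cast this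
  linear_combination h2

/-- Sum over `K \ {1}` of a product of two relevant characters. -/
theorem rel_sum_mul' (hC : ∀ k ∈ K, k ≠ 1 → Subgroup.centralizer ({k} : Set G) ≤ K)
    {ζ ζ' : ↥(Subgroup.normalizer (K : Set G)) → ℂ} (hζ : ζ ∈ tfS K) (hζ' : ζ' ∈ tfS K)
    [Decidable (ζ = ζ')] :
    ∑ g ∈ Ksharp K, extendByZero (Subgroup.normalizer (K : Set G)) ζ g
        * conj (extendByZero (Subgroup.normalizer (K : Set G)) ζ' g)
      = (if ζ = ζ' then (Nat.card ↥(Subgroup.normalizer (K : Set G)) : ℂ) else 0)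
        - ζ 1 * conj (ζ' 1) := by
  rw [sum_Ksharp_of_vanish K _ (fun g hg => by rw [ca_rel_ext_vanish hC hζ g hg, zero_mul]),
    fp_rel_ext_one, fp_rel_ext_one,
    Helper15.sum_extendByZero_mul _ ζ
      (fun g => conj (extendByZero (Subgroup.normalizer (K : Set G)) ζ' g))]
  have h5 := ca_irr_inner hζ.1 hζ'.1
  rw [Helper15.classInner_apply] at h5
  have hN : (Nat.card ↥(Subgroup.normalizer (K : Set G)) : ℂ) ≠ 0 := card_normalizer_ne_zero
  have h6 : ∑ n : ↥(Subgroup.normalizer (K : Set G)), ζ n * conj (ζ' n)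
      = (if ζ = ζ' then (Nat.card ↥(Subgroup.normalizer (K : Set G)) : ℂ) else 0) := by
    by_cases h : ζ = ζ'
    · rw [if_pos h] at h5 ⊢
      field_simp at h5
      exact h5
    · rw [if_neg h] at h5 ⊢
      rcases mul_eq_zero.mp h5 with h7 | h7
      · exact absurd (inv_eq_zero.mp h7) hN
      · exact h7
  simp only [Helper15.extendByZero_coe]
  rw [h6]

/-- The sum of `ext φ - e` over `K \ {1}`. -/
theorem sum_alpha (hC : ∀ k ∈ K, k ≠ 1 → Subgroup.centralizer ({k} : Set G) ≤ K)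
    {φ : ↥(Subgroup.normalizer (K : Set G)) → ℂ} (hφ : φ ∈ tfS K) (hφ1 : φ 1 = (caE K : ℂ)) :
    ∑ k ∈ Ksharp K, (extendByZero (Subgroup.normalizer (K : Set G)) φ k - (caE K : ℂ))
      = -(Nat.card ↥(Subgroup.normalizer (K : Set G)) : ℂ) := by
  rw [Finset.sum_sub_distrib, fp_rel_sum hC hφ, Finset.sum_const, nsmul_eq_mul,
    card_Ksharp_cast, card_normalizer_eq, hφ1]
  ring

/-- `ind α` against a class function that is constant on `K \ {1}`. -/
theorem inner_ind_alphaFun_const (hC : ∀ k ∈ K, k ≠ 1 → Subgroup.centralizer ({k} : Set G) ≤ K)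
    {φ : ↥(Subgroup.normalizer (K : Set G)) → ℂ} (hφ : φ ∈ tfS K) (hφ1 : φ 1 = (caE K : ℂ))
    {ψ : G → ℂ} (hψ : IsClassFunction G ψ) (a : ℂ) (ha : ∀ k ∈ K, k ≠ 1 → ψ k = a) :
    classInner (indFun (Subgroup.normalizer (K : Set G)) (alphaFun K φ)) ψ = -conj a := by
  rw [inner_ind_alphaFun hC hφ hφ1 hψ]
  have h1 : ∑ k ∈ Ksharp K, (extendByZero (Subgroup.normalizer (K : Set G)) φ k - (caE K : ℂ))
      * conj (ψ k)
      = (∑ k ∈ Ksharp K, (extendByZero (Subgroup.normalizer (K : Set G)) φ k - (caE K : ℂ)))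
        * conj a := by
    rw [Finset.sum_mul]
    apply Finset.sum_congr rfl
    intro k hk
    rw [ha k (mem_Ksharp.mp hk).1 (mem_Ksharp.mp hk).2]
  rw [h1, sum_alpha hC hφ hφ1]
  have hN : (Nat.card ↥(Subgroup.normalizer (K : Set G)) : ℂ) ≠ 0 := card_normalizer_ne_zero
  field_simp

/-- `ind α` against a class function that equals `ext χ + t` on `K \ {1}`, `χ` relevant. -/
theorem inner_ind_alphaFun_rel (hC : ∀ k ∈ K, k ≠ 1 → Subgroup.centralizer ({k} : Set G) ≤ K)
    {φ : ↥(Subgroup.normalizer (K : Set G)) → ℂ} (hφ : φ ∈ tfS K) (hφ1 : φ 1 = (caE K : ℂ))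
    {χ : ↥(Subgroup.normalizer (K : Set G)) → ℂ} (hχ : χ ∈ tfS K) [Decidable (φ = χ)]
    {ψ : G → ℂ} (hψ : IsClassFunction G ψ) (t : ℂ)
    (ht : ∀ k ∈ Ksharp K, ψ k = extendByZero (Subgroup.normalizer (K : Set G)) χ k + t) :
    classInner (indFun (Subgroup.normalizer (K : Set G)) (alphaFun K φ)) ψ
      = (if φ = χ then 1 else 0) - conj t := by
  rw [inner_ind_alphaFun hC hφ hφ1 hψ]
  have h1 : ∑ k ∈ Ksharp K, (extendByZero (Subgroup.normalizer (K : Set G)) φ k - (caE K : ℂ))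
      * conj (ψ k)
      = ∑ k ∈ Ksharp K, extendByZero (Subgroup.normalizer (K : Set G)) φ k
          * conj (extendByZero (Subgroup.normalizer (K : Set G)) χ k)
        - (caE K : ℂ) * conj (∑ k ∈ Ksharp K, extendByZero (Subgroup.normalizer (K : Set G)) χ k)
        + (∑ k ∈ Ksharp K, (extendByZero (Subgroup.normalizer (K : Set G)) φ k - (caE K : ℂ)))
          * conj t := by
    rw [map_sum, Finset.mul_sum, Finset.sum_mul, ← Finset.sum_sub_distrib,
      ← Finset.sum_add_distrib]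
    apply Finset.sum_congr rfl
    intro k hk
    rw [ht k hk, map_add]
    ring
  rw [h1, rel_sum_mul' hC hφ hχ, fp_rel_sum hC hχ, sum_alpha hC hφ hφ1, hφ1]
  have hN : (Nat.card ↥(Subgroup.normalizer (K : Set G)) : ℂ) ≠ 0 := card_normalizer_ne_zero
  by_cases h : φ = χ
  · rw [if_pos h, if_pos h]
    field_simp
    simp only [map_neg]
    ring
  · rw [if_neg h, if_neg h]
    field_simp
    simp only [map_neg]
    ring

/-- The norm of `ind α`. -/
theorem inner_ind_alphaFun_self (hC : ∀ k ∈ K, k ≠ 1 → Subgroup.centralizer ({k} : Set G) ≤ K)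
    (hTI : ∀ g : G, g ∉ Subgroup.normalizer (K : Set G) → ∀ k ∈ K, g * k * g⁻¹ ∈ K → k = 1)
    {φ : ↥(Subgroup.normalizer (K : Set G)) → ℂ} (hφ : φ ∈ tfS K) (hφ1 : φ 1 = (caE K : ℂ)) :
    classInner (indFun (Subgroup.normalizer (K : Set G)) (alphaFun K φ))
      (indFun (Subgroup.normalizer (K : Set G)) (alphaFun K φ)) = 1 + (caE K : ℂ) := by
  classical
  have hval : ∀ k ∈ Ksharp K, indFun (Subgroup.normalizer (K : Set G)) (alphaFun K φ) k
      = extendByZero (Subgroup.normalizer (K : Set G)) φ k + (-(caE K : ℂ)) := by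
    intro k hk
    obtain ⟨hkK, hk1⟩ := mem_Ksharp.mp hk
    have hkN : k ∈ Subgroup.normalizer (K : Set G) := Subgroup.le_normalizer hkK
    have h := tf_indFun_apply K (Subgroup.normalizer (K : Set G)) hTI
      (alphaFun_isClassFunction hφ) (alphaFun_vanish hC hφ) ⟨k, hkN⟩ hkK
      (fun h => hk1 (congrArg Subtype.val h))
    rw [h, alphaFun_apply_mem φ ⟨k, hkN⟩ hkK, Helper15.extendByZero_of_mem _ _ hkN]
    ring
  rw [inner_ind_alphaFun_rel hC hφ hφ1 hφ (Helper15.isClassFunction_indFun _ _) _ hval,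
    if_pos rfl]
  simp

end Cfsg.Agent.Helper79.Feit
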