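import Cfsg.Agent.Helper79.FeitCore2

/-!
# Feit's theorem on Zassenhaus groups: non-exceptional characters vanishing on `K \ {1}` (helper79)
-/

set_option autoImplicit false

namespace Cfsg.Agent.Helper79.Feit

open Cfsg Cfsg.Agent.Helper75 Cfsg.Agent.Helper9.FP
open scoped ComplexConjugate

universe u

variable {G : Type u} [Group G] [Fintype G] {K : Subgroup G}
  [Fintype ↥(Subgroup.normalizer (K : Set G))]

/-- An irreducible character of `N` outside `tfS K` is trivial on `K`. -/
theorem trivial_on_of_not_mem_tfS {ζ : ↥(Subgroup.normalizer (K : Set G)) → ℂ}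
    (hζ : IsIrrCharacter ↥(Subgroup.normalizer (K : Set G)) ζ) (hnot : ζ ∉ tfS K) :
    ∀ u : ↥(Subgroup.normalizer (K : Set G)), (u : G) ∈ K → ζ u = ζ 1 := by
  intro u hu
  by_contra hne
  exact hnot ⟨hζ, u, hu, hne⟩

/-- A character of `G` vanishing on `K \ {1}` has a constituent of its restriction to `N` which is
trivial on `K`. -/
theorem exists_constituent_trivial_on
    (hC : ∀ k ∈ K, k ≠ 1 → Subgroup.centralizer ({k} : Set G) ≤ K)
    {ψ : G → ℂ} (hψ : IsCharacter G ψ) (hψ1 : ψ 1 ≠ 0) (hvan : ∀ k ∈ K, k ≠ 1 → ψ k = 0) :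
    ∃ ζ : ↥(Subgroup.normalizer (K : Set G)) → ℂ,
      IsIrrCharacter ↥(Subgroup.normalizer (K : Set G)) ζ ∧ ζ ∉ tfS K ∧
      classInner (fun x : ↥(Subgroup.normalizer (K : Set G)) => ψ x) ζ ≠ 0 := by
  classical
  by_contra hcon
  push Not at hcon
  let _ := Helper74.irrFintype ↥(Subgroup.normalizer (K : Set G))
  set β : ↥(Subgroup.normalizer (K : Set G)) → ℂ := fun x => ψ x with hβ
  have hβc : IsCharacter ↥(Subgroup.normalizer (K : Set G)) β :=
    Helper74.isCharacter_restrict _ hψ
  have hdec := Helper74.isCharacter_eq_sum_irr hβc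
  -- `β` vanishes off `K`
  have hoff : ∀ x : ↥(Subgroup.normalizer (K : Set G)), (x : G) ∉ K → β x = 0 := by
    intro x hx
    rw [hdec, Finset.sum_apply]
    apply Finset.sum_eq_zero
    intro ζ _
    by_cases hζ : (ζ : ↥(Subgroup.normalizer (K : Set G)) → ℂ) ∈ tfS K
    · rw [Pi.smul_apply, tf_vanish hC hζ x hx, smul_zero]
    · rw [hcon ζ ζ.2 hζ, zero_smul, Pi.zero_apply]
  -- so `β = β(1) δ_1`
  have hval : ∀ x : ↥(Subgroup.normalizer (K : Set G)), x ≠ 1 → β x = 0 := by
    intro x hx1
    by_cases hx : (x : G) ∈ K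
    · exact hvan x hx (fun h => hx1 (Subtype.ext h))
    · exact hoff x hx
  -- the principal character is not relevant
  have hone : (fun _ : ↥(Subgroup.normalizer (K : Set G)) => (1 : ℂ)) ∉ tfS K := by
    rintro ⟨_, k, _, hne⟩
    exact hne rfl
  have h0 := hcon _ Helper79.isIrrCharacter_one hone
  rw [Helper15.classInner_apply] at h0
  have hsum : ∑ x : ↥(Subgroup.normalizer (K : Set G)), β x * conj ((1 : ℂ)) = β 1 := by
    rw [Finset.sum_eq_single (1 : ↥(Subgroup.normalizer (K : Set G)))]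
    · simp
    · intro x _ hx1
      rw [hval x hx1, zero_mul]
    · intro h
      exact absurd (Finset.mem_univ _) h
  rw [hsum] at h0
  rcases mul_eq_zero.mp h0 with h | h
  · exact card_normalizer_ne_zero (inv_eq_zero.mp h)
  · apply hψ1
    simpa [hβ] using h

/-- In the situation of `FeitData`, an irreducible character of `G` vanishing on `K \ {1}` is the
non-principal constituent `ψ₀` of the permutation character. -/
theorem eq_psi0_of_vanish {e h : ℕ} (D : FeitData K e h) {ψ₀ : G → ℂ}
    (hψ₀ : IsIrrCharacter G ψ₀)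
    (hind : indFun (Subgroup.normalizer (K : Set G)) (fun _ => (1 : ℂ)) = (fun _ => (1 : ℂ)) + ψ₀)
    {ψ : G → ℂ} (hψ : IsIrrCharacter G ψ) (hvan : ∀ k ∈ K, k ≠ 1 → ψ k = 0) : ψ = ψ₀ := by
  classical
  have hψc := Helper74.isCharacter_of_isIrr hψ
  have hψcf := Helper74.isClassFunction_of_isCharacter hψc
  -- `K` is non-trivial
  have hK2 : ∃ k ∈ K, k ≠ 1 := by
    by_contra hcon
    push Not at hcon
    have h1 : Nat.card K = 1 := by
      rw [Nat.card_eq_one_iff_unique]
      refine ⟨⟨fun a b => ?_⟩, ⟨1⟩⟩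
      apply Subtype.ext
      rw [hcon a a.2, hcon b b.2]
    have := D.hlt
    rw [← D.hh, h1] at this
    omega
  obtain ⟨k₀, hk₀, hk₀1⟩ := hK2
  obtain ⟨ζ, hζ, hζnot, hne⟩ := exists_constituent_trivial_on D.hC hψc
    (Helper80.IsIrrCharacter.map_one_ne_zero hψ) hvan
  have hζK := trivial_on_of_not_mem_tfS hζ hζnot
  rw [← Helper15.frobenius_reciprocity' _ ζ ψ hψcf] at hne
  by_cases hζ1 : ζ = fun _ => 1
  · -- constituent of the permutation character
    rw [hζ1, hind, Helper15.classInner_add_right] at hne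
    by_contra hψne
    have h1 : classInner ψ (fun _ => (1 : ℂ)) = 0 := by
      rw [ca_irr_inner hψ Helper79.isIrrCharacter_one, if_neg]
      intro h
      have := hvan k₀ hk₀ hk₀1
      rw [h] at this
      exact one_ne_zero this
    have h2 : classInner ψ ψ₀ = 0 := by
      rw [ca_irr_inner hψ hψ₀, if_neg hψne]
    rw [h1, h2, add_zero] at hne
    exact hne rfl
  · -- a principal series character: impossible
    exfalso
    obtain ⟨hirr, hval⟩ := D.hps ζ hζ hζK hζ1
    rw [ca_irr_inner hψ hirr] at hne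
    have heq : ψ = indFun (Subgroup.normalizer (K : Set G)) ζ := by
      by_contra h
      rw [if_neg h] at hne
      exact hne rfl
    have h1 := hvan k₀ hk₀ hk₀1
    rw [heq, hval k₀ hk₀ hk₀1] at h1
    exact one_ne_zero h1

end Cfsg.Agent.Helper79.Feit
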