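-- helper79: S2289 farm piece (GC) `good_conj` for helper84 (#12539)
import Mathlib
import Cfsg.Agent.Helper84.SU3P.Defs

set_option autoImplicit false

namespace Cfsg.Agent.Helper79.SU3P

open Matrix Polynomial Cfsg.Agent.Helper84.RU3 Cfsg.Agent.Helper96.SLPres
  Cfsg.Agent.Helper96.StemSLTwo Cfsg.Agent.Helper96.StPres Cfsg.Agent.Helper84.SU3P

variable {D : Type*} [Group D]

/-- (GC) `Good` is stable under conjugation by the torus -/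
theorem good_conj (Ut Ht : Subgroup D) (t : D)
    (htH : ∀ h' ∈ Ht, t * h' * t⁻¹ ∈ Ht) (x h' : D) (hh' : h' ∈ Ht)
    (hx : Good (Ut ⊔ Ht) t x) : Good (Ut ⊔ Ht) t (h' * x * h'⁻¹) := by
  unfold Good at hx ⊢
  have hk : t * h' * t⁻¹ ∈ Ut ⊔ Ht := (le_sup_right : Ht ≤ Ut ⊔ Ht) (htH h' hh')
  have e : t * (h' * x * h'⁻¹) * t⁻¹ = (t * h' * t⁻¹) * (t * x * t⁻¹) * (t * h' * t⁻¹)⁻¹ := by
    group
  rw [e]
  rcases hx with hb | ⟨b₁, hb₁, b₂, hb₂, hb⟩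
  · exact Or.inl (mul_mem (mul_mem hk hb) (inv_mem hk))
  · refine Or.inr ⟨(t * h' * t⁻¹) * b₁, mul_mem hk hb₁, b₂ * (t * h' * t⁻¹)⁻¹,
      mul_mem hb₂ (inv_mem hk), ?_⟩
    rw [hb]
    group

end Cfsg.Agent.Helper79.SU3P
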