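-- helper79: S2289 farm piece (GM) `good_mul` for helper84 (#12539)
import Mathlib
import Cfsg.Agent.Helper84.SU3P.Defs

set_option autoImplicit false

namespace Cfsg.Agent.Helper79.SU3P

open Matrix Polynomial Cfsg.Agent.Helper84.RU3 Cfsg.Agent.Helper96.SLPres
  Cfsg.Agent.Helper96.StemSLTwo Cfsg.Agent.Helper96.StPres Cfsg.Agent.Helper84.SU3P

variable {D : Type*} [Group D]

/-- (GM) the product rule for `Good` -/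
theorem good_mul (Ut Ht : Subgroup D) (t : D)
    (htH : ∀ h' ∈ Ht, t * h' * t⁻¹ ∈ Ht) (ht2 : t ^ 2 ∈ Ht)
    (x z b₁ b₂ b₃ b₄ x' h' : D) (hb₁ : b₁ ∈ Ut ⊔ Ht) (hb₄ : b₄ ∈ Ut ⊔ Ht)
    (hx : t * x * t⁻¹ = b₁ * t * b₂) (hz : t * z * t⁻¹ = b₃ * t * b₄)
    (hx' : x' ∈ Ut) (hh' : h' ∈ Ht) (hb : b₂ * b₃ = x' * h') (hgood : Good (Ut ⊔ Ht) t x') :
    Good (Ut ⊔ Ht) t (x * z) := by
  unfold Good at hgood ⊢
  have hk : t * h' * t⁻¹ ∈ Ut ⊔ Ht := (le_sup_right : Ht ≤ Ut ⊔ Ht) (htH h' hh')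
  have ht2' : t ^ 2 ∈ Ut ⊔ Ht := (le_sup_right : Ht ≤ Ut ⊔ Ht) ht2
  have e : t * (x * z) * t⁻¹ =
      b₁ * (t * x' * t⁻¹) * ((t * h' * t⁻¹) * t ^ 2 * b₄) := by
    have e1 : t * (x * z) * t⁻¹ = (t * x * t⁻¹) * (t * z * t⁻¹) := by group
    rw [e1, hx, hz]
    have e2 : b₁ * t * b₂ * (b₃ * t * b₄) = b₁ * t * (b₂ * b₃) * t * b₄ := by group
    rw [e2, hb]
    group
  rw [e]
  have htail : (t * h' * t⁻¹) * t ^ 2 * b₄ ∈ Ut ⊔ Ht := mul_mem (mul_mem hk ht2') hb₄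
  rcases hgood with hbB | ⟨c₁, hc₁, c₂, hc₂, hc⟩
  · exact Or.inl (mul_mem (mul_mem hb₁ hbB) htail)
  · refine Or.inr ⟨b₁ * c₁, mul_mem hb₁ hc₁, c₂ * ((t * h' * t⁻¹) * t ^ 2 * b₄),
      mul_mem hc₂ htail, ?_⟩
    rw [hc]
    group

end Cfsg.Agent.Helper79.SU3P
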