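import Mathlib
import Cfsg.Prelude.Def_Blocks
import Cfsg.Agent.Helper79.BlockIndep
import Cfsg.Agent.Helper81.ConjIrr
import Cfsg.Agent.Helper78.BlockBasic

/-!
# Complex conjugation and blocks (helper79)

The complex conjugate of a `p`-block is a `p`-block: complex conjugation moves the maximal ideal
`M` to the conjugate maximal ideal, and blocks do not depend on the maximal ideal
(`Helper79.sameBlock_indep`).  Also: sums over a group of an inversion-invariant function with
values in the local ring at a maximal ideal over `2` are congruent to the sum over the involutions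
and the identity.
-/

set_option autoImplicit false

namespace Cfsg.Agent.Helper79

open Cfsg
open scoped ComplexConjugate

/-- Complex conjugation on the ring of algebraic integers. -/
noncomputable def conjAlgInt : AlgInt →+* AlgInt where
  toFun a := ⟨conj (a : ℂ), map_isIntegral_int (starRingEnd ℂ) a.2⟩
  map_one' := by apply Subtype.ext; simp
  map_mul' a b := by apply Subtype.ext; simp
  map_zero' := by apply Subtype.ext; simp
  map_add' a b := by apply Subtype.ext; simp

@[simp] theorem conjAlgInt_coe (a : AlgInt) : ((conjAlgInt a : AlgInt) : ℂ) = conj (a : ℂ) := rfl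

theorem conjAlgInt_conjAlgInt (a : AlgInt) : conjAlgInt (conjAlgInt a) = a := by
  apply Subtype.ext; simp

theorem conjAlgInt_surjective : Function.Surjective conjAlgInt :=
  fun a => ⟨conjAlgInt a, conjAlgInt_conjAlgInt a⟩

/-- The complex conjugate of an ideal of the algebraic integers. -/
noncomputable def conjIdeal (M : Ideal AlgInt) : Ideal AlgInt := Ideal.comap conjAlgInt M

theorem mem_conjIdeal {M : Ideal AlgInt} {a : AlgInt} : a ∈ conjIdeal M ↔ conjAlgInt a ∈ M :=
  Iff.rfl

theorem isPModular_conjIdeal {p : ℕ} {M : Ideal AlgInt} (hM : IsPModular p M) :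
    IsPModular p (conjIdeal M) := by
  refine ⟨hM.1, ?_, ?_⟩
  · have := hM.2.1
    exact Ideal.comap_isMaximal_of_surjective conjAlgInt conjAlgInt_surjective
  · rw [mem_conjIdeal]
    have : conjAlgInt (p : AlgInt) = (p : AlgInt) := map_natCast conjAlgInt p
    rw [this]
    exact hM.2.2

theorem memLocalIdeal_conj {M : Ideal AlgInt} {z : ℂ} (h : MemLocalIdeal M z) :
    MemLocalIdeal (conjIdeal M) (conj z) := by
  obtain ⟨a, b, ha, hb, rfl⟩ := h
  refine ⟨conjAlgInt a, conjAlgInt b, ?_, ?_, ?_⟩
  · rw [mem_conjIdeal, conjAlgInt_conjAlgInt]; exact ha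
  · rw [mem_conjIdeal, conjAlgInt_conjAlgInt]; exact hb
  · simp

theorem centralChar_conj {G : Type*} [Group G] (χ : G → ℂ) (g : G) :
    centralChar (fun x => conj (χ x)) g = conj (centralChar χ g) := by
  unfold centralChar
  simp

section

variable {G : Type*} [Group G] [Finite G]

/-- Complex conjugation preserves the relation of lying in the same block. -/
theorem sameBlock_irrConj {p : ℕ} {M : Ideal AlgInt} (hM : IsPModular p M)
    {χ ψ : IrrCharacter G} (h : SameBlock M (χ : G → ℂ) (ψ : G → ℂ)) :
    SameBlock M (Helper81.irrConj G χ : G → ℂ) (Helper81.irrConj G ψ : G → ℂ) := by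
  apply sameBlock_indep (isPModular_conjIdeal hM) hM
  intro g
  have h1 := memLocalIdeal_conj (h g)
  rw [map_sub, ← centralChar_conj, ← centralChar_conj] at h1
  exact h1

/-- The block of a real-valued irreducible character is closed under complex conjugation. -/
theorem irrConj_mem_blockOf_of_real {p : ℕ} {M : Ideal AlgInt} (hM : IsPModular p M)
    (χ : IrrCharacter G) (hreal : ∀ g : G, conj ((χ : G → ℂ) g) = (χ : G → ℂ) g)
    {ξ : IrrCharacter G} (hξ : ξ ∈ blockOf M (χ : G → ℂ)) :
    Helper81.irrConj G ξ ∈ blockOf M (χ : G → ℂ) := by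
  have h1 := sameBlock_irrConj hM (χ := χ) (ψ := ξ) hξ
  have h2 : (Helper81.irrConj G χ : G → ℂ) = (χ : G → ℂ) := by
    funext g
    rw [Helper81.irrConj_apply, hreal g]
  rw [h2] at h1
  exact h1

/-- The conjugate of a block is a block. -/
theorem isPBlock_image_irrConj {p : ℕ} {M : Ideal AlgInt} (hM : IsPModular p M)
    {B : Set (IrrCharacter G)} (hB : IsPBlock M B) :
    IsPBlock M (Helper81.irrConj G '' B) := by
  have hMp : M.IsPrime := hM.2.1.isPrime
  obtain ⟨χ, rfl⟩ := hB
  refine ⟨Helper81.irrConj G χ, ?_⟩
  ext ψ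
  constructor
  · rintro ⟨ξ, hξ, rfl⟩
    exact sameBlock_irrConj hM hξ
  · intro hψ
    refine ⟨Helper81.irrConj G ψ, ?_, ?_⟩
    · have h1 := sameBlock_irrConj hM (χ := Helper81.irrConj G χ) (ψ := ψ) hψ
      have h2 : Helper81.irrConj G (Helper81.irrConj G χ) = χ := by
        apply Subtype.ext; funext g; simp
      rw [h2] at h1
      exact h1
    · apply Subtype.ext; funext g; simp

end

section involution

variable {G : Type*} [Group G] [Fintype G]

/-- Over a maximal ideal containing `2`, the sum over the group of an inversion-invariant function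
with local-integer values vanishing at the elements of order at most `2` lies in the local ideal. -/
theorem memLocalIdeal_sum_of_inv_invariant {M : Ideal AlgInt} (hM : IsPModular 2 M) (t : G → ℂ)
    (hR : ∀ x, MemLocalRing M (t x)) (hinv : ∀ x, t x⁻¹ = t x) (hfix : ∀ x, x⁻¹ = x → t x = 0) :
    MemLocalIdeal M (∑ x : G, t x) := by
  classical
  have hMp : M.IsPrime := hM.2.1.isPrime
  set f : G → (Helper77.localRing M ⧸ Helper77.localIdeal M) :=
    fun x => Ideal.Quotient.mk _ ⟨t x, hR x⟩ with hf
  have h2 : (2 : Helper77.localRing M ⧸ Helper77.localIdeal M) = 0 := by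
    have : (2 : Helper77.localRing M ⧸ Helper77.localIdeal M)
        = Ideal.Quotient.mk (Helper77.localIdeal M) (2 : Helper77.localRing M) := rfl
    rw [this, Ideal.Quotient.eq_zero_iff_mem, Helper77.mem_localIdeal]
    have h3 := Helper78.memLocalIdeal_prime hM
    have h4 : (((2 : Helper77.localRing M) : ℂ)) = ((2 : ℕ) : ℂ) := by
      push_cast
      rfl
    rw [h4]
    exact h3
  have hsum : ∑ x : G, f x = 0 := by
    refine Finset.sum_involution (fun x _ => x⁻¹) ?_ ?_ (fun x _ => Finset.mem_univ _)
      (fun x _ => inv_inv x)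
    · intro x _
      have : f x⁻¹ = f x := by
        simp only [hf]
        congr 1
        exact Subtype.ext (hinv x)
      rw [this, ← two_mul, h2, zero_mul]
    · intro x _ hne hxx
      apply hne
      simp only [hf]
      rw [Ideal.Quotient.eq_zero_iff_mem, Helper77.mem_localIdeal]
      simp only [hfix x hxx]
      exact Helper77.memLocalIdeal_zero M
  have hmk : Ideal.Quotient.mk (Helper77.localIdeal M) (∑ x : G, (⟨t x, hR x⟩ : Helper77.localRing M))
      = 0 := by
    rw [map_sum]; exact hsum
  rw [Ideal.Quotient.eq_zero_iff_mem, Helper77.mem_localIdeal] at hmk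
  have hcoe : ((∑ x : G, (⟨t x, hR x⟩ : Helper77.localRing M) : Helper77.localRing M) : ℂ)
      = ∑ x : G, t x := by
    push_cast
    rfl
  rw [hcoe] at hmk
  exact hmk

end involution

end Cfsg.Agent.Helper79
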