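import Mathlib
import Cfsg.Prelude.Def_Blocks
import Cfsg.Agent.S4491
import Cfsg.Agent.Helper79.ConjBlock
import Cfsg.Agent.Helper79.Linear
import Cfsg.Agent.Helper16.UnionBlocks
import Cfsg.Agent.Helper16.BlockIdem
import Cfsg.Agent.Helper77.BlockOrth

/-!
# `2`-blocks of full defect with inversion-invariant idempotent are principal (helper79)
-/

set_option autoImplicit false

namespace Cfsg.Agent.Helper79

open Cfsg
open scoped ComplexConjugate

universe u

variable {G : Type u} [Group G] [Fintype G]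

/-- `a_B(1) = S / |G|` with `S` the sum of the squares of the degrees. -/
theorem blockCoeff_one_eq (B : Set (IrrCharacter G)) :
    blockCoeff B 1 = ((∑ᶠ χ ∈ B, charDegree (χ : G → ℂ) ^ 2 : ℕ) : ℂ) / (Nat.card G : ℂ) := by
  classical
  let _ := Helper74.irrFintype G
  unfold blockCoeff
  rw [finsum_mem_eq_finite_toFinset_sum _ (Set.toFinite B),
    finsum_mem_eq_finite_toFinset_sum _ (Set.toFinite B), div_eq_inv_mul]
  congr 1
  push_cast
  refine Finset.sum_congr rfl fun ξ _ => ?_
  rw [Helper78.irrChar_one_eq_charDegree ξ.2, Complex.conj_natCast]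
  ring

/-- A `2`-block of full defect whose idempotent is inversion invariant is the principal block. -/
theorem principalIrr_mem_of_full_defect_of_inv {M : Ideal AlgInt} (hM : IsPModular 2 M)
    {B : Set (IrrCharacter G)} (hB : IsPBlock M B)
    (hdef : blockDefect 2 B = (Nat.card G).factorization 2)
    (hinv : ∀ x : G, blockCoeff B x⁻¹ = blockCoeff B x) : principalIrr G ∈ B := by
  classical
  have hMp : M.IsPrime := hM.2.1.isPrime
  have : Fact (Nat.Prime 2) := ⟨Nat.prime_two⟩
  by_contra hnot
  set t : G → ℂ := fun x => blockCoeff B x * (blockCoeff B x - blockCoeff B 1) with ht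
  have hsum : MemLocalIdeal M (∑ x : G, t x) := by
    refine memLocalIdeal_sum_of_inv_invariant hM t ?_ ?_ ?_
    · intro x
      exact Helper78.memLocalRing_mul hMp (Helper16.osima hB x)
        (Helper78.memLocalRing_sub hMp (Helper16.osima hB x) (Helper16.osima hB 1))
    · intro x
      simp only [ht]
      rw [hinv x]
    · intro x hx
      simp only [ht]
      by_cases h1 : x = 1
      · rw [h1, sub_self, mul_zero]
      · have h2 : x ^ 2 = 1 := by
          rw [pow_two]
          nth_rewrite 1 [← hx]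
          exact inv_mul_cancel x
        have h3 : orderOf x = 2 := orderOf_eq_prime h2 h1
        rw [Helper77.blockCoeff_eq_zero_of_dvd_orderOf hM hB x (by rw [h3]), zero_mul]
  -- evaluate the sum
  have h1 : ∑ x : G, blockCoeff B x * blockCoeff B x = blockCoeff B 1 := by
    have h := congrFun (Helper77.blockCoeff_conv_self (M := M) hB) 1
    rw [Helper16.conv_apply] at h
    rw [← h]
    refine Finset.sum_congr rfl fun x _ => ?_
    rw [mul_one, hinv x]
  have h2 : ∑ x : G, blockCoeff B x = 0 := by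
    have h := Helper16.omega_blockCoeff B (principalIrr G)
    rw [if_neg hnot] at h
    unfold Helper16.omega at h
    have hone : (principalIrr G : G → ℂ) = fun _ => (1 : ℂ) := rfl
    rw [hone] at h
    simpa using h
  have h3 : ∑ x : G, t x = blockCoeff B 1 := by
    simp only [ht, mul_sub]
    rw [Finset.sum_sub_distrib, h1, ← Finset.sum_mul, h2, zero_mul, sub_zero]
  rw [h3, blockCoeff_one_eq B] at hsum
  -- contradiction with `S4491`
  have hS := Cfsg.Agent.S4491.result 2 M hM B hB
  rw [hdef] at hS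
  have hG0 : Nat.card G ≠ 0 := Nat.card_pos.ne'
  have hring : MemLocalRing M
      ((((∑ᶠ χ ∈ B, charDegree (χ : G → ℂ) ^ 2 : ℕ) : ℤ) : ℂ) / (Nat.card G : ℂ)) := by
    have := Helper16.osima hB (1 : G)
    rw [blockCoeff_one_eq B] at this
    rw [Int.cast_natCast]
    exact this
  have hsum' : MemLocalIdeal M
      ((((∑ᶠ χ ∈ B, charDegree (χ : G → ℂ) ^ 2 : ℕ) : ℤ) : ℂ) / (Nat.card G : ℂ)) := by
    rw [Int.cast_natCast]
    exact hsum
  have hdvd := (Cfsg.Agent.S4426.memLocalIdeal_div_iff hM hG0 hring).1 hsum'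
  have hdvd' : 2 ^ ((Nat.card G).factorization 2 + 1) ∣
      (∑ᶠ χ ∈ B, charDegree (χ : G → ℂ) ^ 2 : ℕ) := by
    exact_mod_cast hdvd
  have hS0 : (∑ᶠ χ ∈ B, charDegree (χ : G → ℂ) ^ 2 : ℕ) ≠ 0 := by
    intro h0
    have : MemLocalIdeal M (blockCoeff B 1) := by
      rw [blockCoeff_one_eq B, h0]; simp [Helper78.memLocalIdeal_zero hMp]
    -- then the sum `h1`/`h3` argument is vacuous; use `omega_blockCoeff` at a member of `B`
    obtain ⟨χ, hχ⟩ := Helper78.isPBlock_nonempty hMp hB
    have h5 : (∑ᶠ χ ∈ B, charDegree (χ : G → ℂ) ^ 2 : ℕ) ≠ 0 := by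
      let _ := Helper74.irrFintype G
      rw [finsum_mem_eq_finite_toFinset_sum _ (Set.toFinite B)]
      have hle : charDegree (χ : G → ℂ) ^ 2 ≤
          ∑ ξ ∈ (Set.toFinite B).toFinset, charDegree (ξ : G → ℂ) ^ 2 :=
        Finset.single_le_sum (f := fun ξ : IrrCharacter G => charDegree (ξ : G → ℂ) ^ 2)
          (fun _ _ => Nat.zero_le _) ((Set.Finite.mem_toFinset _).2 hχ)
      have hpos : 0 < charDegree (χ : G → ℂ) ^ 2 :=
        pow_pos (Helper78.charDegree_pos_of_isIrrCharacter χ.2) 2
      omega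
    exact h5 h0
  have hle := (Nat.prime_two.pow_dvd_iff_le_factorization hS0).1 hdvd'
  omega

end Cfsg.Agent.Helper79
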