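import Mathlib
import Cfsg.Agent.Helper77.Blk.Defs

/-!
# S3888 (Blackburn) swarm, piece (AL1): `b ∉ C = C_G(E)` ⇒ `G` metacyclic or `b^p ∈ ℧₁(C)`
-/

set_option autoImplicit false

universe u

namespace Cfsg.Agent.Helper79.Blk

open Subgroup Cfsg.Agent.Helper77.Blk

section alpha
variable {G : Type u} [Group G] [Finite G] {p : ℕ} [hp : Fact p.Prime]

omit [Finite G] hp in
/-- the agemo subgroup of `↥C` maps onto the agemo subgroup of `C` computed in `G` -/
theorem AL1_map_powerClosure (C : Subgroup G) :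
    (Cfsg.powerClosure p 1 (⊤ : Subgroup ↥C)).map C.subtype = Cfsg.powerClosure p 1 C := by
  unfold Cfsg.powerClosure
  rw [MonoidHom.map_closure]
  congr 1
  ext y
  constructor
  · rintro ⟨_, ⟨x, _, rfl⟩, rfl⟩
    exact ⟨(x : G), x.2, by simp⟩
  · rintro ⟨x, hx, rfl⟩
    exact ⟨(⟨x, hx⟩ : ↥C) ^ (p ^ 1), ⟨⟨x, hx⟩, Subgroup.mem_top _, rfl⟩, by simp⟩

/-- (AL1) `b ∉ C = C_G(E)`: `G` is metacyclic or `b^p ∈ ℧₁(C)`. -/
theorem alpha_agemo (hp2 : p ≠ 2) (hG : IsPGroup p G) (E : Subgroup G) [E.Normal]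
    (hEcard : Nat.card E = p ^ 2) (hEexp : ∀ e ∈ E, e ^ p = 1)
    (hCE : ∀ c ∈ centralizer (E : Set G), c ^ p = 1 → c ∈ E)
    (hAG : PropAG.{u} p) (hH : PropH2.{u} p)
    (hIDX : (centralizer (E : Set G)).index ∣ p)
    (b : G) (hb : b ∉ centralizer (E : Set G)) :
    Cfsg.IsMetacyclic G ∨ b ^ p ∈ Cfsg.powerClosure p 1 (centralizer (E : Set G)) := by
  classical
  have hpp : p.Prime := hp.out
  set C : Subgroup G := centralizer (E : Set G) with hC
  -- `|G : C| = p`
  have hCidx : C.index = p := by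
    rcases (Nat.dvd_prime hpp).mp hIDX with h | h
    · exfalso
      rw [Subgroup.index_eq_one] at h
      exact hb (h ▸ Subgroup.mem_top b)
    · exact h
  -- `↥C` is `p`-central
  have hPC : PCentral p ↥C := by
    intro c hc
    have hcE : (c : G) ∈ E := by
      apply hCE (c : G) c.2
      have := congrArg Subtype.val hc
      simpa using this
    rw [Subgroup.mem_center_iff]
    intro g
    apply Subtype.ext
    have hg : (g : G) ∈ centralizer (E : Set G) := g.2
    rw [mem_centralizer_iff] at hg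
    have := hg (c : G) hcE
    simpa using this.symm
  have hE' : ∀ c : ↥C, c ^ p = 1 → c ∈ E.subgroupOf C := by
    intro c hc
    rw [Subgroup.mem_subgroupOf]
    apply hCE (c : G) c.2
    have := congrArg Subtype.val hc
    simpa using this
  have hAG' := hAG ↥C (hG.to_subgroup C) hPC (E.subgroupOf C) hE'
  have hcardE' : Nat.card (E.subgroupOf C) ≤ Nat.card E := by
    apply Nat.card_le_card_of_injective
      (fun x : ↥(E.subgroupOf C) => (⟨((x : ↥C) : G), Subgroup.mem_subgroupOf.mp x.2⟩ : ↥E))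
    intro x y h
    have h' : ((x : ↥C) : G) = ((y : ↥C) : G) := by
      have := congrArg (fun z : ↥E => (z : G)) h
      simpa using this
    exact Subtype.ext (Subtype.ext h')
  have hrel : (Cfsg.powerClosure p 1 C).relIndex C
      = (Cfsg.powerClosure p 1 (⊤ : Subgroup ↥C)).index := by
    rw [← AL1_map_powerClosure C, Subgroup.relIndex, Subgroup.subgroupOf,
      Subgroup.comap_map_eq_self_of_injective (Subgroup.subtype_injective C)]
  have hrel2 : (Cfsg.powerClosure p 1 C).relIndex C ≤ p ^ 2 := by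
    rw [hrel]
    exact (hAG'.trans hcardE').trans hEcard.le
  have hAC : Cfsg.powerClosure p 1 C ≤ C := by
    unfold Cfsg.powerClosure
    rw [Subgroup.closure_le]
    rintro _ ⟨x, hx, rfl⟩
    exact C.pow_mem hx _
  have hAidx : (Cfsg.powerClosure p 1 C).index ≤ p ^ 3 := by
    rw [← Subgroup.relIndex_mul_index hAC, hCidx]
    calc (Cfsg.powerClosure p 1 C).relIndex C * p ≤ p ^ 2 * p := Nat.mul_le_mul_right p hrel2
      _ = p ^ 3 := by ring
  by_cases hbA : b ^ p ∈ Cfsg.powerClosure p 1 C
  · exact Or.inr hbA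
  · left
    apply hH G hG
    set A : Subgroup G := Cfsg.powerClosure p 1 C with hA
    set U : Subgroup G := Cfsg.powerClosure p 1 (⊤ : Subgroup G) with hU
    have hAU : A ≤ U := by
      rw [hA, hU]
      unfold Cfsg.powerClosure
      apply Subgroup.closure_mono
      rintro _ ⟨x, _, rfl⟩
      exact ⟨x, Subgroup.mem_top x, rfl⟩
    have hbU : b ^ p ∈ U := by
      rw [hU]
      unfold Cfsg.powerClosure
      apply Subgroup.subset_closure
      exact ⟨b, Subgroup.mem_top b, by rw [pow_one]⟩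
    have hnle : ¬ U ≤ A := fun h => hbA (h hbU)
    have hrne : A.relIndex U ≠ 1 := by
      intro h
      exact hnle (Subgroup.relIndex_eq_one.mp h)
    have hmul : A.relIndex U * U.index = A.index := Subgroup.relIndex_mul_index hAU
    obtain ⟨j, hj⟩ := hG.index A
    have hdvd : A.relIndex U ∣ p ^ j := by
      rw [← hj, ← hmul]
      exact dvd_mul_right _ _
    obtain ⟨r, _, hr⟩ := (Nat.dvd_prime_pow hpp).mp hdvd
    have hr0 : r ≠ 0 := by
      rintro rfl
      rw [pow_zero] at hr
      exact hrne hr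
    have hple : p ≤ A.relIndex U := by
      rw [hr]
      calc p = p ^ 1 := (pow_one p).symm
        _ ≤ p ^ r := Nat.pow_le_pow_right hpp.pos (Nat.one_le_iff_ne_zero.mpr hr0)
    have h3 : p * U.index ≤ p ^ 3 := by
      calc p * U.index ≤ A.relIndex U * U.index := Nat.mul_le_mul_right _ hple
        _ = A.index := hmul
        _ ≤ p ^ 3 := hAidx
    have h3' : p * U.index ≤ p * p ^ 2 := by
      calc p * U.index ≤ p ^ 3 := h3
        _ = p * p ^ 2 := by ring
    exact Nat.le_of_mul_le_mul_left h3' hpp.pos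

end alpha

end Cfsg.Agent.Helper79.Blk
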