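import Cfsg.Agent.Helper82.Knorr

/-!
# Weighted column orthogonality (helper79, piece (K-W5) of board #4565 for helper77, S4958)
-/

set_option autoImplicit false

namespace Cfsg.Agent.Helper79.KnorrW5

open Cfsg
open scoped ComplexConjugate

universe u

section grp
variable {X : Type u} [Group X] [Finite X]

/-- A uniform exponent: `(v * c) ^ k = v` for all `c ∈ G` commuting with `v`. -/
theorem exists_pow_mul_eq (V G : Subgroup X) (hcop : (Nat.card V).Coprime (Nat.card G))
    (v : X) (hv : v ∈ V) : ∃ k : ℕ, ∀ c ∈ G, v * c = c * v → (v * c) ^ k = v := by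
  have h1 : (Nat.card G).Coprime (orderOf v) :=
    (hcop.coprime_dvd_left (Subgroup.orderOf_dvd_natCard V hv)).symm
  obtain ⟨m, hm⟩ := exists_pow_eq_self_of_coprime h1
  refine ⟨Nat.card G * m, fun c hc hvc => ?_⟩
  have hcN : c ^ Nat.card G = 1 := by
    have h2 : ((⟨c, hc⟩ : G) ^ Nat.card G : G) = 1 := pow_card_eq_one'
    have h3 : (((⟨c, hc⟩ : G) ^ Nat.card G : G) : X) = ((1 : G) : X) := congrArg Subtype.val h2
    rw [Subgroup.coe_pow, Subgroup.coe_one] at h3
    exact h3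
  have hcomm : Commute v c := hvc
  rw [pow_mul, hcomm.mul_pow, hcN, mul_one, hm]

variable (V G : Subgroup X) [V.Normal] (hVab : ∀ a ∈ V, ∀ b ∈ V, a * b = b * a)
  (hGV : Subgroup.IsComplement' V G) (hcop : (Nat.card V).Coprime (Nat.card G))
  (v : X) (hv : v ∈ V) (C : Subgroup X)
  (hCdef : C = G ⊓ Subgroup.centralizer ({v} : Set X))
  (hCab : ∀ a ∈ C, ∀ b ∈ C, a * b = b * a)

include hVab hGV hcop hv hCdef hCab

/-- If `x` centralizes `v` and conjugates `c' ∈ C` to `c ∈ C`-ish data: decomposition facts. -/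
theorem decomp_of_mem_centralizer {x : X} (hx : x ∈ Subgroup.centralizer ({v} : Set X)) :
    ∃ w ∈ V, ∃ g ∈ C, x = w * g := by
  obtain ⟨⟨w, g⟩, hwg, -⟩ := (Subgroup.isComplement_iff_existsUnique.1 hGV) x
  have hwg' : (w : X) * (g : X) = x := hwg
  refine ⟨w, w.2, g, ?_, hwg'.symm⟩
  rw [hCdef]
  refine ⟨g.2, ?_⟩
  have hwc : (w : X) ∈ Subgroup.centralizer ({v} : Set X) := by
    rw [Subgroup.mem_centralizer_iff]
    intro h hh
    rw [Set.mem_singleton_iff] at hh
    subst hh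
    exact hVab _ hv _ w.2
  have : (g : X) = (w : X)⁻¹ * x := by rw [← hwg']; group
  rw [this]
  exact Subgroup.mul_mem _ (Subgroup.inv_mem _ hwc) hx

theorem comm_v_of_mem {c : X} (hc : c ∈ C) : v * c = c * v := by
  rw [hCdef] at hc
  exact (Subgroup.mem_centralizer_iff.mp hc.2) v rfl

/-- (A1) distinct elements of `C` give non-conjugate `v * c`. -/
theorem eq_of_isConj {c c' : X} (hc : c ∈ C) (hc' : c' ∈ C) (h : IsConj (v * c') (v * c)) : c = c' := by
  obtain ⟨k, hk⟩ := exists_pow_mul_eq V G hcop v hv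
  have hcG : c ∈ G := by rw [hCdef] at hc; exact hc.1
  have hc'G : c' ∈ G := by rw [hCdef] at hc'; exact hc'.1
  have hvc := comm_v_of_mem V G hVab hGV hcop v hv C hCdef hCab hc
  have hvc' := comm_v_of_mem V G hVab hGV hcop v hv C hCdef hCab hc'
  obtain ⟨x, hx⟩ := isConj_iff.mp h
  -- `x` centralizes `v`
  have hxv : x * v * x⁻¹ = v := by
    have h1 : x * (v * c') ^ k * x⁻¹ = (v * c) ^ k := by rw [← conj_pow, hx]
    rw [hk c' hc'G hvc', hk c hcG hvc] at h1
    exact h1
  have hxc : x * c' * x⁻¹ = c := by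
    have h1 : x * c' * x⁻¹ = (x * v * x⁻¹)⁻¹ * (x * (v * c') * x⁻¹) := by group
    rw [h1, hxv, hx]; group
  have hxcen : x ∈ Subgroup.centralizer ({v} : Set X) := by
    rw [Subgroup.mem_centralizer_iff]
    intro y hy
    rw [Set.mem_singleton_iff] at hy
    rw [hy]
    calc v * x = (x * v * x⁻¹) * x := by rw [hxv]
      _ = x * v := by group
  obtain ⟨w, hw, g, hg, rfl⟩ := decomp_of_mem_centralizer V G hVab hGV hcop v hv C hCdef hCab hxcen
  have hgc : g * c' * g⁻¹ = c' := by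
    rw [hCab g hg c' hc', mul_inv_cancel_right]
  have h2 : w * c' * w⁻¹ = c := by
    rw [← hxc]
    calc w * c' * w⁻¹ = w * (g * c' * g⁻¹) * w⁻¹ := by rw [hgc]
      _ = w * g * c' * (w * g)⁻¹ := by group
  -- `c'⁻¹ * c ∈ V ⊓ G = ⊥`
  have h3 : c'⁻¹ * c ∈ V := by
    rw [← h2]
    have : c'⁻¹ * (w * c' * w⁻¹) = (c'⁻¹ * w * c'⁻¹⁻¹) * w⁻¹ := by group
    rw [this]
    exact V.mul_mem (Subgroup.Normal.conj_mem inferInstance w hw c'⁻¹) (V.inv_mem hw)
  have h4 : c'⁻¹ * c ∈ G := G.mul_mem (G.inv_mem hc'G) hcG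
  have h5 : c'⁻¹ * c ∈ V ⊓ G := ⟨h3, h4⟩
  rw [hGV.disjoint.eq_bot, Subgroup.mem_bot] at h5
  calc c = c' * (c'⁻¹ * c) := by group
    _ = c' := by rw [h5, mul_one]

/-- (A2) the centralizer of `v * c`. -/
theorem card_centralizer_mul {c : X} (hc : c ∈ C) :
    Nat.card ↥(Subgroup.centralizer ({v * c} : Set X)) =
      Nat.card ↥(V ⊓ Subgroup.centralizer ({c} : Set X)) * Nat.card C := by
  obtain ⟨k, hk⟩ := exists_pow_mul_eq V G hcop v hv
  have hcG : c ∈ G := by rw [hCdef] at hc; exact hc.1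
  have hvc := comm_v_of_mem V G hVab hGV hcop v hv C hCdef hCab hc
  have hCG : C ≤ G := by rw [hCdef]; exact inf_le_left
  have hCv : C ≤ Subgroup.centralizer ({v} : Set X) := by rw [hCdef]; exact inf_le_right
  have hVv : V ≤ Subgroup.centralizer ({v} : Set X) := by
    intro w hw
    rw [Subgroup.mem_centralizer_iff]
    intro h hh
    rw [Set.mem_singleton_iff] at hh
    subst hh
    exact hVab _ hv _ hw
  have mem_iff : ∀ x : X, x ∈ Subgroup.centralizer ({v * c} : Set X) ↔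
      (v * x = x * v ∧ c * x = x * c) := by
    intro x
    rw [Subgroup.mem_centralizer_iff]
    constructor
    · intro h
      have h1 : v * c * x = x * (v * c) := h _ rfl
      have h2 : (v * c) ^ k * x = x * (v * c) ^ k := by
        have : Commute (v * c) x := h1
        exact this.pow_left k
      rw [hk c hcG hvc] at h2
      refine ⟨h2, ?_⟩
      calc c * x = v⁻¹ * (v * c * x) := by group
        _ = v⁻¹ * (x * (v * c)) := by rw [h1]
        _ = v⁻¹ * (x * v) * c := by group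
        _ = v⁻¹ * (v * x) * c := by rw [h2]
        _ = x * c := by group
    · rintro ⟨h1, h2⟩ h hh
      rw [Set.mem_singleton_iff] at hh
      subst hh
      calc v * c * x = v * (c * x) := by group
        _ = v * (x * c) := by rw [h2]
        _ = (v * x) * c := by group
        _ = (x * v) * c := by rw [h1]
        _ = x * (v * c) := by group
  rw [← Nat.card_prod]
  symm
  refine Nat.card_congr (Equiv.ofBijective
    (fun y : ↥(V ⊓ Subgroup.centralizer ({c} : Set X)) × C =>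
      (⟨(y.1 : X) * (y.2 : X), ?_⟩ : ↥(Subgroup.centralizer ({v * c} : Set X)))) ⟨?_, ?_⟩)
  · rw [mem_iff]
    have hw1 : (y.1 : X) ∈ V := y.1.2.1
    have hw2 : c * (y.1 : X) = (y.1 : X) * c := (Subgroup.mem_centralizer_iff.mp y.1.2.2) c rfl
    have hg1 : v * (y.2 : X) = (y.2 : X) * v := (Subgroup.mem_centralizer_iff.mp (hCv y.2.2)) v rfl
    have hg2 : c * (y.2 : X) = (y.2 : X) * c := hCab c hc _ y.2.2
    have hw3 : v * (y.1 : X) = (y.1 : X) * v := hVab _ hv _ hw1
    constructor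
    · calc v * ((y.1 : X) * (y.2 : X)) = (v * (y.1 : X)) * (y.2 : X) := by group
        _ = ((y.1 : X) * v) * (y.2 : X) := by rw [hw3]
        _ = (y.1 : X) * (v * (y.2 : X)) := by group
        _ = (y.1 : X) * ((y.2 : X) * v) := by rw [hg1]
        _ = (y.1 : X) * (y.2 : X) * v := by group
    · calc c * ((y.1 : X) * (y.2 : X)) = (c * (y.1 : X)) * (y.2 : X) := by group
        _ = ((y.1 : X) * c) * (y.2 : X) := by rw [hw2]
        _ = (y.1 : X) * (c * (y.2 : X)) := by group
        _ = (y.1 : X) * ((y.2 : X) * c) := by rw [hg2]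
        _ = (y.1 : X) * (y.2 : X) * c := by group
  · rintro ⟨a, g⟩ ⟨a', g'⟩ h
    have h1 : (a : X) * (g : X) = (a' : X) * (g' : X) := congrArg Subtype.val h
    have huniq := (Subgroup.isComplement_iff_existsUnique.1 hGV) ((a : X) * (g : X))
    have e1 := huniq.unique (y₁ := (⟨⟨a, a.2.1⟩, ⟨g, hCG g.2⟩⟩ : ↥V × ↥G))
      (y₂ := (⟨⟨a', a'.2.1⟩, ⟨g', hCG g'.2⟩⟩ : ↥V × ↥G)) rfl h1.symm
    have ea : (a : X) = (a' : X) := congrArg (fun z : ↥V × ↥G => (z.1 : X)) e1
    have eg : (g : X) = (g' : X) := congrArg (fun z : ↥V × ↥G => (z.2 : X)) e1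
    exact Prod.ext (Subtype.ext ea) (Subtype.ext eg)
  · rintro ⟨x, hx⟩
    rw [mem_iff] at hx
    have hxcen : x ∈ Subgroup.centralizer ({v} : Set X) := by
      rw [Subgroup.mem_centralizer_iff]
      intro h hh
      rw [Set.mem_singleton_iff] at hh
      subst hh
      exact hx.1
    obtain ⟨w, hw, g, hg, rfl⟩ := decomp_of_mem_centralizer V G hVab hGV hcop v hv C hCdef hCab hxcen
    have hg2 : c * g = g * c := hCab c hc g hg
    have hwc : c * w = w * c := by
      have h1 := hx.2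
      calc c * w = (c * (w * g)) * g⁻¹ := by group
        _ = (w * g * c) * g⁻¹ := by rw [h1]
        _ = w * (g * c) * g⁻¹ := by group
        _ = w * (c * g) * g⁻¹ := by rw [hg2]
        _ = w * c := by group
    refine ⟨(⟨w, hw, ?_⟩, ⟨g, hg⟩), rfl⟩
    show w ∈ Subgroup.centralizer ({c} : Set X)
    rw [Subgroup.mem_centralizer_iff]
    intro y hy
    rw [Set.mem_singleton_iff] at hy
    rw [hy]
    exact hwc

end grp

/-- Weighted column orthogonality. -/
theorem sum_irr_normSq_weighted {X : Type u} [Group X] [Fintype X] [Fintype (Cfsg.IrrCharacter X)]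
    (V G : Subgroup X) [V.Normal] (hVab : ∀ a ∈ V, ∀ b ∈ V, a * b = b * a)
    (hGV : Subgroup.IsComplement' V G) (hcop : (Nat.card V).Coprime (Nat.card G))
    (v : X) (hv : v ∈ V) (C : Subgroup X) [Fintype C]
    (hCdef : C = G ⊓ Subgroup.centralizer ({v} : Set X))
    (hCab : ∀ a ∈ C, ∀ b ∈ C, a * b = b * a) (ϑ : C → ℂ)
    (hϑ : ∀ c : C, ϑ c * conj (ϑ c) *
      (Nat.card ↥(V ⊓ Subgroup.centralizer ({(c : X)} : Set X)) : ℂ) = (Nat.card V : ℂ)) :
    ∑ χ : Cfsg.IrrCharacter X, ‖∑ c : C, ϑ c * (χ : X → ℂ) (v * (c : X))‖ ^ 2 =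
      (Nat.card C : ℝ) ^ 2 * (Nat.card V : ℝ) := by
  classical
  have key : ((∑ χ : Cfsg.IrrCharacter X, ‖∑ c : C, ϑ c * (χ : X → ℂ) (v * (c : X))‖ ^ 2 : ℝ) : ℂ) =
      (((Nat.card C : ℝ) ^ 2 * (Nat.card V : ℝ) : ℝ) : ℂ) := by
    push_cast
    have h1 : ∀ χ : Cfsg.IrrCharacter X,
        ((‖∑ c : C, ϑ c * (χ : X → ℂ) (v * (c : X))‖ : ℂ)) ^ 2 =
          ∑ c : C, ∑ c' : C, ϑ c * conj (ϑ c') *
            ((χ : X → ℂ) (v * (c : X)) * conj ((χ : X → ℂ) (v * (c' : X)))) := by
      intro χ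
      rw [← Complex.mul_conj', map_sum, Finset.sum_mul_sum]
      refine Finset.sum_congr rfl fun c _ => Finset.sum_congr rfl fun c' _ => ?_
      rw [map_mul]
      ring
    rw [Finset.sum_congr rfl (fun χ _ => h1 χ), Finset.sum_comm]
    rw [Finset.sum_congr rfl (fun c _ => Finset.sum_comm)]
    have h2 : ∀ c c' : C, ∑ χ : Cfsg.IrrCharacter X, ϑ c * conj (ϑ c') *
        ((χ : X → ℂ) (v * (c : X)) * conj ((χ : X → ℂ) (v * (c' : X)))) =
        if c = c' then (Nat.card V : ℂ) * (Nat.card C : ℂ) else 0 := by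
      intro c c'
      rw [← Finset.mul_sum, Cfsg.Agent.Helper79.column_orthogonality]
      by_cases hcc : c = c'
      · subst hcc
        rw [if_pos (IsConj.refl _), if_pos rfl,
          card_centralizer_mul V G hVab hGV hcop v hv C hCdef hCab c.2]
        push_cast
        rw [← hϑ c]
        ring
      · rw [if_neg hcc, if_neg, mul_zero]
        intro hconj
        apply hcc
        exact Subtype.ext (eq_of_isConj V G hVab hGV hcop v hv C hCdef hCab c.2 c'.2 hconj)
    rw [Finset.sum_congr rfl (fun c _ => Finset.sum_congr rfl (fun c' _ => h2 c c'))]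
    simp only [Finset.sum_ite_eq, Finset.mem_univ, if_true, Finset.sum_const, Finset.card_univ,
      nsmul_eq_mul]
    rw [Nat.card_eq_fintype_card (α := C)]
    ring
  exact_mod_cast key

end Cfsg.Agent.Helper79.KnorrW5
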