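import Cfsg.Agent.Helper78.Olsson.Defs
import Cfsg.Agent.Helper16.ContribMajor
import Cfsg.Agent.Helper77.DefectOrder

/-!
Piece (LAT) of helper78's plan for S4539 (Olsson: `l(b_z) ≤ 2 ⇒ k(B) ≤ p^d`): existence of a basic set
(a `ℤ`-basis of the lattice spanned by the `p`-regular parts) for a block of rank two.
-/

set_option autoImplicit false
set_option linter.style.haveILetI false
set_option linter.unusedSectionVars false
set_option linter.unusedVariables false

noncomputable section

namespace Cfsg.Agent.Helper79.Olsson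

open Cfsg Module
open scoped ComplexConjugate
open Cfsg.Agent.S4426 (cut)
open Cfsg.Agent.Helper78.Olsson

/-- abstract lattice lemma: a finite family `s` of vectors spanning a plane, with two functionals that
are integral on the family and jointly injective on the plane, has a `ℤ`-basis of two vectors. -/
theorem exists_lattice_basis {V : Type*} [AddCommGroup V] [Module ℂ V] {ι : Type*} [Fintype ι]
    (s : ι → V) (hrk : finrank ℂ ↥(Submodule.span ℂ (Set.range s)) = 2)
    (κ : Fin 2 → (V →ₗ[ℂ] ℂ)) (k : ι → Fin 2 → ℤ) (hk : ∀ θ j, κ j (s θ) = (k θ j : ℂ))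
    (hinj : ∀ v ∈ Submodule.span ℂ (Set.range s), (∀ j, κ j v = 0) → v = 0) :
    ∃ (φ : Fin 2 → V) (x : ι → Fin 2 → ℤ) (A : Fin 2 → ι → ℤ),
      (∀ θ, s θ = ∑ i, (x θ i : ℂ) • φ i) ∧ (∀ i, φ i = ∑ θ, (A i θ : ℂ) • s θ) ∧
        LinearIndependent ℂ φ := by
  classical
  set N : Submodule ℤ (Fin 2 → ℤ) := Submodule.span ℤ (Set.range k) with hN
  obtain ⟨n, v⟩ := Submodule.basisOfPid (Pi.basisFun ℤ (Fin 2)) N
  -- the basis vectors as integer combinations
  have hA : ∀ i : Fin n, ∃ c : ι → ℤ, ∑ θ, c θ • k θ = (v i : Fin 2 → ℤ) := fun i =>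
    (Submodule.mem_span_range_iff_exists_fun ℤ).mp (v i).2
  choose A hA using hA
  set φ : Fin n → V := fun i => ∑ θ, (A i θ : ℂ) • s θ with hφ
  have hφmem : ∀ i, φ i ∈ Submodule.span ℂ (Set.range s) := fun i =>
    Submodule.sum_mem _ (fun θ _ => Submodule.smul_mem _ _ (Submodule.subset_span ⟨θ, rfl⟩))
  have hκφ : ∀ i j, κ j (φ i) = (((v i : Fin 2 → ℤ) j : ℤ) : ℂ) := by
    intro i j
    rw [hφ]
    simp only [map_sum, map_smul, smul_eq_mul, hk]
    rw [← hA i]
    simp only [Finset.sum_apply, Pi.smul_apply, smul_eq_mul]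
    push_cast
    rfl
  -- coordinates of the family
  have hkN : ∀ θ, k θ ∈ N := fun θ => Submodule.subset_span ⟨θ, rfl⟩
  set x : ι → Fin n → ℤ := fun θ i => v.repr ⟨k θ, hkN θ⟩ i with hx
  have hxk : ∀ θ j, ∑ i, x θ i * (v i : Fin 2 → ℤ) j = k θ j := by
    intro θ j
    have h1 := v.sum_repr ⟨k θ, hkN θ⟩
    have h2 := congrArg (fun w : N => (w : Fin 2 → ℤ) j) h1
    simp only [Submodule.coe_sum, Submodule.coe_smul, Finset.sum_apply, Pi.smul_apply,
      smul_eq_mul] at h2
    exact h2
  have hs : ∀ θ, s θ = ∑ i, (x θ i : ℂ) • φ i := by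
    intro θ
    have hmem : s θ - ∑ i, (x θ i : ℂ) • φ i ∈ Submodule.span ℂ (Set.range s) :=
      Submodule.sub_mem _ (Submodule.subset_span ⟨θ, rfl⟩)
        (Submodule.sum_mem _ (fun i _ => Submodule.smul_mem _ _ (hφmem i)))
    have h0 := hinj _ hmem (fun j => by
      rw [map_sub, map_sum, hk]
      simp only [map_smul, smul_eq_mul, hκφ]
      rw [← hxk θ j]
      push_cast
      ring)
    exact sub_eq_zero.mp h0
  -- the rank
  have hle : Submodule.span ℂ (Set.range s) ≤ Submodule.span ℂ (Set.range φ) := by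
    rw [Submodule.span_le]
    rintro _ ⟨θ, rfl⟩
    rw [hs θ]
    exact Submodule.sum_mem _ (fun i _ => Submodule.smul_mem _ _ (Submodule.subset_span ⟨i, rfl⟩))
  haveI : Module.Finite ℂ ↥(Submodule.span ℂ (Set.range φ)) :=
    FiniteDimensional.span_of_finite ℂ (Set.finite_range φ)
  have hn2 : 2 ≤ n := by
    have h1 : finrank ℂ ↥(Submodule.span ℂ (Set.range s)) ≤
        finrank ℂ ↥(Submodule.span ℂ (Set.range φ)) := Submodule.finrank_mono hle
    have h2 : Set.finrank ℂ (Set.range φ) ≤ Fintype.card (Fin n) := finrank_range_le_card φ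
    rw [Fintype.card_fin] at h2
    rw [hrk] at h1
    exact h1.trans h2
  have hn2' : n ≤ 2 := by
    have h1 : LinearIndependent ℤ (fun i => ((v i : N) : Fin 2 → ℤ)) :=
      v.linearIndependent.map' N.subtype (Submodule.ker_subtype N)
    have h2 := h1.fintype_card_le_finrank
    rwa [Fintype.card_fin, finrank_fin_fun] at h2
  have hn : n = 2 := le_antisymm hn2' hn2
  subst hn
  refine ⟨φ, x, A, hs, fun i => rfl, ?_⟩
  rw [linearIndependent_iff_card_eq_finrank_span, Fintype.card_fin]
  haveI : Module.Finite ℂ ↥(Submodule.span ℂ (Set.range φ)) :=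
    FiniteDimensional.span_of_finite ℂ (Set.finite_range φ)
  have h1 : finrank ℂ ↥(Submodule.span ℂ (Set.range s)) ≤
      finrank ℂ ↥(Submodule.span ℂ (Set.range φ)) := Submodule.finrank_mono hle
  have h2 : Set.finrank ℂ (Set.range φ) ≤ Fintype.card (Fin 2) := finrank_range_le_card φ
  rw [Fintype.card_fin] at h2
  rw [hrk] at h1
  exact le_antisymm h1 h2

section HLevel

variable {H : Type*} [Group H] [Fintype H] {M : Ideal AlgInt} {p : ℕ}

theorem cut_one_eq_pRegularPart (χ : H → ℂ) : cut p 1 χ = pRegularPart p χ := by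
  funext x
  unfold cut pRegularPart IsPRegular
  by_cases h : p ∣ orderOf x <;> simp [h]

/-- for a function vanishing on the `p`-singular elements, the inner product with `ψ` only sees the
`p`-regular part of `ψ` -/
theorem classInner_cut_right_of_vanish {v : H → ℂ} (hv : ∀ g : H, p ∣ orderOf g → v g = 0)
    (ψ : H → ℂ) : classInner v (cut p 1 ψ) = classInner v ψ := by
  unfold classInner
  congr 1
  refine Finset.sum_congr rfl (fun g _ => ?_)
  by_cases h : p ∣ orderOf g
  · rw [hv g h, zero_mul, zero_mul]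
  · unfold cut
    rw [if_neg h, one_mul]

/-- (LAT) existence of a basic set for a block of rank two. -/
theorem exists_latData [Fact p.Prime] (hM : IsPModular p M) {b : Set (IrrCharacter H)}
    (hb : IsPBlock M b) (hl : blockRank p b = 2) : Nonempty (LatData p b) := by
  classical
  set d := blockDefect p b with hd
  -- the family
  set s : IrrCharacter H → H → ℂ := fun θ => if θ ∈ b then cut p 1 (θ : H → ℂ) else 0 with hs
  have hspan : Submodule.span ℂ (Set.range s) =
      Submodule.span ℂ ((fun χ : IrrCharacter H => pRegularPart p (χ : H → ℂ)) '' b) := by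
    apply le_antisymm
    · rw [Submodule.span_le]
      rintro _ ⟨θ, rfl⟩
      by_cases hθ : θ ∈ b
      · simp only [hs, if_pos hθ]
        rw [cut_one_eq_pRegularPart]
        exact Submodule.subset_span ⟨θ, hθ, rfl⟩
      · simp only [hs, if_neg hθ]
        exact Submodule.zero_mem _
    · rw [Submodule.span_le]
      rintro _ ⟨θ, hθ, rfl⟩
      refine Submodule.subset_span ⟨θ, ?_⟩
      simp only [hs, if_pos hθ]
      rw [cut_one_eq_pRegularPart]
  have hrk : finrank ℂ ↥(Submodule.span ℂ (Set.range s)) = 2 := by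
    rw [hspan]
    exact hl
  -- two members of the block whose `p`-regular parts span
  haveI : Module.Finite ℂ ↥(Submodule.span ℂ
      ((fun χ : IrrCharacter H => pRegularPart p (χ : H → ℂ)) '' b)) :=
    FiniteDimensional.span_of_finite ℂ (Set.toFinite _)
  have hl' : finrank ℂ ↥(Submodule.span ℂ
      ((fun χ : IrrCharacter H => pRegularPart p (χ : H → ℂ)) '' b)) = 2 := hl
  have hex : ∀ n : ℕ, finrank ℂ ↥(Submodule.span ℂ
      ((fun χ : IrrCharacter H => pRegularPart p (χ : H → ℂ)) '' b)) = n →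
      ∃ f : Fin n → (H → ℂ),
        (∀ i, f i ∈ (fun χ : IrrCharacter H => pRegularPart p (χ : H → ℂ)) '' b) ∧
        Submodule.span ℂ (Set.range f) = Submodule.span ℂ
          ((fun χ : IrrCharacter H => pRegularPart p (χ : H → ℂ)) '' b) ∧
        LinearIndependent ℂ f := by
    intro n hn
    subst hn
    exact Submodule.exists_fun_fin_finrank_span_eq ℂ _
  obtain ⟨f, hfmem, hfspan, hfli⟩ := hex 2 hl'
  choose τ hτb hτf using hfmem
  have hτf' : ∀ j, pRegularPart p ((τ j : IrrCharacter H) : H → ℂ) = f j := hτf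
  -- the functionals
  set κ : Fin 2 → ((H → ℂ) →ₗ[ℂ] ℂ) :=
    fun j => ((p ^ d : ℕ) : ℂ) • Cfsg.Agent.Helper77.innerL ((τ j : IrrCharacter H) : H → ℂ) with hκ
  have hκapp : ∀ j (v : H → ℂ), κ j v = ((p ^ d : ℕ) : ℂ) * classInner v ((τ j : IrrCharacter H) : H → ℂ) :=
    fun j v => rfl
  -- integrality
  have hint : ∀ θ : IrrCharacter H, ∃ m : Fin 2 → ℤ, ∀ j, κ j (s θ) = (m j : ℂ) := by
    intro θ
    by_cases hθ : θ ∈ b
    · obtain ⟨m, hm⟩ := Cfsg.Agent.Helper16.exists_int_defect_mul_cut hM hb θ hθ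
      refine ⟨fun j => m (τ j), fun j => ?_⟩
      rw [hκapp]
      simp only [hs, if_pos hθ]
      exact hm (τ j)
    · refine ⟨fun _ => 0, fun j => ?_⟩
      rw [hκapp]
      simp only [hs, if_neg hθ]
      rw [Cfsg.Agent.Helper74.classInner_zero_left, mul_zero, Int.cast_zero]
  choose k hk using hint
  -- members of the span vanish on the `p`-singular elements
  have hvan : ∀ v ∈ Submodule.span ℂ (Set.range s), ∀ g : H, p ∣ orderOf g → v g = 0 := by
    intro v hv g hg
    induction hv using Submodule.span_induction with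
    | mem x hx =>
      obtain ⟨θ, rfl⟩ := hx
      by_cases hθ : θ ∈ b
      · simp only [hs, if_pos hθ]
        unfold cut
        rw [if_pos hg]
      · simp only [hs, if_neg hθ]
        rfl
    | zero => rfl
    | add x y _ _ hx hy => rw [Pi.add_apply, hx, hy, add_zero]
    | smul c x _ hx => rw [Pi.smul_apply, hx, smul_zero]
  -- joint injectivity
  have hpd : ((p ^ d : ℕ) : ℂ) ≠ 0 := by
    have hp : p.Prime := Fact.out
    exact_mod_cast (pow_pos hp.pos d).ne'
  have hinj : ∀ v ∈ Submodule.span ℂ (Set.range s), (∀ j, κ j v = 0) → v = 0 := by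
    intro v hv h0
    have h1 : ∀ j, classInner v (f j) = 0 := by
      intro j
      have h2 := h0 j
      rw [hκapp] at h2
      rcases mul_eq_zero.mp h2 with h3 | h3
      · exact absurd h3 hpd
      · rw [← hτf' j, ← cut_one_eq_pRegularPart, classInner_cut_right_of_vanish (hvan v hv)]
        exact h3
    have hv' : v ∈ Submodule.span ℂ (Set.range f) := by
      rw [hfspan, ← hspan]
      exact hv
    obtain ⟨c, hc⟩ := (Submodule.mem_span_range_iff_exists_fun ℂ).mp hv'
    apply Cfsg.Agent.Helper74.classInner_self_eq_zero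
    have hvv : classInner v v = classInner v (∑ i, c i • f i) := by rw [hc]
    rw [hvv, Cfsg.Agent.Helper74.classInner_sum_right]
    refine Finset.sum_eq_zero (fun j _ => ?_)
    rw [Cfsg.Agent.Helper74.classInner_smul_right, h1 j, mul_zero]
  obtain ⟨φ, x, A, h1, h2, h3⟩ := exists_lattice_basis s hrk κ k hk hinj
  refine ⟨{ φ := φ
            x := fun θ => if θ ∈ b then x θ else 0
            A := fun i θ => if θ ∈ b then A i θ else 0
            hx0 := fun θ hθ => if_neg hθ
            hA0 := fun i θ hθ => if_neg hθ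
            hx := ?_
            hA := ?_
            hli := h3 }⟩
  · intro θ hθ h
    have h4 := congrFun (h1 θ) h
    simp only [hs, if_pos hθ] at h4
    rw [h4, if_pos hθ, Fin.sum_univ_two]
    simp only [Pi.add_apply, Pi.smul_apply, smul_eq_mul]
  · intro i h
    have h4 := congrFun (h2 i) h
    rw [h4, Finset.sum_apply]
    refine Finset.sum_congr rfl (fun θ _ => ?_)
    by_cases hθ : θ ∈ b
    · simp only [hs, if_pos hθ, Pi.smul_apply, smul_eq_mul]
    · simp only [hs, if_neg hθ, Pi.smul_apply, smul_eq_mul, Pi.zero_apply, mul_zero, Int.cast_zero,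
        zero_mul]

end HLevel

end Cfsg.Agent.Helper79.Olsson

end
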