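import Cfsg.Agent.Helper78.Sak.Defs

/-!
# S5544 (Sakuma) piece (H1) `P1_zero` for helper78's farm (#12194)

`P1_zero` with the earlier chain lemmas (`K1`, `gram_se`, mirrored `gram_se`, `sese_eq`, `seso_eq`)
as explicit hypotheses (statements verbatim from `tools/helper78_sakuma/Skel.lean.txt`).
Math: `B se a3 = (30 lam + f - 1)/32`; expand `a3` by `K1`.
-/

set_option autoImplicit false
set_option linter.unusedVariables false

namespace Cfsg.Agent.Helper79.Sak

open Cfsg.Agent.Helper78.Sak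

variable {V : Type*} [AddCommGroup V] [Module ℝ V]
variable {mul : V →ₗ[ℝ] V →ₗ[ℝ] V} {B : LinearMap.BilinForm ℝ V}
variable {lam f : ℝ} {a0 a1 am1 a2 am2 a3 s se so : V}

/-- Piece H1 : the first polynomial relation -/
theorem P1_zero (T : Tab mul B lam f a0 a1 am1 a2 am2 a3 s se so)
    (hK : a3 = K1rhs lam f a0 a1 am1 a2 am2 se so)
    (hgse : B se a0 = (31 * f - 1) / 32 ∧ B se a2 = (31 * f - 1) / 32 ∧
      B se am2 = (31 * f - 1) / 32 ∧ B se a1 = (30 * lam + f - 1) / 32 ∧
      B se am1 = (30 * lam + f - 1) / 32 ∧ B se a3 = (30 * lam + f - 1) / 32)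
    (hgso : B so a1 = (31 * f - 1) / 32 ∧ B so am1 = (31 * f - 1) / 32 ∧
      B so a3 = (31 * f - 1) / 32 ∧ B so a0 = (30 * lam + f - 1) / 32 ∧
      B so a2 = (30 * lam + f - 1) / 32 ∧ B so am2 = (30 * lam + f - 1) / 32)
    (hsese : B se se = seseP lam f) (hseso : B se so = sesoP lam f) : P1 lam f = 0 := by
  obtain ⟨h0, h2, hm2, h1, hm1, h3⟩ := hgse
  have key : B se a3 = B se (K1rhs lam f a0 a1 am1 a2 am2 se so) := by rw [← hK]
  unfold K1rhs at key
  simp only [map_add, map_smul, smul_eq_mul] at key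
  rw [h0, h2, hm2, h1, hm1, h3, hsese, hseso] at key
  unfold seseP sesoP at key
  unfold P1
  linear_combination (-1 : ℝ) * key
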