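import Cfsg.Agent.Helper86.CEDefs
import Cfsg.Agent.Helper88.FusionCentric

/-!
# Monotonicity of `TrivExt` and `ExtFix` (helper79, piece (W1) of board #4500 for helper86, S5293)
-/

set_option autoImplicit false

open Cfsg Cfsg.FusionSystem Cfsg.Agent.Helper87 Cfsg.Agent.Helper86.CE

namespace Cfsg.Agent.Helper79

variable {Ω : Type*} [Group Ω] {S : Subgroup Ω}

/-- Shrinking the fixed subgroup `X` keeps `ExtFix`. -/
theorem ExtFix.mono {F : FusionSystem S} {X X' P : Subgroup Ω} {φ : P →* Ω} (h : ExtFix F X P φ)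
    (hX : X' ≤ X) : ExtFix F X' P φ := by
  obtain ⟨ψ, hψ, h1, h2⟩ := h
  have hle : P ⊔ X' ≤ P ⊔ X := sup_le_sup_left hX P
  refine ⟨ψ.comp (Subgroup.inclusion hle), restrict_mem F hψ hle, fun x => ?_, fun x => ?_⟩
  · have := h1 x
    exact this
  · have := h2 ⟨x, hX x.2⟩
    exact this

/-- Shrinking `Q` keeps `TrivExt`. -/
theorem TrivExt.mono {F : FusionSystem S} {P Q Q' : Subgroup Ω} {φ : MulAut P} (h : TrivExt F P Q φ)
    (hQ : Q' ≤ Q) : TrivExt F P Q' φ := by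
  obtain ⟨e, he, h1, h2⟩ := h
  have hle : P ⊔ Q' ≤ P ⊔ Q := sup_le_sup_left hQ P
  have hPH' : P ≤ P ⊔ Q' := le_sup_left
  have hQH' : Q' ≤ P ⊔ Q' := le_sup_right
  -- values of `e.symm` on `P`
  have h1s : ∀ x : P, ((e.symm (Subgroup.inclusion le_sup_left x) : ↥(P ⊔ Q)) : Ω) = ((φ.symm x : P) : Ω) := by
    intro x
    have hx : e (Subgroup.inclusion le_sup_left (φ.symm x)) = Subgroup.inclusion le_sup_left x := by
      apply Subtype.ext
      rw [h1 (φ.symm x)]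
      simp
    rw [← hx, MulEquiv.symm_apply_apply]
    rfl
  -- `e` maps `P ⊔ Q'` into itself
  have hfwd : ∀ c : ↥(P ⊔ Q), (c : Ω) ∈ P ⊔ Q' → ((e c : ↥(P ⊔ Q)) : Ω) ∈ P ⊔ Q' := by
    have key : P ⊔ Q' ≤ Subgroup.map (P ⊔ Q).subtype
        (Subgroup.comap e.toMonoidHom ((P ⊔ Q').subgroupOf (P ⊔ Q))) := by
      apply sup_le
      · intro x hx
        refine ⟨⟨x, le_sup_left (a := P) (b := Q) hx⟩, ?_, rfl⟩
        show ((e ⟨x, _⟩ : ↥(P ⊔ Q)) : Ω) ∈ P ⊔ Q'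
        have := h1 ⟨x, hx⟩
        have h3 : ((e ⟨x, le_sup_left (a := P) (b := Q) hx⟩ : ↥(P ⊔ Q)) : Ω) = ((φ ⟨x, hx⟩ : P) : Ω) := this
        rw [h3]
        exact hPH' (φ ⟨x, hx⟩).2
      · intro c hc
        have hcH : c ∈ P ⊔ Q := hle (hQH' hc)
        refine ⟨⟨c, hcH⟩, ?_, rfl⟩
        show ((e ⟨c, hcH⟩ : ↥(P ⊔ Q)) : Ω) ∈ P ⊔ Q'
        have h3 := h2 ⟨c, hcH⟩ (hQ hc)
        have h4 : ((e ⟨c, hcH⟩ : ↥(P ⊔ Q)) : Ω) = c * (c⁻¹ * ((e ⟨c, hcH⟩ : ↥(P ⊔ Q)) : Ω)) := by group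
        rw [h4]
        exact (P ⊔ Q').mul_mem (hQH' hc) (hPH' h3)
    intro c hc
    obtain ⟨c', hc', hcc⟩ := key hc
    have : c' = c := Subtype.ext hcc
    subst this
    exact hc'
  -- `e.symm` maps `P ⊔ Q'` into itself
  have hbwd : ∀ c : ↥(P ⊔ Q), (c : Ω) ∈ P ⊔ Q' → ((e.symm c : ↥(P ⊔ Q)) : Ω) ∈ P ⊔ Q' := by
    have key : P ⊔ Q' ≤ Subgroup.map (P ⊔ Q).subtype
        (Subgroup.comap e.symm.toMonoidHom ((P ⊔ Q').subgroupOf (P ⊔ Q))) := by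
      apply sup_le
      · intro x hx
        refine ⟨⟨x, le_sup_left (a := P) (b := Q) hx⟩, ?_, rfl⟩
        show ((e.symm ⟨x, _⟩ : ↥(P ⊔ Q)) : Ω) ∈ P ⊔ Q'
        have h3 : ((e.symm ⟨x, le_sup_left (a := P) (b := Q) hx⟩ : ↥(P ⊔ Q)) : Ω) = ((φ.symm ⟨x, hx⟩ : P) : Ω) :=
          h1s ⟨x, hx⟩
        rw [h3]
        exact hPH' (φ.symm ⟨x, hx⟩).2
      · intro c hc
        have hcH : c ∈ P ⊔ Q := hle (hQH' hc)
        refine ⟨⟨c, hcH⟩, ?_, rfl⟩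
        show ((e.symm ⟨c, hcH⟩ : ↥(P ⊔ Q)) : Ω) ∈ P ⊔ Q'
        have h3 := h2 ⟨c, hcH⟩ (hQ hc)
        -- u = c⁻¹ e(c) ∈ P
        set u : P := ⟨c⁻¹ * ((e ⟨c, hcH⟩ : ↥(P ⊔ Q)) : Ω), h3⟩ with hu
        have h5 : e ⟨c, hcH⟩ = ⟨c, hcH⟩ * Subgroup.inclusion le_sup_left u := by
          apply Subtype.ext
          show ((e ⟨c, hcH⟩ : ↥(P ⊔ Q)) : Ω) = c * (c⁻¹ * ((e ⟨c, hcH⟩ : ↥(P ⊔ Q)) : Ω))
          group
        have h6 : (⟨c, hcH⟩ : ↥(P ⊔ Q)) = e.symm ⟨c, hcH⟩ * e.symm (Subgroup.inclusion le_sup_left u) := by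
          rw [← map_mul, ← h5, MulEquiv.symm_apply_apply]
        have h7 : e.symm ⟨c, hcH⟩ = ⟨c, hcH⟩ * (e.symm (Subgroup.inclusion le_sup_left u))⁻¹ := by
          rw [eq_mul_inv_iff_mul_eq]
          exact h6.symm
        rw [h7]
        show c * ((e.symm (Subgroup.inclusion le_sup_left u) : ↥(P ⊔ Q)) : Ω)⁻¹ ∈ P ⊔ Q'
        rw [h1s u]
        exact (P ⊔ Q').mul_mem (hQH' hc) ((P ⊔ Q').inv_mem (hPH' (φ.symm u).2))
    intro c hc
    obtain ⟨c', hc', hcc⟩ := key hc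
    have : c' = c := Subtype.ext hcc
    subst this
    exact hc'
  -- the restricted automorphism
  let e' : ↥(P ⊔ Q') ≃* ↥(P ⊔ Q') :=
    { toFun := fun c => ⟨e (Subgroup.inclusion hle c), hfwd _ c.2⟩
      invFun := fun c => ⟨e.symm (Subgroup.inclusion hle c), hbwd _ c.2⟩
      left_inv := by
        intro c
        apply Subtype.ext
        show ((e.symm (Subgroup.inclusion hle ⟨_, _⟩) : ↥(P ⊔ Q)) : Ω) = c
        have : Subgroup.inclusion hle ⟨((e (Subgroup.inclusion hle c) : ↥(P ⊔ Q)) : Ω), hfwd _ c.2⟩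
            = e (Subgroup.inclusion hle c) := Subtype.ext rfl
        rw [this, MulEquiv.symm_apply_apply]
        rfl
      right_inv := by
        intro c
        apply Subtype.ext
        show ((e (Subgroup.inclusion hle ⟨_, _⟩) : ↥(P ⊔ Q)) : Ω) = c
        have : Subgroup.inclusion hle ⟨((e.symm (Subgroup.inclusion hle c) : ↥(P ⊔ Q)) : Ω), hbwd _ c.2⟩
            = e.symm (Subgroup.inclusion hle c) := Subtype.ext rfl
        rw [this, MulEquiv.apply_symm_apply]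
        rfl
      map_mul' := by
        intro a b
        apply Subtype.ext
        show ((e (Subgroup.inclusion hle (a * b)) : ↥(P ⊔ Q)) : Ω)
          = ((e (Subgroup.inclusion hle a) : ↥(P ⊔ Q)) : Ω) * ((e (Subgroup.inclusion hle b) : ↥(P ⊔ Q)) : Ω)
        rw [map_mul, map_mul]
        rfl }
  refine ⟨e', ?_, fun x => ?_, fun c hc => ?_⟩
  · unfold IsIso at *
    exact mem_of_eq F (restrict_mem F he hle) (fun x => rfl)
  · exact h1 x
  · exact h2 (Subgroup.inclusion hle c) (hQ hc)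

end Cfsg.Agent.Helper79
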