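import Mathlib
import Cfsg.Prelude.Def_SolvableStructure
import Cfsg.Agent.Helper35.CPDef
import Cfsg.Agent.S0579
import Cfsg.Agent.S0527
import Cfsg.Agent.Helper10.SolvMinNormal

/-!
# Supersolvability from the core case (helper79, piece (P4) of board #4524 for helper35, S3033)
-/

set_option autoImplicit false

open Cfsg.Agent.Helper35.CP

namespace Cfsg.Agent.Helper79.CP

theorem supersolvable_of_core {G : Type*} [Group G] [Finite G] (hsolv : Group.IsSolvable G)
    (hquot : ∀ (N : Subgroup G) [N.Normal], N ≠ ⊥ → Cfsg.IsSupersolvable (G ⧸ N))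
    (hcore : ∀ (N M : Subgroup G) (r : ℕ), r.Prime → N.Normal → N ≠ ⊥ →
      (∀ K : Subgroup G, K.Normal → K ≤ N → K = ⊥ ∨ K = N) → (∀ v ∈ N, v ^ r = 1) →
      (∀ v ∈ N, ∀ w ∈ N, v * w = w * v) → N ⊓ M = ⊥ → N ⊔ M = ⊤ → Nat.card N = r) :
    Cfsg.IsSupersolvable G := by
  apply Cfsg.Agent.S0579.result
  intro M hM
  -- `G` is nontrivial
  have htop : (⊤ : Subgroup G) ≠ ⊥ := by
    intro h
    apply hM.1
    rw [h]
    exact le_bot_iff.mp (h ▸ le_top)
  -- a minimal normal subgroup
  let 𝒮 : Set (Subgroup G) := {L | L.Normal ∧ L ≠ ⊥}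
  have hT𝒮 : (⊤ : Subgroup G) ∈ 𝒮 := ⟨inferInstance, htop⟩
  obtain ⟨N, -, hNmin⟩ := (Set.toFinite 𝒮).exists_le_minimal hT𝒮
  obtain ⟨hNn, hNne⟩ := hNmin.prop
  have hmin : ∀ K : Subgroup G, K.Normal → K ≤ N → K = ⊥ ∨ K = N := by
    intro K hKn hKN
    by_cases hK : K = ⊥
    · exact Or.inl hK
    · right
      have : K ∈ 𝒮 := ⟨hKn, hK⟩
      exact le_antisymm hKN (hNmin.le_of_le this hKN)
  have hab := Cfsg.Agent.Helper10.minNormal_commutative_of_solvable N hNne hmin
  obtain ⟨r, hr, hexp, -⟩ := Cfsg.Agent.Helper10.minNormal_elementary_of_solvable N hNne hmin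
  by_cases hNM : N ≤ M
  · -- pass to the quotient
    have hsurj : Function.Surjective (QuotientGroup.mk' N) := QuotientGroup.mk'_surjective N
    have hker : (QuotientGroup.mk' N).ker ≤ M := by rwa [QuotientGroup.ker_mk']
    set M' : Subgroup (G ⧸ N) := M.map (QuotientGroup.mk' N) with hM'
    have hcm : M'.comap (QuotientGroup.mk' N) = M := Subgroup.comap_map_eq_self hker
    have hco : IsCoatom M' := by
      constructor
      · intro h
        apply hM.1
        rw [← hcm, h, Subgroup.comap_top]
      · intro K hK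
        have h1 : M ≤ K.comap (QuotientGroup.mk' N) := by
          rw [← hcm]
          exact Subgroup.comap_mono hK.le
        have h2 : K.comap (QuotientGroup.mk' N) ≠ M := by
          intro h
          apply hK.ne
          rw [hM', ← h, Subgroup.map_comap_eq_self_of_surjective hsurj]
        have h3 := hM.2 _ (lt_of_le_of_ne h1 (Ne.symm h2))
        rw [← Subgroup.map_comap_eq_self_of_surjective hsurj K, h3, Subgroup.map_top_of_surjective _ hsurj]
    have hpr := Cfsg.Agent.S0527.result (hquot N hNne) M' hco
    rw [← hcm, Subgroup.index_comap_of_surjective _ hsurj]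
    exact hpr
  · -- complement case
    have hsup : N ⊔ M = ⊤ := by
      apply hM.2
      refine lt_of_le_of_ne le_sup_right ?_
      intro h
      apply hNM
      rw [h]
      exact le_sup_left
    have hnorm : (N ⊓ M).Normal := by
      rw [← Subgroup.normalizer_eq_top_iff, eq_top_iff, ← hsup]
      apply sup_le
      · intro n hn
        rw [Subgroup.mem_normalizer_iff]
        intro x
        have key : ∀ y ∈ N ⊓ M, n * y * n⁻¹ = y := by
          intro y hy
          rw [hab n hn y hy.1, mul_inv_cancel_right]
        constructor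
        · intro hx
          rw [key x hx]; exact hx
        · intro hx
          have := key _ hx
          have h2 : x = n⁻¹ * (n * x * n⁻¹) * n := by group
          have h3 : n⁻¹ * (n * x * n⁻¹) * n = n * x * n⁻¹ := by
            have hxN : n * x * n⁻¹ ∈ N := hx.1
            have := hab n⁻¹ (N.inv_mem hn) _ hxN
            rw [this, inv_mul_cancel_right]
          rw [h2, h3]; exact hx
      · intro m hm
        rw [Subgroup.mem_normalizer_iff]
        intro x
        constructor
        · intro hx
          exact ⟨hNn.conj_mem x hx.1 m, M.mul_mem (M.mul_mem hm hx.2) (M.inv_mem hm)⟩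
        · intro hx
          have h2 : x = m⁻¹ * (m * x * m⁻¹) * m⁻¹⁻¹ := by group
          rw [h2]
          exact ⟨hNn.conj_mem _ hx.1 m⁻¹,
            M.mul_mem (M.mul_mem (M.inv_mem hm) hx.2) (M.inv_mem (M.inv_mem hm))⟩
    have hinf : N ⊓ M = ⊥ := by
      rcases hmin _ hnorm inf_le_left with h | h
      · exact h
      · exfalso
        apply hNM
        rw [← h]
        exact inf_le_right
    have hcard := hcore N M r hr hNn hNne hmin hexp hab hinf hsup
    have hcompl : Subgroup.IsComplement' N M := by
      apply Subgroup.isComplement'_of_disjoint_and_mul_eq_univ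
      · rw [disjoint_iff]; exact hinf
      · have := Subgroup.normal_mul N M
        rw [← this, hsup]
        rfl
    rw [hcompl.index_eq_card, hcard]
    exact hr

end Cfsg.Agent.Helper79.CP
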