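import Mathlib
import Cfsg.Agent.Helper2.CS2Defs
import Cfsg.Agent.Helper2.CS2Defs2
import Cfsg.Agent.Helper2.CS2Basic
import Cfsg.Agent.Helper51.CS2P0b

/-!
# (B7b) of helper2's S4284 plan: the Case-B configuration is impossible

Core file: `caseB_config_false_of_np` takes the statement of (NP) `norm_projection` as a
hypothesis (`NPStmt G`).
-/

set_option autoImplicit false
set_option linter.unusedVariables false
set_option linter.unusedSectionVars false

namespace Cfsg.Agent.Helper79.CS2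
open Cfsg.Agent.Helper2.CS2 Subgroup

variable {G : Type*} [Group G]

/-- the statement of (NP) `norm_projection` for the group `G` -/
def NPStmt (G : Type*) [Group G] : Prop :=
  ∀ (t : ℕ) (U₂ : Subgroup G) [U₂.Normal],
    (∀ u ∈ U₂, ∀ v ∈ U₂, u * v = v * u) →
    ∀ {x b a a' τ : G}, b ∈ U₂ → (∀ v ∈ U₂, x * v = v * x) →
    a * x = x * a → (∀ v ∈ U₂, a' * v = v * a') →
    a ^ t ∈ center G → a * τ * a⁻¹ * τ⁻¹ ∈ center G →
    τ ∈ closure ({a, a'} : Set G) ⊔ center G →
    τ * (x * b) = (x * b) * τ → τ * x ^ t = x ^ t * τ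

/-! ### generalities -/

theorem commute_of_mem_closure {S : Set G} {y : G} (h : ∀ s ∈ S, y * s = s * y) :
    ∀ v ∈ closure S, y * v = v * y := by
  have hle : closure S ≤ centralizer ({y} : Set G) := by
    rw [closure_le]
    intro s hs
    exact mem_centralizer_singleton_iff.mpr (h s hs).symm
  intro v hv
  exact (mem_centralizer_singleton_iff.mp (hle hv)).symm

theorem mem_conjugatesOfSet_singleton {b a : G} :
    a ∈ Group.conjugatesOfSet ({b} : Set G) ↔ ∃ c : G, a = c * b * c⁻¹ := by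
  rw [Group.mem_conjugatesOfSet_iff]
  constructor
  · rintro ⟨s, hs, hc⟩
    rw [Set.mem_singleton_iff] at hs
    subst hs
    obtain ⟨c, hc⟩ := isConj_iff.mp hc
    exact ⟨c, hc.symm⟩
  · rintro ⟨c, rfl⟩
    exact ⟨b, rfl, isConj_iff.mpr ⟨c, rfl⟩⟩

/-- an element commuting with all conjugates of `b` commutes with the normal closure of `b` -/
theorem commute_normalClosure {b y : G} (h : ∀ c : G, Commute y (c * b * c⁻¹)) :
    ∀ v ∈ normalClosure ({b} : Set G), y * v = v * y := by
  apply commute_of_mem_closure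
  intro s hs
  obtain ⟨c, rfl⟩ := mem_conjugatesOfSet_singleton.mp hs
  exact h c

/-- the normal closure of an element whose conjugates commute pairwise is abelian -/
theorem normalClosure_comm {b : G} (h : ∀ c d : G, Commute (c * b * c⁻¹) (d * b * d⁻¹)) :
    ∀ u ∈ normalClosure ({b} : Set G), ∀ v ∈ normalClosure ({b} : Set G), u * v = v * u := by
  intro u hu v hv
  have h1 : ∀ s ∈ Group.conjugatesOfSet ({b} : Set G), u * s = s * u := by
    intro s hs
    obtain ⟨d, rfl⟩ := mem_conjugatesOfSet_singleton.mp hs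
    have := commute_normalClosure (b := b) (y := d * b * d⁻¹) (fun c => h d c) u hu
    exact this.symm
  exact commute_of_mem_closure h1 v hv

/-- two-step chains in a group of order `t² |Z₀|` over `Z₀` reach the top -/
theorem eq_of_chain [Finite G] {t : ℕ} (ht : t.Prime) {Z₀ D₁ D₂ T : Subgroup G}
    (h01 : Z₀ ≤ D₁) (h12 : D₁ ≤ D₂) (h2T : D₂ ≤ T)
    (hcard : Nat.card T = t ^ 2 * Nat.card Z₀)
    (hne1 : ∃ y ∈ D₁, y ∉ Z₀) (hne2 : ∃ y ∈ D₂, y ∉ D₁) : D₂ = T := by
  obtain ⟨u, hu⟩ := Subgroup.card_dvd_of_le h01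
  obtain ⟨v, hv⟩ := Subgroup.card_dvd_of_le h12
  obtain ⟨w, hw⟩ := Subgroup.card_dvd_of_le h2T
  have hz : 0 < Nat.card Z₀ := Nat.card_pos
  have hu1 : u ≠ 1 := by
    intro h1
    rw [h1, mul_one] at hu
    have := Subgroup.eq_of_le_of_card_ge h01 hu.le
    obtain ⟨y, hy, hy'⟩ := hne1
    exact hy' (this ▸ hy)
  have hv1 : v ≠ 1 := by
    intro h1
    rw [h1, mul_one] at hv
    have := Subgroup.eq_of_le_of_card_ge h12 hv.le
    obtain ⟨y, hy, hy'⟩ := hne2
    exact hy' (this ▸ hy)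
  have h3 : Nat.card Z₀ * (u * v * w) = Nat.card Z₀ * t ^ 2 := by
    rw [hw, hv, hu] at hcard
    rw [← mul_assoc, ← mul_assoc, hcard]
    ring
  have h4 : u * v * w = t ^ 2 := Nat.eq_of_mul_eq_mul_left hz h3
  have huv : u * v ∣ t ^ 2 := ⟨w, h4.symm⟩
  obtain ⟨k, hk, hk'⟩ := (Nat.dvd_prime_pow ht).mp huv
  have hu0 : u ≠ 0 := by
    intro h0; rw [h0, mul_zero] at hu
    have : 0 < Nat.card D₁ := Nat.card_pos
    omega
  have hv0 : v ≠ 0 := by
    intro h0; rw [h0, mul_zero] at hv
    have : 0 < Nat.card D₂ := Nat.card_pos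
    omega
  have hk2 : k = 2 := by
    interval_cases k
    · simp at hk'
      omega
    · rw [pow_one] at hk'
      have hud : u ∣ t := ⟨v, hk'.symm⟩
      rcases (Nat.dvd_prime ht).mp hud with h1 | h1
      · exact absurd h1 hu1
      · rw [h1] at hk'
        have : v = 1 := by
          have ht0 : 0 < t := ht.pos
          nlinarith [Nat.eq_of_mul_eq_mul_left ht0 (by rw [mul_one]; exact hk' : t * v = t * 1)]
        exact absurd this hv1
    · rfl
  rw [hk2] at hk'
  have hw1 : w = 1 := by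
    rw [hk'] at h4
    have : 0 < t ^ 2 := pow_pos ht.pos 2
    exact Nat.eq_of_mul_eq_mul_left this (by rw [mul_one]; exact h4)
  rw [hw1, mul_one] at hw
  exact Subgroup.eq_of_le_of_card_ge h2T hw.le


/-- in a Sylow `t`-subgroup `T` with `|T| = t² |T ∩ Z|`, commutators and `t`-th powers are
central in `G`. -/
theorem sylow_sq_props [Finite G] {m n t : ℕ} [Fact t.Prime] (h : Hyp G m n) (htm : t ∣ m)
    (T : Sylow t G)
    (hd : Nat.card T = t ^ 2 * Nat.card ((T : Subgroup G) ⊓ center G : Subgroup G)) :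
    (∀ σ ∈ (T : Subgroup G), ∀ τ ∈ (T : Subgroup G), σ * τ * σ⁻¹ * τ⁻¹ ∈ center G) ∧
    (∀ τ ∈ (T : Subgroup G), τ ^ t ∈ center G) := by
  have htp : t.Prime := Fact.out
  set K : Subgroup ↥(T : Subgroup G) := (center G).subgroupOf (T : Subgroup G) with hK
  have hKn : K.Normal := inferInstance
  have hKcard : Nat.card K = Nat.card ((T : Subgroup G) ⊓ center G : Subgroup G) := by
    rw [hK, ← Subgroup.inf_subgroupOf_left]
    exact Nat.card_congr (Subgroup.subgroupOfEquivOfLe inf_le_left).toEquiv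
  have hq : Nat.card (↥(T : Subgroup G) ⧸ K) = t ^ 2 := by
    have h1 := Subgroup.card_eq_card_quotient_mul_card_subgroup K
    rw [hKcard] at h1
    have h2 : Nat.card (↥(T : Subgroup G) ⧸ K) *
        Nat.card ((T : Subgroup G) ⊓ center G : Subgroup G) =
        t ^ 2 * Nat.card ((T : Subgroup G) ⊓ center G : Subgroup G) := by
      rw [← h1]; exact hd
    exact Nat.eq_of_mul_eq_mul_right Nat.card_pos h2
  have hKc : K ≤ center ↥(T : Subgroup G) := by
    intro k hk
    rw [hK, mem_subgroupOf] at hk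
    rw [Subgroup.mem_center_iff]
    intro y
    exact Subtype.ext (Subgroup.mem_center_iff.mp hk (y : G))
  have hcommQ : IsMulCommutative (↥(T : Subgroup G) ⧸ K) :=
    IsPGroup.isMulCommutative_of_card_eq_prime_sq hq
  constructor
  · intro σ hσ τ hτ
    have h1 : ((⟨σ, hσ⟩ * ⟨τ, hτ⟩ * (⟨σ, hσ⟩)⁻¹ * (⟨τ, hτ⟩)⁻¹ : ↥(T : Subgroup G)) :
        ↥(T : Subgroup G) ⧸ K) = 1 := by
      have := mul_comm' ((⟨σ, hσ⟩ : ↥(T : Subgroup G)) : ↥(T : Subgroup G) ⧸ K)
        ((⟨τ, hτ⟩ : ↥(T : Subgroup G)) : ↥(T : Subgroup G) ⧸ K)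
      simp only [QuotientGroup.mk_mul, QuotientGroup.mk_inv]
      rw [this]
      group
    rw [QuotientGroup.eq_one_iff, hK, mem_subgroupOf] at h1
    exact h1
  · intro τ hτ
    by_contra hcon
    set q : ↥(T : Subgroup G) ⧸ K := ((⟨τ, hτ⟩ : ↥(T : Subgroup G)) : ↥(T : Subgroup G) ⧸ K)
      with hqdef
    have hqt : q ^ t ≠ 1 := by
      intro h1
      rw [hqdef, ← QuotientGroup.mk_pow, QuotientGroup.eq_one_iff, hK, mem_subgroupOf] at h1
      exact hcon h1
    have hfin : Finite (↥(T : Subgroup G) ⧸ K) := inferInstance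
    have hdvd : orderOf q ∣ t ^ 2 := by rw [← hq]; exact orderOf_dvd_natCard q
    obtain ⟨k, hk, hk'⟩ := (Nat.dvd_prime_pow htp).mp hdvd
    have hk2 : k = 2 := by
      interval_cases k
      · exfalso; apply hqt
        rw [pow_zero, orderOf_eq_one_iff] at hk'
        rw [hk', one_pow]
      · exfalso; apply hqt
        rw [pow_one] at hk'
        have := pow_orderOf_eq_one q
        rwa [hk'] at this
      · rfl
    rw [hk2, ← hq] at hk'
    have hcyc : IsCyclic (↥(T : Subgroup G) ⧸ K) := isCyclic_of_orderOf_eq_card q hk'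
    have hTc : IsMulCommutative ↥(T : Subgroup G) :=
      MonoidHom.isMulCommutative_of_isCyclic_of_ker_le_center (QuotientGroup.mk' K)
        (by rw [QuotientGroup.ker_mk']; exact hKc)
    have hτZ : τ ∈ center G := by
      apply Cfsg.Agent.Helper51.CS2.Hyp.sylow_center_le h htm T hτ
      intro σ hσ
      have := mul_comm' (⟨σ, hσ⟩ : ↥(T : Subgroup G)) ⟨τ, hτ⟩
      exact congrArg Subtype.val this
    exact hcon ((center G).pow_mem hτZ t)

theorem orderOf_conj' (c y : G) : orderOf (c * y * c⁻¹) = orderOf y := by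
  have := orderOf_injective (MulAut.conj c).toMonoidHom (MulAut.conj c).injective y
  simpa [MulAut.conj_apply] using this

theorem good_conj [Finite G] {m r : ℕ} {x : G} (hx : Good m r x) (c : G) : Good m r (c * x * c⁻¹) := by
  obtain ⟨h1, h2, ⟨k, hk⟩, h4⟩ := hx
  exact ⟨h1, h2, ⟨k, by rw [orderOf_conj', hk]⟩, by rw [idx_conj, h4]⟩


theorem commute_of_commute_pow {t k r : ℕ} (htr : t.Coprime r) {τ y : G}
    (hy : orderOf y = r ^ k) (h : τ * y ^ t = y ^ t * τ) : Commute τ y := by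
  have hc : t.Coprime (orderOf y) := by rw [hy]; exact htr.pow_right k
  obtain ⟨j, hj⟩ := exists_pow_eq_self_of_coprime hc
  have h1 : Commute τ (y ^ t) := h
  have h2 : Commute τ ((y ^ t) ^ j) := h1.pow_right j
  rwa [hj] at h2

/-- (B7b), with (NP) as a hypothesis -/
theorem caseB_config_false_of_np [Finite G] {m n : ℕ} (hNP : NPStmt G) (h : Hyp G m n)
    (hB : CaseB G m)
    (hsq : ∀ t : ℕ, t.Prime → t ∣ m → m.factorization t = 1) (hS : StructB G m)
    {r t : ℕ} [Fact t.Prime] {x b a₀ g : G} {T : Sylow t G}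
    (hC : ConfigB G m r t x b a₀ g T) : False := by
  have htp : t.Prime := Fact.out
  have htm := hC.htm
  have hd := hS.d htm T
  obtain ⟨hcomm, hpow⟩ := sylow_sq_props h htm T hd
  set Zt : Subgroup G := (T : Subgroup G) ⊓ center G with hZt
  have hrp : r.Prime := hC.hx.1
  have hrt : t.Coprime r := by
    rw [Nat.coprime_primes htp hrp]
    intro hEq
    exact hC.hx.2.1 (hEq ▸ htm)
  -- basic commutation
  have hxb : Commute x b := by simpa using hC.hxb 1 1
  have hgb1 : Commute g b := by simpa using hC.hgb 1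
  have ha₀x1 : Commute a₀ x := by simpa using hC.ha₀x 1
  have hZtCn : ∀ y : G, Zt ≤ Cn y := fun y => le_trans inf_le_right (center_le_Cn y)
  -- `T = ⟨a₀, g⟩ (T ∩ Z)`
  have hT : closure ({a₀, g} : Set G) ⊔ Zt = (T : Subgroup G) := by
    apply eq_of_chain htp (Z₀ := Zt) (D₁ := closure ({a₀} : Set G) ⊔ Zt) le_sup_right
    · exact sup_le_sup_right (Subgroup.closure_mono (by simp)) _
    · refine sup_le ?_ inf_le_left
      rw [closure_le]
      rintro y (rfl | rfl)
      · exact hC.ha₀T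
      · exact hC.hgT
    · exact hd
    · refine ⟨a₀, mem_sup_left (subset_closure rfl), fun hmem => hC.ha₀Z hmem.2⟩
    · refine ⟨g, mem_sup_left (subset_closure (by simp)), fun hmem => hC.hgx ?_⟩
      have hle : closure ({a₀} : Set G) ⊔ Zt ≤ Cn x := by
        refine sup_le ?_ (hZtCn x)
        rw [closure_le]
        rintro y rfl
        exact mem_Cn_iff'.mpr ha₀x1
      exact mem_Cn_iff'.mp (hle hmem)
  -- `w = x b` is not central
  have hw : x * b ∉ center G := by
    intro hz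
    apply hC.hgx
    have h1 : Commute g (x * b) := Subgroup.mem_center_iff.mp hz g
    have h2 : Commute g (x * b * b⁻¹) := h1.mul_right hgb1.inv_right
    simpa using h2
  have hfac : (idx (x * b)).factorization t = 1 := by
    rcases h.idx_of_not_mem_center hw with h1 | h1
    · rw [h1]; exact hsq t htp htm
    · have hn0 : n.factorization t = 0 := by
        apply Nat.factorization_eq_zero_of_not_dvd
        intro hdn
        have := Nat.dvd_gcd htm hdn
        rw [h.cop] at this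
        exact htp.one_lt.ne' (Nat.dvd_one.mp this)
      rw [h1, Nat.factorization_mul h.m_pos.ne' h.n_pos.ne']
      simp [hsq t htp htm, hn0]
  -- a noncentral `t`-element of `C(w)`
  obtain ⟨Q⟩ : Nonempty (Sylow t (Cn (x * b))) := inferInstance
  have hQ := Cfsg.Agent.Helper51.CS2.card_sylow_Cn (x * b) Q T
  rw [hfac, pow_one, hd] at hQ
  have hlt : Nat.card Zt < Nat.card Q := by
    have hz : 0 < Nat.card Zt := Nat.card_pos
    have h2 : Nat.card Q * t = t * Nat.card Zt * t := by rw [hQ]; ring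
    have h3 : Nat.card Q = t * Nat.card Zt := Nat.eq_of_mul_eq_mul_right htp.pos h2
    have := htp.two_le
    rw [h3]
    nlinarith
  obtain ⟨τ', hτ'w, hτ't, hτ'Z⟩ :=
    Cfsg.Agent.Helper51.CS2.exists_pElt_of_card_lt (Cn (x * b)) Q T hlt
  -- conjugate `τ'` into `T`
  have hzp : IsPGroup t (zpowers τ') := by
    obtain ⟨k, hk⟩ := hτ't
    apply IsPGroup.of_card (n := k)
    rw [Nat.card_zpowers, hk]
  obtain ⟨T', hT'⟩ := hzp.exists_le_sylow
  obtain ⟨ε, hε⟩ := MulAction.exists_smul_eq G T' T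
  have hτ0T : ε * τ' * ε⁻¹ ∈ (T : Subgroup G) := by
    have h1 : τ' ∈ (T' : Subgroup G) := hT' (mem_zpowers τ')
    have h2 : ε * τ' * ε⁻¹ ∈ ((ε • T' : Sylow t G) : Subgroup G) := by
      rw [Sylow.coe_subgroup_smul, Subgroup.mem_pointwise_smul_iff_inv_smul_mem]
      simpa [MulAut.smul_def, MulAut.conj_apply, MulAut.conj_inv_apply, mul_assoc] using h1
    rwa [hε] at h2
  set τ0 : G := ε * τ' * ε⁻¹ with hτ0
  set x' : G := ε * x * ε⁻¹ with hx'
  set b' : G := ε * b * ε⁻¹ with hb'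
  have hτ0t : IsPElt t τ0 := by
    obtain ⟨k, hk⟩ := hτ't
    exact ⟨k, by rw [hτ0, orderOf_conj', hk]⟩
  have hτ0Z : τ0 ∉ center G := by
    intro hz
    apply hτ'Z
    have := (inferInstance : (center G).Normal).conj_mem τ0 hz ε⁻¹
    have h2 : ε⁻¹ * τ0 * ε⁻¹⁻¹ = τ' := by rw [hτ0]; group
    rwa [h2] at this
  have hx'good : Good m r x' := good_conj hC.hx ε
  have hb'good : Good m r b' := good_conj hC.hb ε
  have hx'b' : Commute x' b' := hC.hxb ε ε
  have hτ0w : τ0 * (x' * b') = (x' * b') * τ0 := by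
    have h1 : τ' * (x * b) = (x * b) * τ' := mem_Cn_iff.mp hτ'w
    have e1 : τ0 * (x' * b') = ε * (τ' * (x * b)) * ε⁻¹ := by
      rw [hτ0, hx', hb']; group
    have e2 : (x' * b') * τ0 = ε * ((x * b) * τ') * ε⁻¹ := by
      rw [hτ0, hx', hb']; group
    rw [e1, e2, h1]
  have hτ0mem : τ0 ∈ closure ({a₀, g} : Set G) ⊔ center G := by
    have h1 : τ0 ∈ closure ({a₀, g} : Set G) ⊔ Zt := by rw [hT]; exact hτ0T
    have hle : closure ({a₀, g} : Set G) ⊔ Zt ≤ closure ({a₀, g} : Set G) ⊔ center G :=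
      sup_le_sup_left inf_le_right _
    exact hle h1
  -- (NP) with `U₂` the normal closure of `b`
  have hτ0x' : Commute τ0 x' := by
    have hnp := hNP t (normalClosure ({b} : Set G))
      (normalClosure_comm (fun c d => hS.a hC.hb c d))
      (x := x') (b := b') (a := a₀) (a' := g) (τ := τ0)
      (normalClosure_normal.conj_mem b (subset_normalClosure (Set.mem_singleton b)) ε)
      (commute_normalClosure (fun c => hC.hxb ε c))
      (hC.ha₀x ε)
      (commute_normalClosure (fun c => hC.hgb c))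
      (hpow a₀ hC.ha₀T)
      (hcomm a₀ hC.ha₀T τ0 hτ0T)
      hτ0mem hτ0w
    obtain ⟨k, hk⟩ := hx'good.2.2.1
    exact commute_of_commute_pow hrt hk hnp
  -- (NP) with the roles of `x` and `b` swapped
  have hτ0b' : Commute τ0 b' := by
    have hmem' : τ0 ∈ closure ({g, a₀} : Set G) ⊔ center G := by
      rw [Set.pair_comm]; exact hτ0mem
    have hw' : τ0 * (b' * x') = (b' * x') * τ0 := by
      rw [← hx'b'.eq]; exact hτ0w
    have hnp := hNP t (normalClosure ({x} : Set G))
      (normalClosure_comm (fun c d => hS.a hC.hx c d))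
      (x := b') (b := x') (a := g) (a' := a₀) (τ := τ0)
      (normalClosure_normal.conj_mem x (subset_normalClosure (Set.mem_singleton x)) ε)
      (commute_normalClosure (fun c => (hC.hxb c ε).symm))
      (hC.hgb ε)
      (commute_normalClosure (fun c => hC.ha₀x c))
      (hpow g hC.hgT)
      (hcomm g hC.hgT τ0 hτ0T)
      hmem' hw'
    obtain ⟨k, hk⟩ := hb'good.2.2.1
    exact commute_of_commute_pow hrt hk hnp
  -- by (c), `τ0` commutes with `x` and `b`
  have hτ0x : Commute τ0 x := by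
    have := hS.c hx'good htp htm hτ0t hτ0x' ε⁻¹
    have e : ε⁻¹ * x' * ε⁻¹⁻¹ = x := by rw [hx']; group
    rwa [e] at this
  have hτ0b : Commute τ0 b := by
    have := hS.c hb'good htp htm hτ0t hτ0b' ε⁻¹
    have e : ε⁻¹ * b' * ε⁻¹⁻¹ = b := by rw [hb']; group
    rwa [e] at this
  -- `T ≤ C(b)`
  have hTb : (T : Subgroup G) ⊓ Cn b = (T : Subgroup G) := by
    apply eq_of_chain htp (Z₀ := Zt) (D₁ := (T : Subgroup G) ⊓ Cn x ⊓ Cn b)
    · exact le_inf (le_inf inf_le_left (hZtCn x)) (hZtCn b)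
    · exact le_inf (le_trans inf_le_left inf_le_left) inf_le_right
    · exact inf_le_left
    · exact hd
    · exact ⟨τ0, ⟨⟨hτ0T, mem_Cn_iff'.mpr hτ0x⟩, mem_Cn_iff'.mpr hτ0b⟩, fun hmem => hτ0Z hmem.2⟩
    · exact ⟨g, ⟨hC.hgT, mem_Cn_iff'.mpr hgb1⟩, fun hmem => hC.hgx (mem_Cn_iff'.mp hmem.1.2)⟩
  have hle : (T : Subgroup G) ≤ Cn b := by
    rw [← hTb]; exact inf_le_right
  have hnd := Cfsg.Agent.Helper51.CS2.not_dvd_index_of_sylow_le T (Cn b) hle
  have hbm : idx b = m := hC.hb.2.2.2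
  exact hnd (by show t ∣ idx b; rw [hbm]; exact htm)

end Cfsg.Agent.Helper79.CS2
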