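import Mathlib
import Cfsg.Agent.Helper79.CS2B7bCore
import Cfsg.Agent.Helper58.CS2NP

/-!
# (B7b) of helper2's S4284 plan: `caseB_config_false`, exact skeleton signature
-/

set_option autoImplicit false
set_option linter.unusedVariables false
set_option linter.unusedSectionVars false

namespace Cfsg.Agent.Helper79.CS2
open Cfsg.Agent.Helper2.CS2 Subgroup

variable {G : Type*} [Group G] [Finite G] {m n : ℕ}

theorem npStmt (G : Type*) [Group G] : NPStmt G := by
  intro t U₂ _ h22 x b a a' τ hb hx2 hax ha' hat hcomm hτ hw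
  exact Cfsg.Agent.Helper58.CS2.norm_projection t U₂ h22 hb hx2 hax ha' hat hcomm hτ hw

/-- (B7b) -/
theorem caseB_config_false (h : Hyp G m n) (hB : CaseB G m)
    (hsq : ∀ t : ℕ, t.Prime → t ∣ m → m.factorization t = 1) (hS : StructB G m)
    {r t : ℕ} [Fact t.Prime] {x b a₀ g : G} {T : Sylow t G}
    (hC : ConfigB G m r t x b a₀ g T) : False :=
  caseB_config_false_of_np (npStmt G) h hB hsq hS hC

end Cfsg.Agent.Helper79.CS2
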