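import Cfsg.Agent.Helper79.Counting
import Cfsg.Agent.Helper79.InvSylow

/-!
# Characters of `p`-defect zero and involutions inverting Sylow subgroups (helper79)
-/

set_option autoImplicit false
set_option linter.unusedSectionVars false
open Cfsg

namespace Cfsg.Agent.Helper79

section
variable {G : Type*} [Group G] [Finite G]

/-- If no irreducible character has `p`-defect zero, then no irreducible character has degree
divisible by the full power of `p` dividing the group order. -/
theorem not_pow_dvd_charDegree_of_no_defect_zero (p : ℕ) [hp : Fact p.Prime]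
    (hdef : ¬ ∃ χ : IrrCharacter G,
      (charDegree (χ : G → ℂ)).factorization p = (Nat.card G).factorization p)
    (χ : IrrCharacter G) : ¬ p ^ (Nat.card G).factorization p ∣ charDegree (χ : G → ℂ) := by
  intro hdvd
  have hGne : Nat.card G ≠ 0 := Nat.card_pos.ne'
  have hd := Cfsg.Agent.Helper80.IsIrrCharacter.charDegree_dvd_card χ.2
  have hd0 : charDegree (χ : G → ℂ) ≠ 0 := (irr_charDegree_pos χ).ne'
  have h1 : (Nat.card G).factorization p ≤ (charDegree (χ : G → ℂ)).factorization p :=
    (hp.out.pow_dvd_iff_le_factorization hd0).1 hdvd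
  have h2 : (charDegree (χ : G → ℂ)).factorization p ≤ (Nat.card G).factorization p :=
    (Nat.factorization_le_iff_dvd hd0 hGne).2 hd p
  exact hdef ⟨χ, le_antisymm h2 h1⟩

/-- Conjugates of an element of square one have square one. -/
theorem conj_mul_self_eq_one {t : G} (ht : t * t = 1) (s : G) :
    s * t * s⁻¹ * (s * t * s⁻¹) = 1 := by
  have : s * t * s⁻¹ * (s * t * s⁻¹) = s * (t * t) * s⁻¹ := by group
  rw [this, ht]; group

/-- An element of square one inverts its product with another element of square one. -/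
theorem inverts_mul_of_sq_one {g g' : G} (hg : g * g = 1) (hg' : g' * g' = 1) :
    g * (g * g') * g⁻¹ = (g * g')⁻¹ := by
  have h1 : g⁻¹ = g := inv_eq_of_mul_eq_one_left hg
  have h2 : g'⁻¹ = g' := inv_eq_of_mul_eq_one_left hg'
  rw [mul_inv_rev, h1, h2, ← mul_assoc, hg, one_mul]

/-- Character-theoretic core: if there is no character of `p`-defect zero and centralizers of
non-identity `p`-elements have odd order, then for every involution `t` and every Sylow
`p`-subgroup `P`, some conjugate of `t` inverts a non-identity element of `P`. -/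
theorem exists_inverted_of_no_defect_zero (p : ℕ) [hp : Fact p.Prime] (hpG : p ∣ Nat.card G)
    (hC : ∀ g : G, g ≠ 1 → (∃ k : ℕ, orderOf g = p ^ k) →
      Odd (Nat.card (Subgroup.centralizer ({g} : Set G))))
    (hdef : ¬ ∃ χ : IrrCharacter G,
      (charDegree (χ : G → ℂ)).factorization p = (Nat.card G).factorization p)
    (t : G) (ht : orderOf t = 2) (P : Sylow p G) :
    ∃ w ∈ P, w ≠ 1 ∧ ∃ s : G, (s * t * s⁻¹) * w * (s * t * s⁻¹)⁻¹ = w⁻¹ := by
  classical
  have := Fintype.ofFinite G
  have := Fintype.ofFinite (IrrCharacter G)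
  have hGne : Nat.card G ≠ 0 := Nat.card_pos.ne'
  have htt : t * t = 1 := by
    have := pow_orderOf_eq_one t
    rwa [ht, sq] at this
  have htinv : t⁻¹ = t := inv_eq_of_mul_eq_one_left htt
  by_contra hcon
  push Not at hcon
  set n := (Nat.card G).factorization p with hn
  have hn1 : 1 ≤ n := (hp.out.dvd_iff_one_le_factorization hGne).1 hpG
  have hPcard : Nat.card (P : Subgroup G) = p ^ n := P.card_eq_multiplicity
  have hno : ∀ z ∈ (P : Subgroup G), z ≠ 1 → ∀ s s' : G, s * t * s⁻¹ * (s' * t * s'⁻¹) ≠ z := by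
    intro z hz hz1 s s' hss
    refine hcon z hz hz1 s ?_
    rw [← hss]
    exact inverts_mul_of_sq_one (conj_mul_self_eq_one htt s) (conj_mul_self_eq_one htt s')
  have hsum : ∑ χ : IrrCharacter G, (χ : G → ℂ) t * (χ : G → ℂ) t =
      ((Nat.card ↥(Subgroup.centralizer ({t} : Set G)) : ℕ) : ℂ) := by
    have := sum_irr_mul_inv (G := G) t
    rwa [htinv] at this
  have hdvd := pow_dvd_of_no_products p (P : Subgroup G) n hPcard t t hno n hn1 le_rfl
    (not_pow_dvd_charDegree_of_no_defect_zero p hdef) _ hsum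
  have hpC : p ∣ Nat.card ↥(Subgroup.centralizer ({t} : Set G)) := by
    have : p ^ (n - n + 1) = p := by simp
    rwa [this] at hdvd
  obtain ⟨v, hv⟩ := exists_prime_orderOf_dvd_card' p hpC
  have hv1 : (v : G) ≠ 1 := by
    intro h
    have : orderOf (v : G) = 1 := by rw [h, orderOf_one]
    rw [Subgroup.orderOf_coe, hv] at this
    exact hp.out.one_lt.ne' this
  have hvp : ∃ k : ℕ, orderOf (v : G) = p ^ k := ⟨1, by rw [Subgroup.orderOf_coe, hv, pow_one]⟩
  have hodd := hC (v : G) hv1 hvp
  have htv : t ∈ Subgroup.centralizer ({(v : G)} : Set G) := by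
    rw [Subgroup.mem_centralizer_singleton_iff]
    have := v.2
    rw [Subgroup.mem_centralizer_singleton_iff] at this
    exact this.symm
  have h3 := orderOf_dvd_natCard (⟨t, htv⟩ : Subgroup.centralizer ({(v : G)} : Set G))
  rw [Subgroup.orderOf_mk, ht] at h3
  exact (Nat.not_even_iff_odd.2 hodd) (even_iff_two_dvd.2 h3)

/-- Under the same hypotheses, every involution inverts some Sylow `p`-subgroup. -/
theorem involution_inverts_sylow (p : ℕ) [hp : Fact p.Prime] (hpG : p ∣ Nat.card G)
    (hC : ∀ g : G, g ≠ 1 → (∃ k : ℕ, orderOf g = p ^ k) →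
      Odd (Nat.card (Subgroup.centralizer ({g} : Set G))))
    (hdef : ¬ ∃ χ : IrrCharacter G,
      (charDegree (χ : G → ℂ)).factorization p = (Nat.card G).factorization p)
    (t : G) (ht : orderOf t = 2) :
    ∃ Q : Sylow p G, ∀ v ∈ Q, t * v * t⁻¹ = v⁻¹ := by
  have htt : t * t = 1 := by
    have := pow_orderOf_eq_one t
    rwa [ht, sq] at this
  obtain P : Sylow p G := default
  obtain ⟨w, hwP, hw1, s, hs⟩ := exists_inverted_of_no_defect_zero p hpG hC hdef t ht P
  have hwp : ∃ k : ℕ, orderOf w = p ^ k := by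
    obtain ⟨k, hk⟩ := (IsPGroup.iff_orderOf.1 P.isPGroup') ⟨w, hwP⟩
    exact ⟨k, by rw [← hk, Subgroup.orderOf_mk]⟩
  obtain ⟨Q, hQ⟩ := exists_sylow_inverted p hC (s * t * s⁻¹) w (conj_mul_self_eq_one htt s)
    hw1 hwp hs
  refine ⟨s⁻¹ • Q, ?_⟩
  have := inverts_smul_sylow Q (s * t * s⁻¹) s⁻¹ hQ
  have e : s⁻¹ * (s * t * s⁻¹) * s⁻¹⁻¹ = t := by group
  rwa [e] at this

end

end Cfsg.Agent.Helper79
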