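import Mathlib

/-!
# A lattice lemma for the principal 2-block with dihedral Sylow 2-subgroup (helper79)

Integer vectors `v l` (`l : Fin t`) of norm `3`, pairwise inner product `2`, and `w` of norm `4`
with inner products `2` with all `v l`, all with coordinate `-1` at `i0` and all orthogonal to a
positive vector `D` with `D i0 = 1`.  Then `v l = -e_{i0} - δ e_{i1} + δ e_{p l}` and
`w = -e_{i0} - δ e_{i1} + s2 e_{i2} + s3 e_{i3}`.
-/

set_option autoImplicit false
set_option linter.unusedSectionVars false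

namespace Cfsg.Agent.Helper79.DihLattice

open Finset

variable {I : Type*} [Fintype I] [DecidableEq I]

/-- indicator vector -/
def ind (a : I) : I → ℤ := fun i => if i = a then 1 else 0

theorem ind_self (a : I) : ind a a = 1 := by simp [ind]

theorem ind_ne {a i : I} (h : i ≠ a) : ind a i = 0 := by simp [ind, h]

theorem sum_ind_mul (a : I) (f : I → ℤ) : ∑ i, ind a i * f i = f a := by
  simp [ind]

theorem sum_mul_ind (a : I) (f : I → ℤ) : ∑ i, f i * ind a i = f a := by
  simp [ind]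

theorem sum_ind_ind (a b : I) : ∑ i, ind a i * ind b i = if a = b then 1 else 0 := by
  rw [sum_ind_mul]
  simp [ind]

omit [DecidableEq I] in
theorem sq_le_norm (x : I → ℤ) (a : I) : x a * x a ≤ ∑ i, x i * x i :=
  Finset.single_le_sum (f := fun i => x i * x i) (fun i _ => mul_self_nonneg (x i)) (mem_univ a)

omit [DecidableEq I] in
theorem eq_zero_of_norm_zero (x : I → ℤ) (h : ∑ i, x i * x i = 0) : ∀ i, x i = 0 := by
  intro i
  have hz := (Finset.sum_eq_zero_iff_of_nonneg (fun i _ => mul_self_nonneg (x i))).1 h i (mem_univ i)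
  exact mul_self_eq_zero.1 hz

theorem norm_sub_ind (x : I → ℤ) (a : I) :
    ∑ i, (x i - x a * ind a i) * (x i - x a * ind a i) = ∑ i, x i * x i - x a * x a := by
  have h1 : ∀ i, (x i - x a * ind a i) * (x i - x a * ind a i)
      = x i * x i - 2 * x a * (ind a i * x i) + x a * x a * (ind a i * ind a i) := by
    intro i; ring
  simp only [h1]
  rw [Finset.sum_add_distrib, Finset.sum_sub_distrib, ← Finset.mul_sum, ← Finset.mul_sum,
    sum_ind_mul, sum_ind_ind]
  simp
  ring

omit [DecidableEq I] in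
theorem exists_ne_zero_of_norm_pos (x : I → ℤ) (h : 0 < ∑ i, x i * x i) : ∃ a, x a ≠ 0 := by
  by_contra hcon
  push Not at hcon
  have : ∑ i, x i * x i = 0 := Finset.sum_eq_zero (fun i _ => by rw [hcon i]; ring)
  omega

theorem abs_one_of_sq_le_three {z : ℤ} (h : z * z ≤ 3) (h0 : z ≠ 0) : z = 1 ∨ z = -1 := by
  have h1 : z ≤ 1 := by nlinarith
  have h2 : -1 ≤ z := by nlinarith
  omega

/-- A vector of norm `1` is a signed indicator. -/
theorem norm_one (x : I → ℤ) (h : ∑ i, x i * x i = 1) :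
    ∃ a s, (s = 1 ∨ s = -1) ∧ ∀ i, x i = s * ind a i := by
  obtain ⟨a, ha⟩ := exists_ne_zero_of_norm_pos x (by omega)
  have hle := sq_le_norm x a
  have hs : x a = 1 ∨ x a = -1 := abs_one_of_sq_le_three (by omega) ha
  have hn := norm_sub_ind x a
  have hsq : x a * x a = 1 := by rcases hs with h' | h' <;> rw [h'] <;> norm_num
  rw [h, hsq] at hn
  have hz := eq_zero_of_norm_zero _ hn
  refine ⟨a, x a, hs, fun i => ?_⟩
  have := hz i
  linarith

/-- A vector of norm `2` is a sum of two signed indicators. -/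
theorem norm_two (x : I → ℤ) (h : ∑ i, x i * x i = 2) :
    ∃ a b sa sb, a ≠ b ∧ (sa = 1 ∨ sa = -1) ∧ (sb = 1 ∨ sb = -1) ∧
      ∀ i, x i = sa * ind a i + sb * ind b i := by
  obtain ⟨a, ha⟩ := exists_ne_zero_of_norm_pos x (by omega)
  have hle := sq_le_norm x a
  have hs : x a = 1 ∨ x a = -1 := abs_one_of_sq_le_three (by omega) ha
  have hn := norm_sub_ind x a
  have hsq : x a * x a = 1 := by rcases hs with h' | h' <;> rw [h'] <;> norm_num
  rw [h, hsq] at hn
  obtain ⟨b, sb, hsb, hb⟩ := norm_one _ (by rw [hn]; norm_num)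
  have hab : a ≠ b := by
    intro hab
    have := hb a
    rw [ind_self, ← hab, ind_self] at this
    rcases hsb with h' | h' <;> rw [h'] at this <;> omega
  refine ⟨a, b, x a, sb, hab, hs, hsb, fun i => ?_⟩
  have := hb i
  linarith


/-- Structure of a norm-3 vector with coordinate `-1` at `i0`, orthogonal to `D`. -/
theorem v_struct (x D : I → ℤ) (i0 : I) (h3 : ∑ i, x i * x i = 3) (h0 : x i0 = -1)
    (hD : ∀ i, 0 < D i) (hD0 : D i0 = 1) (hxD : ∑ i, x i * D i = 0) :
    ∃ a b, a ≠ b ∧ a ≠ i0 ∧ b ≠ i0 ∧ ∀ i, x i = -ind i0 i + ind a i - ind b i := by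
  have hn := norm_sub_ind x i0
  rw [h3, h0] at hn
  obtain ⟨a, b, sa, sb, hab, hsa, hsb, hu⟩ := norm_two _ (by rw [hn]; norm_num)
  have hu' : ∀ i, x i = -ind i0 i + sa * ind a i + sb * ind b i := by
    intro i
    have := hu i
    linarith
  have ha0 : a ≠ i0 := by
    intro h
    have := hu' i0
    rw [h0, h, ind_self, ind_ne (a := b) (i := i0) (by rw [← h]; exact hab)] at this
    rcases hsa with h' | h' <;> rw [h'] at this <;> omega
  have hb0 : b ≠ i0 := by
    intro h
    have := hu' i0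
    rw [h0, h, ind_self, ind_ne (a := a) (i := i0) (by rw [← h]; exact hab.symm)] at this
    rcases hsb with h' | h' <;> rw [h'] at this <;> omega
  have hsum : -D i0 + sa * D a + sb * D b = 0 := by
    have h1 : ∑ i, x i * D i = ∑ i, (-(ind i0 i * D i) + sa * (ind a i * D i) + sb * (ind b i * D i)) := by
      refine Finset.sum_congr rfl (fun i _ => ?_)
      rw [hu' i]; ring
    rw [h1, Finset.sum_add_distrib, Finset.sum_add_distrib, Finset.sum_neg_distrib,
      ← Finset.mul_sum, ← Finset.mul_sum, sum_ind_mul, sum_ind_mul, sum_ind_mul] at hxD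
    exact hxD
  have hDa := hD a
  have hDb := hD b
  rcases hsa with rfl | rfl <;> rcases hsb with rfl | rfl
  · exfalso; omega
  · exact ⟨a, b, hab, ha0, hb0, fun i => by rw [hu' i]; ring⟩
  · exact ⟨b, a, hab.symm, hb0, ha0, fun i => by rw [hu' i]; ring⟩
  · exfalso; omega

/-- Inner product of two vectors of the shape `-e_0 + e_a - e_b`. -/
theorem inner_form (i0 a b a' b' : I) (ha : a ≠ i0) (hb : b ≠ i0) (ha' : a' ≠ i0) (hb' : b' ≠ i0) :
    ∑ i, (-ind i0 i + ind a i - ind b i) * (-ind i0 i + ind a' i - ind b' i)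
      = 1 + (if a = a' then 1 else 0) + (if b = b' then 1 else 0)
        - (if a = b' then 1 else 0) - (if b = a' then 1 else 0) := by
  have h1 : ∀ i, (-ind i0 i + ind a i - ind b i) * (-ind i0 i + ind a' i - ind b' i)
      = ind i0 i * ind i0 i - ind i0 i * ind a' i + ind i0 i * ind b' i
        - ind a i * ind i0 i + ind a i * ind a' i - ind a i * ind b' i
        + ind b i * ind i0 i - ind b i * ind a' i + ind b i * ind b' i := by
    intro i; ring
  simp only [h1, Finset.sum_add_distrib, Finset.sum_sub_distrib, sum_ind_ind]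
  simp [ha, hb, Ne.symm ha', Ne.symm hb']
  ring

/-- Inner product of `w` with a vector of the shape `-e_0 + e_a - e_b`. -/
theorem inner_w (w : I → ℤ) (i0 a b : I) :
    ∑ i, w i * (-ind i0 i + ind a i - ind b i) = -w i0 + w a - w b := by
  have h1 : ∀ i, w i * (-ind i0 i + ind a i - ind b i)
      = -(w i * ind i0 i) + w i * ind a i - w i * ind b i := by
    intro i; ring
  simp only [h1, Finset.sum_add_distrib, Finset.sum_sub_distrib, Finset.sum_neg_distrib, sum_mul_ind]

/-- Completing `w` once two coordinates are known. -/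
theorem w_finish (w : I → ℤ) (i0 i1 : I) (δ : ℤ) (hδ : δ = 1 ∨ δ = -1) (h01 : i1 ≠ i0)
    (hww : ∑ i, w i * w i = 4) (hw0 : w i0 = -1) (hw1 : w i1 = -δ) :
    ∃ i2 i3 s2 s3, i2 ≠ i3 ∧ i2 ≠ i0 ∧ i3 ≠ i0 ∧ i2 ≠ i1 ∧ i3 ≠ i1 ∧ (s2 = 1 ∨ s2 = -1) ∧
      (s3 = 1 ∨ s3 = -1) ∧
      (∀ i, w i = -ind i0 i - δ * ind i1 i + s2 * ind i2 i + s3 * ind i3 i) ∧
      (∀ x, w x = -ind i0 x - δ * ind i1 x → i2 ≠ x ∧ i3 ≠ x) := by
  have hn := norm_sub_ind w i0
  rw [hww, hw0] at hn
  set u : I → ℤ := fun i => w i - -1 * ind i0 i with hu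
  have hu1 : u i1 = -δ := by
    simp only [hu]
    rw [ind_ne h01, hw1]; ring
  have hn2 := norm_sub_ind u i1
  have hnu : ∑ i, u i * u i = 3 := by rw [hn]; norm_num
  rw [hnu, hu1] at hn2
  have hδ2 : -δ * -δ = 1 := by rcases hδ with rfl | rfl <;> norm_num
  rw [hδ2] at hn2
  obtain ⟨i2, i3, s2, s3, h23, hs2, hs3, hx⟩ := norm_two _ (by rw [hn2]; norm_num)
  have hw : ∀ i, w i = -ind i0 i - δ * ind i1 i + s2 * ind i2 i + s3 * ind i3 i := by
    intro i
    have := hx i
    simp only [hu] at this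
    linarith
  have hne : ∀ x, w x = -ind i0 x - δ * ind i1 x → i2 ≠ x ∧ i3 ≠ x := by
    intro x hxw
    have h := hw x
    rw [hxw] at h
    constructor
    · intro h2
      rw [← h2, ind_self, ind_ne (a := i3) (i := i2) h23] at h
      rcases hs2 with h' | h' <;> rw [h'] at h <;> omega
    · intro h3
      rw [← h3, ind_self, ind_ne (a := i2) (i := i3) h23.symm] at h
      rcases hs3 with h' | h' <;> rw [h'] at h <;> omega
  have h0 := hne i0 (by rw [hw0, ind_self, ind_ne (a := i1) (i := i0) h01.symm]; ring)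
  have h1 := hne i1 (by rw [hw1, ind_self, ind_ne (a := i0) (i := i1) h01]; ring)
  exact ⟨i2, i3, s2, s3, h23, h0.1, h0.2, h1.1, h1.2, hs2, hs3, hw, hne⟩

/-- The exotic configuration is impossible. -/
theorem exotic_false (t : ℕ) (ht : 3 ≤ t) (w D : I → ℤ) (i0 : I) (p : Fin t → I)
    (hp : Function.Injective p) (hp0 : ∀ l, p l ≠ i0) (s : ℤ) (hs : s = 1 ∨ s = -1)
    (hwp : ∀ l, w (p l) = s) (hw0 : w i0 = -1) (hww : ∑ i, w i * w i = 4)
    (hD : ∀ i, 0 < D i) (hD0 : D i0 = 1) (hwD : ∑ i, w i * D i = 0) : False := by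
  classical
  set S : Finset I := insert i0 (Finset.image p Finset.univ) with hS
  have hi0 : i0 ∉ Finset.image p Finset.univ := by
    intro h
    obtain ⟨l, _, hl⟩ := Finset.mem_image.1 h
    exact hp0 l hl
  have hsplit : ∀ f : I → ℤ, ∑ i, f i = f i0 + ∑ l, f (p l) + ∑ i ∈ Sᶜ, f i := by
    intro f
    rw [← Finset.sum_add_sum_compl S f, hS, Finset.sum_insert hi0,
      Finset.sum_image (fun x _ y _ h => hp h)]
  have hss : s * s = 1 := by rcases hs with rfl | rfl <;> norm_num
  have h1 := hsplit (fun i => w i * w i)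
  simp only [hwp, hw0, hss] at h1
  rw [hww] at h1
  simp only [Finset.sum_const, Finset.card_univ, Fintype.card_fin, nsmul_eq_mul, mul_one] at h1
  have hnn : 0 ≤ ∑ i ∈ Sᶜ, w i * w i := Finset.sum_nonneg (fun i _ => mul_self_nonneg (w i))
  have ht3 : t = 3 := by
    have : (t : ℤ) ≤ 3 := by linarith
    omega
  have hrest : ∑ i ∈ Sᶜ, w i * w i = 0 := by
    rw [ht3] at h1; push_cast at h1; linarith
  have hz : ∀ i ∈ Sᶜ, w i = 0 := by
    intro i hi
    have := (Finset.sum_eq_zero_iff_of_nonneg (fun i _ => mul_self_nonneg (w i))).1 hrest i hi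
    exact mul_self_eq_zero.1 this
  have h2 := hsplit (fun i => w i * D i)
  rw [hwD] at h2
  have hz2 : ∑ i ∈ Sᶜ, w i * D i = 0 :=
    Finset.sum_eq_zero (fun i hi => by rw [hz i hi]; ring)
  simp only [hwp, hw0, hD0] at h2
  rw [hz2, ← Finset.mul_sum] at h2
  have hpos : (t : ℤ) ≤ ∑ l : Fin t, D (p l) := by
    have : ∑ l : Fin t, (1 : ℤ) ≤ ∑ l : Fin t, D (p l) :=
      Finset.sum_le_sum (fun l _ => by have := hD (p l); omega)
    simpa using this
  rcases hs with rfl | rfl
  · have : (3 : ℤ) ≤ t := by exact_mod_cast ht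
    linarith
  · have : (3 : ℤ) ≤ t := by exact_mod_cast ht
    linarith


omit [DecidableEq I] in
theorem coord_bound (w : I → ℤ) (i0 x : I) (hx : x ≠ i0) (hww : ∑ i, w i * w i = 4)
    (hw0 : w i0 = -1) : w x = 0 ∨ w x = 1 ∨ w x = -1 := by
  classical
  have h1 : ∑ i ∈ ({x, i0} : Finset I), w i * w i ≤ ∑ i, w i * w i :=
    Finset.sum_le_sum_of_subset_of_nonneg (Finset.subset_univ _)
      (fun i _ _ => mul_self_nonneg (w i))
  rw [Finset.sum_pair hx, hww, hw0] at h1
  have h2 : w x * w x ≤ 3 := by linarith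
  by_cases h0 : w x = 0
  · exact Or.inl h0
  · exact Or.inr (abs_one_of_sq_le_three h2 h0)

/-- **The lattice lemma.** -/
theorem dih_lattice (t : ℕ) (ht : 1 ≤ t) (ht2 : t ≠ 2)
    (v : Fin t → I → ℤ) (w D : I → ℤ) (i0 : I)
    (hvv : ∀ l k, ∑ i, v l i * v k i = 2 + if l = k then 1 else 0)
    (hww : ∑ i, w i * w i = 4) (hwv : ∀ l, ∑ i, w i * v l i = 2)
    (hv0 : ∀ l, v l i0 = -1) (hw0 : w i0 = -1)
    (hD : ∀ i, 0 < D i) (hD0 : D i0 = 1)
    (hvD : ∀ l, ∑ i, v l i * D i = 0) (hwD : ∑ i, w i * D i = 0) :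
    ∃ (δ s2 s3 : ℤ) (i1 i2 i3 : I) (p : Fin t → I),
      (δ = 1 ∨ δ = -1) ∧ (s2 = 1 ∨ s2 = -1) ∧ (s3 = 1 ∨ s3 = -1) ∧
      Function.Injective p ∧ i1 ≠ i0 ∧ i2 ≠ i0 ∧ i3 ≠ i0 ∧ i1 ≠ i2 ∧ i1 ≠ i3 ∧ i2 ≠ i3 ∧
      (∀ l, p l ≠ i0 ∧ p l ≠ i1 ∧ p l ≠ i2 ∧ p l ≠ i3) ∧
      (∀ l i, v l i = -ind i0 i - δ * ind i1 i + δ * ind (p l) i) ∧
      (∀ i, w i = -ind i0 i - δ * ind i1 i + s2 * ind i2 i + s3 * ind i3 i) := by
  have hst : ∀ l, ∃ a b, a ≠ b ∧ a ≠ i0 ∧ b ≠ i0 ∧ ∀ i, v l i = -ind i0 i + ind a i - ind b i :=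
    fun l => v_struct (v l) D i0 (by have := hvv l l; simpa using this) (hv0 l) hD hD0 (hvD l)
  choose a b hab ha0 hb0 hv using hst
  -- the pair lemma
  have hpair : ∀ l k, l ≠ k → (a l = a k ∧ b l ≠ b k) ∨ (b l = b k ∧ a l ≠ a k) := by
    intro l k hlk
    have h := hvv l k
    rw [if_neg hlk] at h
    have hc : ∑ i, v l i * v k i
        = ∑ i, (-ind i0 i + ind (a l) i - ind (b l) i) * (-ind i0 i + ind (a k) i - ind (b k) i) :=
      Finset.sum_congr rfl (fun i _ => by rw [hv l i, hv k i])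
    rw [hc, inner_form i0 _ _ _ _ (ha0 l) (hb0 l) (ha0 k) (hb0 k)] at h
    have h3 : a l ≠ b k := by
      intro h3
      have h1 : a l ≠ a k := fun h1 => hab k (h1.symm.trans h3)
      have h2 : b l ≠ b k := fun h2 => hab l (h3.trans h2.symm)
      rw [if_neg h1, if_neg h2, if_pos h3] at h
      split_ifs at h <;> omega
    have h4 : b l ≠ a k := by
      intro h4
      have h1 : a l ≠ a k := fun h1 => hab l (h1.trans h4.symm)
      have h2 : b l ≠ b k := fun h2 => hab k (h4.symm.trans h2)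
      rw [if_neg h1, if_neg h2, if_neg h3, if_pos h4] at h
      omega
    rw [if_neg h3, if_neg h4] at h
    by_cases h1 : a l = a k
    · by_cases h2 : b l = b k
      · rw [if_pos h1, if_pos h2] at h; omega
      · exact Or.inl ⟨h1, h2⟩
    · by_cases h2 : b l = b k
      · exact Or.inr ⟨h2, h1⟩
      · rw [if_neg h1, if_neg h2] at h; omega
  -- relation with w
  have hwab : ∀ l, w (a l) - w (b l) = 1 := by
    intro l
    have h := hwv l
    have hc : ∑ i, w i * v l i = ∑ i, w i * (-ind i0 i + ind (a l) i - ind (b l) i) :=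
      Finset.sum_congr rfl (fun i _ => by rw [hv l i])
    rw [hc, inner_w, hw0] at h
    linarith
  have hwcase : ∀ l, (w (a l) = 1 ∧ w (b l) = 0) ∨ (w (a l) = 0 ∧ w (b l) = -1) := by
    intro l
    have h1 := coord_bound w i0 (a l) (ha0 l) hww hw0
    have h2 := coord_bound w i0 (b l) (hb0 l) hww hw0
    have h3 := hwab l
    omega
  let l0 : Fin t := ⟨0, ht⟩
  -- A-standard
  have stdA : (∀ l k, a l = a k) → w (a l0) = 1 → ∃ (δ s2 s3 : ℤ) (i1 i2 i3 : I) (p : Fin t → I),
      (δ = 1 ∨ δ = -1) ∧ (s2 = 1 ∨ s2 = -1) ∧ (s3 = 1 ∨ s3 = -1) ∧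
      Function.Injective p ∧ i1 ≠ i0 ∧ i2 ≠ i0 ∧ i3 ≠ i0 ∧ i1 ≠ i2 ∧ i1 ≠ i3 ∧ i2 ≠ i3 ∧
      (∀ l, p l ≠ i0 ∧ p l ≠ i1 ∧ p l ≠ i2 ∧ p l ≠ i3) ∧
      (∀ l i, v l i = -ind i0 i - δ * ind i1 i + δ * ind (p l) i) ∧
      (∀ i, w i = -ind i0 i - δ * ind i1 i + s2 * ind i2 i + s3 * ind i3 i) := by
    intro hA hw1
    have hwb : ∀ l, w (b l) = 0 := by
      intro l
      have := hwab l
      rw [hA l l0, hw1] at this
      linarith
    obtain ⟨i2, i3, s2, s3, h23, h20, h30, h21, h31, hs2, hs3, hw, hne⟩ :=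
      w_finish w i0 (a l0) (-1) (Or.inr rfl) (ha0 l0) hww hw0 (by rw [hw1]; norm_num)
    have hbne : ∀ l, b l ≠ a l0 := fun l h => hab l ((hA l l0).trans h.symm)
    have hb23 : ∀ l, i2 ≠ b l ∧ i3 ≠ b l := by
      intro l
      apply hne
      rw [hwb l, ind_ne (hb0 l), ind_ne (hbne l)]; ring
    refine ⟨-1, s2, s3, a l0, i2, i3, b, Or.inr rfl, hs2, hs3, ?_, ha0 l0, h20, h30,
      h21.symm, h31.symm, h23, ?_, ?_, hw⟩
    · intro l k hlk
      by_contra hne'
      rcases hpair l k hne' with h | h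
      · exact h.2 hlk
      · exact h.2 (hA l k)
    · intro l
      exact ⟨hb0 l, hbne l, (hb23 l).1.symm, (hb23 l).2.symm⟩
    · intro l i
      rw [hv l i, hA l l0]; ring
  -- B-standard
  have stdB : (∀ l k, b l = b k) → w (b l0) = -1 → ∃ (δ s2 s3 : ℤ) (i1 i2 i3 : I) (p : Fin t → I),
      (δ = 1 ∨ δ = -1) ∧ (s2 = 1 ∨ s2 = -1) ∧ (s3 = 1 ∨ s3 = -1) ∧
      Function.Injective p ∧ i1 ≠ i0 ∧ i2 ≠ i0 ∧ i3 ≠ i0 ∧ i1 ≠ i2 ∧ i1 ≠ i3 ∧ i2 ≠ i3 ∧
      (∀ l, p l ≠ i0 ∧ p l ≠ i1 ∧ p l ≠ i2 ∧ p l ≠ i3) ∧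
      (∀ l i, v l i = -ind i0 i - δ * ind i1 i + δ * ind (p l) i) ∧
      (∀ i, w i = -ind i0 i - δ * ind i1 i + s2 * ind i2 i + s3 * ind i3 i) := by
    intro hB hw1
    have hwa : ∀ l, w (a l) = 0 := by
      intro l
      have := hwab l
      rw [hB l l0, hw1] at this
      linarith
    obtain ⟨i2, i3, s2, s3, h23, h20, h30, h21, h31, hs2, hs3, hw, hne⟩ :=
      w_finish w i0 (b l0) 1 (Or.inl rfl) (hb0 l0) hww hw0 (by rw [hw1])
    have hane : ∀ l, a l ≠ b l0 := fun l h => hab l (h.trans (hB l0 l))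
    have ha23 : ∀ l, i2 ≠ a l ∧ i3 ≠ a l := by
      intro l
      apply hne
      rw [hwa l, ind_ne (ha0 l), ind_ne (hane l)]; ring
    refine ⟨1, s2, s3, b l0, i2, i3, a, Or.inl rfl, hs2, hs3, ?_, hb0 l0, h20, h30,
      h21.symm, h31.symm, h23, ?_, ?_, hw⟩
    · intro l k hlk
      by_contra hne'
      rcases hpair l k hne' with h | h
      · exact h.2 (hB l k)
      · exact h.2 hlk
    · intro l
      exact ⟨ha0 l, hane l, (ha23 l).1.symm, (ha23 l).2.symm⟩
    · intro l i
      rw [hv l i, hB l l0]; ring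
  by_cases hA : ∀ l k, a l = a k
  · rcases hwcase l0 with h | h
    · exact stdA hA h.1
    · -- w (a l) = 0, w (b l) = -1 for all l
      have hwb : ∀ l, w (b l) = -1 := by
        intro l
        have := hwab l
        rw [hA l l0, h.1] at this
        linarith
      by_cases ht1 : t = 1
      · subst ht1
        exact stdB (fun l k => by rw [Subsingleton.elim l k]) h.2
      · exfalso
        have hinj : Function.Injective b := by
          intro l k hlk
          by_contra hne'
          rcases hpair l k hne' with h' | h'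
          · exact h'.2 hlk
          · exact h'.2 (hA l k)
        exact exotic_false t (by omega) w D i0 b hinj hb0 (-1) (Or.inr rfl) hwb hw0 hww hD hD0 hwD
  · by_cases hB : ∀ l k, b l = b k
    · have ht1 : t ≠ 1 := by
        intro ht1
        subst ht1
        exact hA (fun l k => by rw [Subsingleton.elim l k])
      rcases hwcase l0 with h | h
      · exfalso
        have hwa : ∀ l, w (a l) = 1 := by
          intro l
          have := hwab l
          rw [hB l l0, h.2] at this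
          linarith
        have hinj : Function.Injective a := by
          intro l k hlk
          by_contra hne'
          rcases hpair l k hne' with h' | h'
          · exact h'.2 (hB l k)
          · exact h'.2 hlk
        exact exotic_false t (by omega) w D i0 a hinj ha0 1 (Or.inl rfl) hwa hw0 hww hD hD0 hwD
      · exact stdB hB h.2
    · exfalso
      push Not at hA hB
      have hvertex : ∀ l k m, l ≠ k → l ≠ m → a l = a k → b l = b m → False := by
        intro l k m hlk hlm h1 h2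
        by_cases hkm : k = m
        · subst hkm
          rcases hpair l k hlk with h | h
          · exact h.2 h2
          · exact h.2 h1
        · rcases hpair k m hkm with h | h
          · -- a k = a m
            rcases hpair l m hlm with h' | h'
            · exact h'.2 h2
            · exact h'.2 (h1.trans h.1)
          · -- b k = b m
            rcases hpair l k hlk with h' | h'
            · exact h'.2 (h2.trans h.1.symm)
            · exact h'.2 h1
      obtain ⟨l, k, hlk⟩ := hA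
      obtain ⟨l', k', hlk'⟩ := hB
      have hne1 : l ≠ k := fun h => hlk (by rw [h])
      have hne2 : l' ≠ k' := fun h => hlk' (by rw [h])
      have hbl : b l = b k := by
        rcases hpair l k hne1 with h | h
        · exact absurd h.1 hlk
        · exact h.1
      have hal : a l' = a k' := by
        rcases hpair l' k' hne2 with h | h
        · exact h.1
        · exact absurd h.1 hlk'
      by_cases h1 : l' = l
      · exact hvertex l' k' k hne2 (by rw [h1]; exact hne1) hal (by rw [h1]; exact hbl)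
      · rcases hpair l' l h1 with h | h
        · exact hvertex l l' k (Ne.symm h1) hne1 h.1.symm hbl
        · exact hvertex l' k' l hne2 h1 hal h.1

end Cfsg.Agent.Helper79.DihLattice
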