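import Mathlib
import Cfsg.Agent.Helper79.DihLattice

/-!
# Finite Fourier analysis for the dihedral principal block (helper79)
-/

set_option autoImplicit false
set_option linter.unusedSectionVars false
set_option linter.unusedVariables false
set_option maxHeartbeats 1000000

namespace Cfsg.Agent.Helper79.DihFourier

open Finset

section roots

variable {N : ℕ} {ζ : ℂ}

/-- Orthogonality of roots of unity. -/
theorem sum_zpow_mul (hζ : IsPrimitiveRoot ζ N) (hN : 0 < N) (j : ℤ) :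
    ∑ k ∈ range N, ζ ^ (j * (k : ℤ)) = if (N : ℤ) ∣ j then (N : ℂ) else 0 := by
  have h1 : ∀ k ∈ range N, ζ ^ (j * (k : ℤ)) = (ζ ^ j) ^ k := by
    intro k _
    rw [zpow_mul, zpow_natCast]
  rw [sum_congr rfl h1]
  split_ifs with hd
  · have : ζ ^ j = 1 := (hζ.zpow_eq_one_iff_dvd j).2 hd
    rw [this]
    simp
  · have hne : ζ ^ j ≠ 1 := fun h => hd ((hζ.zpow_eq_one_iff_dvd j).1 h)
    rw [geom_sum_eq hne]
    have : (ζ ^ j) ^ N = 1 := by
      rw [← zpow_natCast, ← zpow_mul, mul_comm, zpow_mul, zpow_natCast, hζ.pow_eq_one, one_zpow]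
    rw [this, sub_self, zero_div]

/-- The indicator `N·[N ∣ j]`. -/
noncomputable def EE (N : ℕ) (j : ℤ) : ℂ := if (N : ℤ) ∣ j then (N : ℂ) else 0

/-- `ζ^(j l) - 1`. -/
noncomputable def dd (ζ : ℂ) (j : ℤ) (l : ℕ) : ℂ := ζ ^ (j * (l : ℤ)) - 1

theorem dd_zero (j : ℤ) : dd ζ j 0 = 0 := by simp [dd]

theorem sum_dd (hζ : IsPrimitiveRoot ζ N) (hN : 0 < N) (j : ℤ) :
    ∑ l ∈ range N, dd ζ j l = EE N j - N := by
  unfold dd EE
  rw [sum_sub_distrib, sum_zpow_mul hζ hN]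
  simp

theorem sum_dd_mul_dd (hζ : IsPrimitiveRoot ζ N) (hN : 0 < N) (j j' : ℤ) :
    ∑ l ∈ range N, dd ζ j l * dd ζ j' l = EE N (j + j') - EE N j - EE N j' + N := by
  have hζ0 : ζ ≠ 0 := hζ.ne_zero hN.ne'
  have h1 : ∀ l ∈ range N, dd ζ j l * dd ζ j' l =
      ζ ^ ((j + j') * (l : ℤ)) - ζ ^ (j * (l : ℤ)) - ζ ^ (j' * (l : ℤ)) + 1 := by
    intro l _
    unfold dd
    rw [add_mul, zpow_add₀ hζ0]
    ring
  rw [sum_congr rfl h1, sum_add_distrib, sum_sub_distrib, sum_sub_distrib,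
    sum_zpow_mul hζ hN, sum_zpow_mul hζ hN, sum_zpow_mul hζ hN]
  unfold EE
  simp

theorem dd_reflect (hζ : IsPrimitiveRoot ζ N) (hN : 0 < N) (j : ℤ) {l : ℕ} (hl : l ≤ N) :
    dd ζ j (N - l) = dd ζ (-j) l := by
  have hζ0 : ζ ≠ 0 := hζ.ne_zero hN.ne'
  unfold dd
  congr 1
  rw [Nat.cast_sub hl, mul_sub, zpow_sub₀ hζ0, mul_comm j (N : ℤ), zpow_mul, zpow_natCast,
    hζ.pow_eq_one, one_zpow, one_div, ← zpow_neg, neg_mul]

end roots

section gram

variable {I : Type*} [Fintype I] {N : ℕ} {ζ : ℂ}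

/-- The unnormalised coefficient `N a_i(j) = Σ_l x_i(l) (ζ^(jl) - 1)`. -/
noncomputable def SS (N : ℕ) (ζ : ℂ) (x : ℕ → ℂ) (j : ℤ) : ℂ := ∑ l ∈ range N, x l * dd ζ j l

theorem gram_SS (hζ : IsPrimitiveRoot ζ N) (hN : 0 < N) (x : I → ℕ → ℂ)
    (hgram : ∀ l l', 1 ≤ l → l < N → 1 ≤ l' → l' < N →
      ∑ i, x i l * x i l' = (N : ℂ) * ((if l = l' then 1 else 0) + (if l + l' = N then 1 else 0)))
    (j j' : ℤ) :
    ∑ i, SS N ζ (x i) j * SS N ζ (x i) j' =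
      N * ((EE N (j + j') - EE N j - EE N j' + N) + (EE N (j - j') - EE N j - EE N (-j') + N)) := by
  unfold SS
  have h1 : ∀ i, (∑ l ∈ range N, x i l * dd ζ j l) * (∑ l ∈ range N, x i l * dd ζ j' l) =
      ∑ l ∈ range N, ∑ l' ∈ range N, dd ζ j l * dd ζ j' l' * (x i l * x i l') := by
    intro i
    rw [sum_mul_sum]
    refine sum_congr rfl (fun l _ => sum_congr rfl (fun l' _ => by ring))
  rw [Fintype.sum_congr _ _ h1, sum_comm]
  have h2 : ∀ l ∈ range N, ∑ i, ∑ l' ∈ range N, dd ζ j l * dd ζ j' l' * (x i l * x i l') =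
      ∑ l' ∈ range N, dd ζ j l * dd ζ j' l' * ∑ i, x i l * x i l' := by
    intro l _
    rw [sum_comm]
    refine sum_congr rfl (fun l' _ => by rw [mul_sum])
  rw [sum_congr rfl h2]
  have h3 : ∀ l ∈ range N, ∑ l' ∈ range N, dd ζ j l * dd ζ j' l' * ∑ i, x i l * x i l' =
      (N : ℂ) * (dd ζ j l * dd ζ j' l) + (N : ℂ) * (dd ζ j l * dd ζ (-j') l) := by
    intro l hl
    rw [mem_range] at hl
    rcases Nat.eq_zero_or_pos l with h0 | hpos
    · subst h0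
      simp [dd_zero]
    · have h4 : ∀ l' ∈ range N, dd ζ j l * dd ζ j' l' * ∑ i, x i l * x i l' =
          (if l' = l then (N : ℂ) * (dd ζ j l * dd ζ j' l') else 0) +
          (if l' = N - l then (N : ℂ) * (dd ζ j l * dd ζ j' l') else 0) := by
        intro l' hl'
        rw [mem_range] at hl'
        rcases Nat.eq_zero_or_pos l' with h0' | hpos'
        · subst h0'
          have e1 : ¬ (0 = l) := by omega
          have e2 : ¬ (0 = N - l) := by omega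
          rw [if_neg e1, if_neg e2]
          simp [dd_zero]
        · rw [hgram l l' hpos hl hpos' hl']
          have e1 : (l = l') ↔ (l' = l) := eq_comm
          have e2 : (l + l' = N) ↔ (l' = N - l) := by omega
          simp only [e1, e2]
          split_ifs <;> ring
      rw [sum_congr rfl h4, sum_add_distrib, sum_ite_eq' (range N) l, sum_ite_eq' (range N) (N - l)]
      have m1 : l ∈ range N := mem_range.2 hl
      have m2 : N - l ∈ range N := mem_range.2 (by omega)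
      rw [if_pos m1, if_pos m2, dd_reflect hζ hN j' hl.le]
  rw [sum_congr rfl h3, sum_add_distrib, ← mul_sum, ← mul_sum, sum_dd_mul_dd hζ hN,
    sum_dd_mul_dd hζ hN]
  rw [sub_eq_add_neg j j']
  ring

theorem row_SS (x : I → ℕ → ℂ) (r : I → ℂ)
    (hr : ∀ l, 1 ≤ l → l < N → ∑ i, r i * x i l = 0) (j : ℤ) :
    ∑ i, r i * SS N ζ (x i) j = 0 := by
  unfold SS
  have h1 : ∀ i, r i * ∑ l ∈ range N, x i l * dd ζ j l =
      ∑ l ∈ range N, dd ζ j l * (r i * x i l) := by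
    intro i
    rw [mul_sum]
    refine sum_congr rfl (fun l _ => by ring)
  rw [Fintype.sum_congr _ _ h1, sum_comm]
  apply sum_eq_zero
  intro l hl
  rw [mem_range] at hl
  rw [← mul_sum]
  rcases Nat.eq_zero_or_pos l with h0 | hpos
  · subst h0; simp [dd_zero]
  · rw [hr l hpos hl, mul_zero]

theorem SS_one (hζ : IsPrimitiveRoot ζ N) (hN : 0 < N) (j : ℤ) :
    SS N ζ (fun _ => 1) j = EE N j - N := by
  unfold SS
  simp only [one_mul]
  exact sum_dd hζ hN j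

/-- Fourier inversion: `N x(l) = Σ_k S(-k) ζ^(k l)` for `1 ≤ l < N`. -/
theorem inversion (hζ : IsPrimitiveRoot ζ N) (hN : 0 < N) (x : ℕ → ℂ) {l : ℕ} (hl1 : 1 ≤ l)
    (hl : l < N) :
    ∑ k ∈ range N, SS N ζ x (-(k : ℤ)) * ζ ^ ((k : ℤ) * (l : ℤ)) = N * x l := by
  have hζ0 : ζ ≠ 0 := hζ.ne_zero hN.ne'
  unfold SS
  have h1 : ∀ k ∈ range N, (∑ l' ∈ range N, x l' * dd ζ (-(k : ℤ)) l') * ζ ^ ((k : ℤ) * (l : ℤ)) =
      ∑ l' ∈ range N, x l' * (ζ ^ (((l : ℤ) - (l' : ℤ)) * (k : ℤ)) - ζ ^ ((l : ℤ) * (k : ℤ))) := by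
    intro k _
    rw [sum_mul]
    refine sum_congr rfl (fun l' _ => ?_)
    unfold dd
    rw [sub_mul (l : ℤ), zpow_sub₀ hζ0]
    have e1 : ζ ^ (-(k : ℤ) * (l' : ℤ)) = (ζ ^ ((l' : ℤ) * (k : ℤ)))⁻¹ := by
      rw [← zpow_neg]; congr 1; ring
    have e2 : ζ ^ ((k : ℤ) * (l : ℤ)) = ζ ^ ((l : ℤ) * (k : ℤ)) := by rw [mul_comm]
    rw [e1, e2]
    field_simp
  rw [sum_congr rfl h1, sum_comm]
  have h2 : ∀ l' ∈ range N, ∑ k ∈ range N,
      x l' * (ζ ^ (((l : ℤ) - (l' : ℤ)) * (k : ℤ)) - ζ ^ ((l : ℤ) * (k : ℤ))) =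
      if l' = l then (N : ℂ) * x l' else 0 := by
    intro l' hl'
    rw [mem_range] at hl'
    rw [← mul_sum, sum_sub_distrib, sum_zpow_mul hζ hN, sum_zpow_mul hζ hN]
    have e1 : ¬ ((N : ℤ) ∣ (l : ℤ)) := by
      intro h
      have := Int.le_of_dvd (by omega) h
      omega
    rw [if_neg e1, sub_zero]
    by_cases hll : l' = l
    · subst hll
      simp [mul_comm]
    · have e2 : ¬ ((N : ℤ) ∣ (l : ℤ) - (l' : ℤ)) := by
        intro h
        obtain ⟨c, hc⟩ := h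
        rcases lt_trichotomy c 0 with h0 | h0 | h0
        · nlinarith
        · subst h0; omega
        · nlinarith
      rw [if_neg e2, if_neg hll, mul_zero]
  rw [sum_congr rfl h2, sum_ite_eq' (range N) l, if_pos (mem_range.2 hl)]

end gram

section core

variable {I : Type*} [Fintype I] [DecidableEq I] {N : ℕ} {ζ : ℂ}

theorem inv_pow_eq_zpow (hζ0 : ζ ≠ 0) (k l : ℕ) : (ζ⁻¹) ^ (k * l) = ζ ^ (-(k : ℤ) * (l : ℤ)) := by
  rw [inv_pow, ← zpow_natCast, ← zpow_neg]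
  congr 1
  push_cast
  ring

/-- From integrality of the Fourier coefficients to integrality of `SS`. -/
theorem SS_int (hζ : IsPrimitiveRoot ζ N) (hN : 0 < N) (x : ℕ → ℂ)
    (hint : ∀ k : ℕ, ∃ m : ℤ, ∑ l ∈ range N, x l * (ζ⁻¹) ^ (k * l) = (N : ℂ) * m) (k : ℕ) :
    ∃ a : ℤ, SS N ζ x (-(k : ℤ)) = (N : ℂ) * a := by
  have hζ0 : ζ ≠ 0 := hζ.ne_zero hN.ne'
  obtain ⟨m, hm⟩ := hint k
  obtain ⟨m0, hm0⟩ := hint 0
  refine ⟨m - m0, ?_⟩
  unfold SS dd
  have h1 : ∀ l ∈ range N, x l * (ζ ^ (-(k : ℤ) * (l : ℤ)) - 1) =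
      x l * (ζ⁻¹) ^ (k * l) - x l * (ζ⁻¹) ^ (0 * l) := by
    intro l _
    rw [inv_pow_eq_zpow hζ0]
    simp
    ring
  rw [sum_congr rfl h1, sum_sub_distrib, hm, hm0]
  push_cast
  ring

end core

section EElemmas

variable {N : ℕ}

theorem EE_neg_nat {k : ℕ} (hk1 : 1 ≤ k) (hk : k < N) : EE N (-(k : ℤ)) = 0 := by
  unfold EE
  rw [if_neg]
  intro h
  rw [dvd_neg, Int.natCast_dvd_natCast] at h
  have := Nat.le_of_dvd (by omega) h
  omega

theorem EE_nat {k : ℕ} (hk1 : 1 ≤ k) (hk : k < N) : EE N (k : ℤ) = 0 := by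
  unfold EE
  rw [if_neg]
  intro h
  rw [Int.natCast_dvd_natCast] at h
  have := Nat.le_of_dvd (by omega) h
  omega

theorem EE_neg_add_neg {k k' : ℕ} (hk1 : 1 ≤ k) (hk : k < N) (hk'1 : 1 ≤ k') (hk' : k' < N) :
    EE N (-(k : ℤ) + -(k' : ℤ)) = if k + k' = N then (N : ℂ) else 0 := by
  unfold EE
  have e : -(k : ℤ) + -(k' : ℤ) = -((k + k' : ℕ) : ℤ) := by push_cast; ring
  rw [e]
  have e2 : ((N : ℤ) ∣ -((k + k' : ℕ) : ℤ)) ↔ N ∣ k + k' := by
    rw [dvd_neg, Int.natCast_dvd_natCast]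
  by_cases h : k + k' = N
  · rw [if_pos h, if_pos (e2.2 (by rw [h]))]
  · rw [if_neg h, if_neg]
    intro hd
    exact h (Nat.eq_of_dvd_of_lt_two_mul (by omega) (e2.1 hd) (by omega))

theorem EE_neg_sub_neg {k k' : ℕ} (hk : k < N) (hk' : k' < N) :
    EE N (-(k : ℤ) - -(k' : ℤ)) = if k = k' then (N : ℂ) else 0 := by
  unfold EE
  by_cases h : k = k'
  · subst h
    simp
  · rw [if_neg h, if_neg]
    intro hd
    have h2 : -(k : ℤ) - -(k' : ℤ) = 0 := by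
      apply Int.eq_zero_of_abs_lt_dvd hd
      rw [abs_lt]
      constructor <;> omega
    omega

end EElemmas

open Cfsg.Agent.Helper79.DihLattice

/-- sum against an indicator -/
theorem sum_mul_ind_cast {I : Type*} [Fintype I] [DecidableEq I] (r : I → ℂ) (a : I) :
    ∑ i, r i * ((ind a i : ℤ) : ℂ) = r a := by
  unfold ind
  have : ∀ i, r i * (((if i = a then 1 else 0 : ℤ)) : ℂ) = if i = a then r i else 0 := by
    intro i
    split_ifs <;> simp
  rw [Fintype.sum_congr _ _ this, sum_ite_eq' univ a]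
  simp

/-- The integer Fourier data extracted from the hypotheses. -/
theorem dih_core_data {I : Type*} [Fintype I] [DecidableEq I] (t N : ℕ) (hNt : N = 2 * t + 2)
    (ζ : ℂ) (hζ : IsPrimitiveRoot ζ N) (x : I → ℕ → ℂ) (i0 : I)
    (hint : ∀ i (k : ℕ), ∃ m : ℤ, ∑ l ∈ range N, x i l * (ζ⁻¹) ^ (k * l) = (N : ℂ) * m)
    (hgram : ∀ l l', 1 ≤ l → l < N → 1 ≤ l' → l' < N →
      ∑ i, x i l * x i l' = (N : ℂ) * ((if l = l' then 1 else 0) + (if l + l' = N then 1 else 0)))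
    (h0 : ∀ l, x i0 l = 1) :
    ∃ a : I → ℕ → ℤ, (∀ i, a i 0 = 0) ∧
      (∀ k k' : ℕ, 1 ≤ k → k < N → 1 ≤ k' → k' < N →
        ∑ i, a i k * a i k' = 2 + (if k = k' then 1 else 0) + (if k + k' = N then 1 else 0)) ∧
      (∀ k, 1 ≤ k → k < N → a i0 k = -1) ∧
      (∀ r : I → ℂ, (∀ l, 1 ≤ l → l < N → ∑ i, r i * x i l = 0) → ∀ k, ∑ i, r i * (a i k : ℂ) = 0) ∧
      (∀ i l, 1 ≤ l → l < N → x i l = ∑ k ∈ range N, (a i k : ℂ) * ζ ^ (k * l)) := by
  have hN : 0 < N := by omega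
  have hNC : (N : ℂ) ≠ 0 := Nat.cast_ne_zero.2 hN.ne'
  have hζ0 : ζ ≠ 0 := hζ.ne_zero hN.ne'
  have hSS : ∀ i (k : ℕ), ∃ a : ℤ, SS N ζ (x i) (-(k : ℤ)) = (N : ℂ) * a :=
    fun i k => SS_int hζ hN (x i) (hint i) k
  choose a ha using hSS
  refine ⟨a, ?_, ?_, ?_, ?_, ?_⟩
  · intro i
    have h1 := ha i 0
    have h2 : SS N ζ (x i) (-((0 : ℕ) : ℤ)) = 0 := by unfold SS dd; simp
    rw [h2] at h1
    have h3 : (a i 0 : ℂ) = 0 := by
      rcases mul_eq_zero.1 h1.symm with h | h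
      · exact absurd h hNC
      · exact h
    exact_mod_cast h3
  · intro k k' hk1 hk hk'1 hk'
    have h := gram_SS hζ hN x hgram (-(k : ℤ)) (-(k' : ℤ))
    simp only [ha] at h
    rw [EE_neg_add_neg hk1 hk hk'1 hk', EE_neg_sub_neg hk hk', EE_neg_nat hk1 hk,
      EE_neg_nat hk'1 hk', neg_neg, EE_nat hk'1 hk'] at h
    have h1 : (N : ℂ) * N * ∑ i, (a i k : ℂ) * (a i k' : ℂ) =
        (N : ℂ) * N * (2 + (if k = k' then 1 else 0) + (if k + k' = N then 1 else 0)) := by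
      rw [mul_sum]
      have e : ∀ i, (N : ℂ) * N * ((a i k : ℂ) * (a i k' : ℂ)) =
          (N : ℂ) * (a i k : ℂ) * ((N : ℂ) * (a i k' : ℂ)) := fun i => by ring
      rw [Fintype.sum_congr _ _ e, h]
      split_ifs <;> ring
    have h2 := mul_left_cancel₀ (mul_ne_zero hNC hNC) h1
    apply Int.cast_injective (α := ℂ)
    push_cast
    rw [h2]
  · intro k hk1 hk
    have h1 := ha i0 k
    have h2 : SS N ζ (x i0) (-(k : ℤ)) = EE N (-(k : ℤ)) - N := by
      have : x i0 = fun _ => 1 := funext h0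
      rw [this]
      exact SS_one hζ hN _
    rw [h2, EE_neg_nat hk1 hk] at h1
    have h3 : (N : ℂ) * (a i0 k : ℂ) = (N : ℂ) * (-1) := by rw [← h1]; ring
    have h4 := mul_left_cancel₀ hNC h3
    exact_mod_cast h4
  · intro r hr k
    have h1 := row_SS (ζ := ζ) x r hr (-(k : ℤ))
    simp only [ha] at h1
    have h2 : (N : ℂ) * ∑ i, r i * (a i k : ℂ) = 0 := by
      rw [mul_sum, ← h1]
      refine Fintype.sum_congr _ _ (fun i => by ring)
    rcases mul_eq_zero.1 h2 with h | h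
    · exact absurd h hNC
    · exact h
  · intro i l hl1 hl
    have h1 := inversion hζ hN (x i) hl1 hl
    simp only [ha] at h1
    have h2 : (N : ℂ) * x i l = (N : ℂ) * ∑ k ∈ range N, (a i k : ℂ) * ζ ^ (k * l) := by
      rw [← h1, mul_sum]
      refine sum_congr rfl (fun k _ => ?_)
      rw [← zpow_natCast ζ (k * l)]
      push_cast
      ring
    exact mul_left_cancel₀ hNC h2

theorem sum_pow_mul_eq_zero {N : ℕ} {ζ : ℂ} (hζ : IsPrimitiveRoot ζ N) (hN : 0 < N) {l : ℕ}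
    (hl1 : 1 ≤ l) (hl : l < N) : ∑ k ∈ range N, ζ ^ (k * l) = 0 := by
  have h := sum_zpow_mul hζ hN (l : ℤ)
  rw [if_neg] at h
  · rw [← h]
    refine sum_congr rfl (fun k _ => ?_)
    rw [← zpow_natCast ζ (k * l)]
    push_cast
    rw [mul_comm]
  · rw [Int.natCast_dvd_natCast]
    intro hd
    have := Nat.le_of_dvd (by omega) hd
    omega

theorem half_pow {t N : ℕ} (hNt : N = 2 * t + 2) {ζ : ℂ} (hζ : IsPrimitiveRoot ζ N) :
    ζ ^ (t + 1) = -1 := by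
  have h1 : IsPrimitiveRoot (ζ ^ (t + 1)) 2 := by
    have := hζ.pow (by omega : 0 < N) (show N = (t + 1) * 2 by omega)
    exact this
  exact h1.eq_neg_one_of_two_right

theorem sum_range_split (t : ℕ) (f : ℕ → ℂ) :
    ∑ k ∈ range (2 * t + 2), f k =
      f 0 + ∑ k : Fin t, (f ((k : ℕ) + 1) + f (2 * t + 2 - ((k : ℕ) + 1))) + f (t + 1) := by
  have e : 2 * t + 2 = (t + 2) + t := by ring
  rw [e, sum_range_add, sum_range_succ, sum_range_succ']
  have h1 : ∑ k ∈ range t, f (t + 2 + k) = ∑ k ∈ range t, f (t + 2 + t - (k + 1)) := by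
    rw [← sum_range_reflect (fun j => f (t + 2 + j)) t]
    refine sum_congr rfl (fun j hj => ?_)
    rw [mem_range] at hj
    congr 1
    omega
  rw [h1, Fin.sum_univ_eq_sum_range (fun k => f (k + 1) + f (t + 2 + t - (k + 1))) t,
    sum_add_distrib]
  ring


/-- The structural part: from the integer Fourier data to the shape of the block. -/
theorem dih_core_struct {I : Type*} [Fintype I] [DecidableEq I] (t N : ℕ) (hNt : N = 2 * t + 2)
    (ht : 1 ≤ t) (ht2 : t ≠ 2) (ζ : ℂ) (hζ : IsPrimitiveRoot ζ N) (x : I → ℕ → ℂ) (i0 : I)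
    (a : I → ℕ → ℤ) (ha0 : ∀ i, a i 0 = 0)
    (hG : ∀ k k' : ℕ, 1 ≤ k → k < N → 1 ≤ k' → k' < N →
        ∑ i, a i k * a i k' = 2 + (if k = k' then 1 else 0) + (if k + k' = N then 1 else 0))
    (hai0 : ∀ k, 1 ≤ k → k < N → a i0 k = -1)
    (hrow : ∀ r : I → ℂ, (∀ l, 1 ≤ l → l < N → ∑ i, r i * x i l = 0) →
        ∀ k, ∑ i, r i * (a i k : ℂ) = 0)
    (hinv : ∀ i l, 1 ≤ l → l < N → x i l = ∑ k ∈ range N, (a i k : ℂ) * ζ ^ (k * l))
    (hdeg : ∀ i, ∃ d : ℕ, 0 < d ∧ x i 0 = d)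
    (hdeg0 : x i0 0 = 1)
    (hdorth : ∀ l, 1 ≤ l → l < N → ∑ i, x i 0 * x i l = 0)
    (hJ : ∀ i, x i (t + 1) ≠ 0) :
    Fintype.card I = t + 4 ∧
    ∃ (δ s2 s3 : ℤ) (i1 i2 i3 : I) (p : Fin t → I),
      (δ = 1 ∨ δ = -1) ∧ (s2 = 1 ∨ s2 = -1) ∧ (s3 = 1 ∨ s3 = -1) ∧
      Function.Injective p ∧ i1 ≠ i0 ∧ i2 ≠ i0 ∧ i3 ≠ i0 ∧ i1 ≠ i2 ∧ i1 ≠ i3 ∧ i2 ≠ i3 ∧
      (∀ l, p l ≠ i0 ∧ p l ≠ i1 ∧ p l ≠ i2 ∧ p l ≠ i3) ∧
      (∀ i, i = i0 ∨ i = i1 ∨ i = i2 ∨ i = i3 ∨ ∃ j, i = p j) ∧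
      (∀ l, 1 ≤ l → l < N → x i1 l = δ ∧ x i2 l = s2 * (-1) ^ l ∧ x i3 l = s3 * (-1) ^ l ∧
        ∀ j : Fin t, x (p j) l = δ * (ζ ^ (((j : ℕ) + 1) * l) + (ζ ^ (((j : ℕ) + 1) * l))⁻¹)) ∧
      (∀ r : I → ℂ, (∀ l, 1 ≤ l → l < N → ∑ i, r i * x i l = 0) →
        r i0 + δ * r i1 = s2 * r i2 + s3 * r i3 ∧ ∀ j : Fin t, r i0 + δ * r i1 = δ * r (p j)) := by
  have hN : 0 < N := by omega
  have hζ0 : ζ ≠ 0 := hζ.ne_zero hN.ne'
  -- degrees
  choose d hdpos hd using hdeg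
  have hd0 : d i0 = 1 := by
    have := hd i0
    rw [hdeg0] at this
    exact_mod_cast this.symm
  have hvD : ∀ k, ∑ i, a i k * (d i : ℤ) = 0 := by
    intro k
    have h1 := hrow (fun i => x i 0) hdorth k
    apply Int.cast_injective (α := ℂ)
    push_cast
    rw [← h1]
    refine Fintype.sum_congr _ _ (fun i => ?_)
    rw [hd i]; ring
  -- the lattice lemma
  obtain ⟨δ, s2, s3, i1, i2, i3, p, hδ, hs2, hs3, hp, h10, h20, h30, h12, h13, h23, hpl, hv, hw⟩ :=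
    dih_lattice t ht ht2 (fun l i => a i ((l : ℕ) + 1)) (fun i => a i (t + 1))
      (fun i => (d i : ℤ)) i0
      (by
        intro l k
        have h := hG ((l : ℕ) + 1) ((k : ℕ) + 1) (by omega) (by have := l.2; omega) (by omega)
          (by have := k.2; omega)
        have e1 : ((l : ℕ) + 1 = (k : ℕ) + 1) ↔ l = k := by
          rw [Fin.ext_iff]; omega
        have e2 : ¬ ((l : ℕ) + 1 + ((k : ℕ) + 1) = N) := by
          have := l.2; have := k.2; omega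
        simp only [e1, if_neg e2, add_zero] at h
        exact h)
      (by
        have h := hG (t + 1) (t + 1) (by omega) (by omega) (by omega) (by omega)
        rw [if_pos rfl, if_pos (by omega)] at h
        rw [h]; norm_num)
      (by
        intro l
        have h := hG (t + 1) ((l : ℕ) + 1) (by omega) (by omega) (by omega) (by have := l.2; omega)
        have e1 : ¬ (t + 1 = (l : ℕ) + 1) := by have := l.2; omega
        have e2 : ¬ (t + 1 + ((l : ℕ) + 1) = N) := by have := l.2; omega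
        rw [if_neg e1, if_neg e2] at h
        rw [h]; ring)
      (fun l => hai0 _ (by omega) (by have := l.2; omega))
      (hai0 _ (by omega) (by omega))
      (fun i => by exact_mod_cast hdpos i)
      (by exact_mod_cast hd0)
      (fun l => hvD _) (hvD _)
  -- symmetry of the coefficients
  have hsym : ∀ i k, 1 ≤ k → k ≤ t → a i (N - k) = a i k := by
    intro i k hk1 hk
    have h1 := hG k k (by omega) (by omega) (by omega) (by omega)
    have h2 := hG k (N - k) (by omega) (by omega) (by omega) (by omega)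
    have h3 := hG (N - k) (N - k) (by omega) (by omega) (by omega) (by omega)
    rw [if_pos rfl, if_neg (by omega)] at h1
    rw [if_neg (by omega), if_pos (by omega)] at h2
    rw [if_pos rfl, if_neg (by omega)] at h3
    have h4 : ∑ j, (a j k - a j (N - k)) * (a j k - a j (N - k)) = 0 := by
      have e : ∀ j, (a j k - a j (N - k)) * (a j k - a j (N - k)) =
          a j k * a j k - 2 * (a j k * a j (N - k)) + a j (N - k) * a j (N - k) := fun j => by ring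
      rw [Fintype.sum_congr _ _ e, sum_add_distrib, sum_sub_distrib, ← mul_sum, h1, h2, h3]
      norm_num
    have h5 := (sum_eq_zero_iff_of_nonneg (fun j _ => mul_self_nonneg _)).1 h4 i (mem_univ i)
    have h6 := mul_self_eq_zero.1 h5
    omega
  -- the cosine form of the inversion formula
  have hpowinv : ∀ (k l : ℕ), k ≤ N → ζ ^ ((N - k) * l) = (ζ ^ (k * l))⁻¹ := by
    intro k l hk
    have h1 : ζ ^ ((N - k) * l) * ζ ^ (k * l) = 1 := by
      rw [← pow_add, ← add_mul, Nat.sub_add_cancel hk, pow_mul, hζ.pow_eq_one, one_pow]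
    exact eq_inv_of_mul_eq_one_left h1
  have hhalf : ∀ l : ℕ, ζ ^ ((t + 1) * l) = (-1) ^ l := by
    intro l
    rw [pow_mul, half_pow hNt hζ]
  have hcos : ∀ i l, 1 ≤ l → l < N → x i l =
      ∑ k : Fin t, (a i ((k : ℕ) + 1) : ℂ) *
        (ζ ^ (((k : ℕ) + 1) * l) + (ζ ^ (((k : ℕ) + 1) * l))⁻¹) + (a i (t + 1) : ℂ) * (-1) ^ l := by
    intro i l hl1 hl
    rw [hinv i l hl1 hl]
    subst hNt
    rw [sum_range_split t (fun k => (a i k : ℂ) * ζ ^ (k * l)), ha0 i]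
    simp only [Int.cast_zero, zero_mul, zero_add]
    rw [hhalf l]
    congr 1
    refine Fintype.sum_congr _ _ (fun k => ?_)
    have hk := k.2
    rw [hsym i ((k : ℕ) + 1) (by omega) (by omega), hpowinv ((k : ℕ) + 1) l (by omega)]
    ring
  -- the constant: Σ_k c_k + (-1)^l = -1
  have hconst : ∀ l, 1 ≤ l → l < N →
      ∑ k : Fin t, (ζ ^ (((k : ℕ) + 1) * l) + (ζ ^ (((k : ℕ) + 1) * l))⁻¹) + (-1) ^ l = -1 := by
    intro l hl1 hl
    have h := sum_pow_mul_eq_zero hζ hN hl1 hl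
    subst hNt
    rw [sum_range_split t (fun k => ζ ^ (k * l))] at h
    simp only [zero_mul, pow_zero] at h
    rw [hhalf l] at h
    have e : ∑ k : Fin t, (ζ ^ (((k : ℕ) + 1) * l) + ζ ^ ((2 * t + 2 - ((k : ℕ) + 1)) * l)) =
        ∑ k : Fin t, (ζ ^ (((k : ℕ) + 1) * l) + (ζ ^ (((k : ℕ) + 1) * l))⁻¹) := by
      refine Fintype.sum_congr _ _ (fun k => ?_)
      have hk := k.2
      rw [hpowinv ((k : ℕ) + 1) l (by omega)]
    rw [e] at h
    linear_combination h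
  -- the universal formula
  have hxu : ∀ i l, 1 ≤ l → l < N → x i l =
      ((ind i0 i : ℤ) : ℂ) + (δ : ℂ) * ((ind i1 i : ℤ) : ℂ) +
      (δ : ℂ) * ∑ k : Fin t, ((ind (p k) i : ℤ) : ℂ) *
        (ζ ^ (((k : ℕ) + 1) * l) + (ζ ^ (((k : ℕ) + 1) * l))⁻¹) +
      ((s2 : ℂ) * ((ind i2 i : ℤ) : ℂ) + (s3 : ℂ) * ((ind i3 i : ℤ) : ℂ)) * (-1) ^ l := by
    intro i l hl1 hl
    rw [hcos i l hl1 hl]
    have e1 : ∀ k : Fin t, (a i ((k : ℕ) + 1) : ℂ) *
        (ζ ^ (((k : ℕ) + 1) * l) + (ζ ^ (((k : ℕ) + 1) * l))⁻¹) =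
        (-((ind i0 i : ℤ) : ℂ) - (δ : ℂ) * ((ind i1 i : ℤ) : ℂ)) *
          (ζ ^ (((k : ℕ) + 1) * l) + (ζ ^ (((k : ℕ) + 1) * l))⁻¹) +
        (δ : ℂ) * (((ind (p k) i : ℤ) : ℂ) *
          (ζ ^ (((k : ℕ) + 1) * l) + (ζ ^ (((k : ℕ) + 1) * l))⁻¹)) := by
      intro k
      rw [hv k i]
      push_cast
      ring
    rw [Fintype.sum_congr _ _ e1, sum_add_distrib, ← mul_sum, ← mul_sum, hw i]
    push_cast
    have hc := hconst l hl1 hl
    linear_combination (-((ind i0 i : ℤ) : ℂ) - (δ : ℂ) * ((ind i1 i : ℤ) : ℂ)) * hc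
  -- covering
  have hcover : ∀ i, i = i0 ∨ i = i1 ∨ i = i2 ∨ i = i3 ∨ ∃ j, i = p j := by
    intro i
    by_contra hcon
    push Not at hcon
    obtain ⟨c0, c1, c2, c3, cp⟩ := hcon
    apply hJ i
    rw [hxu i (t + 1) (by omega) (by omega), ind_ne c0, ind_ne c1, ind_ne c2, ind_ne c3]
    have e : ∀ k : Fin t, ((ind (p k) i : ℤ) : ℂ) *
        (ζ ^ (((k : ℕ) + 1) * (t + 1)) + (ζ ^ (((k : ℕ) + 1) * (t + 1)))⁻¹) = 0 := by
      intro k
      rw [ind_ne (cp k)]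
      simp
    rw [Fintype.sum_congr _ _ e]
    simp
  -- cardinality
  have hcard : Fintype.card I = t + 4 := by
    have huniv : (univ : Finset I) =
        insert i0 (insert i1 (insert i2 (insert i3 (image p univ)))) := by
      ext i
      simp only [mem_univ, mem_insert, mem_image, true_and, true_iff]
      rcases hcover i with h | h | h | h | ⟨j, h⟩
      · exact Or.inl h
      · exact Or.inr (Or.inl h)
      · exact Or.inr (Or.inr (Or.inl h))
      · exact Or.inr (Or.inr (Or.inr (Or.inl h)))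
      · exact Or.inr (Or.inr (Or.inr (Or.inr ⟨j, h.symm⟩)))
    have hn3 : i3 ∉ image p univ := by
      simp only [mem_image, mem_univ, true_and, not_exists]
      exact fun k hk => (hpl k).2.2.2 hk
    have hn2 : i2 ∉ insert i3 (image p univ) := by
      simp only [mem_insert, mem_image, mem_univ, true_and, not_or, not_exists]
      exact ⟨h23, fun k hk => (hpl k).2.2.1 hk⟩
    have hn1 : i1 ∉ insert i2 (insert i3 (image p univ)) := by
      simp only [mem_insert, mem_image, mem_univ, true_and, not_or, not_exists]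
      exact ⟨h12, h13, fun k hk => (hpl k).2.1 hk⟩
    have hn0 : i0 ∉ insert i1 (insert i2 (insert i3 (image p univ))) := by
      simp only [mem_insert, mem_image, mem_univ, true_and, not_or, not_exists]
      exact ⟨h10.symm, h20.symm, h30.symm, fun k hk => (hpl k).1 hk⟩
    rw [← card_univ, huniv, card_insert_of_notMem hn0, card_insert_of_notMem hn1,
      card_insert_of_notMem hn2, card_insert_of_notMem hn3, card_image_of_injective _ hp,
      card_univ, Fintype.card_fin]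
  refine ⟨hcard, δ, s2, s3, i1, i2, i3, p, hδ, hs2, hs3, hp, h10, h20, h30, h12, h13, h23, hpl,
    hcover, ?_, ?_⟩
  · intro l hl1 hl
    refine ⟨?_, ?_, ?_, ?_⟩
    · rw [hxu i1 l hl1 hl, ind_ne h10, ind_self, ind_ne h12, ind_ne h13]
      have e : ∀ k : Fin t, ((ind (p k) i1 : ℤ) : ℂ) *
          (ζ ^ (((k : ℕ) + 1) * l) + (ζ ^ (((k : ℕ) + 1) * l))⁻¹) = 0 := by
        intro k
        rw [ind_ne (hpl k).2.1.symm]
        simp
      rw [Fintype.sum_congr _ _ e]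
      simp
    · rw [hxu i2 l hl1 hl, ind_ne h20, ind_ne h12.symm, ind_self, ind_ne h23]
      have e : ∀ k : Fin t, ((ind (p k) i2 : ℤ) : ℂ) *
          (ζ ^ (((k : ℕ) + 1) * l) + (ζ ^ (((k : ℕ) + 1) * l))⁻¹) = 0 := by
        intro k
        rw [ind_ne (hpl k).2.2.1.symm]
        simp
      rw [Fintype.sum_congr _ _ e]
      simp
    · rw [hxu i3 l hl1 hl, ind_ne h30, ind_ne h13.symm, ind_ne h23.symm, ind_self]
      have e : ∀ k : Fin t, ((ind (p k) i3 : ℤ) : ℂ) *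
          (ζ ^ (((k : ℕ) + 1) * l) + (ζ ^ (((k : ℕ) + 1) * l))⁻¹) = 0 := by
        intro k
        rw [ind_ne (hpl k).2.2.2.symm]
        simp
      rw [Fintype.sum_congr _ _ e]
      simp
    · intro j
      rw [hxu (p j) l hl1 hl, ind_ne (hpl j).1, ind_ne (hpl j).2.1, ind_ne (hpl j).2.2.1,
        ind_ne (hpl j).2.2.2]
      rw [sum_eq_single j]
      · rw [ind_self]; simp
      · intro k _ hkj
        have : p j ≠ p k := fun h => hkj (hp h).symm
        rw [ind_ne this]; simp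
      · intro h; exact absurd (mem_univ j) h
  · intro r hr
    constructor
    · have h := hrow r hr (t + 1)
      have e : ∀ i, r i * ((a i (t + 1) : ℤ) : ℂ) =
          -(r i * ((ind i0 i : ℤ) : ℂ)) - (δ : ℂ) * (r i * ((ind i1 i : ℤ) : ℂ)) +
          (s2 : ℂ) * (r i * ((ind i2 i : ℤ) : ℂ)) + (s3 : ℂ) * (r i * ((ind i3 i : ℤ) : ℂ)) := by
        intro i
        rw [hw i]; push_cast; ring
      rw [Fintype.sum_congr _ _ e, sum_add_distrib, sum_add_distrib, sum_sub_distrib,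
        sum_neg_distrib, ← mul_sum, ← mul_sum, ← mul_sum, sum_mul_ind_cast, sum_mul_ind_cast,
        sum_mul_ind_cast, sum_mul_ind_cast] at h
      linear_combination -h
    · intro j
      have h := hrow r hr ((j : ℕ) + 1)
      have e : ∀ i, r i * ((a i ((j : ℕ) + 1) : ℤ) : ℂ) =
          -(r i * ((ind i0 i : ℤ) : ℂ)) - (δ : ℂ) * (r i * ((ind i1 i : ℤ) : ℂ)) +
          (δ : ℂ) * (r i * ((ind (p j) i : ℤ) : ℂ)) := by
        intro i
        rw [hv j i]; push_cast; ring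
      rw [Fintype.sum_congr _ _ e, sum_add_distrib, sum_sub_distrib,
        sum_neg_distrib, ← mul_sum, ← mul_sum, sum_mul_ind_cast, sum_mul_ind_cast,
        sum_mul_ind_cast] at h
      linear_combination -h

/-- **The abstract principal block theorem for dihedral defect groups.** -/
theorem dih_core {I : Type*} [Fintype I] [DecidableEq I] (t N : ℕ) (hNt : N = 2 * t + 2)
    (ht : 1 ≤ t) (ht2 : t ≠ 2) (ζ : ℂ) (hζ : IsPrimitiveRoot ζ N) (x : I → ℕ → ℂ) (i0 : I)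
    (hint : ∀ i (k : ℕ), ∃ m : ℤ, ∑ l ∈ range N, x i l * (ζ⁻¹) ^ (k * l) = (N : ℂ) * m)
    (hgram : ∀ l l', 1 ≤ l → l < N → 1 ≤ l' → l' < N →
      ∑ i, x i l * x i l' = (N : ℂ) * ((if l = l' then 1 else 0) + (if l + l' = N then 1 else 0)))
    (h0 : ∀ l, x i0 l = 1)
    (hdeg : ∀ i, ∃ d : ℕ, 0 < d ∧ x i 0 = d)
    (hdorth : ∀ l, 1 ≤ l → l < N → ∑ i, x i 0 * x i l = 0)
    (hJ : ∀ i, x i (t + 1) ≠ 0) :
    Fintype.card I = t + 4 ∧
    ∃ (δ s2 s3 : ℤ) (i1 i2 i3 : I) (p : Fin t → I),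
      (δ = 1 ∨ δ = -1) ∧ (s2 = 1 ∨ s2 = -1) ∧ (s3 = 1 ∨ s3 = -1) ∧
      Function.Injective p ∧ i1 ≠ i0 ∧ i2 ≠ i0 ∧ i3 ≠ i0 ∧ i1 ≠ i2 ∧ i1 ≠ i3 ∧ i2 ≠ i3 ∧
      (∀ l, p l ≠ i0 ∧ p l ≠ i1 ∧ p l ≠ i2 ∧ p l ≠ i3) ∧
      (∀ i, i = i0 ∨ i = i1 ∨ i = i2 ∨ i = i3 ∨ ∃ j, i = p j) ∧
      (∀ l, 1 ≤ l → l < N → x i1 l = δ ∧ x i2 l = s2 * (-1) ^ l ∧ x i3 l = s3 * (-1) ^ l ∧
        ∀ j : Fin t, x (p j) l = δ * (ζ ^ (((j : ℕ) + 1) * l) + (ζ ^ (((j : ℕ) + 1) * l))⁻¹)) ∧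
      (∀ r : I → ℂ, (∀ l, 1 ≤ l → l < N → ∑ i, r i * x i l = 0) →
        r i0 + δ * r i1 = s2 * r i2 + s3 * r i3 ∧ ∀ j : Fin t, r i0 + δ * r i1 = δ * r (p j)) := by
  obtain ⟨a, ha0, hG, hai0, hrow, hinv⟩ := dih_core_data t N hNt ζ hζ x i0 hint hgram h0
  exact dih_core_struct t N hNt ht ht2 ζ hζ x i0 a ha0 hG hai0 hrow hinv hdeg (h0 0) hdorth hJ

end Cfsg.Agent.Helper79.DihFourier
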