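import Cfsg.Agent.Helper79.DihLocal
import Cfsg.Agent.Helper16.SecondMainKappa

/-!
# Group theory for Brauer's order formula (dihedral Sylow 2-subgroups, one class of involutions)
(helper79)
-/

set_option autoImplicit false
set_option linter.unusedSectionVars false
set_option linter.style.haveILetI false
set_option linter.unusedVariables false
set_option maxHeartbeats 1000000

namespace Cfsg.Agent.Helper79.DihOrder

open Cfsg
open Cfsg.Agent.Helper79.DihLocal

variable {G : Type*} [Group G] [Finite G]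

/-- `DihData` from generators and relations. -/
theorem dihData_of_gens (n : ℕ) (hn : 3 ≤ n) (P : Sylow 2 G) (σ τ : G)
    (hσ : σ ∈ (P : Subgroup G)) (hτ : τ ∈ (P : Subgroup G)) (hσo : orderOf σ = 2 ^ (n - 1))
    (hτo : orderOf τ = 2) (hrel : τ * σ * τ⁻¹ = σ⁻¹)
    (hgen : Subgroup.closure ({σ, τ} : Set G) = (P : Subgroup G)) :
    DihData P σ n ∧ τ ∉ Subgroup.zpowers σ := by
  have h4 : 4 ≤ 2 ^ (n - 1) := by
    calc 4 = 2 ^ 2 := by norm_num
      _ ≤ 2 ^ (n - 1) := Nat.pow_le_pow_right (by norm_num) (by omega)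
  have hττ : τ * τ = 1 := by
    have := pow_orderOf_eq_one τ
    rwa [hτo, pow_two] at this
  have hτinv : τ⁻¹ = τ := inv_eq_of_mul_eq_one_left hττ
  have hσ2 : σ * σ ≠ 1 := by
    intro h
    have h2 : orderOf σ ∣ 2 := orderOf_dvd_of_pow_eq_one (by rw [pow_two]; exact h)
    have := Nat.le_of_dvd (by norm_num) h2
    omega
  -- τ inverts A
  have hinvA : ∀ a ∈ Subgroup.zpowers σ, τ * a * τ⁻¹ = a⁻¹ := by
    intro a ha
    obtain ⟨k, rfl⟩ := Subgroup.mem_zpowers_iff.1 ha
    rw [← conj_zpow, hrel, inv_zpow]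
  have hτA : τ ∉ Subgroup.zpowers σ := by
    intro h
    have h1 := hinvA σ (Subgroup.mem_zpowers σ)
    have h2 : τ * σ = σ * τ := DihData.commute_of_mem_A h (Subgroup.mem_zpowers σ)
    rw [h2, mul_assoc, mul_inv_cancel, mul_one] at h1
    apply hσ2
    calc σ * σ = σ * σ⁻¹ := by rw [← h1]
      _ = 1 := mul_inv_cancel σ
  -- every element of P is in A or in Aτ
  have hform : ∀ x ∈ (P : Subgroup G), x ∈ Subgroup.zpowers σ ∨ x * τ ∈ Subgroup.zpowers σ := by
    intro x hx
    rw [← hgen] at hx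
    induction hx using Subgroup.closure_induction with
    | mem y hy =>
      rcases hy with rfl | hy
      · exact Or.inl (Subgroup.mem_zpowers _)
      · rw [Set.mem_singleton_iff] at hy
        subst hy
        right; rw [hττ]; exact Subgroup.one_mem _
    | one => exact Or.inl (Subgroup.one_mem _)
    | mul x y _ _ hx hy =>
      rcases hx with hx | hx <;> rcases hy with hy | hy
      · exact Or.inl (Subgroup.mul_mem _ hx hy)
      · right
        rw [mul_assoc]
        exact Subgroup.mul_mem _ hx hy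
      · right
        have h1 : x * y * τ = (x * τ) * (τ * y * τ⁻¹) := by
          rw [hτinv]
          calc x * y * τ = x * (τ * τ) * y * τ := by rw [hττ, mul_one]
            _ = x * τ * (τ * y * τ) := by group
        rw [h1, hinvA y hy]
        exact Subgroup.mul_mem _ hx (Subgroup.inv_mem _ hy)
      · left
        have h1 : x * y = (x * τ) * (τ * (y * τ) * τ⁻¹)  := by
          rw [hτinv]
          calc x * y = x * (τ * τ) * y * (τ * τ) := by rw [hττ, mul_one, mul_one]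
            _ = x * τ * (τ * (y * τ) * τ) := by group
        rw [h1, hinvA _ hy]
        exact Subgroup.mul_mem _ hx (Subgroup.inv_mem _ hy)
    | inv x _ hx =>
      rcases hx with hx | hx
      · exact Or.inl (Subgroup.inv_mem _ hx)
      · right
        have h1 : x⁻¹ * τ = τ * (x * τ)⁻¹ * τ⁻¹ := by
          rw [hτinv]
          calc x⁻¹ * τ = (τ * τ) * x⁻¹ * τ := by rw [hττ, one_mul]
            _ = τ * (x * τ)⁻¹ * τ := by
              rw [mul_inv_rev, hτinv]; group
        rw [h1, hinvA _ (Subgroup.inv_mem _ hx), inv_inv]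
        exact hx
  have hinv : ∀ x ∈ (P : Subgroup G), x ∉ Subgroup.zpowers σ →
      x * x = 1 ∧ x * σ * x⁻¹ = σ⁻¹ := by
    intro x hx hxA
    have hxτ : x * τ ∈ Subgroup.zpowers σ := (hform x hx).resolve_left hxA
    set a := x * τ with ha
    have hxa : x = a * τ := by rw [ha, mul_assoc, hττ, mul_one]
    constructor
    · rw [hxa]
      have : a * τ * (a * τ) = a * (τ * a * τ⁻¹) * (τ * τ) := by group
      rw [this, hinvA a hxτ, hττ, mul_inv_cancel, one_mul]
    · rw [hxa]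
      have : a * τ * σ * (a * τ)⁻¹ = a * (τ * σ * τ⁻¹) * a⁻¹ := by group
      rw [this, hrel]
      have hc : a * σ⁻¹ = σ⁻¹ * a :=
        DihData.commute_of_mem_A hxτ (Subgroup.inv_mem _ (Subgroup.mem_zpowers σ))
      rw [hc, mul_assoc, mul_inv_cancel, mul_one]
  -- cardinality
  have hcard : Nat.card (P : Subgroup G) = 2 ^ n := by
    obtain ⟨m, hm⟩ := IsPGroup.iff_card.mp P.2
    have hAle : Subgroup.zpowers σ ≤ (P : Subgroup G) := Subgroup.zpowers_le.2 hσ
    have hcardA : Nat.card (Subgroup.zpowers σ) = 2 ^ (n - 1) := by rw [Nat.card_zpowers, hσo]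
    have hdvd : 2 ^ (n - 1) ∣ 2 ^ m := by
      rw [← hm, ← hcardA]; exact Subgroup.card_dvd_of_le hAle
    have hle1 : n - 1 ≤ m := (Nat.pow_dvd_pow_iff_le_right (by norm_num)).1 hdvd
    -- |P| ≤ 2|A| via the injection x ↦ (x or xτ, flag)
    have hle2 : Nat.card (P : Subgroup G) ≤ 2 * Nat.card (Subgroup.zpowers σ) := by
      classical
      let f : ↥(P : Subgroup G) → ↥(Subgroup.zpowers σ) × Bool := fun x =>
        if h : (x : G) ∈ Subgroup.zpowers σ then (⟨x, h⟩, true)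
        else (⟨(x : G) * τ, (hform x x.2).resolve_left h⟩, false)
      have hf : Function.Injective f := by
        intro x y hxy
        by_cases hx : (x : G) ∈ Subgroup.zpowers σ <;> by_cases hy : (y : G) ∈ Subgroup.zpowers σ
        · simp only [f, dif_pos hx, dif_pos hy, Prod.mk.injEq, Subtype.mk.injEq, and_true] at hxy
          exact Subtype.ext hxy
        · simp [f, dif_pos hx, dif_neg hy] at hxy
        · simp [f, dif_neg hx, dif_pos hy] at hxy
        · simp only [f, dif_neg hx, dif_neg hy, Prod.mk.injEq, Subtype.mk.injEq, and_true] at hxy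
          exact Subtype.ext (mul_right_cancel hxy)
      have := Nat.card_le_card_of_injective f hf
      rw [Nat.card_prod, Nat.card_eq_fintype_card (α := Bool), Fintype.card_bool, mul_comm] at this
      exact this
    -- A ≠ P
    have hlt : Nat.card (Subgroup.zpowers σ) < Nat.card (P : Subgroup G) := by
      apply Set.ncard_lt_ncard (s := (Subgroup.zpowers σ : Set G)) (t := ((P : Subgroup G) : Set G))
        (Set.ssubset_iff_subset_ne.2 ⟨hAle, ?_⟩) (Set.toFinite _)
      intro h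
      apply hτA
      have : τ ∈ ((P : Subgroup G) : Set G) := hτ
      rw [← h] at this
      exact this
    rw [hcardA] at hle2 hlt
    rw [hm] at hle2 hlt ⊢
    have h5 : n - 1 < m := (Nat.pow_lt_pow_iff_right (by norm_num)).1 hlt
    have h6 : 2 * 2 ^ (n - 1) = 2 ^ n := by
      have : n = (n - 1) + 1 := by omega
      conv_rhs => rw [this, pow_succ]
      ring
    rw [h6] at hle2
    have h7 : m ≤ n := (Nat.pow_le_pow_iff_right (by norm_num)).1 hle2
    have : m = n := by omega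
    rw [this]
  exact ⟨⟨hn, hσ, hσo, hcard, hinv⟩, hτA⟩

section retraction

variable {P : Sylow 2 G} {σ : G} {n : ℕ}

/-- `C_G(J)` has a normal 2-complement (as a subgroup of the subgroup type). -/
theorem exists_normal_complement_centralizer_J (hd : DihData P σ n) :
    ∃ K : Subgroup (Subgroup.centralizer ({σ ^ (2 ^ (n - 2))} : Set G)),
      K.Normal ∧ Odd (Nat.card K) ∧ ∃ k : ℕ, K.index = 2 ^ k := by
  have hJH : σ ^ (2 ^ (n - 2)) ∈ Subgroup.centralizer ({σ ^ (2 ^ (n - 2))} : Set G) := by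
    rw [Subgroup.mem_centralizer_iff]
    intro y hy
    rw [Set.mem_singleton_iff] at hy
    rw [hy]
  have hcen : (⟨σ ^ (2 ^ (n - 2)), hJH⟩ : Subgroup.centralizer ({σ ^ (2 ^ (n - 2))} : Set G)) ∈
      Subgroup.center (Subgroup.centralizer ({σ ^ (2 ^ (n - 2))} : Set G)) := by
    rw [Subgroup.mem_center_iff]
    intro y
    apply Subtype.ext
    have hy2 : (y : G) ∈ Subgroup.centralizer ({σ ^ (2 ^ (n - 2))} : Set G) := y.2
    rw [Subgroup.mem_centralizer_iff] at hy2
    simp only [Subgroup.coe_mul]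
    exact (hy2 _ rfl).symm
  have hord : orderOf (⟨σ ^ (2 ^ (n - 2)), hJH⟩ :
      Subgroup.centralizer ({σ ^ (2 ^ (n - 2))} : Set G)) = 2 := by
    rw [Subgroup.orderOf_mk]; exact hd.orderOf_J
  exact Helper55.exists_normal_two_complement_of_dihType _ _ rfl
    (fun U hU => Helper55.DihType.of_map (Subgroup.subtype _) (Subgroup.subtype_injective _)
      (hd.dihType_of_isPGroup (U.map (Subgroup.subtype _)) (hU.map _))) _ hcen hord

/-- The retraction of `C_G(J)` onto the Sylow 2-subgroup `P`, with kernel the elements of odd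
order. -/
theorem exists_retraction (hd : DihData P σ n) :
    ∃ r : Subgroup.centralizer ({σ ^ (2 ^ (n - 2))} : Set G) →* (P : Subgroup G),
      (∀ (y : G) (hy : y ∈ (P : Subgroup G)), r ⟨y, hd.P_le_centralizer_J hy⟩ = ⟨y, hy⟩) ∧
      (∀ h, r h = 1 ↔ Odd (orderOf h)) := by
  obtain ⟨K, hKn, hKodd, k, hk⟩ := exists_normal_complement_centralizer_J hd
  haveI := hKn
  let ι : (P : Subgroup G) →* Subgroup.centralizer ({σ ^ (2 ^ (n - 2))} : Set G) :=
    Subgroup.inclusion hd.P_le_centralizer_J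
  let q := QuotientGroup.mk' K
  let φ := q.comp ι
  have hinj : Function.Injective φ := by
    rw [injective_iff_map_eq_one]
    intro y hy
    have hyK : ι y ∈ K := (QuotientGroup.eq_one_iff _).1 hy
    have h1 : Odd (orderOf (ι y)) := (Helper55.mem_iff_odd_orderOf hKn hKodd hk _).1 hyK
    obtain ⟨j, hj⟩ := (IsPGroup.iff_orderOf.mp P.2) y
    have h2 : orderOf (ι y) = orderOf y := by
      rw [← Subgroup.orderOf_coe, ← Subgroup.orderOf_coe]
      rfl
    rw [h2, hj] at h1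
    have hj0 : j = 0 := by
      by_contra hne
      exact (Nat.not_even_iff_odd.2 h1) (Nat.even_pow.2 ⟨even_two, hne⟩)
    rw [hj0, pow_zero, orderOf_eq_one_iff] at hj
    exact hj
  have hcard : Nat.card (P : Subgroup G) =
      Nat.card (Subgroup.centralizer ({σ ^ (2 ^ (n - 2))} : Set G) ⧸ K) := by
    rw [hd.card, ← Subgroup.index_eq_card, hk]
    have h1 := Subgroup.card_mul_index K
    rw [hk] at h1
    have h2 := hd.factorization_card_centralizer_J
    rw [← h1, Nat.factorization_mul (Nat.card_pos.ne') (by positivity),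
      Nat.factorization_pow] at h2
    simp only [Finsupp.coe_add, Finsupp.coe_smul, Pi.add_apply, Pi.smul_apply, smul_eq_mul,
      Nat.prime_two.factorization_self, mul_one] at h2
    have h3 : (Nat.card K).factorization 2 = 0 := by
      apply Nat.factorization_eq_zero_of_not_dvd
      rw [← even_iff_two_dvd, Nat.not_even_iff_odd]
      exact hKodd
    rw [h3, zero_add] at h2
    rw [h2]
  have hbij : Function.Bijective φ := (Nat.bijective_iff_injective_and_card φ).2 ⟨hinj, hcard⟩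
  let e := MulEquiv.ofBijective φ hbij
  refine ⟨e.symm.toMonoidHom.comp q, ?_, ?_⟩
  · intro y hy
    show e.symm (q (ι ⟨y, hy⟩)) = ⟨y, hy⟩
    have : q (ι ⟨y, hy⟩) = e ⟨y, hy⟩ := rfl
    rw [this, MulEquiv.symm_apply_apply]
  · intro h
    show e.symm (q h) = 1 ↔ _
    rw [← (Helper55.mem_iff_odd_orderOf hKn hKodd hk h), ← QuotientGroup.eq_one_iff (N := K) h]
    constructor
    · intro h1
      have := congrArg e h1
      rwa [MulEquiv.apply_symm_apply, map_one] at this
    · intro h1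
      show e.symm (q h) = 1
      have : q h = 1 := h1
      rw [this, map_one]

end retraction

section KL

variable {P : Sylow 2 G} {σ : G} {n : ℕ}

/-- (KL) a class function constant on 2-sections takes at `h ∈ C_G(J)` the value at the retraction
of `h`. -/
theorem apply_eq_apply_retraction (hd : DihData P σ n)
    (r : Subgroup.centralizer ({σ ^ (2 ^ (n - 2))} : Set G) →* (P : Subgroup G))
    (hr1 : ∀ (y : G) (hy : y ∈ (P : Subgroup G)), r ⟨y, hd.P_le_centralizer_J hy⟩ = ⟨y, hy⟩)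
    (hr2 : ∀ h, r h = 1 ↔ Odd (orderOf h))
    (Ψ : G → ℂ) (hcl : IsClassFunction G Ψ)
    (hΨ1 : ∀ π ρ : G, (∃ k : ℕ, orderOf π = 2 ^ k) → π ≠ 1 → Commute π ρ → Odd (orderOf ρ) →
      Ψ (π * ρ) = Ψ π)
    (h : Subgroup.centralizer ({σ ^ (2 ^ (n - 2))} : Set G)) (hne : r h ≠ 1) :
    Ψ (h : G) = Ψ ((r h : (P : Subgroup G)) : G) := by
  haveI : Fact (Nat.Prime 2) := ⟨Nat.prime_two⟩
  obtain ⟨π, ρ, hπρ, hcomm, ⟨k, hk⟩, hρ⟩ := Helper16.exists_isPPart 2 Nat.prime_two h
  have hρodd : Odd (orderOf ρ) := by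
    rw [← Nat.not_even_iff_odd, even_iff_two_dvd]; exact hρ
  have hrρ : r ρ = 1 := (hr2 ρ).2 hρodd
  have hrh : r h = r π := by rw [← hπρ, map_mul, hrρ, mul_one]
  have hπ1 : π ≠ 1 := by
    intro h1
    apply hne
    rw [hrh, h1, map_one]
  -- conjugate π into P inside C
  let P' : Sylow 2 (Subgroup.centralizer ({σ ^ (2 ^ (n - 2))} : Set G)) :=
    P.subtype hd.P_le_centralizer_J
  have hpg : IsPGroup 2 (Subgroup.zpowers π) :=
    IsPGroup.of_card (n := k) (by rw [Nat.card_zpowers, hk])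
  obtain ⟨c, hc⟩ := exists_conj_mem_sylow P' (Subgroup.zpowers π) hpg
  have hmem := hc π (Subgroup.mem_zpowers π)
  have hmem' : ((c⁻¹ * π * c : Subgroup.centralizer ({σ ^ (2 ^ (n - 2))} : Set G)) : G) ∈
      (P : Subgroup G) := by
    have : (c⁻¹ * π * c) ∈ (P : Subgroup G).subgroupOf
        (Subgroup.centralizer ({σ ^ (2 ^ (n - 2))} : Set G)) := by
      rw [← Sylow.coe_subtype]; exact hmem
    exact Subgroup.mem_subgroupOf.1 this
  have h1 := hr1 _ hmem'
  have h2 : r (c⁻¹ * π * c) = (r c)⁻¹ * r π * r c := by rw [map_mul, map_mul, map_inv]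
  have h3 : (⟨((c⁻¹ * π * c : Subgroup.centralizer ({σ ^ (2 ^ (n - 2))} : Set G)) : G),
      hd.P_le_centralizer_J hmem'⟩ : Subgroup.centralizer ({σ ^ (2 ^ (n - 2))} : Set G)) =
      c⁻¹ * π * c := Subtype.ext rfl
  rw [h3, h2] at h1
  have h4 : (((r c)⁻¹ * r π * r c : (P : Subgroup G)) : G) =
      ((c⁻¹ * π * c : Subgroup.centralizer ({σ ^ (2 ^ (n - 2))} : Set G)) : G) :=
    congrArg Subtype.val h1
  simp only [Subgroup.coe_mul, Subgroup.coe_inv] at h4
  -- now compute Ψ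
  have e1 : Ψ (h : G) = Ψ (π : G) := by
    rw [← hπρ, Subgroup.coe_mul]
    apply hΨ1
    · exact ⟨k, by rw [Subgroup.orderOf_coe, hk]⟩
    · intro h0
      apply hπ1
      exact Subtype.ext h0
    · have := congrArg Subtype.val hcomm.eq
      simp only [Subgroup.coe_mul] at this
      exact this
    · rw [Subgroup.orderOf_coe]; exact hρodd
  have e2 : Ψ (π : G) = Ψ ((c : G)⁻¹ * (π : G) * (c : G)) := by
    have := hcl (π : G) (c : G)⁻¹
    rw [inv_inv] at this
    exact this.symm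
  have e3 : Ψ (((r c : (P : Subgroup G)) : G)⁻¹ * ((r π : (P : Subgroup G)) : G) *
      ((r c : (P : Subgroup G)) : G)) = Ψ ((r π : (P : Subgroup G)) : G) := by
    have := hcl ((r π : (P : Subgroup G)) : G) ((r c : (P : Subgroup G)) : G)⁻¹
    rw [inv_inv] at this
    exact this
  rw [e1, e2, ← h4, e3, hrh]

end KL

open Classical in
/-- The linear character `σ^k ↦ ζ^k` of `⟨σ⟩`, extended by zero. -/
noncomputable def lam {G : Type*} [Group G] (σ : G) (ζ : ℂ) (a : G) : ℂ :=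
  if h : a ∈ Subgroup.zpowers σ then ζ ^ (Classical.choose (Subgroup.mem_zpowers_iff.1 h)) else 0

theorem lam_zpow {G : Type*} [Group G] {σ : G} {ζ : ℂ} {N : ℕ} (hN : orderOf σ = N)
    (hN0 : 0 < N) (hζ : ζ ^ N = 1) (k : ℤ) : lam σ ζ (σ ^ k) = ζ ^ k := by
  have hmem : σ ^ k ∈ Subgroup.zpowers σ := Subgroup.zpow_mem_zpowers σ k
  unfold lam
  rw [dif_pos hmem]
  have hspec := Classical.choose_spec (Subgroup.mem_zpowers_iff.1 hmem)
  set k₀ := Classical.choose (Subgroup.mem_zpowers_iff.1 hmem) with hk₀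
  have hmod : k₀ ≡ k [ZMOD (orderOf σ : ℤ)] := zpow_eq_zpow_iff_modEq.1 hspec
  rw [hN] at hmod
  obtain ⟨c, hc⟩ := hmod.symm.dvd
  have : k₀ = k + (N : ℤ) * c := by omega
  have hζ0 : ζ ≠ 0 := by
    intro h0
    rw [h0, zero_pow hN0.ne'] at hζ
    exact zero_ne_one hζ
  rw [this, zpow_add₀ hζ0, zpow_mul, zpow_natCast, hζ, one_zpow, mul_one]

section P4fin

variable {G : Type*} [Group G] [Fintype G] [DecidableEq G]


variable {P : Sylow 2 G} {σ : G} {n : ℕ}

/-- The retraction as a total function on `G`, with its properties. -/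
theorem exists_retraction_fun (hd : DihData P σ n) (Ψ : G → ℂ) (hcl : IsClassFunction G Ψ)
    (hΨ1 : ∀ π ρ : G, (∃ k : ℕ, orderOf π = 2 ^ k) → π ≠ 1 → Commute π ρ → Odd (orderOf ρ) →
      Ψ (π * ρ) = Ψ π) :
    ∃ R : G → G,
      (∀ g g', g * σ ^ (2 ^ (n - 2)) = σ ^ (2 ^ (n - 2)) * g →
        g' * σ ^ (2 ^ (n - 2)) = σ ^ (2 ^ (n - 2)) * g' → R (g * g') = R g * R g') ∧
      (∀ y ∈ (P : Subgroup G), R y = y) ∧ (∀ g, R g ∈ (P : Subgroup G)) ∧
      (∀ g, g * σ ^ (2 ^ (n - 2)) = σ ^ (2 ^ (n - 2)) * g → (R g = 1 ↔ Odd (orderOf g))) ∧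
      (∀ g, g * σ ^ (2 ^ (n - 2)) = σ ^ (2 ^ (n - 2)) * g → R g ≠ 1 → Ψ g = Ψ (R g)) := by
  classical
  obtain ⟨r, hr1, hr2⟩ := exists_retraction hd
  have hmemC : ∀ g, g * σ ^ (2 ^ (n - 2)) = σ ^ (2 ^ (n - 2)) * g →
      g ∈ Subgroup.centralizer ({σ ^ (2 ^ (n - 2))} : Set G) := by
    intro g hg
    rw [Subgroup.mem_centralizer_iff]
    intro y hy
    rw [Set.mem_singleton_iff] at hy
    rw [hy]; exact hg.symm
  refine ⟨fun g => if hg : g ∈ Subgroup.centralizer ({σ ^ (2 ^ (n - 2))} : Set G) then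
    ((r ⟨g, hg⟩ : (P : Subgroup G)) : G) else 1, ?_, ?_, ?_, ?_, ?_⟩
  · intro g g' hg hg'
    have h1 := hmemC g hg
    have h2 := hmemC g' hg'
    have h3 := Subgroup.mul_mem _ h1 h2
    simp only [dif_pos h1, dif_pos h2, dif_pos h3]
    have : (⟨g * g', h3⟩ : Subgroup.centralizer ({σ ^ (2 ^ (n - 2))} : Set G)) =
        ⟨g, h1⟩ * ⟨g', h2⟩ := rfl
    rw [this, map_mul, Subgroup.coe_mul]
  · intro y hy
    have h1 := hd.P_le_centralizer_J hy
    simp only [dif_pos h1]
    rw [hr1 y hy]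
  · intro g
    by_cases hg : g ∈ Subgroup.centralizer ({σ ^ (2 ^ (n - 2))} : Set G)
    · simp only [dif_pos hg]
      exact (r ⟨g, hg⟩).2
    · simp only [dif_neg hg]
      exact Subgroup.one_mem _
  · intro g hg
    have h1 := hmemC g hg
    simp only [dif_pos h1]
    rw [← Subgroup.orderOf_mk g h1, ← hr2 ⟨g, h1⟩]
    constructor
    · intro h
      exact Subtype.ext h
    · intro h
      rw [h]; rfl
  · intro g hg hne
    have h1 := hmemC g hg
    simp only [dif_pos h1] at hne ⊢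
    have := apply_eq_apply_retraction hd r hr1 hr2 Ψ hcl hΨ1 ⟨g, h1⟩ (by
      intro h
      apply hne
      rw [h]; rfl)
    exact this

/-- An element of `A = ⟨σ⟩` of order two is `J`. -/
theorem eq_J_of_mem_A_of_sq (hd : DihData P σ n) {a : G} (ha : a ∈ Subgroup.zpowers σ)
    (ha1 : a ≠ 1) (ha2 : a * a = 1) : a = σ ^ (2 ^ (n - 2)) := by
  obtain ⟨l, rfl⟩ := (mem_powers_iff_mem_zpowers).2 ha
  simp only at ha1 ha2 ⊢
  have hN : 0 < 2 ^ (n - 1) := by positivity
  have h1 : σ ^ l = σ ^ (l % 2 ^ (n - 1)) := by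
    rw [← hd.order]; exact (pow_mod_orderOf σ l).symm
  rw [h1] at ha1 ha2 ⊢
  have hl : l % 2 ^ (n - 1) < 2 ^ (n - 1) := Nat.mod_lt _ hN
  have hl1 : 1 ≤ l % 2 ^ (n - 1) := by
    rcases Nat.eq_zero_or_pos (l % 2 ^ (n - 1)) with h | h
    · rw [h, pow_zero] at ha1; exact absurd rfl ha1
    · exact h
  rw [(hd.pow_sq_eq_one_iff hl1 hl).1 ha2]

theorem sum_pairs_centralizer_J (hd : DihData P σ n) (τ : G) (hτ : τ ∈ (P : Subgroup G))
    (hτA : τ ∉ Subgroup.zpowers σ) (ζ : ℂ) (hζ : IsPrimitiveRoot ζ (2 ^ (n - 1)))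
    (Ψ : G → ℂ) (hcl : IsClassFunction G Ψ)
    (hΨ1 : ∀ π ρ : G, (∃ k : ℕ, orderOf π = 2 ^ k) → π ≠ 1 → Commute π ρ → Odd (orderOf ρ) →
      Ψ (π * ρ) = Ψ π)
    (hΨ2 : ∀ g : G, Odd (orderOf g) → Ψ g = 0)
    (hΨ3 : ∀ l : ℕ, 1 ≤ l → l < 2 ^ (n - 1) → Ψ (σ ^ l) = 2 - ζ ^ l - (ζ ^ l)⁻¹) :
    (∑ u ∈ Finset.univ.filter (fun u : G => orderOf u = 2 ∧
          u * σ ^ (2 ^ (n - 2)) = σ ^ (2 ^ (n - 2)) * u ∧ u ≠ σ ^ (2 ^ (n - 2))),
        ∑ v ∈ Finset.univ.filter (fun u : G => orderOf u = 2 ∧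
          u * σ ^ (2 ^ (n - 2)) = σ ^ (2 ^ (n - 2)) * u ∧ u ≠ σ ^ (2 ^ (n - 2))), Ψ (u * v) =
      2 * ((Finset.univ.filter (fun u : G => orderOf u = 2 ∧
          u * σ ^ (2 ^ (n - 2)) = σ ^ (2 ^ (n - 2)) * u ∧ u ≠ σ ^ (2 ^ (n - 2)))).card : ℂ) ^ 2) ∧
    (∀ u v : G, orderOf u = 2 → u * σ ^ (2 ^ (n - 2)) = σ ^ (2 ^ (n - 2)) * u →
      u ≠ σ ^ (2 ^ (n - 2)) → orderOf v = 2 → v * σ ^ (2 ^ (n - 2)) = σ ^ (2 ^ (n - 2)) * v →
      v ≠ σ ^ (2 ^ (n - 2)) → Ψ (u * v) ≠ 0 → σ ^ (2 ^ (n - 2)) ∈ Subgroup.zpowers (u * v)) := by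
  obtain ⟨R, hRmul, hRP, hRmem, hRone, hRKL⟩ := exists_retraction_fun hd Ψ hcl hΨ1
  set J := σ ^ (2 ^ (n - 2)) with hJdef
  set IJ := Finset.univ.filter (fun u : G => orderOf u = 2 ∧ u * J = J * u ∧ u ≠ J) with hIJ
  have hN0 : 0 < 2 ^ (n - 1) := by positivity
  have h4 := hd.four_le
  have hζN : ζ ^ (2 ^ (n - 1)) = 1 := hζ.pow_eq_one
  have hζ0 : ζ ≠ 0 := hζ.ne_zero hN0.ne'
  have hττ : τ * τ = 1 := (hd.inv τ hτ hτA).1
  have hτinv : τ⁻¹ = τ := inv_eq_of_mul_eq_one_left hττ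
  have hJJ : J * J = 1 := hd.J_mul_self
  have hJP : J ∈ (P : Subgroup G) := hd.pow_mem _
  have hJA : J ∈ Subgroup.zpowers σ := DihData.pow_mem_A _
  have hsq : ∀ u : G, orderOf u = 2 → u * u = 1 := by
    intro u hu
    have := pow_orderOf_eq_one u
    rwa [hu, pow_two] at this
  have hR1 : R 1 = 1 := hRP 1 (Subgroup.one_mem _)
  -- lam
  have hlam : ∀ k : ℤ, lam σ ζ (σ ^ k) = ζ ^ k := lam_zpow hd.order hN0 hζN
  have hlam_mul : ∀ a ∈ Subgroup.zpowers σ, ∀ b ∈ Subgroup.zpowers σ,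
      lam σ ζ (a * b) = lam σ ζ a * lam σ ζ b := by
    intro a ha b hb
    obtain ⟨i, rfl⟩ := Subgroup.mem_zpowers_iff.1 ha
    obtain ⟨j, rfl⟩ := Subgroup.mem_zpowers_iff.1 hb
    rw [← zpow_add, hlam, hlam, hlam, zpow_add₀ hζ0]
  have hlam_inv : ∀ a ∈ Subgroup.zpowers σ, lam σ ζ a⁻¹ = (lam σ ζ a)⁻¹ := by
    intro a ha
    obtain ⟨i, rfl⟩ := Subgroup.mem_zpowers_iff.1 ha
    rw [← zpow_neg, hlam, hlam, zpow_neg]
  have hlam_ne : ∀ a ∈ Subgroup.zpowers σ, lam σ ζ a ≠ 0 := by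
    intro a ha
    obtain ⟨i, rfl⟩ := Subgroup.mem_zpowers_iff.1 ha
    rw [hlam]; exact zpow_ne_zero _ hζ0
  have hlam_one : lam σ ζ 1 = 1 := by
    have := hlam 0
    simpa using this
  -- Ψ on A
  have hΨA : ∀ b ∈ Subgroup.zpowers σ, b ≠ 1 → Ψ b = 2 - lam σ ζ b - (lam σ ζ b)⁻¹ := by
    intro b hb hb1
    obtain ⟨l, rfl⟩ := (mem_powers_iff_mem_zpowers).2 hb
    simp only at hb1 ⊢
    have h1 : σ ^ l = σ ^ (l % 2 ^ (n - 1)) := by
      rw [← hd.order]; exact (pow_mod_orderOf σ l).symm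
    rw [h1] at hb1 ⊢
    have hl : l % 2 ^ (n - 1) < 2 ^ (n - 1) := Nat.mod_lt _ hN0
    have hl1 : 1 ≤ l % 2 ^ (n - 1) := by
      rcases Nat.eq_zero_or_pos (l % 2 ^ (n - 1)) with h | h
      · rw [h, pow_zero] at hb1; exact absurd rfl hb1
      · exact h
    rw [hΨ3 _ hl1 hl]
    have := hlam ((l % 2 ^ (n - 1) : ℕ) : ℤ)
    rw [zpow_natCast, zpow_natCast] at this
    rw [this]
  -- facts on elements of IJ
  have hU : ∀ u : G, orderOf u = 2 → u * J = J * u → u ≠ J →
      R u ∈ (P : Subgroup G) ∧ R u ∉ Subgroup.zpowers σ ∧ R u * τ ∈ Subgroup.zpowers σ ∧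
      R u = R u * τ * τ := by
    intro u hu2 huJ hune
    have hRu2 : R u * R u = 1 := by rw [← hRmul u u huJ huJ, hsq u hu2, hR1]
    have hRu1 : R u ≠ 1 := by
      intro h
      have := (hRone u huJ).1 h
      rw [hu2] at this
      exact absurd this (by decide)
    have hnA : R u ∉ Subgroup.zpowers σ := by
      intro hA
      have hRJ : R u = J := eq_J_of_mem_A_of_sq hd hA hRu1 hRu2
      have hJJc : J * J = J * J := rfl
      have h1 : R (u * J) = 1 := by rw [hRmul u J huJ rfl, hRJ, hRP J hJP, hJJ]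
      have huJJ : u * J * J = J * (u * J) := by
        calc u * J * J = (J * u) * J := by rw [huJ]
          _ = J * (u * J) := mul_assoc _ _ _
      have h2 := (hRone (u * J) huJJ).1 h1
      have h3 : (u * J) ^ 2 = 1 := by
        rw [pow_two]
        calc u * J * (u * J) = u * (J * u) * J := by group
          _ = u * (u * J) * J := by rw [huJ]
          _ = (u * u) * (J * J) := by group
          _ = 1 := by rw [hsq u hu2, hJJ, one_mul]
      have h4 : orderOf (u * J) ∣ 2 := orderOf_dvd_of_pow_eq_one h3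
      have h5 : orderOf (u * J) = 1 := by
        rcases (Nat.dvd_prime Nat.prime_two).1 h4 with h | h
        · exact h
        · rw [h] at h2; exact absurd h2 (by decide)
      rw [orderOf_eq_one_iff] at h5
      apply hune
      calc u = u * J * J := by rw [mul_assoc, hJJ, mul_one]
        _ = J := by rw [h5, one_mul]
    refine ⟨hRmem u, hnA, hd.mul_mem_A (hRmem u) hτ hnA hτA, ?_⟩
    rw [mul_assoc, hττ, mul_one]
  have heqJ : ∀ z : G, orderOf z = 2 → z * J = J * z → R z = J → z = J := by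
    intro z hz2 hzJ hRz
    have h1 : R (z * J) = 1 := by rw [hRmul z J hzJ rfl, hRz, hRP J hJP, hJJ]
    have hzJJ : z * J * J = J * (z * J) := by
      calc z * J * J = (J * z) * J := by rw [hzJ]
        _ = J * (z * J) := mul_assoc _ _ _
    have h2 := (hRone (z * J) hzJJ).1 h1
    have h3 : (z * J) ^ 2 = 1 := by
      rw [pow_two]
      calc z * J * (z * J) = z * (J * z) * J := by group
        _ = z * (z * J) * J := by rw [hzJ]
        _ = (z * z) * (J * J) := by group
        _ = 1 := by rw [hsq z hz2, hJJ, one_mul]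
    have h4 : orderOf (z * J) ∣ 2 := orderOf_dvd_of_pow_eq_one h3
    have h5 : orderOf (z * J) = 1 := by
      rcases (Nat.dvd_prime Nat.prime_two).1 h4 with h | h
      · exact h
      · rw [h] at h2; exact absurd h2 (by decide)
    rw [orderOf_eq_one_iff] at h5
    calc z = z * J * J := by rw [mul_assoc, hJJ, mul_one]
      _ = J := by rw [h5, one_mul]
  have hcommJ : ∀ u v : G, u * J = J * u → v * J = J * v → (u * v) * J = J * (u * v) := by
    intro u v hu hv
    calc u * v * J = u * (v * J) := mul_assoc _ _ _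
      _ = u * (J * v) := by rw [hv]
      _ = (u * J) * v := (mul_assoc _ _ _).symm
      _ = (J * u) * v := by rw [hu]
      _ = J * (u * v) := mul_assoc _ _ _
  have hRuv : ∀ u v : G, orderOf u = 2 → u * J = J * u → u ≠ J → orderOf v = 2 → v * J = J * v →
      v ≠ J → R (u * v) = (R u * τ) * (R v * τ)⁻¹ := by
    intro u v hu2 huJ hune hv2 hvJ hvne
    obtain ⟨_, _, hau, hRu⟩ := hU u hu2 huJ hune
    obtain ⟨_, _, hav, hRv⟩ := hU v hv2 hvJ hvne
    rw [hRmul u v huJ hvJ]
    have h1 := hd.conj_inv hτ hτA hav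
    rw [hτinv] at h1
    calc R u * R v = (R u * τ * τ) * (R v * τ * τ) := by rw [← hRu, ← hRv]
      _ = (R u * τ) * (τ * (R v * τ) * τ) := by group
      _ = (R u * τ) * (R v * τ)⁻¹ := by rw [h1]
  set e : G → ℂ := fun u => lam σ ζ (R u * τ) with he
  have hΨuv : ∀ u v : G, orderOf u = 2 → u * J = J * u → u ≠ J → orderOf v = 2 → v * J = J * v →
      v ≠ J → (Ψ (u * v) = 2 - e u * (e v)⁻¹ - e v * (e u)⁻¹ ∧
        (Ψ (u * v) ≠ 0 → R (u * v) ≠ 1 ∧ R (u * v) ∈ Subgroup.zpowers σ)) := by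
    intro u v hu2 huJ hune hv2 hvJ hvne
    obtain ⟨_, _, hau, _⟩ := hU u hu2 huJ hune
    obtain ⟨_, _, hav, _⟩ := hU v hv2 hvJ hvne
    have hR := hRuv u v hu2 huJ hune hv2 hvJ hvne
    have huvJ := hcommJ u v huJ hvJ
    have hea : e u ≠ 0 := hlam_ne _ hau
    have heb : e v ≠ 0 := hlam_ne _ hav
    by_cases hab : R u * τ = R v * τ
    · have h1 : R (u * v) = 1 := by rw [hR, hab, mul_inv_cancel]
      have h2 : Ψ (u * v) = 0 := hΨ2 _ ((hRone _ huvJ).1 h1)
      have h3 : e u = e v := by simp only [he, hab]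
      refine ⟨?_, fun h => absurd h2 h⟩
      rw [h2, h3, mul_inv_cancel₀ heb]; ring
    · have h1 : R (u * v) ≠ 1 := by
        rw [hR]
        intro h
        apply hab
        exact mul_inv_eq_one.1 h
      have hmem : (R u * τ) * (R v * τ)⁻¹ ∈ Subgroup.zpowers σ :=
        Subgroup.mul_mem _ hau (Subgroup.inv_mem _ hav)
      refine ⟨?_, fun _ => ⟨h1, by rw [hR]; exact hmem⟩⟩
      rw [hRKL _ huvJ h1, hR, hΨA _ hmem (by rw [← hR]; exact h1),
        hlam_mul _ hau _ (Subgroup.inv_mem _ hav), hlam_inv _ hav]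
      simp only [he]
      rw [mul_inv_rev, inv_inv]
  -- R of powers
  have hRpow : ∀ g : G, g * J = J * g → ∀ k : ℕ, g ^ k * J = J * g ^ k ∧ R (g ^ k) = R g ^ k := by
    intro g hg k
    induction k with
    | zero => simp [hR1]
    | succ k ih =>
      rw [pow_succ]
      exact ⟨hcommJ _ _ ih.1 hg, by rw [hRmul _ _ ih.1 hg, ih.2, pow_succ]⟩
  refine ⟨?_, ?_⟩
  · -- the sum
    have hmemIJ : ∀ u, u ∈ IJ ↔ (orderOf u = 2 ∧ u * J = J * u ∧ u ≠ J) := by
      intro u; rw [hIJ, Finset.mem_filter]; simp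
    have hσJ : σ * J = J * σ := hd.J_comm hd.mem
    have hσiJ : σ⁻¹ * J = J * σ⁻¹ := hd.J_comm (Subgroup.inv_mem _ hd.mem)
    have hconjmem : ∀ u, u ∈ IJ ↔ σ * u * σ⁻¹ ∈ IJ := by
      intro u
      rw [hmemIJ, hmemIJ]
      have hord : orderOf (σ * u * σ⁻¹) = orderOf u := by
        have := MulEquiv.orderOf_eq (MulAut.conj σ) u
        rwa [MulAut.conj_apply] at this
      rw [hord]
      have hc : (σ * u * σ⁻¹) * J = J * (σ * u * σ⁻¹) ↔ u * J = J * u := by
        constructor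
        · intro h
          have h2 : u = σ⁻¹ * (σ * u * σ⁻¹) * σ := by group
          rw [h2]
          exact hcommJ _ _ (hcommJ _ _ hσiJ h) hσJ
        · intro h
          exact hcommJ _ _ (hcommJ _ _ hσJ h) hσiJ
      have hn : σ * u * σ⁻¹ ≠ J ↔ u ≠ J := by
        constructor
        · intro h h2
          apply h
          rw [h2, hσJ, mul_assoc, mul_inv_cancel, mul_one]
        · intro h h2
          apply h
          have : u = σ⁻¹ * (σ * u * σ⁻¹) * σ := by group
          rw [this, h2, hσiJ, mul_assoc, inv_mul_cancel, mul_one]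
      rw [hc, hn]
    have heconj : ∀ u ∈ IJ, e (σ * u * σ⁻¹) = ζ ^ 2 * e u := by
      intro u hu
      obtain ⟨hu2, huJ, hune⟩ := (hmemIJ u).1 hu
      obtain ⟨_, _, hau, hRu⟩ := hU u hu2 huJ hune
      have h1 : R (σ * u * σ⁻¹) = σ * R u * σ⁻¹ := by
        rw [hRmul _ _ (hcommJ _ _ hσJ huJ) hσiJ, hRmul _ _ hσJ huJ, hRP σ hd.mem,
          hRP σ⁻¹ (Subgroup.inv_mem _ hd.mem)]
      have h2 : τ * σ⁻¹ * τ = σ := by
        have := (hd.inv τ hτ hτA).2
        rw [hτinv] at this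
        have h3 : τ * σ⁻¹ * τ = (τ * σ * τ)⁻¹ := by rw [mul_inv_rev, mul_inv_rev, hτinv, mul_assoc]
        rw [h3, this, inv_inv]
      have h3 : σ * R u * σ⁻¹ * τ = σ * ((R u * τ) * σ) := by
        calc σ * R u * σ⁻¹ * τ = σ * (R u * τ * τ) * σ⁻¹ * τ := by rw [← hRu]
          _ = σ * ((R u * τ) * (τ * σ⁻¹ * τ)) := by group
          _ = σ * ((R u * τ) * σ) := by rw [h2]
      have hσA : σ ∈ Subgroup.zpowers σ := Subgroup.mem_zpowers σ
      have hlσ : lam σ ζ σ = ζ := by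
        have := hlam 1
        rwa [zpow_one, zpow_one] at this
      simp only [he]
      rw [h1, h3, hlam_mul _ hσA _ (Subgroup.mul_mem _ hau hσA), hlam_mul _ hau _ hσA, hlσ]
      ring
    have hΛ : ∑ u ∈ IJ, e u = 0 := by
      have h1 : ∑ u ∈ IJ, e (σ * u * σ⁻¹) = ∑ u ∈ IJ, e u :=
        Finset.sum_equiv (MulAut.conj σ).toEquiv (fun u => by
          rw [hconjmem u]; rfl) (fun u _ => rfl)
      rw [Finset.sum_congr rfl heconj, ← Finset.mul_sum] at h1
      have hζ2 : ζ ^ 2 ≠ 1 := hζ.pow_ne_one_of_pos_of_lt (by norm_num) (by omega)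
      have h2 : (ζ ^ 2 - 1) * ∑ u ∈ IJ, e u = 0 := by rw [sub_mul, h1, one_mul, sub_self]
      rcases mul_eq_zero.1 h2 with h | h
      · exact absurd (sub_eq_zero.1 h) hζ2
      · exact h
    have hsum : ∀ u ∈ IJ, ∀ v ∈ IJ, Ψ (u * v) = 2 - e u * (e v)⁻¹ - e v * (e u)⁻¹ := by
      intro u hu v hv
      obtain ⟨hu2, huJ, hune⟩ := (hmemIJ u).1 hu
      obtain ⟨hv2, hvJ, hvne⟩ := (hmemIJ v).1 hv
      exact (hΨuv u v hu2 huJ hune hv2 hvJ hvne).1
    rw [Finset.sum_congr rfl (fun u hu => Finset.sum_congr rfl (fun v hv => hsum u hu v hv))]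
    simp only [Finset.sum_sub_distrib, Finset.sum_const, ← Finset.mul_sum, ← Finset.sum_mul]
    rw [hΛ]
    simp only [nsmul_eq_mul, zero_mul, Finset.sum_const_zero, sub_zero]
    ring
  · intro u v hu2 huJ hune hv2 hvJ hvne hΨne
    obtain ⟨hR1', hRA⟩ := (hΨuv u v hu2 huJ hune hv2 hvJ hvne).2 hΨne
    have huvJ := hcommJ u v huJ hvJ
    have heven : Even (orderOf (u * v)) := by
      rw [← Nat.not_odd_iff_even]
      intro h
      exact hR1' ((hRone _ huvJ).2 h)
    obtain ⟨m', hm'⟩ := heven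
    have hm'pos : 0 < m' := by
      have := orderOf_pos (u * v)
      omega
    have hz2 : orderOf ((u * v) ^ m') = 2 := by
      rw [orderOf_pow_of_dvd hm'pos.ne' ⟨2, by omega⟩, hm']
      have : m' + m' = 2 * m' := by ring
      rw [this, Nat.mul_div_cancel _ hm'pos]
    obtain ⟨hzJ, hRz⟩ := hRpow (u * v) huvJ m'
    have hRzA : R ((u * v) ^ m') ∈ Subgroup.zpowers σ := by
      rw [hRz]; exact Subgroup.pow_mem _ hRA _
    have hRz1 : R ((u * v) ^ m') ≠ 1 := by
      intro h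
      have := (hRone _ hzJ).1 h
      rw [hz2] at this
      exact absurd this (by decide)
    have hRzz : R ((u * v) ^ m') * R ((u * v) ^ m') = 1 := by
      rw [← hRmul _ _ hzJ hzJ, hsq _ hz2, hR1]
    have hRzJ := eq_J_of_mem_A_of_sq hd hRzA hRz1 hRzz
    have := heqJ _ hz2 hzJ hRzJ
    rw [← this]
    exact Subgroup.pow_mem _ (Subgroup.mem_zpowers _) _

end P4fin

section grouping

variable {G : Type*} [Group G] [Fintype G] [DecidableEq G]

/-- A finite cyclic group `⟨g⟩` contains an involution iff `|g|` is even, and then exactly one. -/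
theorem involution_mem_zpowers_iff {g z : G} :
    (orderOf z = 2 ∧ z ∈ Subgroup.zpowers g) ↔
      (Even (orderOf g) ∧ z = g ^ (orderOf g / 2)) := by
  constructor
  · rintro ⟨hz2, hz⟩
    have hdvd : orderOf z ∣ orderOf g := orderOf_dvd_of_mem_zpowers hz
    rw [hz2] at hdvd
    have heven : Even (orderOf g) := even_iff_two_dvd.2 hdvd
    refine ⟨heven, ?_⟩
    obtain ⟨m, hm⟩ := hdvd
    have hmpos : 0 < m := by
      have := orderOf_pos g
      omega
    have hm2 : orderOf g / 2 = m := by rw [hm]; exact Nat.mul_div_cancel_left m (by norm_num)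
    rw [hm2]
    obtain ⟨k, rfl⟩ := (mem_powers_iff_mem_zpowers).2 hz
    simp only at hz2 ⊢
    have hzz : (g ^ k) ^ 2 = 1 := by rw [← hz2]; exact pow_orderOf_eq_one _
    rw [← pow_mul] at hzz
    have h1 : orderOf g ∣ k * 2 := orderOf_dvd_of_pow_eq_one hzz
    rw [hm, mul_comm k 2] at h1
    have h2 : m ∣ k := (Nat.mul_dvd_mul_iff_left (by norm_num)).1 h1
    obtain ⟨j, rfl⟩ := h2
    rw [pow_mul]
    have hgm2 : (g ^ m) ^ 2 = 1 := by
      rw [← pow_mul, mul_comm, ← hm]; exact pow_orderOf_eq_one g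
    rcases Nat.even_or_odd j with hj | hj
    · exfalso
      obtain ⟨j', rfl⟩ := hj
      have : (g ^ m) ^ (j' + j') = 1 := by
        rw [← two_mul, pow_mul, hgm2, one_pow]
      rw [pow_mul, this, orderOf_one] at hz2
      omega
    · obtain ⟨j', rfl⟩ := hj
      rw [pow_succ, pow_mul, hgm2, one_pow, one_mul]
  · rintro ⟨heven, rfl⟩
    obtain ⟨m, hm⟩ := heven
    have hmpos : 0 < m := by
      have := orderOf_pos g
      omega
    have hm2 : orderOf g / 2 = m := by
      rw [hm, ← two_mul]; exact Nat.mul_div_cancel_left m (by norm_num)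
    rw [hm2]
    refine ⟨?_, Subgroup.pow_mem _ (Subgroup.mem_zpowers g) _⟩
    rw [orderOf_pow_of_dvd hmpos.ne' ⟨2, by omega⟩, hm, ← two_mul, Nat.mul_div_cancel _ hmpos]

theorem card_involutions_zpowers (g : G) :
    ((Finset.univ.filter (fun z : G => orderOf z = 2)).filter
      (fun z => z ∈ Subgroup.zpowers g)).card = if Even (orderOf g) then 1 else 0 := by
  by_cases heven : Even (orderOf g)
  · rw [if_pos heven]
    rw [Finset.card_eq_one]
    refine ⟨g ^ (orderOf g / 2), ?_⟩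
    ext z
    simp only [Finset.mem_filter, Finset.mem_univ, true_and, Finset.mem_singleton]
    rw [involution_mem_zpowers_iff]
    exact ⟨fun h => h.2, fun h => ⟨heven, h⟩⟩
  · rw [if_neg heven, Finset.card_eq_zero]
    ext z
    simp only [Finset.mem_filter, Finset.mem_univ, true_and, Finset.notMem_empty, iff_false]
    rw [involution_mem_zpowers_iff]
    exact fun h => heven h.1

/-- Grouping the pairs of involutions by the central involution of the dihedral group they
generate. -/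
theorem sum_pairs_involutions (J : G) (hJ : orderOf J = 2)
    (hone : ∀ u : G, orderOf u = 2 → IsConj J u) (Ψ : G → ℂ) (hcl : IsClassFunction G Ψ)
    (hodd : ∀ g : G, Odd (orderOf g) → Ψ g = 0) :
    ∑ u ∈ Finset.univ.filter (fun u : G => orderOf u = 2),
      ∑ v ∈ Finset.univ.filter (fun u : G => orderOf u = 2), Ψ (u * v) =
    ((Finset.univ.filter (fun u : G => orderOf u = 2)).card : ℂ) *
      ∑ u ∈ Finset.univ.filter (fun u : G => orderOf u = 2),
        ∑ v ∈ Finset.univ.filter (fun u : G => orderOf u = 2),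
          (if J ∈ Subgroup.zpowers (u * v) then Ψ (u * v) else 0) := by
  set Inv := Finset.univ.filter (fun u : G => orderOf u = 2) with hInv
  have hmemInv : ∀ u, u ∈ Inv ↔ orderOf u = 2 := by
    intro u; rw [hInv, Finset.mem_filter]; simp
  -- step 2
  have h2 : ∀ g : G, Ψ g = ∑ z ∈ Inv, (if z ∈ Subgroup.zpowers g then Ψ g else 0) := by
    intro g
    rw [← Finset.sum_filter, Finset.sum_const, card_involutions_zpowers g]
    by_cases heven : Even (orderOf g)
    · rw [if_pos heven, one_smul]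
    · rw [if_neg heven, zero_smul]
      exact hodd g (Nat.not_even_iff_odd.1 heven)
  -- T(z) = T(J)
  have hT : ∀ z ∈ Inv, ∑ u ∈ Inv, ∑ v ∈ Inv, (if z ∈ Subgroup.zpowers (u * v) then Ψ (u * v) else 0) =
      ∑ u ∈ Inv, ∑ v ∈ Inv, (if J ∈ Subgroup.zpowers (u * v) then Ψ (u * v) else 0) := by
    intro z hz
    obtain ⟨c, hc⟩ := isConj_iff.1 (hone z ((hmemInv z).1 hz))
    have hconjmem : ∀ u, u ∈ Inv ↔ (MulAut.conj c).toEquiv u ∈ Inv := by
      intro u
      rw [hmemInv, hmemInv]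
      show orderOf u = 2 ↔ orderOf (MulAut.conj c u) = 2
      rw [MulEquiv.orderOf_eq]
    symm
    refine Finset.sum_equiv (MulAut.conj c).toEquiv hconjmem (fun u _ => ?_)
    refine Finset.sum_equiv (MulAut.conj c).toEquiv hconjmem (fun v _ => ?_)
    show _ = if z ∈ Subgroup.zpowers (MulAut.conj c u * MulAut.conj c v) then
      Ψ (MulAut.conj c u * MulAut.conj c v) else 0
    rw [← map_mul, MulAut.conj_apply, hcl]
    have hiff : z ∈ Subgroup.zpowers (c * (u * v) * c⁻¹) ↔ J ∈ Subgroup.zpowers (u * v) := by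
      rw [← hc]
      constructor
      · intro h
        obtain ⟨k, hk⟩ := Subgroup.mem_zpowers_iff.1 h
        rw [conj_zpow] at hk
        have : (u * v) ^ k = J := by
          have := mul_left_cancel (mul_right_cancel hk)
          exact this
        rw [← this]; exact Subgroup.zpow_mem_zpowers _ _
      · intro h
        obtain ⟨k, hk⟩ := Subgroup.mem_zpowers_iff.1 h
        rw [← hk, ← conj_zpow]
        exact Subgroup.zpow_mem_zpowers _ _
    by_cases h : J ∈ Subgroup.zpowers (u * v)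
    · rw [if_pos h, if_pos (hiff.2 h)]
    · rw [if_neg h, if_neg (fun h' => h (hiff.1 h'))]
  calc ∑ u ∈ Inv, ∑ v ∈ Inv, Ψ (u * v)
      = ∑ u ∈ Inv, ∑ v ∈ Inv, ∑ z ∈ Inv, (if z ∈ Subgroup.zpowers (u * v) then Ψ (u * v) else 0) :=
        Finset.sum_congr rfl (fun u _ => Finset.sum_congr rfl (fun v _ => h2 (u * v)))
    _ = ∑ z ∈ Inv, ∑ u ∈ Inv, ∑ v ∈ Inv, (if z ∈ Subgroup.zpowers (u * v) then Ψ (u * v) else 0) := by
        rw [Finset.sum_congr rfl (fun u _ => Finset.sum_comm)]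
        exact Finset.sum_comm
    _ = ∑ z ∈ Inv, ∑ u ∈ Inv, ∑ v ∈ Inv, (if J ∈ Subgroup.zpowers (u * v) then Ψ (u * v) else 0) :=
        Finset.sum_congr rfl hT
    _ = _ := by rw [Finset.sum_const, nsmul_eq_mul]

end grouping

end Cfsg.Agent.Helper79.DihOrder
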