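import Cfsg.Agent.Helper79.DihPrincipal
import Cfsg.Agent.Helper79.DihOrder
import Cfsg.Agent.S0942
import Cfsg.Agent.Helper76.KleinFourOrder

/-!
# Character side of Brauer's order formula for dihedral Sylow 2-subgroups (helper79)
-/

set_option autoImplicit false
set_option linter.unusedSectionVars false
set_option linter.unusedVariables false
set_option linter.style.haveILetI false
set_option maxHeartbeats 1000000

namespace Cfsg.Agent.Helper79.DihOrderChar

open Cfsg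
open Cfsg.Agent.Helper79.DihLocal

variable {G : Type*} [Group G] [Finite G] {M : Ideal AlgInt} {P : Sylow 2 G} {σ : G} {n : ℕ}

/-- Principal block characters are constant on the 2-section of a non-trivial element of `A`. -/
theorem apply_mul_of_mem_A (hM : IsPModular 2 M) (hd : DihData P σ n) {a ρ : G}
    (ha : a ∈ Subgroup.zpowers σ) (ha1 : a ≠ 1) (hcomm : Commute a ρ) (hρ : Odd (orderOf ρ))
    (χ : IrrCharacter G) (hχ : χ ∈ principalBlock M G) :
    (χ : G → ℂ) (a * ρ) = (χ : G → ℂ) a := by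
  classical
  haveI : Fintype G := Fintype.ofFinite G
  haveI : Fact (Nat.Prime 2) := ⟨Nat.prime_two⟩
  have hρ2 : ¬ 2 ∣ orderOf ρ := by
    rw [← even_iff_two_dvd, Nat.not_even_iff_odd]; exact hρ
  have hidx : ∃ k : ℕ, (pPrimeCore 2 (Subgroup.centralizer ({a} : Set G))).index = 2 ^ k := by
    by_cases ha2 : a * a = 1
    · have := DihOrder.eq_J_of_mem_A_of_sq hd ha ha1 ha2
      rw [this]
      exact hd.pPrimeCore_centralizer_J
    · exact hd.pPrimeCore_centralizer ha ha2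
  have hρC : ρ ∈ Subgroup.centralizer ({a} : Set G) := by
    rw [Subgroup.mem_centralizer_iff]
    intro y hy
    rw [Set.mem_singleton_iff] at hy
    rw [hy]; exact hcomm.eq
  have hmem := Helper66.BL.mem_pPrimeCore_of_pRegular hidx ⟨ρ, hρC⟩
    (by rw [Subgroup.orderOf_mk]; exact hρ2)
  have hv : ρ ∈ centralizerPPrimeCore 2 a := by
    unfold centralizerPPrimeCore
    exact ⟨⟨ρ, hρC⟩, hmem, rfl⟩
  obtain ⟨k, hk⟩ := (IsPGroup.iff_orderOf.mp P.2) ⟨a, hd.A_le ha⟩
  rw [Subgroup.orderOf_mk] at hk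
  exact Cfsg.Agent.S0942.result 2 M hM a ⟨k, hk⟩ ρ hv χ hχ

/-- Principal block characters are constant on every non-trivial 2-section (one class of
involutions). -/
theorem apply_mul_of_two_element (hM : IsPModular 2 M) (hd : DihData P σ n)
    (hone : ∀ y ∈ (P : Subgroup G), y ∉ Subgroup.zpowers σ → IsConj (σ ^ (2 ^ (n - 2))) y)
    (π ρ : G) (hπ : ∃ k : ℕ, orderOf π = 2 ^ k) (hπ1 : π ≠ 1) (hcomm : Commute π ρ)
    (hρ : Odd (orderOf ρ)) (χ : IrrCharacter G) (hχ : χ ∈ principalBlock M G) :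
    (χ : G → ℂ) (π * ρ) = (χ : G → ℂ) π := by
  haveI : Fact (Nat.Prime 2) := ⟨Nat.prime_two⟩
  have hcl := Helper79.irr_isClassFunction χ
  obtain ⟨k, hk⟩ := hπ
  have hpg : IsPGroup 2 (Subgroup.zpowers π) :=
    IsPGroup.of_card (n := k) (by rw [Nat.card_zpowers, hk])
  obtain ⟨g, hg⟩ := exists_conj_mem_sylow P (Subgroup.zpowers π) hpg
  have hyP := hg π (Subgroup.mem_zpowers π)
  -- reduce to an element of A
  have key : ∀ (c : G), c⁻¹ * π * c ∈ Subgroup.zpowers σ →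
      (χ : G → ℂ) (π * ρ) = (χ : G → ℂ) π := by
    intro c hc
    have h1 : c⁻¹ * π * c ≠ 1 := by
      intro h
      apply hπ1
      have : π = c * (c⁻¹ * π * c) * c⁻¹ := by group
      rw [this, h]; group
    have h2 : Commute (c⁻¹ * π * c) (c⁻¹ * ρ * c) := by
      show c⁻¹ * π * c * (c⁻¹ * ρ * c) = c⁻¹ * ρ * c * (c⁻¹ * π * c)
      have e1 : c⁻¹ * π * c * (c⁻¹ * ρ * c) = c⁻¹ * (π * ρ) * c := by group
      have e2 : c⁻¹ * ρ * c * (c⁻¹ * π * c) = c⁻¹ * (ρ * π) * c := by group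
      rw [e1, e2, hcomm.eq]
    have h3 : Odd (orderOf (c⁻¹ * ρ * c)) := by
      have := MulEquiv.orderOf_eq (MulAut.conj c⁻¹) ρ
      rw [MulAut.conj_apply, inv_inv] at this
      rw [this]; exact hρ
    have h4 := apply_mul_of_mem_A hM hd hc h1 h2 h3 χ hχ
    have e1 : c⁻¹ * π * c * (c⁻¹ * ρ * c) = c⁻¹ * (π * ρ) * (c⁻¹)⁻¹ := by group
    have e2 : c⁻¹ * π * c = c⁻¹ * π * (c⁻¹)⁻¹ := by group
    rw [e1, e2, hcl, hcl] at h4
    exact h4
  by_cases hA : g⁻¹ * π * g ∈ Subgroup.zpowers σ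
  · exact key g hA
  · obtain ⟨c', hc'⟩ := isConj_iff.1 (hone _ hyP hA)
    -- c' * J * c'⁻¹ = g⁻¹ π g, so (g c')⁻¹ π (g c') = J
    apply key (g * c')
    have : (g * c')⁻¹ * π * (g * c') = c'⁻¹ * (g⁻¹ * π * g) * c' := by group
    rw [this, ← hc']
    have : c'⁻¹ * (c' * σ ^ (2 ^ (n - 2)) * c'⁻¹) * c' = σ ^ (2 ^ (n - 2)) := by group
    rw [this]
    exact DihData.pow_mem_A _

section pairs

variable {G : Type*} [Group G] [Fintype G] [DecidableEq G]

theorem isConj_iff_orderOf_two (J : G) (hJ : orderOf J = 2)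
    (hone : ∀ u : G, orderOf u = 2 → IsConj J u) (y : G) : IsConj J y ↔ orderOf y = 2 := by
  constructor
  · intro h
    obtain ⟨c, hc⟩ := isConj_iff.1 h
    rw [← hc]
    have := MulEquiv.orderOf_eq (MulAut.conj c) J
    rw [MulAut.conj_apply] at this
    rw [this, hJ]
  · exact hone y

theorem card_involutions (J : G) (hJ : orderOf J = 2)
    (hone : ∀ u : G, orderOf u = 2 → IsConj J u) :
    (Finset.univ.filter (fun u : G => orderOf u = 2)).card =
      (Subgroup.centralizer ({J} : Set G)).index := by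
  rw [index_centralizer_eq_ncard, Set.ncard_eq_toFinset_card']
  congr 1
  ext u
  simp only [Finset.mem_filter, Finset.mem_univ, true_and, Set.mem_toFinset, Set.mem_setOf_eq]
  exact (isConj_iff_orderOf_two J hJ hone u).symm

/-- The character side of the pair count. -/
theorem sum_pairs_irr (J : G) (hJ : orderOf J = 2)
    (hone : ∀ u : G, orderOf u = 2 → IsConj J u) (χ : IrrCharacter G) :
    ∑ u ∈ Finset.univ.filter (fun u : G => orderOf u = 2),
      ∑ v ∈ Finset.univ.filter (fun u : G => orderOf u = 2), (χ : G → ℂ) (u * v) =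
    ((Finset.univ.filter (fun u : G => orderOf u = 2)).card : ℂ) ^ 2 *
      ((χ : G → ℂ) J) ^ 2 / (χ : G → ℂ) 1 := by
  have hcl := Helper79.irr_isClassFunction χ
  have hcard := card_involutions J hJ hone
  have hinner : ∀ u : G, ∑ v ∈ Finset.univ.filter (fun u : G => orderOf u = 2),
      (χ : G → ℂ) (u * v) = centralChar (χ : G → ℂ) J * (χ : G → ℂ) u := by
    intro u
    rw [← Helper76.sum_classInd_mul_irr χ u J, Finset.sum_filter]
    refine Finset.sum_congr rfl (fun y _ => ?_)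
    unfold Helper16.classInd
    by_cases h : orderOf y = 2
    · rw [if_pos h, if_pos ((isConj_iff_orderOf_two J hJ hone y).2 h), one_mul]
    · rw [if_neg h, if_neg (fun hc => h ((isConj_iff_orderOf_two J hJ hone y).1 hc)), zero_mul]
  rw [Finset.sum_congr rfl (fun u _ => hinner u)]
  have hval : ∀ u ∈ Finset.univ.filter (fun u : G => orderOf u = 2),
      centralChar (χ : G → ℂ) J * (χ : G → ℂ) u = centralChar (χ : G → ℂ) J * (χ : G → ℂ) J := by
    intro u hu
    rw [Finset.mem_filter] at hu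
    have := (isClassFunction_iff_isConj.1 hcl) J u (hone u hu.2)
    rw [this]
  rw [Finset.sum_congr rfl hval, Finset.sum_const, nsmul_eq_mul]
  unfold centralChar
  rw [hcard]
  ring

end pairs


section formula

variable {G : Type*} [Group G] [Fintype G] [DecidableEq G] {M : Ideal AlgInt} {P : Sylow 2 G}
  {σ : G} {n : ℕ}

theorem zpow_of_mul_self {x : G} (hx : x * x = 1) (k : ℤ) : x ^ k = 1 ∨ x ^ k = x := by
  rcases Int.emod_two_eq_zero_or_one k with h | h
  · left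
    have : k = 2 * (k / 2) := by omega
    rw [this, zpow_mul, zpow_ofNat, pow_two, hx, one_zpow]
  · right
    have : k = 2 * (k / 2) + 1 := by omega
    rw [this, zpow_add, zpow_mul, zpow_ofNat, pow_two, hx, one_zpow, one_mul, zpow_one]

/-- If `J` is a power of the product of two involutions, both centralize `J` and differ from it. -/
theorem mem_IJ_of_mem_zpowers {J u v : G} (hJ : orderOf J = 2) (hu : orderOf u = 2)
    (hv : orderOf v = 2) (h : J ∈ Subgroup.zpowers (u * v)) :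
    (u * J = J * u ∧ u ≠ J) ∧ (v * J = J * v ∧ v ≠ J) := by
  have hsq : ∀ w : G, orderOf w = 2 → w * w = 1 := by
    intro w hw
    have := pow_orderOf_eq_one w
    rwa [hw, pow_two] at this
  have huu := hsq u hu
  have hvv := hsq v hv
  have hJJ := hsq J hJ
  have hJinv : J⁻¹ = J := inv_eq_of_mul_eq_one_left hJJ
  have huinv : u⁻¹ = u := inv_eq_of_mul_eq_one_left huu
  have hvinv : v⁻¹ = v := inv_eq_of_mul_eq_one_left hvv
  have hne1 : ∀ w : G, orderOf w = 2 → w ≠ 1 := by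
    intro w hw h1
    rw [h1, orderOf_one] at hw
    omega
  obtain ⟨k, hk⟩ := Subgroup.mem_zpowers_iff.1 h
  have hcu : u * (u * v) * u⁻¹ = (u * v)⁻¹ := by
    rw [mul_inv_rev, huinv, hvinv]
    calc u * (u * v) * u = (u * u) * v * u := by group
      _ = v * u := by rw [huu, one_mul]
  have hcv : v * (u * v) * v⁻¹ = (u * v)⁻¹ := by
    rw [mul_inv_rev, huinv, hvinv]
    calc v * (u * v) * v = v * u * (v * v) := by group
      _ = v * u := by rw [hvv, mul_one]
  have huJ : u * J = J * u := by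
    have h1 : u * J * u⁻¹ = J := by
      rw [← hk, ← conj_zpow, hcu, inv_zpow, hk, hJinv]
    calc u * J = u * J * u⁻¹ * u := by group
      _ = J * u := by rw [h1]
  have hvJ : v * J = J * v := by
    have h1 : v * J * v⁻¹ = J := by
      rw [← hk, ← conj_zpow, hcv, inv_zpow, hk, hJinv]
    calc v * J = v * J * v⁻¹ * v := by group
      _ = J * v := by rw [h1]
  refine ⟨⟨huJ, ?_⟩, ⟨hvJ, ?_⟩⟩
  · intro huJeq
    rw [huJeq] at hk
    have hsq' : (J * v) * (J * v) = 1 := by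
      calc J * v * (J * v) = J * (v * J) * v := by group
        _ = J * (J * v) * v := by rw [hvJ]
        _ = (J * J) * (v * v) := by group
        _ = 1 := by rw [hJJ, hvv, one_mul]
    rcases zpow_of_mul_self hsq' k with h1 | h1
    · rw [h1] at hk; exact hne1 J hJ hk.symm
    · rw [h1] at hk
      have : v = 1 := by
        have := mul_left_cancel (hk.trans (mul_one J).symm)
        exact this
      exact hne1 v hv this
  · intro hvJeq
    rw [hvJeq] at hk
    have hsq' : (u * J) * (u * J) = 1 := by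
      calc u * J * (u * J) = u * (J * u) * J := by group
        _ = u * (u * J) * J := by rw [huJ]
        _ = (u * u) * (J * J) := by group
        _ = 1 := by rw [hJJ, huu, one_mul]
    rcases zpow_of_mul_self hsq' k with h1 | h1
    · rw [h1] at hk; exact hne1 J hJ hk.symm
    · rw [h1] at hk
      have : u = 1 := by
        have := mul_right_cancel (hk.trans (one_mul J).symm)
        exact this
      exact hne1 u hu this

/-- **Brauer's order formula**, integer form: `|Inv| (x₁ - δ)² = 2 N_J² x₁ (x₁ + δ)`. -/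
theorem order_formula_aux (hM : IsPModular 2 M) (hd : DihData P σ n) (τ : G)
    (hτ : τ ∈ (P : Subgroup G)) (hτA : τ ∉ Subgroup.zpowers σ)
    (hone : ∀ u : G, orderOf u = 2 → IsConj (σ ^ (2 ^ (n - 2))) u)
    (ζ : ℂ) (hζ : IsPrimitiveRoot ζ (2 ^ (n - 1)))
    (χ₁ χ' : IrrCharacter G) (hχ₁ : χ₁ ∈ principalBlock M G) (hχ' : χ' ∈ principalBlock M G)
    (δ : ℤ) (hδ : δ = 1 ∨ δ = -1)
    (hv1 : ∀ l : ℕ, 0 < l → l < 2 ^ (n - 1) → (χ₁ : G → ℂ) (σ ^ l) = δ)
    (hv' : ∀ l : ℕ, 0 < l → l < 2 ^ (n - 1) → (χ' : G → ℂ) (σ ^ l) = δ * (ζ ^ l + (ζ ^ l)⁻¹))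
    (hrel : ∀ ρ : G, Odd (orderOf ρ) → 1 + δ * (χ₁ : G → ℂ) ρ = δ * (χ' : G → ℂ) ρ) :
    ((Finset.univ.filter (fun u : G => orderOf u = 2)).card : ℤ) *
        ((charDegree (χ₁ : G → ℂ) : ℤ) - δ) ^ 2 =
      2 * ((Finset.univ.filter (fun u : G => orderOf u = 2 ∧
          u * σ ^ (2 ^ (n - 2)) = σ ^ (2 ^ (n - 2)) * u ∧ u ≠ σ ^ (2 ^ (n - 2)))).card : ℤ) ^ 2 *
        (charDegree (χ₁ : G → ℂ) : ℤ) * ((charDegree (χ₁ : G → ℂ) : ℤ) + δ) ∧
    0 < (charDegree (χ₁ : G → ℂ) : ℤ) + δ := by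
  set J := σ ^ (2 ^ (n - 2)) with hJdef
  have hJ2 : orderOf J = 2 := hd.orderOf_J
  have hδ2 : (δ : ℂ) * δ = 1 := by
    rcases hδ with h | h <;> rw [h] <;> norm_num
  have hN0 : 0 < 2 ^ (n - 1) := by positivity
  have hq : 0 < 2 ^ (n - 2) := by positivity
  have hqN : 2 ^ (n - 2) < 2 ^ (n - 1) := by have := hd.two_pow_eq; omega
  set Ψ : G → ℂ := fun g => 1 + δ * (χ₁ : G → ℂ) g - δ * (χ' : G → ℂ) g with hΨ
  have hcl1 := Helper79.irr_isClassFunction χ₁
  have hcl' := Helper79.irr_isClassFunction χ'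
  have hcl : IsClassFunction G Ψ := by
    intro g h
    simp only [hΨ]
    rw [hcl1, hcl']
  have honeP : ∀ y ∈ (P : Subgroup G), y ∉ Subgroup.zpowers σ → IsConj J y := by
    intro y hy hyA
    apply hone
    have h1 := (hd.inv y hy hyA).1
    apply orderOf_eq_prime
    · rw [pow_two]; exact h1
    · intro h
      apply hyA
      rw [h]; exact Subgroup.one_mem _
  have hΨ1 : ∀ π ρ : G, (∃ k : ℕ, orderOf π = 2 ^ k) → π ≠ 1 → Commute π ρ → Odd (orderOf ρ) →
      Ψ (π * ρ) = Ψ π := by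
    intro π ρ hπ hπ1 hc hρ
    simp only [hΨ]
    rw [apply_mul_of_two_element hM hd honeP π ρ hπ hπ1 hc hρ χ₁ hχ₁,
      apply_mul_of_two_element hM hd honeP π ρ hπ hπ1 hc hρ χ' hχ']
  have hΨ2 : ∀ g : G, Odd (orderOf g) → Ψ g = 0 := by
    intro g hg
    simp only [hΨ]
    rw [hrel g hg]; ring
  have hΨ3 : ∀ l : ℕ, 1 ≤ l → l < 2 ^ (n - 1) → Ψ (σ ^ l) = 2 - ζ ^ l - (ζ ^ l)⁻¹ := by
    intro l hl1 hl
    simp only [hΨ]
    rw [hv1 l hl1 hl, hv' l hl1 hl]
    linear_combination (1 - ζ ^ l - (ζ ^ l)⁻¹) * hδ2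
  -- degrees
  have hx1 := Helper79.irr_one χ₁
  have hx' := Helper79.irr_one χ'
  have hx1pos := Helper79.irr_charDegree_pos χ₁
  have hx'pos := Helper79.irr_charDegree_pos χ'
  have hdeg' : (χ' : G → ℂ) 1 = δ + (χ₁ : G → ℂ) 1 := by
    have h := hrel 1 (by rw [orderOf_one]; exact odd_one)
    linear_combination (-(δ : ℂ)) * h - ((χ' : G → ℂ) 1 - (χ₁ : G → ℂ) 1) * hδ2
  have hdeg'Z : (charDegree (χ' : G → ℂ) : ℤ) = δ + (charDegree (χ₁ : G → ℂ) : ℤ) := by
    rw [hx1, hx'] at hdeg'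
    exact_mod_cast hdeg'
  have hpos : 0 < (charDegree (χ₁ : G → ℂ) : ℤ) + δ := by
    rw [add_comm, ← hdeg'Z]
    exact_mod_cast hx'pos
  refine ⟨?_, hpos⟩
  -- values at J
  have h1J : (χ₁ : G → ℂ) J = δ := hv1 _ hq hqN
  have hζhalf : ζ ^ (2 ^ (n - 2)) = -1 := by
    have h1 : IsPrimitiveRoot (ζ ^ (2 ^ (n - 2))) 2 := by
      have := hζ.pow hN0 (show 2 ^ (n - 1) = 2 ^ (n - 2) * 2 by have := hd.two_pow_eq; omega)
      exact this
    exact h1.eq_neg_one_of_two_right
  have h'J : (χ' : G → ℂ) J = -2 * δ := by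
    rw [hv' _ hq hqN, hζhalf]
    norm_num
    ring
  -- the two evaluations of the sum
  set Inv := Finset.univ.filter (fun u : G => orderOf u = 2) with hInv
  set IJ := Finset.univ.filter (fun u : G => orderOf u = 2 ∧ u * J = J * u ∧ u ≠ J) with hIJ
  have hchar : ∑ u ∈ Inv, ∑ v ∈ Inv, Ψ (u * v) =
      (Inv.card : ℂ) ^ 2 * (1 + δ * (δ ^ 2 / (χ₁ : G → ℂ) 1) -
        δ * ((-2 * δ) ^ 2 / (χ' : G → ℂ) 1)) := by
    simp only [hΨ]
    simp only [Finset.sum_sub_distrib, Finset.sum_add_distrib, ← Finset.mul_sum]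
    rw [sum_pairs_irr J hJ2 hone χ₁, sum_pairs_irr J hJ2 hone χ', h1J, h'J]
    simp only [Finset.sum_const, nsmul_eq_mul, mul_one]
    ring
  have hgroup : ∑ u ∈ Inv, ∑ v ∈ Inv, Ψ (u * v) = (Inv.card : ℂ) * (2 * (IJ.card : ℂ) ^ 2) := by
    rw [DihOrder.sum_pairs_involutions J hJ2 hone Ψ hcl hΨ2]
    congr 1
    obtain ⟨hsum, himp⟩ := DihOrder.sum_pairs_centralizer_J hd τ hτ hτA ζ hζ Ψ hcl hΨ1 hΨ2 hΨ3
    rw [← hsum]
    -- restrict the sums to IJ
    have hsub : IJ ⊆ Inv := by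
      intro u hu
      rw [hIJ, Finset.mem_filter] at hu
      rw [hInv, Finset.mem_filter]
      exact ⟨Finset.mem_univ _, hu.2.1⟩
    have hmemInv : ∀ u, u ∈ Inv ↔ orderOf u = 2 := by
      intro u; rw [hInv, Finset.mem_filter]; simp
    have hmemIJ : ∀ u, u ∈ IJ ↔ (orderOf u = 2 ∧ u * J = J * u ∧ u ≠ J) := by
      intro u; rw [hIJ, Finset.mem_filter]; simp
    have hinner : ∀ u ∈ Inv, ∑ v ∈ Inv, (if J ∈ Subgroup.zpowers (u * v) then Ψ (u * v) else 0) =
        if u ∈ IJ then ∑ v ∈ IJ, Ψ (u * v) else 0 := by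
      intro u hu
      have hu2 := (hmemInv u).1 hu
      by_cases huIJ : u ∈ IJ
      · rw [if_pos huIJ]
        obtain ⟨_, huJ, hune⟩ := (hmemIJ u).1 huIJ
        rw [← Finset.sum_subset hsub]
        · refine Finset.sum_congr rfl (fun v hv => ?_)
          obtain ⟨hv2, hvJ, hvne⟩ := (hmemIJ v).1 hv
          by_cases hmem : J ∈ Subgroup.zpowers (u * v)
          · rw [if_pos hmem]
          · rw [if_neg hmem]
            by_contra hne
            exact hmem (himp u v hu2 huJ hune hv2 hvJ hvne (fun h => hne h.symm))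
        · intro v hv hvn
          have hv2 := (hmemInv v).1 hv
          rw [if_neg]
          intro hmem
          apply hvn
          have := (mem_IJ_of_mem_zpowers hJ2 hu2 hv2 hmem).2
          exact (hmemIJ v).2 ⟨hv2, this.1, this.2⟩
      · rw [if_neg huIJ]
        apply Finset.sum_eq_zero
        intro v hv
        have hv2 := (hmemInv v).1 hv
        rw [if_neg]
        intro hmem
        apply huIJ
        have := (mem_IJ_of_mem_zpowers hJ2 hu2 hv2 hmem).1
        exact (hmemIJ u).2 ⟨hu2, this.1, this.2⟩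
    rw [Finset.sum_congr rfl hinner, Finset.sum_ite_mem, Finset.inter_eq_right.2 hsub]
  -- combine
  have hInvpos : (Inv.card : ℂ) ≠ 0 := by
    have : J ∈ Inv := by rw [hInv, Finset.mem_filter]; exact ⟨Finset.mem_univ _, hJ2⟩
    exact Nat.cast_ne_zero.2 (Finset.card_pos.2 ⟨J, this⟩).ne'
  have hx1ne : (χ₁ : G → ℂ) 1 ≠ 0 := Helper79.irr_one_ne_zero χ₁
  have hx'ne : (χ' : G → ℂ) 1 ≠ 0 := Helper79.irr_one_ne_zero χ'
  have hmain : (Inv.card : ℂ) * (1 + δ * (δ ^ 2 / (χ₁ : G → ℂ) 1) -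
        δ * ((-2 * δ) ^ 2 / (χ' : G → ℂ) 1)) = 2 * (IJ.card : ℂ) ^ 2 := by
    have h := hchar.symm.trans hgroup
    have h2 : (Inv.card : ℂ) * ((Inv.card : ℂ) * (1 + δ * (δ ^ 2 / (χ₁ : G → ℂ) 1) -
        δ * ((-2 * δ) ^ 2 / (χ' : G → ℂ) 1))) = (Inv.card : ℂ) * (2 * (IJ.card : ℂ) ^ 2) := by
      rw [← h]; ring
    exact mul_left_cancel₀ hInvpos h2
  have hfinal : (Inv.card : ℂ) * (((χ₁ : G → ℂ) 1) - δ) ^ 2 =
      2 * (IJ.card : ℂ) ^ 2 * ((χ₁ : G → ℂ) 1) * (((χ₁ : G → ℂ) 1) + δ) := by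
    rw [← hmain]
    have hx'eq : (χ' : G → ℂ) 1 = (χ₁ : G → ℂ) 1 + δ := by rw [hdeg']; ring
    rw [hx'eq] at hx'ne ⊢
    rcases hδ with h | h
    · rw [h] at hx'ne ⊢
      push_cast at hx'ne ⊢
      field_simp
      ring
    · rw [h] at hx'ne ⊢
      push_cast at hx'ne ⊢
      field_simp
      ring
  rw [hx1] at hfinal
  exact_mod_cast hfinal

end formula

end Cfsg.Agent.Helper79.DihOrderChar
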