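import Cfsg.Agent.Helper79.DihColumns
import Cfsg.Agent.Helper79.DihFourier

/-!
# The principal 2-block for a dihedral Sylow 2-subgroup, `DihData` form (helper79)
-/

set_option autoImplicit false
set_option linter.unusedSectionVars false
set_option linter.unusedVariables false
set_option linter.style.haveILetI false

namespace Cfsg.Agent.Helper79.DihPrincipal

open Cfsg

/-- Brauer's theorem on the principal 2-block for dihedral Sylow 2-subgroups, from `DihData`. -/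
theorem principal_block_of_dihData {G : Type*} [Group G] [Finite G] (M : Ideal Cfsg.AlgInt) (hM : Cfsg.IsPModular 2 M) (n : ℕ) (P : Sylow 2 G) (σ : G) (hd : Cfsg.Agent.Helper79.DihLocal.DihData P σ n) (ζ : ℂ) (hζ : IsPrimitiveRoot ζ (2 ^ (n - 1))) : Nat.card (Cfsg.principalBlock M G) = 3 + 2 ^ (n - 2) ∧ ∃ (χ₁ χ₂ χ₃ : Cfsg.IrrCharacter G) (χ' : Fin (2 ^ (n - 2) - 1) → Cfsg.IrrCharacter G) (δ₁ δ₂ δ₃ : ℤ), (δ₁ = 1 ∨ δ₁ = -1) ∧ (δ₂ = 1 ∨ δ₂ = -1) ∧ (δ₃ = 1 ∨ δ₃ = -1) ∧ Function.Injective χ' ∧ (χ₁ : G → ℂ) ≠ (fun _ => 1) ∧ (χ₂ : G → ℂ) ≠ (fun _ => 1) ∧ (χ₃ : G → ℂ) ≠ (fun _ => 1) ∧ χ₁ ≠ χ₂ ∧ χ₁ ≠ χ₃ ∧ χ₂ ≠ χ₃ ∧ (∀ j, χ' j ≠ χ₁ ∧ χ' j ≠ χ₂ ∧ χ' j ≠ χ₃ ∧ (χ' j : G → ℂ) ≠ (fun _ => 1)) ∧ Cfsg.principalBlock M G = {χ : Cfsg.IrrCharacter G | (χ : G → ℂ) = (fun _ => 1) ∨ χ = χ₁ ∨ χ = χ₂ ∨ χ = χ₃ ∨ ∃ j, χ = χ' j} ∧ (∀ l : ℕ, 0 < l → l < 2 ^ (n - 1) → (χ₁ : G → ℂ) (σ ^ l) = δ₁ ∧ (χ₂ : G → ℂ) (σ ^ l) = δ₂ *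 (-1) ^ (l + 1) ∧ (χ₃ : G → ℂ) (σ ^ l) = δ₃ * (-1) ^ (l + 1) ∧ ∀ j : Fin (2 ^ (n - 2) - 1), (χ' j : G → ℂ) (σ ^ l) = δ₁ * (ζ ^ (((j : ℕ) + 1) * l) + (ζ ^ (((j : ℕ) + 1) * l))⁻¹)) ∧ ∀ ρ : G, Odd (orderOf ρ) → ∀ j : Fin (2 ^ (n - 2) - 1), 1 + δ₁ * (χ₁ : G → ℂ) ρ = -δ₂ * (χ₂ : G → ℂ) ρ - δ₃ * (χ₃ : G → ℂ) ρ ∧ 1 + δ₁ * (χ₁ : G → ℂ) ρ = δ₁ * (χ' j : G → ℂ) ρ := by
  classical
  have hn : 3 ≤ n := hd.hn
  have hσo : orderOf σ = 2 ^ (n - 1) := hd.order
  have hq2 : 2 ≤ 2 ^ (n - 2) := by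
    calc 2 = 2 ^ 1 := by norm_num
      _ ≤ 2 ^ (n - 2) := Nat.pow_le_pow_right (by norm_num) (by omega)
  have hNq : 2 ^ (n - 1) = 2 * 2 ^ (n - 2) := hd.two_pow_eq
  have hNt : 2 ^ (n - 1) = 2 * (2 ^ (n - 2) - 1) + 2 := by omega
  have ht : 1 ≤ 2 ^ (n - 2) - 1 := by omega
  have ht2 : 2 ^ (n - 2) - 1 ≠ 2 := by
    intro h
    have h3 : 2 ^ (n - 2) = 3 := by omega
    have h4 : (2 : ℕ) ∣ 2 ^ (n - 2) := dvd_pow_self 2 (by omega)
    omega
  have ht1 : 2 ^ (n - 2) - 1 + 1 = 2 ^ (n - 2) := by omega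
  haveI : Finite (Cfsg.IrrCharacter G) := Cfsg.Agent.Helper79.irr_finite'
  haveI : Fintype (Cfsg.principalBlock M G) := Fintype.ofFinite _
  -- the family of characters
  let x : Cfsg.principalBlock M G → ℕ → ℂ := fun i l => ((i : Cfsg.IrrCharacter G) : G → ℂ) (σ ^ l)
  let i0 : Cfsg.principalBlock M G :=
    ⟨Cfsg.Agent.Helper79.principalIrr G, Cfsg.Agent.Helper79.DihColumns.principalIrr_mem hM⟩
  have hsq : ∀ l, 1 ≤ l → l < 2 ^ (n - 1) →
      ∑ i : Cfsg.principalBlock M G, x i l * x i l =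
        (((if l = 2 ^ (n - 2) then 2 ^ n else 2 ^ (n - 1)) : ℕ) : ℂ) := by
    intro l hl1 hl
    have h := Cfsg.Agent.Helper79.DihColumns.norm_sum hM hd hl1 hl
    rw [← Cfsg.Agent.Helper79.DihColumns.sum_coe_eq_finsum_mem] at h
    have h2 := congrArg (fun r : ℝ => (r : ℂ)) h
    simp only [Complex.ofReal_sum] at h2
    rw [← Complex.ofReal_natCast, ← h2]
    refine Finset.sum_congr rfl (fun i _ => ?_)
    exact (Cfsg.Agent.Helper79.DihColumns.norm_sq_eq hd (i : Cfsg.IrrCharacter G) l).symm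
  have hgram : ∀ l l', 1 ≤ l → l < 2 ^ (n - 1) → 1 ≤ l' → l' < 2 ^ (n - 1) →
      ∑ i : Cfsg.principalBlock M G, x i l * x i l' = ((2 ^ (n - 1) : ℕ) : ℂ) *
        ((if l = l' then 1 else 0) + (if l + l' = 2 ^ (n - 1) then 1 else 0)) := by
    intro l l' hl1 hl hl'1 hl'
    by_cases h1 : l = l'
    · subst h1
      rw [hsq l hl1 hl, if_pos rfl]
      by_cases h2 : l = 2 ^ (n - 2)
      · rw [if_pos h2, if_pos (by omega)]
        have : n = (n - 1) + 1 := by omega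
        conv_lhs => rw [this, pow_succ]
        push_cast; ring
      · rw [if_neg h2, if_neg (by omega)]
        push_cast; ring
    · rw [if_neg h1]
      by_cases h2 : l + l' = 2 ^ (n - 1)
      · rw [if_pos h2]
        have e : ∀ i : Cfsg.principalBlock M G, x i l' = x i l := by
          intro i
          have hl'eq : l' = 2 ^ (n - 1) - l := by omega
          show ((i : Cfsg.IrrCharacter G) : G → ℂ) (σ ^ l') = ((i : Cfsg.IrrCharacter G) : G → ℂ) (σ ^ l)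
          rw [hl'eq]
          exact Cfsg.Agent.Helper79.DihColumns.irr_pow_reflect hd _ hl.le
        rw [Finset.sum_congr rfl (fun i _ => by rw [e i]), hsq l hl1 hl, if_neg (by omega)]
        push_cast; ring
      · rw [if_neg h2]
        have h := Cfsg.Agent.Helper79.DihColumns.orth hM hd
          (hd.not_isConj_pow hl1 hl hl'1 hl' h1 h2)
        rw [← Cfsg.Agent.Helper79.DihColumns.sum_coe_eq_finsum_mem] at h
        rw [h]; ring
  have hreg : ∀ ρ : G, ¬ 2 ∣ orderOf ρ → ∀ l, 1 ≤ l → l < 2 ^ (n - 1) →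
      ∑ i : Cfsg.principalBlock M G, ((i : Cfsg.IrrCharacter G) : G → ℂ) ρ * x i l = 0 := by
    intro ρ hρ l hl1 hl
    have h := Cfsg.Agent.Helper79.DihColumns.orth_regular hM hd hl1 hl hρ
    rw [← Cfsg.Agent.Helper79.DihColumns.sum_coe_eq_finsum_mem] at h
    exact h
  obtain ⟨hcard, δ, s2, s3, i1, i2, i3, p, hδ, hs2, hs3, hp, h10, h20, h30, h12, h13, h23, hpl,
      hcover, hval, hrel⟩ :=
    Cfsg.Agent.Helper79.DihFourier.dih_core (2 ^ (n - 2) - 1) (2 ^ (n - 1)) hNt ht ht2 ζ hζ x i0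
      (fun i k => Cfsg.Agent.Helper79.DihColumns.fourier_int
        (Cfsg.Agent.Helper79.irr_isCharacter (i : Cfsg.IrrCharacter G)) σ hσo hζ k)
      hgram (fun l => rfl)
      (fun i => ⟨Cfsg.charDegree ((i : Cfsg.IrrCharacter G) : G → ℂ),
        Cfsg.Agent.Helper79.irr_charDegree_pos _, by
          show ((i : Cfsg.IrrCharacter G) : G → ℂ) (σ ^ 0) = _
          rw [pow_zero]; exact Cfsg.Agent.Helper79.irr_one _⟩)
      (fun l hl1 hl => by
        have h := hreg 1 (by rw [orderOf_one]; norm_num) l hl1 hl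
        rw [← h]
        refine Finset.sum_congr rfl (fun i _ => ?_)
        show ((i : Cfsg.IrrCharacter G) : G → ℂ) (σ ^ 0) * _ = _
        rw [pow_zero])
      (fun i => by
        show ((i : Cfsg.IrrCharacter G) : G → ℂ) (σ ^ (2 ^ (n - 2) - 1 + 1)) ≠ 0
        rw [ht1]
        exact Cfsg.Agent.Helper79.DihColumns.apply_J_ne_zero hM hd _ i.2)
  have hval_ne : ∀ {a b : Cfsg.principalBlock M G}, a ≠ b →
      (a : Cfsg.IrrCharacter G) ≠ (b : Cfsg.IrrCharacter G) := fun h h' => h (Subtype.ext h')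
  have hfun_ne : ∀ {a : Cfsg.principalBlock M G}, a ≠ i0 →
      ((a : Cfsg.IrrCharacter G) : G → ℂ) ≠ (fun _ => 1) := by
    intro a h h'
    exact h (Subtype.ext (Subtype.ext h'))
  refine ⟨?_, (i1 : Cfsg.IrrCharacter G), (i2 : Cfsg.IrrCharacter G), (i3 : Cfsg.IrrCharacter G),
    (fun j => (p j : Cfsg.IrrCharacter G)), δ, -s2, -s3, hδ, ?_, ?_, ?_, hfun_ne h10, hfun_ne h20,
    hfun_ne h30, hval_ne h12, hval_ne h13, hval_ne h23, ?_, ?_, ?_, ?_⟩
  · rw [Nat.card_eq_fintype_card, hcard]; omega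
  · rcases hs2 with h | h
    · right; rw [h]
    · left; rw [h]; norm_num
  · rcases hs3 with h | h
    · right; rw [h]
    · left; rw [h]; norm_num
  · intro j j' hjj'
    exact hp (Subtype.ext hjj')
  · intro j
    exact ⟨hval_ne (hpl j).2.1, hval_ne (hpl j).2.2.1, hval_ne (hpl j).2.2.2, hfun_ne (hpl j).1⟩
  · ext χ
    simp only [Set.mem_ofPred_eq]
    constructor
    · intro hχ
      rcases hcover ⟨χ, hχ⟩ with h | h | h | h | ⟨j, h⟩
      · left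
        have := congrArg (fun a : Cfsg.principalBlock M G => ((a : Cfsg.IrrCharacter G) : G → ℂ)) h
        exact this
      · right; left
        exact congrArg (fun a : Cfsg.principalBlock M G => (a : Cfsg.IrrCharacter G)) h
      · right; right; left
        exact congrArg (fun a : Cfsg.principalBlock M G => (a : Cfsg.IrrCharacter G)) h
      · right; right; right; left
        exact congrArg (fun a : Cfsg.principalBlock M G => (a : Cfsg.IrrCharacter G)) h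
      · right; right; right; right
        exact ⟨j, congrArg (fun a : Cfsg.principalBlock M G => (a : Cfsg.IrrCharacter G)) h⟩
    · rintro (h | h | h | h | ⟨j, h⟩)
      · have : χ = Cfsg.Agent.Helper79.principalIrr G := Subtype.ext h
        rw [this]; exact i0.2
      · rw [h]; exact i1.2
      · rw [h]; exact i2.2
      · rw [h]; exact i3.2
      · rw [h]; exact (p j).2
  · intro l hl0 hl
    obtain ⟨v1, v2, v3, v4⟩ := hval l hl0 hl
    refine ⟨v1, ?_, ?_, v4⟩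
    · show x i2 l = _
      rw [v2, pow_succ]; push_cast; ring
    · show x i3 l = _
      rw [v3, pow_succ]; push_cast; ring
  · intro ρ hρ j
    have hρ2 : ¬ 2 ∣ orderOf ρ := by
      intro h
      exact (Nat.not_even_iff_odd.2 hρ) (even_iff_two_dvd.2 h)
    obtain ⟨r1, r2⟩ := hrel (fun i => ((i : Cfsg.IrrCharacter G) : G → ℂ) ρ) (hreg ρ hρ2)
    have hr0 : ((i0 : Cfsg.IrrCharacter G) : G → ℂ) ρ = 1 := rfl
    simp only [hr0] at r1 r2
    refine ⟨?_, r2 j⟩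
    rw [r1]; push_cast; ring


end Cfsg.Agent.Helper79.DihPrincipal
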