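import Cfsg.Agent.Helper79.ClassMult

/-!
# Products of two involutions never hit `u * z` (helper79)

`τ² = 1`, `u ^ p = 1`, `z` central of order prime to `2p`, `z ≠ 1`: no product of two conjugates of `τ`
equals `u * z`; hence `∑ χ, χ(τ)² conj(χ(u z)) / χ(1) = 0`.
-/

set_option autoImplicit false
open Cfsg
open scoped ComplexConjugate

namespace Cfsg.Agent.Helper79.DihedralSum

variable {G : Type*} [Group G]

/-- If `τ₁ τ₂ = u z` with `τ₁² = τ₂² = 1`, `u ^ p = 1`, `z` central with `z ^ m = 1`, `m` prime to `2p`,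
then `z = 1`. -/
theorem central_eq_one_of_invol_mul {τ₁ τ₂ u z : G} (h1 : τ₁ * τ₁ = 1) (h2 : τ₂ * τ₂ = 1)
    (p : ℕ) (hu : u ^ p = 1) (hz : z ∈ Subgroup.center G) (m : ℕ) (hzm : z ^ m = 1)
    (hcop : Nat.Coprime m (2 * p)) (hprod : τ₁ * τ₂ = u * z) : z = 1 := by
  have hzc : ∀ g : G, g * z = z * g := fun g => Subgroup.mem_center_iff.mp hz g
  have hi1 : τ₁⁻¹ = τ₁ := inv_eq_of_mul_eq_one_left h1
  have hi2 : τ₂⁻¹ = τ₂ := inv_eq_of_mul_eq_one_left h2
  -- τ₁ (u z) τ₁⁻¹ = (u z)⁻¹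
  have hconj : τ₁ * (u * z) * τ₁⁻¹ = (u * z)⁻¹ := by
    rw [← hprod, mul_inv_rev, hi1, hi2]
    calc τ₁ * (τ₁ * τ₂) * τ₁ = (τ₁ * τ₁) * τ₂ * τ₁ := by group
      _ = τ₂ * τ₁ := by rw [h1, one_mul]
  -- so τ₁ u τ₁⁻¹ = u⁻¹ z⁻²
  have hconj2 : τ₁ * u * τ₁⁻¹ = u⁻¹ * (z⁻¹ * z⁻¹) := by
    have e1 : τ₁ * (u * z) * τ₁⁻¹ = (τ₁ * u * τ₁⁻¹) * z := by
      calc τ₁ * (u * z) * τ₁⁻¹ = τ₁ * u * (z * τ₁⁻¹) := by group
        _ = τ₁ * u * (τ₁⁻¹ * z) := by rw [hzc τ₁⁻¹]
        _ = (τ₁ * u * τ₁⁻¹) * z := by group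
    have e2 : (u * z)⁻¹ = u⁻¹ * z⁻¹ := by
      rw [mul_inv_rev]
      have := hzc u⁻¹
      calc z⁻¹ * u⁻¹ = (u * z)⁻¹ := by group
        _ = (z * u)⁻¹ := by rw [hzc u]
        _ = u⁻¹ * z⁻¹ := by group
    rw [e1, e2] at hconj
    calc τ₁ * u * τ₁⁻¹ = (τ₁ * u * τ₁⁻¹ * z) * z⁻¹ := by group
      _ = u⁻¹ * z⁻¹ * z⁻¹ := by rw [hconj]
      _ = u⁻¹ * (z⁻¹ * z⁻¹) := by group
  -- p-th powers
  have hcomm : Commute u⁻¹ (z⁻¹ * z⁻¹) := by
    have hzz : (z⁻¹ * z⁻¹) ∈ Subgroup.center G :=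
      Subgroup.mul_mem _ (Subgroup.inv_mem _ hz) (Subgroup.inv_mem _ hz)
    exact (Subgroup.mem_center_iff.mp hzz u⁻¹)
  have hpow : (τ₁ * u * τ₁⁻¹) ^ p = 1 := by
    rw [conj_pow, hu]; group
  rw [hconj2, hcomm.mul_pow, inv_pow, hu, inv_one, one_mul] at hpow
  -- (z⁻¹ z⁻¹)^p = 1 ⇒ z^(2p) = 1
  have hz2p : z ^ (2 * p) = 1 := by
    have : (z⁻¹ * z⁻¹) ^ p = (z ^ (2 * p))⁻¹ := by
      rw [← mul_inv_rev, ← pow_two, inv_pow, ← pow_mul]
    rw [this, inv_eq_one] at hpow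
    exact hpow
  have hord1 : orderOf z ∣ m := orderOf_dvd_of_pow_eq_one hzm
  have hord2 : orderOf z ∣ 2 * p := orderOf_dvd_of_pow_eq_one hz2p
  have : orderOf z ∣ Nat.gcd m (2 * p) := Nat.dvd_gcd hord1 hord2
  rw [hcop.gcd_eq_one, Nat.dvd_one] at this
  exact orderOf_eq_one_iff.mp this

variable [Fintype G]

/-- The class-sum vanishing: no product of two conjugates of the involution `τ` is `u * z`. -/
theorem sum_irr_sq_conj_eq_zero [Fintype (IrrCharacter G)] (τ u z : G) (hτ : τ * τ = 1)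
    (p : ℕ) (hu : u ^ p = 1) (hz : z ∈ Subgroup.center G) (m : ℕ) (hzm : z ^ m = 1)
    (hcop : Nat.Coprime m (2 * p)) (hz1 : z ≠ 1) :
    ∑ χ : IrrCharacter G, (χ : G → ℂ) τ * (χ : G → ℂ) τ * conj ((χ : G → ℂ) (u * z)) /
      (χ : G → ℂ) 1 = 0 := by
  classical
  have h := Cfsg.Agent.Helper79.card_conj_mul_conj_eq τ τ (u * z)
  have hempty : (Finset.univ.filter (fun ab : G × G =>
      ab.1 * τ * ab.1⁻¹ * (ab.2 * τ * ab.2⁻¹) = u * z)) = ∅ := by
    rw [Finset.filter_eq_empty_iff]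
    intro ab _ hab
    apply hz1
    refine central_eq_one_of_invol_mul (τ₁ := ab.1 * τ * ab.1⁻¹) (τ₂ := ab.2 * τ * ab.2⁻¹)
      ?_ ?_ p hu hz m hzm hcop hab
    · calc ab.1 * τ * ab.1⁻¹ * (ab.1 * τ * ab.1⁻¹) = ab.1 * (τ * τ) * ab.1⁻¹ := by group
        _ = 1 := by rw [hτ]; group
    · calc ab.2 * τ * ab.2⁻¹ * (ab.2 * τ * ab.2⁻¹) = ab.2 * (τ * τ) * ab.2⁻¹ := by group
        _ = 1 := by rw [hτ]; group
  rw [hempty, Finset.card_empty, Nat.cast_zero] at h
  have hG : (Nat.card G : ℂ) ≠ 0 := by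
    exact_mod_cast Nat.card_pos.ne'
  exact (mul_eq_zero.mp h.symm).resolve_left hG

section split
variable {G : Type*} [Group G]

/-- Translation by a central element multiplies an irreducible character by `χ z / χ 1`. -/
theorem irr_central_mul_eq [Fintype G] (χ : IrrCharacter G) {z : G} (hz : z ∈ Subgroup.center G)
    (g : G) : (χ : G → ℂ) (z * g) = (χ : G → ℂ) z / (χ : G → ℂ) 1 * (χ : G → ℂ) g := by
  have h1ne : (χ : G → ℂ) 1 ≠ 0 := Cfsg.Agent.Helper79.irr_one_ne_zero χ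
  obtain ⟨χ0, n, ρ, hirr, rfl⟩ := χ
  have : ρ.IsIrreducible := hirr
  have hcomm : ∀ g : G, ρ z ∘ₗ ρ g = ρ g ∘ₗ ρ z := by
    intro g
    show ρ z * ρ g = ρ g * ρ z
    rw [← map_mul, ← map_mul, (Subgroup.mem_center_iff.mp hz g)]
  obtain ⟨c, hc⟩ := Cfsg.Agent.Helper79.exists_scalar_of_commute ρ (ρ z) hcomm
  have hmul : ∀ g : G, ρ.character (z * g) = c * ρ.character g := by
    intro g
    unfold Representation.character
    rw [map_mul, hc, smul_mul_assoc, one_mul, map_smul, smul_eq_mul]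
  show ρ.character (z * g) = ρ.character z / ρ.character 1 * ρ.character g
  have hz1 : ρ.character z = c * ρ.character 1 := by
    have := hmul 1
    rwa [mul_one] at this
  have h1 : ρ.character 1 ≠ 0 := h1ne
  rw [hmul g, hz1]
  field_simp

variable [Fintype G] [Fintype (IrrCharacter G)]

/-- **Splitting the involution class-sum relation over a central subgroup of order prime to `2p`.**
For every linear character `lam` of `Z`, the partial sum of `χ(τ)² conj(χ(u)) / χ(1)` over the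
irreducible characters lying over `lam` is `1/|Z|` of the full sum; in particular it does not depend
on `lam`. -/
theorem card_mul_sum_over_central_eq (Z : Subgroup G) (hZ : Z ≤ Subgroup.center G) (τ u : G)
    (hτ : τ * τ = 1) (p : ℕ) (hu : u ^ p = 1) (hcop : Nat.Coprime (Nat.card Z) (2 * p))
    (lam : Z →* ℂˣ) [DecidablePred fun χ : IrrCharacter G =>
      ∀ z : Z, (χ : G → ℂ) (z : G) = (lam z : ℂ) * (χ : G → ℂ) 1] :
    (Nat.card Z : ℂ) * ∑ χ ∈ Finset.univ.filter (fun χ : IrrCharacter G =>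
        ∀ z : Z, (χ : G → ℂ) (z : G) = (lam z : ℂ) * (χ : G → ℂ) 1),
        (χ : G → ℂ) τ * (χ : G → ℂ) τ * conj ((χ : G → ℂ) u) / (χ : G → ℂ) 1
      = ∑ χ : IrrCharacter G,
        (χ : G → ℂ) τ * (χ : G → ℂ) τ * conj ((χ : G → ℂ) u) / (χ : G → ℂ) 1 := by
  classical
  have : Fintype Z := Fintype.ofFinite Z
  set t : IrrCharacter G → ℂ := fun χ =>
    (χ : G → ℂ) τ * (χ : G → ℂ) τ * conj ((χ : G → ℂ) u) / (χ : G → ℂ) 1 with ht
  -- F(u z) for z ∈ Z
  have hF : ∀ z : Z, ∑ χ : IrrCharacter G, (χ : G → ℂ) τ * (χ : G → ℂ) τ *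
      conj ((χ : G → ℂ) (u * (z : G))) / (χ : G → ℂ) 1 =
      if z = 1 then ∑ χ : IrrCharacter G, t χ else 0 := by
    intro z
    split_ifs with h
    · subst h
      simp [ht]
    · apply sum_irr_sq_conj_eq_zero τ u (z : G) hτ p hu (hZ z.2) (Nat.card Z) _ hcop
      · intro h1
        apply h
        exact Subtype.ext h1
      · rw [← Subgroup.coe_pow, pow_card_eq_one', Subgroup.coe_one]
  -- weighted sum
  have hsum : ∑ z : Z, (lam z : ℂ) * ∑ χ : IrrCharacter G, (χ : G → ℂ) τ * (χ : G → ℂ) τ *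
      conj ((χ : G → ℂ) (u * (z : G))) / (χ : G → ℂ) 1 = ∑ χ : IrrCharacter G, t χ := by
    simp only [hF]
    rw [Finset.sum_eq_single (1 : Z)]
    · simp
    · intro z _ hz
      simp [hz]
    · intro h
      exact absurd (Finset.mem_univ _) h
  rw [← hsum]
  -- expand χ(u z) = (χ z / χ 1) χ u
  have hexp : ∀ (χ : IrrCharacter G) (z : Z), (χ : G → ℂ) (u * (z : G)) =
      (χ : G → ℂ) (z : G) / (χ : G → ℂ) 1 * (χ : G → ℂ) u := by
    intro χ z
    rw [← irr_central_mul_eq χ (hZ z.2) u, (Subgroup.mem_center_iff.mp (hZ z.2) u)]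
  have hswap : ∑ z : Z, (lam z : ℂ) * ∑ χ : IrrCharacter G, (χ : G → ℂ) τ * (χ : G → ℂ) τ *
      conj ((χ : G → ℂ) (u * (z : G))) / (χ : G → ℂ) 1 =
      ∑ χ : IrrCharacter G, t χ * ∑ z : Z, (lam z : ℂ) *
        conj ((χ : G → ℂ) (z : G) / (χ : G → ℂ) 1) := by
    simp only [Finset.mul_sum]
    rw [Finset.sum_comm]
    refine Finset.sum_congr rfl fun χ _ => Finset.sum_congr rfl fun z _ => ?_
    rw [hexp χ z, map_mul, ht]
    ring
  rw [hswap]
  -- orthogonality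
  have horth : ∀ χ : IrrCharacter G, ∑ z : Z, (lam z : ℂ) *
      conj ((χ : G → ℂ) (z : G) / (χ : G → ℂ) 1) =
      if (∀ z : Z, (χ : G → ℂ) (z : G) = (lam z : ℂ) * (χ : G → ℂ) 1) then (Nat.card Z : ℂ)
      else 0 := by
    intro χ
    have h1ne : (χ : G → ℂ) 1 ≠ 0 := Cfsg.Agent.Helper79.irr_one_ne_zero χ
    -- the hom z ↦ lam z * conj (χ z / χ 1)
    have hw_mul : ∀ a b : Z, (χ : G → ℂ) ((a * b : Z) : G) / (χ : G → ℂ) 1 =
        ((χ : G → ℂ) (a : G) / (χ : G → ℂ) 1) * ((χ : G → ℂ) (b : G) / (χ : G → ℂ) 1) := by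
      intro a b
      rw [Subgroup.coe_mul, irr_central_mul_eq χ (hZ a.2) (b : G)]
      ring
    let f : Z →* ℂ :=
      { toFun := fun z => (lam z : ℂ) * conj ((χ : G → ℂ) (z : G) / (χ : G → ℂ) 1)
        map_one' := by
          show (lam 1 : ℂ) * conj ((χ : G → ℂ) ((1 : Z) : G) / (χ : G → ℂ) 1) = 1
          rw [map_one, Units.val_one, Subgroup.coe_one, div_self h1ne, map_one, one_mul]
        map_mul' := by
          intro a b
          show (lam (a * b) : ℂ) * conj ((χ : G → ℂ) ((a * b : Z) : G) / (χ : G → ℂ) 1) =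
            ((lam a : ℂ) * conj ((χ : G → ℂ) (a : G) / (χ : G → ℂ) 1)) *
            ((lam b : ℂ) * conj ((χ : G → ℂ) (b : G) / (χ : G → ℂ) 1))
          rw [hw_mul a b, map_mul, map_mul, Units.val_mul]
          ring }
    have hfapp : ∀ z : Z, f z = (lam z : ℂ) * conj ((χ : G → ℂ) (z : G) / (χ : G → ℂ) 1) :=
      fun _ => rfl
    -- |lam z| = 1
    have hlam : ∀ z : Z, (lam z : ℂ) * conj (lam z : ℂ) = 1 := by
      intro z
      have hpow : (lam z : ℂ) ^ Nat.card Z = 1 := by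
        have : lam z ^ Nat.card Z = 1 := by
          rw [← map_pow, pow_card_eq_one', map_one]
        have := congrArg (fun w : ℂˣ => (w : ℂ)) this
        simpa using this
      have hnorm : ‖(lam z : ℂ)‖ = 1 :=
        Complex.norm_eq_one_of_pow_eq_one hpow Nat.card_pos.ne'
      rw [Complex.mul_conj, Complex.normSq_eq_norm_sq, hnorm]
      simp
    split_ifs with hover
    · -- all terms are 1
      have : ∀ z : Z, (lam z : ℂ) * conj ((χ : G → ℂ) (z : G) / (χ : G → ℂ) 1) = 1 := by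
        intro z
        rw [hover z, mul_div_assoc, div_self h1ne, mul_one]
        exact hlam z
      simp only [this, Finset.sum_const, Finset.card_univ, nsmul_eq_mul, mul_one,
        Nat.card_eq_fintype_card]
    · have hf1 : f ≠ 1 := by
        intro hf
        apply hover
        intro z
        have := congrArg (fun g : Z →* ℂ => g z) hf
        simp only [MonoidHom.one_apply] at this
        rw [hfapp z] at this
        -- lam z * conj w = 1 ⇒ w = lam z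
        have hw : conj ((χ : G → ℂ) (z : G) / (χ : G → ℂ) 1) = conj (lam z : ℂ) := by
          have h2 := hlam z
          have hl : (lam z : ℂ) ≠ 0 := Units.ne_zero _
          exact mul_left_cancel₀ hl (this.trans h2.symm)
        have hw' : (χ : G → ℂ) (z : G) / (χ : G → ℂ) 1 = (lam z : ℂ) :=
          (starRingEnd ℂ).injective hw
        rw [← hw']
        field_simp
      have := sum_hom_units_eq_zero f hf1
      simpa [hfapp] using this
  simp only [horth]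
  rw [Finset.mul_sum, Finset.sum_filter]
  refine Finset.sum_congr rfl fun χ _ => ?_
  split_ifs <;> ring

end split

end Cfsg.Agent.Helper79.DihedralSum
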