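import Cfsg.Agent.Helper79.FeitData
import Cfsg.Agent.Helper25.InnerBasics
import Cfsg.Agent.Helper75.TIFNExc

/-!
# Feit's theorem on Zassenhaus groups: the test function `ind (φ - e·1_K)` (helper79)

`K` is a T.I. subgroup of `G` containing the centralizers of its non-identity elements,
`N = N_G(K)`, `e = |N : K|`.  For a relevant character `φ` of `N` of degree `e` we consider
`α = φ - e·1_K` (a class function of `N` supported on `K \ {1}`) and compute the inner products
of `ind α` with class functions of `G` as sums over `K \ {1}`.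
-/

set_option autoImplicit false

namespace Cfsg.Agent.Helper79.Feit

open Cfsg Cfsg.Agent.Helper75 Cfsg.Agent.Helper9.FP
open scoped ComplexConjugate

universe u

variable {G : Type u} [Group G] [Fintype G] {K : Subgroup G}
  [Fintype ↥(Subgroup.normalizer (K : Set G))]

open Classical in
/-- `α = φ - e·1_K` on the normalizer of `K`. -/
noncomputable def alphaFun (K : Subgroup G) [Fintype ↥(Subgroup.normalizer (K : Set G))]
    (φ : ↥(Subgroup.normalizer (K : Set G)) → ℂ) : ↥(Subgroup.normalizer (K : Set G)) → ℂ :=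
  fun x => φ x - (if (x : G) ∈ K then (caE K : ℂ) else 0)

theorem alphaFun_apply_mem (φ : ↥(Subgroup.normalizer (K : Set G)) → ℂ)
    (x : ↥(Subgroup.normalizer (K : Set G))) (hx : (x : G) ∈ K) :
    alphaFun K φ x = φ x - (caE K : ℂ) := by
  unfold alphaFun
  rw [if_pos hx]

theorem alphaFun_apply_not_mem (φ : ↥(Subgroup.normalizer (K : Set G)) → ℂ)
    (x : ↥(Subgroup.normalizer (K : Set G))) (hx : (x : G) ∉ K) :
    alphaFun K φ x = φ x := by
  unfold alphaFun
  rw [if_neg hx, sub_zero]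

theorem alphaFun_vanish (hC : ∀ k ∈ K, k ≠ 1 → Subgroup.centralizer ({k} : Set G) ≤ K)
    {φ : ↥(Subgroup.normalizer (K : Set G)) → ℂ} (hφ : φ ∈ tfS K)
    (x : ↥(Subgroup.normalizer (K : Set G))) (hx : (x : G) ∉ K) : alphaFun K φ x = 0 := by
  rw [alphaFun_apply_not_mem φ x hx]
  exact tf_vanish hC hφ x hx

theorem alphaFun_one {φ : ↥(Subgroup.normalizer (K : Set G)) → ℂ}
    (hφ1 : φ 1 = (caE K : ℂ)) : alphaFun K φ 1 = 0 := by
  rw [alphaFun_apply_mem φ 1 (by simpa using K.one_mem), hφ1, sub_self]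

theorem alphaFun_isClassFunction {φ : ↥(Subgroup.normalizer (K : Set G)) → ℂ}
    (hφ : φ ∈ tfS K) : IsClassFunction ↥(Subgroup.normalizer (K : Set G)) (alphaFun K φ) := by
  intro g x
  have h1 := tf_isClassFunction hφ g x
  have hiff : ((x * g * x⁻¹ : ↥(Subgroup.normalizer (K : Set G))) : G) ∈ K ↔ (g : G) ∈ K := by
    have hx := x.2
    rw [Subgroup.mem_normalizer_iff] at hx
    have : ((x * g * x⁻¹ : ↥(Subgroup.normalizer (K : Set G))) : G)
        = (x : G) * (g : G) * (x : G)⁻¹ := by simp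
    rw [this]
    exact (hx (g : G)).symm
  unfold alphaFun
  rw [h1]
  by_cases hg : (g : G) ∈ K
  · rw [if_pos hg, if_pos (hiff.mpr hg)]
  · rw [if_neg hg, if_neg (fun h => hg (hiff.mp h))]

/-- The extension by zero of `α`. -/
theorem ext_alphaFun (hC : ∀ k ∈ K, k ≠ 1 → Subgroup.centralizer ({k} : Set G) ≤ K)
    {φ : ↥(Subgroup.normalizer (K : Set G)) → ℂ} (hφ : φ ∈ tfS K) (g : G) (hg : g ∉ K) :
    extendByZero (Subgroup.normalizer (K : Set G)) (alphaFun K φ) g = 0 := by
  by_cases hgN : g ∈ Subgroup.normalizer (K : Set G)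
  · rw [Helper15.extendByZero_of_mem _ _ hgN]
    exact alphaFun_vanish hC hφ _ hg
  · exact Helper15.extendByZero_of_not_mem _ _ hgN

theorem ext_alphaFun_mem (φ : ↥(Subgroup.normalizer (K : Set G)) → ℂ) (g : G) (hg : g ∈ K) :
    extendByZero (Subgroup.normalizer (K : Set G)) (alphaFun K φ) g
      = extendByZero (Subgroup.normalizer (K : Set G)) φ g - (caE K : ℂ) := by
  have hgN : g ∈ Subgroup.normalizer (K : Set G) := Subgroup.le_normalizer hg
  rw [Helper15.extendByZero_of_mem _ _ hgN, Helper15.extendByZero_of_mem _ _ hgN]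
  exact alphaFun_apply_mem φ ⟨g, hgN⟩ hg

/-- Inner products of `α` with restrictions, as sums over `K \ {1}`. -/
theorem inner_alphaFun (hC : ∀ k ∈ K, k ≠ 1 → Subgroup.centralizer ({k} : Set G) ≤ K)
    {φ : ↥(Subgroup.normalizer (K : Set G)) → ℂ} (hφ : φ ∈ tfS K) (hφ1 : φ 1 = (caE K : ℂ))
    (ψ : G → ℂ) :
    classInner (alphaFun K φ) (fun x : ↥(Subgroup.normalizer (K : Set G)) => ψ x)
      = (Nat.card ↥(Subgroup.normalizer (K : Set G)) : ℂ)⁻¹ *
        ∑ k ∈ Ksharp K, (extendByZero (Subgroup.normalizer (K : Set G)) φ k - (caE K : ℂ))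
          * conj (ψ k) := by
  rw [Helper15.classInner_apply]
  congr 1
  rw [← Helper15.sum_extendByZero_mul (Subgroup.normalizer (K : Set G)) (alphaFun K φ)
    (fun g => conj (ψ g))]
  have hvan : ∀ g : G, g ∉ K →
      extendByZero (Subgroup.normalizer (K : Set G)) (alphaFun K φ) g * conj (ψ g) = 0 := by
    intro g hg
    rw [ext_alphaFun hC hφ g hg, zero_mul]
  have h1 := sum_Ksharp_of_vanish K
    (fun g => extendByZero (Subgroup.normalizer (K : Set G)) (alphaFun K φ) g * conj (ψ g)) hvan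
  have h2 : extendByZero (Subgroup.normalizer (K : Set G)) (alphaFun K φ) 1 = 0 := by
    have := Helper15.extendByZero_coe (Subgroup.normalizer (K : Set G)) (alphaFun K φ) 1
    rw [OneMemClass.coe_one] at this
    rw [this, alphaFun_one hφ1]
  simp only [h2, zero_mul, sub_zero] at h1
  rw [← h1]
  apply Finset.sum_congr rfl
  intro k hk
  rw [ext_alphaFun_mem φ k (mem_Ksharp.mp hk).1]

/-- Inner product of `ind α` with a class function of `G`. -/
theorem inner_ind_alphaFun (hC : ∀ k ∈ K, k ≠ 1 → Subgroup.centralizer ({k} : Set G) ≤ K)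
    {φ : ↥(Subgroup.normalizer (K : Set G)) → ℂ} (hφ : φ ∈ tfS K) (hφ1 : φ 1 = (caE K : ℂ))
    {ψ : G → ℂ} (hψ : IsClassFunction G ψ) :
    classInner (indFun (Subgroup.normalizer (K : Set G)) (alphaFun K φ)) ψ
      = (Nat.card ↥(Subgroup.normalizer (K : Set G)) : ℂ)⁻¹ *
        ∑ k ∈ Ksharp K, (extendByZero (Subgroup.normalizer (K : Set G)) φ k - (caE K : ℂ))
          * conj (ψ k) := by
  rw [Helper15.frobenius_reciprocity _ _ ψ hψ, inner_alphaFun hC hφ hφ1]

end Cfsg.Agent.Helper79.Feit
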