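import Cfsg.Agent.Helper79.FeitCore3
import Cfsg.Agent.Helper80.FeitW4
import Cfsg.Agent.Helper74.CharCount

/-!
# Feit's theorem on Zassenhaus groups: counting classes and characters (helper79)
-/

set_option autoImplicit false

namespace Cfsg.Agent.Helper79.Feit

open Cfsg Cfsg.Agent.Helper75 Cfsg.Agent.Helper9.FP
open scoped ComplexConjugate

universe u

variable {G : Type u} [Group G] [Fintype G] {K : Subgroup G}
  [Fintype ↥(Subgroup.normalizer (K : Set G))]

omit [Fintype G] [Fintype ↥(Subgroup.normalizer (K : Set G))] in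
/-- The class of `1`, the classes meeting `K \ {1}` and the classes missing `K` are disjoint. -/
theorem card_classes_ge [Finite G] (K : Subgroup G) :
    1 + Nat.card {C : ConjClasses G // ∃ k ∈ K, k ≠ 1 ∧ ConjClasses.mk k = C}
      + Nat.card {C : ConjClasses G // ∀ g : G, ConjClasses.mk g = C → g ∉ K}
      ≤ Nat.card (ConjClasses G) := by
  classical
  let P := {C : ConjClasses G // ∃ k ∈ K, k ≠ 1 ∧ ConjClasses.mk k = C}
  let Q := {C : ConjClasses G // ∀ g : G, ConjClasses.mk g = C → g ∉ K}
  let f : Unit ⊕ (P ⊕ Q) → ConjClasses G := fun x =>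
    match x with
    | Sum.inl _ => ConjClasses.mk 1
    | Sum.inr (Sum.inl p) => p.1
    | Sum.inr (Sum.inr q) => q.1
  have hP1 : ∀ p : P, p.1 ≠ ConjClasses.mk 1 := by
    rintro ⟨C, k, hk, hk1, rfl⟩ h
    apply hk1
    have : IsConj k 1 := ConjClasses.mk_eq_mk_iff_isConj.mp h
    exact isConj_one_left.mp this
  have hQ1 : ∀ q : Q, q.1 ≠ ConjClasses.mk 1 := by
    rintro ⟨C, hC⟩ h
    exact hC 1 h.symm K.one_mem
  have hPQ : ∀ (p : P) (q : Q), p.1 ≠ q.1 := by
    rintro ⟨C, k, hk, hk1, rfl⟩ ⟨C', hC'⟩ h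
    exact hC' k h hk
  have hinj : Function.Injective f := by
    rintro (x | p | q) (y | p' | q') hxy
    · rfl
    · exact absurd hxy.symm (hP1 p')
    · exact absurd hxy.symm (hQ1 q')
    · exact absurd hxy (hP1 p)
    · exact congrArg _ (congrArg _ (Subtype.ext hxy))
    · exact absurd hxy (hPQ p q')
    · exact absurd hxy (hQ1 q)
    · exact absurd hxy.symm (hPQ p' q)
    · exact congrArg _ (congrArg _ (Subtype.ext hxy))
  have h := Nat.card_le_card_of_injective f hinj
  rw [Nat.card_sum, Nat.card_sum, Nat.card_unique] at h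
  show 1 + Nat.card P + Nat.card Q ≤ _
  omega

/-- Lower bound for the number of irreducible characters in the situation of `FeitData`. -/
theorem card_irr_ge' {e h : ℕ} (D : FeitData K e h) :
    1 + Nat.card (tfS K) + e ≤ Nat.card (IrrCharacter G) := by
  rw [Helper74.card_irr_eq_card_conjClasses]
  have h1 := card_classes_ge K
  have h2 := Helper80.FeitW.card_tfS_le_classes D.hC D.hTI
  have h3 := D.hcls
  omega

end Cfsg.Agent.Helper79.Feit
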