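import Cfsg.Agent.Helper79.FeitCore4

/-!
# Feit's theorem on Zassenhaus groups: the exceptional characters (helper79)

The relevant characters as a fintype, the sum of the squares of their degrees, and the injection
`χ ↦ ε • star χ` into the irreducible characters of `G`.
-/

set_option autoImplicit false

namespace Cfsg.Agent.Helper79.Feit

open Cfsg Cfsg.Agent.Helper75 Cfsg.Agent.Helper9.FP
open scoped ComplexConjugate

universe u

variable {G : Type u} [Group G] [Fintype G] {K : Subgroup G}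
  [Fintype ↥(Subgroup.normalizer (K : Set G))]

/-- The relevant characters, as a subtype of the irreducible characters of the normalizer. -/
abbrev RelIrr (K : Subgroup G) [Fintype ↥(Subgroup.normalizer (K : Set G))] : Type u :=
  {ζ : IrrCharacter ↥(Subgroup.normalizer (K : Set G)) //
    (ζ : ↥(Subgroup.normalizer (K : Set G)) → ℂ) ∈ tfS K}

noncomputable instance : Fintype (RelIrr K) := by
  classical
  let _ := Helper74.irrFintype ↥(Subgroup.normalizer (K : Set G))
  exact Subtype.fintype _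

/-- `RelIrr K` is in bijection with `tfS K`. -/
noncomputable def relIrrEquiv (K : Subgroup G) [Fintype ↥(Subgroup.normalizer (K : Set G))] :
    RelIrr K ≃ tfS K where
  toFun ζ := ⟨ζ.1.1, ζ.2⟩
  invFun χ := ⟨⟨χ.1, χ.2.1⟩, χ.2⟩
  left_inv _ := rfl
  right_inv _ := rfl

theorem card_relIrr (K : Subgroup G) [Fintype ↥(Subgroup.normalizer (K : Set G))] :
    Fintype.card (RelIrr K) = Nat.card (tfS K) := by
  rw [← Nat.card_eq_fintype_card]
  exact Nat.card_congr (relIrrEquiv K)

/-- The sum of the squares of the degrees of the relevant characters. -/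
theorem sum_relIrr_degree_sq (K : Subgroup G) [Fintype ↥(Subgroup.normalizer (K : Set G))] :
    ∑ ζ : RelIrr K, (ζ.1.1 1) * (ζ.1.1 1) + (caE K : ℂ)
      = (Nat.card ↥(Subgroup.normalizer (K : Set G)) : ℂ) := by
  classical
  let _ := Helper74.irrFintype ↥(Subgroup.normalizer (K : Set G))
  have h := fp_sum_degree_sq (K.subgroupOf (Subgroup.normalizer (K : Set G)))
  have hcast : ((∑ χ : {χ : IrrCharacter ↥(Subgroup.normalizer (K : Set G)) //
      ∃ k ∈ K.subgroupOf (Subgroup.normalizer (K : Set G)),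
        (χ : ↥(Subgroup.normalizer (K : Set G)) → ℂ) k
          ≠ (χ : ↥(Subgroup.normalizer (K : Set G)) → ℂ) 1},
        charDegree (χ.1 : ↥(Subgroup.normalizer (K : Set G)) → ℂ)
          * charDegree (χ.1 : ↥(Subgroup.normalizer (K : Set G)) → ℂ)
      + (K.subgroupOf (Subgroup.normalizer (K : Set G))).index : ℕ) : ℂ)
      = (Nat.card ↥(Subgroup.normalizer (K : Set G)) : ℂ) := by
    exact_mod_cast congrArg (fun n : ℕ => (n : ℂ)) h
  rw [← hcast]
  push_cast
  congr 1
  let E : RelIrr K ≃ {χ : IrrCharacter ↥(Subgroup.normalizer (K : Set G)) //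
      ∃ k ∈ K.subgroupOf (Subgroup.normalizer (K : Set G)),
        (χ : ↥(Subgroup.normalizer (K : Set G)) → ℂ) k
          ≠ (χ : ↥(Subgroup.normalizer (K : Set G)) → ℂ) 1} :=
    Equiv.subtypeEquivRight (fun χ => by
      constructor
      · rintro ⟨_, k, hk, hne⟩
        exact ⟨k, Subgroup.mem_subgroupOf.mpr hk, hne⟩
      · rintro ⟨k, hk, hne⟩
        exact ⟨χ.2, k, Subgroup.mem_subgroupOf.mp hk, hne⟩)
  apply Fintype.sum_equiv E
  intro ζ
  have h1 := Helper74.charDegree_cast (Helper74.irr_isCharacter ζ.1)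
  show ζ.1.1 1 * ζ.1.1 1 = _
  rw [← h1]
  rfl

variable {star : (↥(Subgroup.normalizer (K : Set G)) → ℂ) → (G → ℂ)}

/-- `star` is injective on relevant characters. -/
theorem star_injective (hS : CohStar K star)
    {χ χ' : ↥(Subgroup.normalizer (K : Set G)) → ℂ} (hχ : χ ∈ tfS K) (hχ' : χ' ∈ tfS K)
    (h : star χ = star χ') : χ = χ' := by
  classical
  have h1 := hS.hiso χ (Submodule.subset_span hχ) χ' (Submodule.subset_span hχ')
  rw [← h, fp_norm_one hS hχ, ca_irr_inner hχ.1 hχ'.1] at h1
  by_contra hne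
  rw [if_neg hne] at h1
  exact one_ne_zero h1

/-- The exceptional character attached to a relevant character. -/
noncomputable def excIrr {ε : ℤ}
    (hεirr : ∀ χ ∈ tfS K, IsIrrCharacter G ((ε : ℂ) • star χ)) (ζ : RelIrr K) : IrrCharacter G :=
  ⟨(ε : ℂ) • star ζ.1.1, hεirr _ ζ.2⟩

theorem excIrr_injective (hS : CohStar K star) {ε : ℤ} (hε : ε = 1 ∨ ε = -1)
    (hεirr : ∀ χ ∈ tfS K, IsIrrCharacter G ((ε : ℂ) • star χ)) :
    Function.Injective (excIrr hεirr) := by
  intro ζ ζ' h
  have h1 : (ε : ℂ) • star ζ.1.1 = (ε : ℂ) • star ζ'.1.1 := congrArg Subtype.val h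
  have hε0 : (ε : ℂ) ≠ 0 := by
    rcases hε with h | h <;> rw [h] <;> norm_num
  have h2 : star ζ.1.1 = star ζ'.1.1 := by
    have := congrArg (fun f => (ε : ℂ)⁻¹ • f) h1
    simpa [smul_smul, inv_mul_cancel₀ hε0] using this
  have h3 := star_injective hS ζ.2 ζ'.2 h2
  exact Subtype.ext (Subtype.ext h3)

end Cfsg.Agent.Helper79.Feit
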