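import Cfsg.Agent.Helper79.FeitCore5

/-!
# Feit's theorem on Zassenhaus groups: the constant `c` vanishes (helper79)

Bessel's inequality for `ind (φ - e·1_K)` against all irreducible characters of `G`, together
with the lower bound `k(G) ≥ 1 + |tfS K| + e`, forces `star χ = χ` on `K \ {1}`.
-/

set_option autoImplicit false

namespace Cfsg.Agent.Helper79.Feit

open Cfsg Cfsg.Agent.Helper75 Cfsg.Agent.Helper9.FP
open scoped ComplexConjugate

universe u

variable {G : Type u} [Group G] [Fintype G] {K : Subgroup G}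
  [Fintype ↥(Subgroup.normalizer (K : Set G))]
  {star : (↥(Subgroup.normalizer (K : Set G)) → ℂ) → (G → ℂ)}

/-- The contribution of an exceptional character to Bessel's inequality. -/
theorem norm_inner_exc (hC : ∀ k ∈ K, k ≠ 1 → Subgroup.centralizer ({k} : Set G) ≤ K)
    (hS : CohStar K star)
    {φ : ↥(Subgroup.normalizer (K : Set G)) → ℂ} (hφ : φ ∈ tfS K) (hφ1 : φ 1 = (caE K : ℂ))
    {c : ℤ} (hc : ∀ χ ∈ tfS K, ∀ k ∈ Ksharp K,
      star χ k = extendByZero (Subgroup.normalizer (K : Set G)) χ k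
        + (c : ℂ) * χ 1 / (caE K : ℂ))
    {ε : ℤ} (hε : ε = 1 ∨ ε = -1)
    {χ : ↥(Subgroup.normalizer (K : Set G)) → ℂ} (hχ : χ ∈ tfS K) [Decidable (φ = χ)]
    (n : ℕ) (hn : χ 1 = n) :
    ‖classInner (indFun (Subgroup.normalizer (K : Set G)) (alphaFun K φ)) ((ε : ℂ) • star χ)‖ ^ 2
      = ((if φ = χ then (1 : ℝ) else 0) - (c : ℝ) * n / (caE K : ℝ)) ^ 2 := by
  have hcf : IsClassFunction G (star χ) :=
    vc_isClassFunction (hS.hgen χ (Submodule.subset_span hχ))
  rw [Helper15.classInner_smul_right,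
    inner_ind_alphaFun_rel hC hφ hφ1 hχ hcf _ (hc χ hχ), hn, norm_mul]
  have h1 : ‖conj (ε : ℂ)‖ = 1 := by
    rcases hε with h | h <;> rw [h] <;> simp
  have h2 : (if φ = χ then (1 : ℂ) else 0) - conj ((c : ℂ) * (n : ℂ) / (caE K : ℂ))
      = (((if φ = χ then (1 : ℝ) else 0) - (c : ℝ) * n / (caE K : ℝ) : ℝ) : ℂ) := by
    by_cases h : φ = χ
    · rw [if_pos h, if_pos h]
      push_cast
      simp
    · rw [if_neg h, if_neg h]
      push_cast
      simp
  rw [h1, one_mul, h2, Complex.norm_real, Real.norm_eq_abs, sq_abs]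

/-- The contribution of a non-exceptional character to Bessel's inequality. -/
theorem norm_inner_const (hC : ∀ k ∈ K, k ≠ 1 → Subgroup.centralizer ({k} : Set G) ≤ K)
    {φ : ↥(Subgroup.normalizer (K : Set G)) → ℂ} (hφ : φ ∈ tfS K) (hφ1 : φ 1 = (caE K : ℂ))
    {ψ : G → ℂ} (hψ : IsClassFunction G ψ) (a : ℤ) (ha : ∀ k ∈ K, k ≠ 1 → ψ k = a)
    (ha0 : a ≠ 0) :
    1 ≤ ‖classInner (indFun (Subgroup.normalizer (K : Set G)) (alphaFun K φ)) ψ‖ ^ 2 := by
  rw [inner_ind_alphaFun_const hC hφ hφ1 hψ (a : ℂ) ha, norm_neg, RCLike.norm_conj]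
  have h1 : ‖((a : ℤ) : ℂ)‖ = |(a : ℝ)| := by
    rw [← Complex.ofReal_intCast, Complex.norm_real, Real.norm_eq_abs]
  rw [h1, sq_abs]
  have h2 : (1 : ℤ) ≤ a ^ 2 := by
    have : 0 < a ^ 2 := by positivity
    omega
  exact_mod_cast h2

end Cfsg.Agent.Helper79.Feit
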