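import Mathlib

/-!
# Small pieces for S4291 (helper89, board #3661): (W1) and (W2)

* `quat_klein`: the generalized quaternion group `Q_{4·2^n}` (`n ≥ 1`) maps onto the Klein
  four-group `DihedralGroup 2` with cyclic kernel.
* `quat_sq_index`: a subgroup of `QuaternionGroup (2^n)` containing all squares has index `≤ 4`.
* `mulAut_eq_one_of_odd`: an automorphism of odd order of a cyclic 2-group is trivial.
-/

namespace Cfsg.Agent.Helper79.FrobZW

open QuaternionGroup

/-- The underlying function of the Klein quotient map. -/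
def kleinFun (N : ℕ) (h : 2 ∣ 2 * N) : QuaternionGroup N → DihedralGroup 2
  | a i => DihedralGroup.r (ZMod.castHom h (ZMod 2) i)
  | xa i => DihedralGroup.sr (ZMod.castHom h (ZMod 2) i)

theorem castHom_N_eq_zero (N : ℕ) (h : 2 ∣ 2 * N) (hN : 2 ∣ N) :
    ZMod.castHom h (ZMod 2) (N : ZMod (2 * N)) = 0 := by
  rw [map_natCast]
  exact (ZMod.natCast_eq_zero_iff N 2).mpr hN

/-- The Klein quotient map as a monoid hom (for even `N`). -/
def kleinHom (N : ℕ) (hN : 2 ∣ N) : QuaternionGroup N →* DihedralGroup 2 :=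
  MonoidHom.mk' (kleinFun N (Dvd.intro _ rfl)) (by
    have h0 := castHom_N_eq_zero N (Dvd.intro _ rfl) hN
    rintro (i | i) (j | j)
    · simp only [a_mul_a, kleinFun, map_add, DihedralGroup.r_mul_r]
    · simp only [a_mul_xa, kleinFun, map_sub, DihedralGroup.r_mul_sr]
    · simp only [xa_mul_a, kleinFun, map_add, DihedralGroup.sr_mul_r]
    · simp only [xa_mul_xa, kleinFun, map_add, map_sub, DihedralGroup.sr_mul_sr, h0, zero_add])

theorem kleinHom_a (N : ℕ) (hN : 2 ∣ N) (i : ZMod (2 * N)) :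
    kleinHom N hN (a i) = DihedralGroup.r (ZMod.castHom (Dvd.intro _ rfl) (ZMod 2) i) := rfl

theorem kleinHom_xa (N : ℕ) (hN : 2 ∣ N) (i : ZMod (2 * N)) :
    kleinHom N hN (xa i) = DihedralGroup.sr (ZMod.castHom (Dvd.intro _ rfl) (ZMod 2) i) := rfl

theorem kleinHom_surjective (N : ℕ) (hN : 2 ∣ N) : Function.Surjective (kleinHom N hN) := by
  have hs : Function.Surjective (ZMod.castHom (Dvd.intro _ rfl : 2 ∣ 2 * N) (ZMod 2)) :=
    ZMod.castHom_surjective _
  rintro (j | j)
  · obtain ⟨i, rfl⟩ := hs j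
    exact ⟨a i, rfl⟩
  · obtain ⟨i, rfl⟩ := hs j
    exact ⟨xa i, rfl⟩

theorem a_one_zpow (N : ℕ) (z : ℤ) : (a 1 : QuaternionGroup N) ^ z = a (z : ZMod (2 * N)) := by
  have hinv : (a 1 : QuaternionGroup N)⁻¹ = a (-1) := by
    rw [inv_eq_iff_mul_eq_one, a_mul_a, add_neg_cancel, a_zero]
  induction z using Int.induction_on with
  | zero => rw [zpow_zero, Int.cast_zero, a_zero]
  | succ k ih =>
    rw [zpow_add_one, ih, a_mul_a]; push_cast; rfl
  | pred k ih =>
    rw [zpow_sub_one, ih, hinv, a_mul_a]; push_cast; ring_nf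

theorem a_mem_zpowers (N : ℕ) (i : ZMod (2 * N)) :
    (a i : QuaternionGroup N) ∈ Subgroup.zpowers (a 1 : QuaternionGroup N) := by
  obtain ⟨z, rfl⟩ := ZMod.intCast_surjective i
  exact ⟨z, a_one_zpow N z⟩

theorem kleinHom_ker_le (N : ℕ) (hN : 2 ∣ N) :
    (kleinHom N hN).ker ≤ Subgroup.zpowers (a 1 : QuaternionGroup N) := by
  rintro (i | i) hx
  · exact a_mem_zpowers N i
  · rw [MonoidHom.mem_ker, kleinHom_xa, DihedralGroup.one_def] at hx
    cases hx

/-- (W1a) `Q_{4·2^n}`, `n ≥ 1`, maps onto the Klein four-group with cyclic kernel. -/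
theorem quat_klein (n : ℕ) (hn : 1 ≤ n) :
    ∃ f : QuaternionGroup (2 ^ n) →* DihedralGroup 2, Function.Surjective f ∧ IsCyclic f.ker := by
  have hN : 2 ∣ 2 ^ n := dvd_pow_self 2 (by omega)
  refine ⟨kleinHom (2 ^ n) hN, kleinHom_surjective _ hN, ?_⟩
  have hle := kleinHom_ker_le (2 ^ n) hN
  have : IsCyclic ((kleinHom (2 ^ n) hN).ker.subgroupOf (Subgroup.zpowers (a 1))) :=
    inferInstance
  exact (Subgroup.subgroupOfEquivOfLe hle).isCyclic.mp this

theorem exists_half (N : ℕ) (i : ZMod (2 * N)) : ∃ m : ZMod (2 * N), i = m + m ∨ i = m + m + 1 := by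
  obtain ⟨z, rfl⟩ := ZMod.intCast_surjective i
  refine ⟨((z / 2 : ℤ) : ZMod (2 * N)), ?_⟩
  rcases Int.emod_two_eq_zero_or_one z with h | h
  · left
    have : z = z / 2 + z / 2 := by omega
    conv_lhs => rw [this]
    push_cast; rfl
  · right
    have : z = z / 2 + z / 2 + 1 := by omega
    conv_lhs => rw [this]
    push_cast; rfl

theorem inv_xa' (N : ℕ) (i : ZMod (2 * N)) : (xa i : QuaternionGroup N)⁻¹ = xa ((N : ZMod (2 * N)) + i) := by
  rw [inv_eq_iff_mul_eq_one, xa_mul_xa, one_def]
  congr 1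
  have : ((N : ZMod (2 * N)) + N) = 0 := by
    have : ((2 * N : ℕ) : ZMod (2 * N)) = 0 := ZMod.natCast_self _
    push_cast at this
    rw [← this]; ring
  linear_combination this

theorem inv_a' (N : ℕ) (i : ZMod (2 * N)) : (a i : QuaternionGroup N)⁻¹ = a (-i) := by
  rw [inv_eq_iff_mul_eq_one, a_mul_a, one_def]; simp

/-- representatives of the four cosets -/
def rep (N : ℕ) : Bool × Bool → QuaternionGroup N
  | (false, false) => a 0
  | (false, true) => a 1
  | (true, false) => xa 0
  | (true, true) => xa 1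

theorem quat_sq_index' (N : ℕ) (K : Subgroup (QuaternionGroup N))
    (hK : ∀ x : QuaternionGroup N, x * x ∈ K) : K.index ≤ 4 := by
  have ha : ∀ m : ZMod (2 * N), (a (m + m) : QuaternionGroup N) ∈ K := by
    intro m
    have := hK (a m)
    rwa [a_mul_a] at this
  have hsurj : Function.Surjective
      (fun b : Bool × Bool => (QuotientGroup.mk (rep N b) : QuaternionGroup N ⧸ K)) := by
    intro q
    induction q using QuotientGroup.induction_on with
    | H g =>
      rcases g with i | i
      · obtain ⟨m, rfl | rfl⟩ := exists_half N i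
        · refine ⟨(false, false), ?_⟩
          simp only [rep]
          rw [QuotientGroup.eq, inv_a', a_mul_a]
          simpa using ha m
        · refine ⟨(false, true), ?_⟩
          simp only [rep]
          rw [QuotientGroup.eq, inv_a', a_mul_a]
          have : (-1 + (m + m + 1) : ZMod (2 * N)) = m + m := by ring
          rw [this]; exact ha m
      · obtain ⟨m, rfl | rfl⟩ := exists_half N i
        · refine ⟨(true, false), ?_⟩
          simp only [rep]
          rw [QuotientGroup.eq, inv_xa', xa_mul_xa]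
          have : ((N : ZMod (2 * N)) + (m + m) - (N + 0) : ZMod (2 * N)) = m + m := by ring
          rw [this]; exact ha m
        · refine ⟨(true, true), ?_⟩
          simp only [rep]
          rw [QuotientGroup.eq, inv_xa', xa_mul_xa]
          have : ((N : ZMod (2 * N)) + (m + m + 1) - (N + 1) : ZMod (2 * N)) = m + m := by ring
          rw [this]; exact ha m
  have h := Nat.card_le_card_of_surjective _ hsurj
  rw [Subgroup.index]
  calc Nat.card (QuaternionGroup N ⧸ K) ≤ Nat.card (Bool × Bool) := h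
    _ = 4 := by simp [Nat.card_eq_fintype_card]

/-- (W1b) a subgroup of `QuaternionGroup (2^n)` containing all squares has index at most 4. -/
theorem quat_sq_index (n : ℕ) (K : Subgroup (QuaternionGroup (2 ^ n)))
    (hK : ∀ x : QuaternionGroup (2 ^ n), x * x ∈ K) : K.index ≤ 4 :=
  quat_sq_index' (2 ^ n) K hK

/-- (W2) an automorphism of odd order of a finite cyclic 2-group is trivial. -/
theorem mulAut_eq_one_of_odd {Q : Type*} [Group Q] [Finite Q] [IsCyclic Q] (hQ : IsPGroup 2 Q)
    (φ : MulAut Q) (hodd : Odd (orderOf φ)) : φ = 1 := by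
  have : Fact (Nat.Prime 2) := ⟨Nat.prime_two⟩
  obtain ⟨k, hk⟩ := (IsPGroup.iff_card.mp hQ)
  have hcard : Nat.card (MulAut Q) = Nat.totient (2 ^ k) := by
    rw [IsCyclic.card_mulAut, hk]
  have hfin : Finite (MulAut Q) := by
    apply Nat.finite_of_card_ne_zero
    rw [hcard]
    exact (Nat.totient_pos.mpr (by positivity)).ne'
  have hdvd : orderOf φ ∣ Nat.totient (2 ^ k) := by
    rw [← hcard]; exact orderOf_dvd_natCard φ
  have hpow : ∃ j, Nat.totient (2 ^ k) = 2 ^ j := by
    rcases Nat.eq_zero_or_pos k with rfl | hkpos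
    · exact ⟨0, by simp⟩
    · exact ⟨k - 1, by rw [Nat.totient_prime_pow Nat.prime_two hkpos]; simp⟩
  obtain ⟨j, hj⟩ := hpow
  rw [hj] at hdvd
  obtain ⟨i, -, hi⟩ := (Nat.dvd_prime_pow Nat.prime_two).mp hdvd
  have h1 : orderOf φ = 1 := by
    rcases Nat.eq_zero_or_pos i with rfl | hipos
    · simpa using hi
    · exfalso
      rw [hi] at hodd
      have : Even (2 ^ i) := (Nat.even_pow.mpr ⟨even_two, hipos.ne'⟩)
      exact (Nat.not_odd_iff_even.mpr this) hodd
  exact orderOf_eq_one_iff.mp h1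

end Cfsg.Agent.Helper79.FrobZW
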