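import Mathlib
set_option autoImplicit false

/-! (CC) for helper28's S2075 farm #15126: automorphisms preserve the orders of centralisers. -/

namespace Cfsg.Agent.Helper79.HeOut

universe u

/-- (CC) automorphisms preserve the orders of centralisers -/
theorem card_centralizer_map {H : Type u} [Group H] (β : MulAut H) (x : H) :
    Nat.card (Subgroup.centralizer ({β x} : Set H)) = Nat.card (Subgroup.centralizer ({x} : Set H)) := by
  symm
  refine Nat.card_congr
    { toFun := fun y => ⟨β y.1, ?_⟩
      invFun := fun y => ⟨β.symm y.1, ?_⟩
      left_inv := ?_
      right_inv := ?_ }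
  · have hy := y.2
    rw [Subgroup.mem_centralizer_singleton_iff] at hy ⊢
    rw [← map_mul, ← map_mul, hy]
  · have hy := y.2
    rw [Subgroup.mem_centralizer_singleton_iff] at hy ⊢
    apply β.injective
    rw [map_mul, map_mul, MulEquiv.apply_symm_apply, hy]
  · intro y
    apply Subtype.ext
    simp
  · intro y
    apply Subtype.ext
    simp

end Cfsg.Agent.Helper79.HeOut
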