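import Cfsg.Agent.Helper92.Fi22O.Rigid2
set_option autoImplicit false

/-! (EO) for helper28's S2075 farm #15126: the expansion rule for order patterns (helper92's
`innerN_of_cands` with the fix/move pattern replaced by the orders of the products). -/

namespace Cfsg.Agent.Helper79.HeOut
open Cfsg.Agent.Helper92.Fi23O Cfsg.Agent.Helper92.Fi22O

universe u v
variable {G : Type u} [Group G] {P : Type v} (M : TModel G P)

variable (N : Set (MulAut G)) (gens : List P) (pat : ℕ → ℕ → ℕ)

/-- the candidates for the next point: the orders of the products with the earlier points are prescribed -/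
def CandO (A : List P) (q : P) : Prop :=
  ∀ (i : ℕ) (a : P), A[i]? = some a → orderOf (M.τ a * M.τ q) = pat i A.length

/-- the standard generators have the order pattern `pat` -/
def StdO : Prop :=
  ∀ (i j : ℕ) (p p' : P), i < j → gens[i]? = some p → gens[j]? = some p' → orderOf (M.τ p * M.τ p') = pat i j

/-- (EO) the expansion rule for order patterns -/
theorem innerN_of_candsO (hstd : StdO M gens pat) (A : List P) (hlen : A.length < gens.length)
    (h : ∀ q, CandO M pat A q → InnerN M N gens (A ++ [q])) : InnerN M N gens A := by
  intro β hβ hR
  have hk : gens[A.length]? = some (gens[A.length]) := List.getElem?_eq_getElem hlen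
  obtain ⟨q, hq⟩ := hβ (gens[A.length])
  have hcand : CandO M pat A q := by
    intro i a ha
    have hi : i < A.length := by
      by_contra hcon
      rw [List.getElem?_eq_none (by omega)] at ha
      simp at ha
    have hi2 : i < gens.length := by omega
    have hp : gens[i]? = some (gens[i]) := List.getElem?_eq_getElem hi2
    have hord := hstd i A.length _ _ hi hp hk
    have hβa := hR i _ a hp ha
    rw [← hord, ← hβa, ← hq, ← map_mul]
    exact MulEquiv.orderOf_eq β _
  apply h q hcand β hβ
  intro i p a hp ha
  by_cases hi : i < A.length
  · rw [List.getElem?_append_left hi] at ha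
    exact hR i p a hp ha
  · have hi' : A.length ≤ i := by omega
    rw [List.getElem?_append_right hi'] at ha
    by_cases hi2 : i = A.length
    · subst hi2
      rw [hk] at hp
      simp only [Nat.sub_self, List.getElem?_cons_zero, Option.some.injEq] at ha hp
      rw [← hp, ← ha]
      exact hq
    · have : 0 < i - A.length := by omega
      rw [List.getElem?_eq_none (by simp; omega)] at ha
      simp at ha

end Cfsg.Agent.Helper79.HeOut
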