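import Cfsg.Agent.Helper92.Fi22O.Rigid2
set_option autoImplicit false

/-! (RS) for helper28's S2075 farm #15126: the reflection sequence computes the order of a product of
two involutions of the class. -/

namespace Cfsg.Agent.Helper79.HeOut
open Cfsg.Agent.Helper92.Fi23O Cfsg.Agent.Helper92.Fi22O

universe u v
variable {G : Type u} [Group G] {P : Type v} (M : TModel G P)

/-- in a group, if `A * A = 1` and `Q * Q = 1` then `A * (A * Q) ^ j * A = ((A * Q) ^ j)⁻¹`. -/
theorem RS_conj_pow {A Q : G} (hA : A * A = 1) (hQ : Q * Q = 1) (j : ℕ) :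
    A * (A * Q) ^ j * A = ((A * Q) ^ j)⁻¹ := by
  have hAinv : A⁻¹ = A := inv_eq_of_mul_eq_one_left hA
  have hQinv : Q⁻¹ = Q := inv_eq_of_mul_eq_one_left hQ
  have h1 : A * (A * Q) * A⁻¹ = (A * Q)⁻¹ := by
    rw [mul_inv_rev, hAinv, hQinv]
    calc A * (A * Q) * A = (A * A) * Q * A := by group
      _ = Q * A := by rw [hA, one_mul]
  calc A * (A * Q) ^ j * A = A * (A * Q) ^ j * A⁻¹ := by rw [hAinv]
    _ = (A * (A * Q) * A⁻¹) ^ j := by rw [conj_pow]
    _ = ((A * Q)⁻¹) ^ j := by rw [h1]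
    _ = ((A * Q) ^ j)⁻¹ := by rw [inv_pow]

/-- the closed formula for the reflection sequence. -/
theorem RS_formula (hinv : ∀ p, M.τ p * M.τ p = 1) (a q : P) (z : ℕ → P) (h0 : z 0 = a) (h1 : z 1 = q)
    (hstep : ∀ k, z (k + 2) = M.ρ (M.τ (z (k + 1))) (z k)) (k : ℕ) :
    M.τ (z k) = M.τ a * (M.τ a * M.τ q) ^ k ∧ M.τ (z (k + 1)) = M.τ a * (M.τ a * M.τ q) ^ (k + 1) := by
  have hA := hinv a
  have hQ := hinv q
  induction k with
  | zero =>
    refine ⟨by rw [h0, pow_zero, mul_one], ?_⟩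
    rw [zero_add, h1, pow_one, ← mul_assoc, hA, one_mul]
  | succ k ih =>
    refine ⟨ih.2, ?_⟩
    obtain ⟨ih1, ih2⟩ := ih
    have hz : z (k + 1 + 1) = M.ρ (M.τ (z (k + 1))) (z k) := hstep k
    rw [hz, ← M.conj, ih1, ih2]
    set A := M.τ a
    set d := A * M.τ q with hd
    have hc1 : A * d ^ (k + 1) * A = (d ^ (k + 1))⁻¹ := RS_conj_pow hA hQ (k + 1)
    have hc0 : A * d ^ k * A = (d ^ k)⁻¹ := RS_conj_pow hA hQ k
    have hAinv : A⁻¹ = A := inv_eq_of_mul_eq_one_left hA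
    have hinv' : (A * d ^ (k + 1))⁻¹ = A * d ^ (k + 1) := by
      rw [mul_inv_rev, hAinv, ← hc1]
      calc A * d ^ (k + 1) * A * A = A * d ^ (k + 1) * (A * A) := by group
        _ = A * d ^ (k + 1) := by rw [hA, mul_one]
    rw [hinv']
    calc A * d ^ (k + 1) * (A * d ^ k) * (A * d ^ (k + 1))
        = A * d ^ (k + 1) * (A * d ^ k * A) * d ^ (k + 1) := by group
      _ = A * d ^ (k + 1) * (d ^ k)⁻¹ * d ^ (k + 1) := by rw [hc0]
      _ = A * d ^ (k + 1 + 1) := by
          rw [pow_succ d k, pow_succ d (k + 1), pow_succ d k]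
          group

/-- (RS) the reflection sequence computes the order of a product of two involutions of the class -/
theorem orderOf_of_refl_seq (hinv : ∀ p, M.τ p * M.τ p = 1) (a q : P) (z : ℕ → P) (h0 : z 0 = a) (h1 : z 1 = q)
    (hstep : ∀ k, z (k + 2) = M.ρ (M.τ (z (k + 1))) (z k)) (m : ℕ) (hm : 0 < m) (hret : z m = a)
    (hne : ∀ k, 0 < k → k < m → z k ≠ a) : orderOf (M.τ a * M.τ q) = m := by
  have hf := fun k => (RS_formula M hinv a q z h0 h1 hstep k).1
  have key : ∀ k, (M.τ a * M.τ q) ^ k = 1 ↔ z k = a := by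
    intro k
    constructor
    · intro h
      apply M.inj
      rw [hf k, h, mul_one]
    · intro h
      have h2 := hf k
      rw [h] at h2
      have h3 : M.τ a * 1 = M.τ a * (M.τ a * M.τ q) ^ k := by rw [mul_one]; exact h2
      exact (mul_left_cancel h3).symm
  rw [orderOf_eq_iff hm]
  refine ⟨(key m).mpr hret, ?_⟩
  intro k hk hk0 h
  exact hne k hk0 hk ((key k).mp h)

end Cfsg.Agent.Helper79.HeOut
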