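import Mathlib
import Cfsg.Agent.Helper99.O9.Defs
import Cfsg.Agent.Helper99.O9.C7Defs
import Cfsg.Agent.Helper44.Spinor

set_option autoImplicit false
set_option linter.unusedSectionVars false
set_option linter.unusedVariables false

/-!
# S2517, case (C7), piece (CHEV2) (helper99's farm): `charpoly.eval (-1) ≠ 0` without the eigenvalue `-1`
-/

namespace Cfsg.Agent.Helper79.O9

open Matrix Polynomial QuadraticMap Cfsg.Agent.Helper44 Cfsg.Agent.Helper44.QType Cfsg.Agent.Helper94
  Cfsg.Agent.Helper99.O9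

universe u

variable {F : Type u} [Field F] [Fintype F]

/-- (CHEV2) -/
theorem charpoly_eval_neg_one {P : OPair F} (hf : P.Fpf') : P.M.charpoly.eval (-1) ≠ 0 := by
  have hdet : IsUnit (P.M + 1).det := (Matrix.isUnit_iff_isUnit_det _).mp hf
  rw [Matrix.eval_charpoly]
  have h1 : (Matrix.scalar P.ι (-1 : F) - P.M) = -(P.M + 1) := by
    ext i j
    simp [Matrix.scalar_apply, Matrix.diagonal_apply, Matrix.one_apply]
    split_ifs <;> ring
  rw [h1, Matrix.det_neg]
  intro h0
  rcases mul_eq_zero.mp h0 with h | h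
  · exact (pow_ne_zero _ (neg_ne_zero.mpr one_ne_zero)) h
  · exact hdet.ne_zero h

end Cfsg.Agent.Helper79.O9
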