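import Mathlib
import Cfsg.Agent.Helper99.O9.Defs
import Cfsg.Agent.Helper99.O9.C7Defs
import Cfsg.Agent.Helper44.Spinor

set_option autoImplicit false
set_option linter.unusedSectionVars false
set_option linter.unusedVariables false

/-!
# S2517, case (C7), piece (CHORD) (helper99's farm): Cayley–Hamilton bounds the order
-/

namespace Cfsg.Agent.Helper79.O9

open Matrix Polynomial QuadraticMap Cfsg.Agent.Helper44 Cfsg.Agent.Helper44.QType Cfsg.Agent.Helper94
  Cfsg.Agent.Helper99.O9

universe u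

variable {F : Type u} [Field F] [Fintype F]

/-- (CHORD) Cayley–Hamilton -/
theorem ord_dvd_of_charpoly_dvd {P : OPair F} {N : ℕ} (h : P.M.charpoly ∣ X ^ N - 1) : P.ord ∣ N := by
  have hCH : aeval P.M P.M.charpoly = 0 := Matrix.aeval_self_charpoly P.M
  obtain ⟨c, hc⟩ := h
  have h1 : aeval P.M (X ^ N - 1 : F[X]) = 0 := by
    rw [hc, map_mul, hCH, zero_mul]
  have h2 : P.M ^ N = 1 := by
    have : aeval P.M (X ^ N - 1 : F[X]) = P.M ^ N - 1 := by
      simp
    rw [this] at h1
    exact sub_eq_zero.mp h1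
  unfold OPair.ord
  apply orderOf_dvd_of_pow_eq_one
  apply Subtype.ext
  apply Units.ext
  have h3 : (((P.g ^ N : ↥(Cfsg.isometryGroup F ⇑P.Q)) : GL P.ι F) : Matrix P.ι P.ι F) = P.M ^ N := by
    rw [Subgroup.coe_pow, Units.val_pow_eq_pow_val]
    rfl
  rw [h3, h2]
  rfl

end Cfsg.Agent.Helper79.O9
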