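import Mathlib
import Cfsg.Prelude.Def_Blocks
import Cfsg.Agent.Helper79.ClassMult
import Cfsg.Agent.Helper80.CharLevel
import Cfsg.Agent.Helper81.RootCount
import Cfsg.Agent.Helper81.ConjIrr

/-!
# A real element with centralizer of odd order forces a character of even degree

If `w ≠ 1` is conjugate to its inverse and `C_G(w)` has odd order, then `G` has an irreducible
character of even degree.  (Frobenius–Schur count of square roots of `w`, read modulo `2`.)
-/

set_option autoImplicit false

namespace Cfsg.Agent.Helper79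

open Cfsg
open scoped ComplexConjugate

/-- The additive subgroup `2𝒪` of `ℂ`, `𝒪` the ring of algebraic integers. -/
def twoInt : AddSubgroup ℂ where
  carrier := {z | IsIntegral ℤ (z / 2)}
  add_mem' := by
    intro a b ha hb
    simp only [Set.mem_setOf_eq] at *
    rw [add_div]; exact ha.add hb
  zero_mem' := by
    simp only [Set.mem_setOf_eq, zero_div]; exact isIntegral_zero
  neg_mem' := by
    intro a ha
    simp only [Set.mem_setOf_eq] at *
    rw [neg_div]; exact ha.neg

theorem mem_twoInt {z : ℂ} : z ∈ twoInt ↔ IsIntegral ℤ (z / 2) := Iff.rfl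

theorem two_mul_mem_twoInt {z : ℂ} (hz : IsIntegral ℤ z) : 2 * z ∈ twoInt := by
  rw [mem_twoInt, mul_div_cancel_left₀ z two_ne_zero]; exact hz

theorem one_not_mem_twoInt : (1 : ℂ) ∉ twoInt := by
  intro h
  rw [mem_twoInt] at h
  have h2 : IsIntegral ℤ (((1 : ℕ) : ℂ) / ((2 : ℕ) : ℂ)) := by simpa using h
  have := Helper80.dvd_of_isIntegral_div (by norm_num) h2
  omega

/-- A sum over a fintype with an involution `σ` under which `f` is invariant, such that the values
at the fixed points lie in `2𝒪` and all values are algebraic integers, lies in `2𝒪`. -/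
theorem sum_mem_twoInt_of_involution {ι : Type*} [Fintype ι] [DecidableEq ι] (σ : ι → ι)
    (hσ : ∀ x, σ (σ x) = x) (f : ι → ℂ) (hf : ∀ x, f (σ x) = f x)
    (hint : ∀ x, IsIntegral ℤ (f x)) (hfix : ∀ x, σ x = x → f x ∈ twoInt) :
    ∑ x, f x ∈ twoInt := by
  rw [← QuotientAddGroup.eq_zero_iff, QuotientAddGroup.mk_sum]
  refine Finset.sum_involution (fun x _ => σ x) ?_ ?_ (fun _ _ => Finset.mem_univ _)
    (fun x _ => hσ x)
  · intro x _
    rw [hf x, ← QuotientAddGroup.mk_add, QuotientAddGroup.eq_zero_iff, ← two_mul]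
    exact two_mul_mem_twoInt (hint x)
  · intro x _ hx hfx
    apply hx
    rw [QuotientAddGroup.eq_zero_iff]
    exact hfix x hfx

section
variable {G : Type*} [Group G] [Finite G]

/-- An element whose centralizer has odd order has exactly one square root. -/
theorem card_sqrt_eq_one_of_odd {w : G}
    (hodd : Odd (Nat.card (Subgroup.centralizer ({w} : Set G)))) :
    Nat.card {u : G // u * u = w} = 1 := by
  obtain ⟨m, hm⟩ := hodd
  set C := Subgroup.centralizer ({w} : Set G) with hC
  have hpow : ∀ u : G, u ∈ C → u ^ (2 * m + 1) = 1 := by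
    intro u hu
    have := pow_card_eq_one' (G := C) (x := ⟨u, hu⟩)
    rw [hm] at this
    exact congrArg Subtype.val this
  have huniq : ∀ u : G, u * u = w → u = w ^ (m + 1) := by
    intro u hu
    have huC : u ∈ C := by
      rw [hC, Subgroup.mem_centralizer_iff]
      intro x hx
      rw [Set.mem_singleton_iff] at hx
      subst hx
      rw [← hu, mul_assoc]
    have h1 := hpow u huC
    rw [← hu, ← pow_two, ← pow_mul]
    have : 2 * (m + 1) = (2 * m + 1) + 1 := by ring
    rw [this, pow_succ, h1, one_mul]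
  have hwC : w ∈ C := by
    rw [hC, Subgroup.mem_centralizer_iff]
    intro x hx
    rw [Set.mem_singleton_iff] at hx
    subst hx; rfl
  have hex : w ^ (m + 1) * w ^ (m + 1) = w := by
    rw [← pow_add]
    have : m + 1 + (m + 1) = (2 * m + 1) + 1 := by ring
    rw [this, pow_succ, hpow w hwC, one_mul]
  rw [Nat.card_eq_one_iff_unique]
  exact ⟨⟨fun a b => Subtype.ext ((huniq a a.2).trans (huniq b b.2).symm)⟩, ⟨⟨_, hex⟩⟩⟩

/-- If `w ≠ 1` is conjugate to its inverse and `C_G(w)` has odd order then some irreducible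
character of `G` has even degree. -/
theorem exists_even_charDegree_of_real_odd_centralizer {w : G} (hw1 : w ≠ 1)
    (hreal : IsConj w w⁻¹)
    (hodd : Odd (Nat.card (Subgroup.centralizer ({w} : Set G)))) :
    ∃ χ : IrrCharacter G, Even (charDegree (χ : G → ℂ)) := by
  classical
  by_contra hno
  have hall : ∀ χ : IrrCharacter G, Odd (charDegree (χ : G → ℂ)) := by
    intro χ
    rw [← Nat.not_even_iff_odd]
    exact fun h => hno ⟨χ, h⟩
  have := Fintype.ofFinite G
  have : Finite (IrrCharacter G) := irr_finite'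
  have := Fintype.ofFinite (IrrCharacter G)
  have hA := Helper81.card_sqrt (G := G) w
  rw [card_sqrt_eq_one_of_odd hodd, Nat.cast_one] at hA
  have hB := sum_irr_one_mul (G := G) w
  rw [if_neg hw1] at hB
  have hreal' : ∀ χ : IrrCharacter G, conj ((χ : G → ℂ) w) = (χ : G → ℂ) w := by
    intro χ
    rw [← irr_inv]
    exact (isClassFunction_iff_isConj.1 (irr_isClassFunction χ) _ _ hreal).symm
  have hsub : (1 : ℂ) = ∑ χ : IrrCharacter G,
      (Helper81.fsInd (χ : G → ℂ) - (χ : G → ℂ) 1) * (χ : G → ℂ) w := by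
    simp only [sub_mul]
    rw [Finset.sum_sub_distrib, ← hA, hB, sub_zero]
  apply one_not_mem_twoInt
  rw [hsub]
  have hfsint : ∀ χ : IrrCharacter G, IsIntegral ℤ (Helper81.fsInd (χ : G → ℂ)) := by
    intro χ
    rcases Helper81.fsInd_trichotomy χ.2 with h | h | h <;> rw [h]
    · exact isIntegral_zero
    · exact isIntegral_one
    · exact isIntegral_one.neg
  refine sum_mem_twoInt_of_involution (Helper81.irrConj G)
    (fun χ => by apply Subtype.ext; funext g; simp) _ ?_ ?_ ?_
  · intro χ
    have h1 : Helper81.fsInd ((Helper81.irrConj G χ : IrrCharacter G) : G → ℂ)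
        = Helper81.fsInd (χ : G → ℂ) := by
      have e : Helper81.fsInd ((Helper81.irrConj G χ : IrrCharacter G) : G → ℂ)
          = conj (Helper81.fsInd (χ : G → ℂ)) := by
        unfold Helper81.fsInd
        rw [map_mul, map_sum, map_inv₀, Complex.conj_natCast]
        rfl
      rw [e]
      rcases Helper81.fsInd_trichotomy χ.2 with h | h | h <;> rw [h] <;> simp
    have h2 : ((Helper81.irrConj G χ : IrrCharacter G) : G → ℂ) 1 = (χ : G → ℂ) 1 := by
      rw [Helper81.irrConj_apply, irr_one, Complex.conj_natCast]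
    have h3 : ((Helper81.irrConj G χ : IrrCharacter G) : G → ℂ) w = (χ : G → ℂ) w := by
      rw [Helper81.irrConj_apply, hreal']
    rw [h1, h2, h3]
  · intro χ
    refine IsIntegral.mul (IsIntegral.sub (hfsint χ) ?_) ?_
    · exact Helper80.IsCharacter.isIntegral (irr_isCharacter χ) 1
    · exact Helper80.IsCharacter.isIntegral (irr_isCharacter χ) w
  · intro χ hχ
    rw [Helper81.irrConj_eq_self_iff] at hχ
    have hne := (Helper81.fsInd_ne_zero_iff χ.2).2 hχ
    obtain ⟨k, hk⟩ := hall χ
    have hint := Helper80.IsCharacter.isIntegral (irr_isCharacter χ) w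
    rw [irr_one, hk]
    rcases Helper81.fsInd_trichotomy χ.2 with h | h | h
    · exact absurd h hne
    · rw [h]
      have : ((1 : ℂ) - ((2 * k + 1 : ℕ) : ℂ)) * (χ : G → ℂ) w
          = 2 * (-(k : ℂ) * (χ : G → ℂ) w) := by push_cast; ring
      rw [this]
      refine two_mul_mem_twoInt (IsIntegral.mul ?_ hint)
      have : (-(k : ℂ)) = ((-(k : ℤ) : ℤ) : ℂ) := by push_cast; ring
      rw [this]
      exact isIntegral_algebraMap
    · rw [h]
      have : ((-1 : ℂ) - ((2 * k + 1 : ℕ) : ℂ)) * (χ : G → ℂ) w
          = 2 * ((-(k : ℂ) - 1) * (χ : G → ℂ) w) := by push_cast; ring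
      rw [this]
      refine two_mul_mem_twoInt (IsIntegral.mul ?_ hint)
      have : (-(k : ℂ) - 1) = ((-(k : ℤ) - 1 : ℤ) : ℂ) := by push_cast; ring
      rw [this]
      exact isIntegral_algebraMap
end

end Cfsg.Agent.Helper79
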