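import Mathlib
import Cfsg.Agent.Helper99.P4Defs

set_option autoImplicit false
open scoped MatrixGroups

namespace Cfsg.Agent.Helper79.P4

open Matrix Polynomial Cfsg.Agent.Helper99.P4 Cfsg.Geo

variable {F : Type*} [Field F]

/-- generic: a trace obstruction excludes all conjugates from a subgroup `N`. -/
theorem no_conj_mem_of_trace (N : Subgroup (GL (Fin 4) F)) (r : ℕ) (P : F → Prop)
    (hN : ∀ g ∈ N, (∃ z : F, ((g ^ r : GL (Fin 4) F) : Matrix (Fin 4) (Fin 4) F) = z • 1) →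
      (∀ z : F, (g : Matrix (Fin 4) (Fin 4) F) ≠ z • 1) →
      P (Matrix.trace (g : Matrix (Fin 4) (Fin 4) F) *
        Matrix.trace ((g⁻¹ : GL (Fin 4) F) : Matrix (Fin 4) (Fin 4) F)))
    (x : GL (Fin 4) F)
    (hxr : ∃ z : F, ((x ^ r : GL (Fin 4) F) : Matrix (Fin 4) (Fin 4) F) = z • 1)
    (hxs : ∀ z : F, (x : Matrix (Fin 4) (Fin 4) F) ≠ z • 1)
    (hP : ¬ P (Matrix.trace (x : Matrix (Fin 4) (Fin 4) F) *
        Matrix.trace ((x⁻¹ : GL (Fin 4) F) : Matrix (Fin 4) (Fin 4) F))) :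
    ∀ g : GL (Fin 4) F, g⁻¹ * x * g ∉ N := by
  intro g hg
  obtain ⟨z, hz⟩ := hxr
  have h1 : ∃ z : F, (((g⁻¹ * x * g) ^ r : GL (Fin 4) F) : Matrix (Fin 4) (Fin 4) F) = z • 1 := by
    refine ⟨z, ?_⟩
    have : (g⁻¹ * x * g) ^ r = g⁻¹ * x ^ r * g := by
      have := conj_pow (a := g⁻¹) (i := r) (b := x)
      simpa using this
    rw [this, Units.val_mul, Units.val_mul, hz, Matrix.mul_smul, Matrix.smul_mul, Matrix.mul_one,
      ← Units.val_mul, inv_mul_cancel, Units.val_one]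
  have h2 : ∀ z : F, ((g⁻¹ * x * g : GL (Fin 4) F) : Matrix (Fin 4) (Fin 4) F) ≠ z • 1 := by
    intro z hz'
    apply hxs z
    have : x = g * (g⁻¹ * x * g) * g⁻¹ := by group
    rw [this, Units.val_mul, Units.val_mul, hz', Matrix.mul_smul, Matrix.smul_mul, Matrix.mul_one,
      ← Units.val_mul, mul_inv_cancel, Units.val_one]
  have h3 := hN _ hg h1 h2
  apply hP
  have e1 : Matrix.trace ((g⁻¹ * x * g : GL (Fin 4) F) : Matrix (Fin 4) (Fin 4) F) =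
      Matrix.trace (x : Matrix (Fin 4) (Fin 4) F) := by
    rw [Units.val_mul, Units.val_mul]
    exact Matrix.trace_units_conj' g _
  have e2 : Matrix.trace (((g⁻¹ * x * g)⁻¹ : GL (Fin 4) F) : Matrix (Fin 4) (Fin 4) F) =
      Matrix.trace ((x⁻¹ : GL (Fin 4) F) : Matrix (Fin 4) (Fin 4) F) := by
    have : (g⁻¹ * x * g)⁻¹ = g⁻¹ * x⁻¹ * g := by group
    rw [this, Units.val_mul, Units.val_mul]
    exact Matrix.trace_units_conj' g _
  rw [e1, e2] at h3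
  exact h3

/-- (D3) -/
theorem exists_derangement_three {i : F} (hi : i ^ 2 = -1) (h2 : (2 : F) ≠ 0) (h3 : (3 : F) ≠ 0)
    (h7 : (7 : F) ≠ 0) (ω : F) (hω : ω ^ 2 + ω + 1 = 0)
    (hN : ∀ g ∈ N0 i hi, (∃ z : F, ((g ^ 3 : GL (Fin 4) F) : Matrix (Fin 4) (Fin 4) F) = z • 1) →
      (∀ z : F, (g : Matrix (Fin 4) (Fin 4) F) ≠ z • 1) →
      Matrix.trace (g : Matrix (Fin 4) (Fin 4) F) * Matrix.trace ((g⁻¹ : GL (Fin 4) F) : Matrix (Fin 4) (Fin 4) F) = 0 ∨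
      Matrix.trace (g : Matrix (Fin 4) (Fin 4) F) * Matrix.trace ((g⁻¹ : GL (Fin 4) F) : Matrix (Fin 4) (Fin 4) F) = 1 ∨
      Matrix.trace (g : Matrix (Fin 4) (Fin 4) F) * Matrix.trace ((g⁻¹ : GL (Fin 4) F) : Matrix (Fin 4) (Fin 4) F) = 4) :
    ∃ x ∈ specialLinear (Fin 4) F,
      (∃ z : F, ((x ^ 3 : GL (Fin 4) F) : Matrix (Fin 4) (Fin 4) F) = z • 1) ∧
      (∀ z : F, (x : Matrix (Fin 4) (Fin 4) F) ≠ z • 1) ∧
      ∀ g : GL (Fin 4) F, g⁻¹ * x * g ∉ N0 i hi := by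
  have hω3 : ω ^ 3 = 1 := by linear_combination (ω - 1) * hω
  have hmul : (Matrix.diagonal ![ω ^ 2, ω ^ 2, ω ^ 2, 1] : Matrix (Fin 4) (Fin 4) F) *
      Matrix.diagonal ![ω, ω, ω, 1] = 1 := by
    rw [Matrix.diagonal_mul_diagonal, ← Matrix.diagonal_one]
    congr 1
    ext k
    fin_cases k <;> simp [← pow_succ, hω3]
  have hmul' : (Matrix.diagonal ![ω, ω, ω, 1] : Matrix (Fin 4) (Fin 4) F) *
      Matrix.diagonal ![ω ^ 2, ω ^ 2, ω ^ 2, 1] = 1 := by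
    rw [Matrix.diagonal_mul_diagonal, ← Matrix.diagonal_one]
    congr 1
    ext k
    fin_cases k <;> simp [← pow_succ', hω3]
  set x : GL (Fin 4) F := ⟨Matrix.diagonal ![ω ^ 2, ω ^ 2, ω ^ 2, 1], Matrix.diagonal ![ω, ω, ω, 1],
    hmul, hmul'⟩ with hx
  have hxv : (x : Matrix (Fin 4) (Fin 4) F) = Matrix.diagonal ![ω ^ 2, ω ^ 2, ω ^ 2, 1] := rfl
  have hxi : ((x⁻¹ : GL (Fin 4) F) : Matrix (Fin 4) (Fin 4) F) = Matrix.diagonal ![ω, ω, ω, 1] := rfl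
  have hx3 : ((x ^ 3 : GL (Fin 4) F) : Matrix (Fin 4) (Fin 4) F) = (1 : F) • 1 := by
    rw [Units.val_pow_eq_pow_val, hxv, Matrix.diagonal_pow, one_smul, ← Matrix.diagonal_one]
    congr 1
    ext k
    fin_cases k <;> simp [← pow_mul] <;> (rw [show ω ^ 6 = (ω ^ 3) ^ 2 by ring, hω3]; ring)
  have hxs : ∀ z : F, (x : Matrix (Fin 4) (Fin 4) F) ≠ z • 1 := by
    intro z hz
    rw [hxv] at hz
    have e0 := congrFun (congrFun hz 0) 0
    have e3 := congrFun (congrFun hz 3) 3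
    simp at e0 e3
    -- ω^2 = z, 1 = z
    have hω2 : ω ^ 2 = 1 := by rw [e0, ← e3]
    apply h3
    have h4 : ω = 1 := by
      have := hω3
      rw [pow_succ, hω2, one_mul] at this
      exact this
    rw [h4] at hω
    linear_combination hω
  refine ⟨x, ?_, ⟨1, hx3⟩, hxs, ?_⟩
  · change Matrix.GeneralLinearGroup.det x = 1
    ext
    rw [Matrix.GeneralLinearGroup.val_det_apply, hxv, Matrix.det_diagonal]
    simp [Fin.prod_univ_four]
    rw [show ω ^ 2 * ω ^ 2 * ω ^ 2 = (ω ^ 3) ^ 2 by ring, hω3]; ring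
  · apply no_conj_mem_of_trace (N0 i hi) 3 (fun t => t = 0 ∨ t = 1 ∨ t = 4) hN x ⟨1, hx3⟩ hxs
    rw [hxv, hxi]
    have e : Matrix.trace (Matrix.diagonal ![ω ^ 2, ω ^ 2, ω ^ 2, 1] : Matrix (Fin 4) (Fin 4) F) *
        Matrix.trace (Matrix.diagonal ![ω, ω, ω, 1] : Matrix (Fin 4) (Fin 4) F) = 7 := by
      simp only [Matrix.trace_diagonal, Fin.sum_univ_four]
      have e0 : (![ω ^ 2, ω ^ 2, ω ^ 2, 1] : Fin 4 → F) 0 = ω ^ 2 := rfl
      have e1 : (![ω ^ 2, ω ^ 2, ω ^ 2, 1] : Fin 4 → F) 1 = ω ^ 2 := rfl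
      have e2 : (![ω ^ 2, ω ^ 2, ω ^ 2, 1] : Fin 4 → F) 2 = ω ^ 2 := rfl
      have e3 : (![ω ^ 2, ω ^ 2, ω ^ 2, 1] : Fin 4 → F) 3 = 1 := rfl
      have f0 : (![ω, ω, ω, 1] : Fin 4 → F) 0 = ω := rfl
      have f1 : (![ω, ω, ω, 1] : Fin 4 → F) 1 = ω := rfl
      have f2 : (![ω, ω, ω, 1] : Fin 4 → F) 2 = ω := rfl
      have f3 : (![ω, ω, ω, 1] : Fin 4 → F) 3 = 1 := rfl
      rw [e0, e1, e2, e3, f0, f1, f2, f3]
      linear_combination (9 : F) * hω3 + (3 : F) * hω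
    rw [e]
    push Not
    refine ⟨h7, ?_, ?_⟩
    · intro h
      apply h2
      have h6 : (2 : F) * 3 = 0 := by linear_combination h
      rcases mul_eq_zero.mp h6 with h | h
      · exact h
      · exact absurd h h3
    · intro h
      apply h3
      linear_combination h

end Cfsg.Agent.Helper79.P4
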