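import Mathlib
import Cfsg.Agent.Helper99.P4Defs
import Cfsg.Agent.Helper79.P4D3

set_option autoImplicit false
open scoped MatrixGroups

namespace Cfsg.Agent.Helper79.P4

open Matrix Polynomial Cfsg.Agent.Helper99.P4 Cfsg.Geo

variable {F : Type*} [Field F]

/-- the order-5 element `[[0,-1],[1,τ]] ⊕ 1` -/
def d5X (τ : F) : Matrix (Fin 4) (Fin 4) F := !![0,-1,0,0; 1,τ,0,0; 0,0,1,0; 0,0,0,1]
/-- its inverse -/
def d5Y (τ : F) : Matrix (Fin 4) (Fin 4) F := !![τ,1,0,0; -1,0,0,0; 0,0,1,0; 0,0,0,1]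
def d5X2 (τ : F) : Matrix (Fin 4) (Fin 4) F := !![-1,-τ,0,0; τ,-τ,0,0; 0,0,1,0; 0,0,0,1]
def d5X3 (τ : F) : Matrix (Fin 4) (Fin 4) F := !![-τ,τ,0,0; -τ,-1,0,0; 0,0,1,0; 0,0,0,1]

theorem d5X_mul_d5Y (τ : F) : d5X τ * d5Y τ = 1 := by
  ext a b; fin_cases a <;> fin_cases b <;>
    simp [d5X, d5Y, Matrix.mul_apply, Fin.sum_univ_four]

theorem d5Y_mul_d5X (τ : F) : d5Y τ * d5X τ = 1 := by
  ext a b; fin_cases a <;> fin_cases b <;>
    simp [d5X, d5Y, Matrix.mul_apply, Fin.sum_univ_four]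

theorem d5X_sq (τ : F) (hτ : τ ^ 2 + τ - 1 = 0) : d5X τ * d5X τ = d5X2 τ := by
  ext a b; fin_cases a <;> fin_cases b <;>
    simp [d5X, d5X2, Matrix.mul_apply, Fin.sum_univ_four]
  linear_combination hτ

theorem d5X_cube (τ : F) (hτ : τ ^ 2 + τ - 1 = 0) : d5X2 τ * d5X τ = d5X3 τ := by
  ext a b; fin_cases a <;> fin_cases b <;>
    simp [d5X, d5X2, d5X3, Matrix.mul_apply, Fin.sum_univ_four] <;>
    linear_combination -hτ

theorem d5X_five (τ : F) (hτ : τ ^ 2 + τ - 1 = 0) : d5X3 τ * d5X2 τ = 1 := by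
  ext a b; fin_cases a <;> fin_cases b <;>
    simp [d5X2, d5X3, Matrix.mul_apply, Fin.sum_univ_four] <;>
    linear_combination hτ

theorem d5X_pow_five (τ : F) (hτ : τ ^ 2 + τ - 1 = 0) : d5X τ ^ 5 = 1 := by
  have : d5X τ ^ 5 = (d5X τ * d5X τ * d5X τ) * (d5X τ * d5X τ) := by
    simp only [pow_succ, pow_zero, one_mul, Matrix.mul_assoc]
  rw [this, d5X_sq τ hτ, d5X_cube τ hτ, d5X_five τ hτ]

theorem det_d5X (τ : F) : (d5X τ).det = 1 := by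
  unfold d5X
  simp [Matrix.det_succ_row_zero, Fin.sum_univ_succ, Fin.succAbove]

theorem trace_d5X (τ : F) : (d5X τ).trace = τ + 2 := by
  simp [d5X, Matrix.trace, Fin.sum_univ_four]
  ring

theorem trace_d5Y (τ : F) : (d5Y τ).trace = τ + 2 := by
  simp [d5Y, Matrix.trace, Fin.sum_univ_four]
  ring

/-- (D5) -/
theorem exists_derangement_five {i : F} (hi : i ^ 2 = -1) (h2 : (2 : F) ≠ 0) (h5 : (5 : F) ≠ 0)
    (τ : F) (hτ : τ ^ 2 + τ - 1 = 0)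
    (hN : ∀ g ∈ N0 i hi, (∃ z : F, ((g ^ 5 : GL (Fin 4) F) : Matrix (Fin 4) (Fin 4) F) = z • 1) →
      (∀ z : F, (g : Matrix (Fin 4) (Fin 4) F) ≠ z • 1) →
      Matrix.trace (g : Matrix (Fin 4) (Fin 4) F) * Matrix.trace ((g⁻¹ : GL (Fin 4) F) : Matrix (Fin 4) (Fin 4) F) = 0 ∨
      Matrix.trace (g : Matrix (Fin 4) (Fin 4) F) * Matrix.trace ((g⁻¹ : GL (Fin 4) F) : Matrix (Fin 4) (Fin 4) F) = 1) :
    ∃ x ∈ specialLinear (Fin 4) F,
      (∃ z : F, ((x ^ 5 : GL (Fin 4) F) : Matrix (Fin 4) (Fin 4) F) = z • 1) ∧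
      (∀ z : F, (x : Matrix (Fin 4) (Fin 4) F) ≠ z • 1) ∧
      ∀ g : GL (Fin 4) F, g⁻¹ * x * g ∉ N0 i hi := by
  set x : GL (Fin 4) F := ⟨d5X τ, d5Y τ, d5X_mul_d5Y τ, d5Y_mul_d5X τ⟩ with hx
  have hxv : (x : Matrix (Fin 4) (Fin 4) F) = d5X τ := rfl
  have hxi : ((x⁻¹ : GL (Fin 4) F) : Matrix (Fin 4) (Fin 4) F) = d5Y τ := rfl
  have hx5 : ((x ^ 5 : GL (Fin 4) F) : Matrix (Fin 4) (Fin 4) F) = (1 : F) • 1 := by
    rw [Units.val_pow_eq_pow_val, hxv, d5X_pow_five τ hτ, one_smul]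
  have hxs : ∀ z : F, (x : Matrix (Fin 4) (Fin 4) F) ≠ z • 1 := by
    intro z hz
    rw [hxv] at hz
    have e := congrFun (congrFun hz 1) 0
    simp [d5X] at e
  refine ⟨x, ?_, ⟨1, hx5⟩, hxs, ?_⟩
  · change Matrix.GeneralLinearGroup.det x = 1
    ext
    rw [Matrix.GeneralLinearGroup.val_det_apply, hxv, det_d5X]
    rfl
  · apply no_conj_mem_of_trace (N0 i hi) 5 (fun t => t = 0 ∨ t = 1) hN x ⟨1, hx5⟩ hxs
    rw [hxv, hxi, trace_d5X, trace_d5Y]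
    have e : (τ + 2) * (τ + 2) = 5 + 3 * τ := by linear_combination hτ
    rw [e]
    push Not
    refine ⟨?_, ?_⟩
    · intro h
      -- 3τ = -5 ⇒ 9τ²+9τ-9 = 25 - 15 - 9 = 1 = 0
      have : (1 : F) = 0 := by linear_combination (9 : F) * hτ - (3 * τ - 2) * h
      exact one_ne_zero this
    · intro h
      -- 3τ = -4 ⇒ 16 - 12 - 9 = -5
      apply h5
      linear_combination (3 * τ - 1) * h - (9 : F) * hτ

end Cfsg.Agent.Helper79.P4
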