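import Cfsg.Agent.Helper31.PronAL.Defs

/-! (CJ) + (NZ-local) for helper31's PRONAL farm #15201 (S2225 block AL). -/

set_option autoImplicit false
set_option linter.unusedSectionVars false
set_option linter.unusedVariables false

namespace Cfsg.Agent.Helper79.Pron

open Matrix Cfsg.Agent.Helper42.DZ Cfsg.Agent.Helper84.PSLn Cfsg.Agent.Helper31.Pron

variable {n : ℕ} {F : Type*} [Field F]

/-- local copy of (NZ): the entries of a monomial matrix in the positions of its permutation are nonzero -/
theorem CJ_mono_ne_zero (m : SLn n F) (σ : Equiv.Perm (Fin n))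
    (hσ : ∀ i j : Fin n, j ≠ σ i → m.1 i j = 0) (i : Fin n) : m.1 i (σ i) ≠ 0 := by
  intro h0
  have hrow : ∀ j, m.1 i j = 0 := by
    intro j
    by_cases hj : j = σ i
    · rw [hj]; exact h0
    · exact hσ i j hj
  have hdet : m.1.det = 0 := Matrix.det_eq_zero_of_row_eq_zero i hrow
  have h1 : m.1.det = 1 := m.2
  rw [h1] at hdet
  exact one_ne_zero hdet

/-- the matrix identity behind (CJ). -/
theorem CJ_mul_transvection (m : SLn n F) (σ : Equiv.Perm (Fin n))
    (hσ : ∀ i j : Fin n, j ≠ σ i → m.1 i j = 0) {a b : Fin n} (hab : a ≠ b) (c : F) :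
    m * Matrix.SpecialLinearGroup.transvection (σ.injective.ne hab) c =
      Matrix.SpecialLinearGroup.transvection hab (c * m.1 a (σ a) / m.1 b (σ b)) * m := by
  have hb : m.1 b (σ b) ≠ 0 := CJ_mono_ne_zero m σ hσ b
  apply Subtype.ext
  rw [Matrix.SpecialLinearGroup.coe_mul, Matrix.SpecialLinearGroup.coe_mul,
    Matrix.SpecialLinearGroup.transvection_coe, Matrix.SpecialLinearGroup.transvection_coe]
  rw [Matrix.mul_add, Matrix.add_mul, Matrix.mul_one, Matrix.one_mul]
  congr 1
  ext i j
  rw [Matrix.mul_apply, Matrix.mul_apply]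
  simp only [Matrix.single_apply]
  by_cases hj : j = σ b
  · subst hj
    by_cases hi : i = a
    · subst hi
      rw [Finset.sum_eq_single (σ i), Finset.sum_eq_single b]
      · simp only [and_self, if_true]
        field_simp
      · intro k _ hk
        rw [if_neg (by rintro ⟨-, h⟩; exact hk h.symm), zero_mul]
      · intro h; exact absurd (Finset.mem_univ _) h
      · intro k _ hk
        rw [if_neg (by rintro ⟨h, -⟩; exact hk h.symm), mul_zero]
      · intro h; exact absurd (Finset.mem_univ _) h
    · rw [Finset.sum_eq_zero, Finset.sum_eq_zero]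
      · intro k _
        rw [if_neg (by rintro ⟨h, -⟩; exact hi h.symm), zero_mul]
      · intro k _
        by_cases hk : k = σ a
        · subst hk
          have : m.1 i (σ a) = 0 := hσ i (σ a) (fun h => hi (σ.injective h).symm)
          rw [this, zero_mul]
        · rw [if_neg (by rintro ⟨h, -⟩; exact hk h.symm), mul_zero]
  · rw [Finset.sum_eq_zero, Finset.sum_eq_zero]
    · intro k _
      by_cases hk : k = b
      · subst hk
        rw [hσ k j hj, mul_zero]
      · rw [if_neg (by rintro ⟨-, h⟩; exact hk h.symm), zero_mul]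
    · intro k _
      rw [if_neg (by rintro ⟨-, h⟩; exact hj h.symm), mul_zero]

/-- (CJ) `m⁻¹ x_ab(c) m = x_{σa,σb}(c m_{b,σb} / m_{a,σa})` for a monomial matrix `m` with permutation `σ` -/
theorem RR_conj {X : Subgroup (SLn n F)} {m : SLn n F} (hm : m ∈ X) (σ : Equiv.Perm (Fin n))
    (hσ : ∀ i j : Fin n, j ≠ σ i → m.1 i j = 0) {a b : Fin n} (h : RR X a b) :
    RR X (σ a) (σ b) := by
  obtain ⟨hab, hall⟩ := h
  refine ⟨σ.injective.ne hab, fun c => ?_⟩
  have key := CJ_mul_transvection m σ hσ hab c
  have h2 : Matrix.SpecialLinearGroup.transvection (σ.injective.ne hab) c =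
      m⁻¹ * (Matrix.SpecialLinearGroup.transvection hab (c * m.1 a (σ a) / m.1 b (σ b)) * m) := by
    rw [← key, inv_mul_cancel_left]
  rw [h2]
  exact X.mul_mem (X.inv_mem hm) (X.mul_mem (hall _) hm)

end Cfsg.Agent.Helper79.Pron
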