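import Mathlib
import Cfsg.Agent.Helper79.QSpQCCore
import Cfsg.Agent.Helper99.QSpQB1
import Cfsg.Agent.Helper45.QSpQB2
import Cfsg.Agent.Helper44.QSpQA2

/-!
# (QC) of helper99's S5974 plan: `QSetup.admissible` and `QSetup.exists_inv_typed_iff`,
exact skeleton signatures.
-/

set_option autoImplicit false
set_option linter.unusedSectionVars false

namespace Cfsg.Agent.Helper79.QSp

open Module Polynomial
open Cfsg.Agent.Helper59.InvChain Cfsg.Agent.Helper59.Elusive
open Cfsg.Agent.Helper99.SpStruct Cfsg.Agent.Helper99.RDecomp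
open Cfsg.Agent.Helper44 Cfsg.Agent.Helper44.QType
open Cfsg.Agent.Helper99.QSp

universe u v

variable {F : Type u} [Field F] [Fintype F]
variable {V : Type v} [AddCommGroup V] [Module F V] [FiniteDimensional F V]
variable {Q : QuadraticForm F V} {r : ℕ} {y : Module.End F V}

/-- the dependencies (QA2), (QB1), (QB2), all on main -/
theorem deps (h : QSetup Q r y) (hrq : ¬ r ∣ Fintype.card F) : Deps Q r y where
  typed_sub := fun hX _ _ hdim ht ε hε => Cfsg.Agent.Helper44.QSp.exists_typed_sub Q hX hdim ht ε hε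
  orth_fix_cyc := Cfsg.Agent.Helper99.QSpB.orth_fix_cyc h
  nd_fix := Cfsg.Agent.Helper99.QSpB.nd_fix h
  nd_cyc := Cfsg.Agent.Helper99.QSpB.nd_cyc h
  nd_inf_fix := fun hWinv hW => Cfsg.Agent.Helper99.QSpB.nd_inf_fix h hWinv hW
  nd_inf_cyc := fun hWinv hW => Cfsg.Agent.Helper99.QSpB.nd_inf_cyc h hWinv hW
  blockSize_dvd := fun hWinv hW hWc => Cfsg.Agent.Helper99.QSpB.blockSize_dvd h hWinv hW hWc
  exists_blocks := fun j _ hWinv hW hWc hj =>
    Cfsg.Agent.Helper99.QSpB.exists_blocks h j hWinv hW hWc hj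
  qType_blocks := fun hWinv hW hWc _ _ hdim hdim2 =>
    Cfsg.Agent.Helper45.QSp.qType_blocks h hrq hWinv hW hWc hdim hdim2

/-- (QC) the number of blocks of `y` is admissible -/
theorem QSetup.admissible (h : QSetup Q r y) (hrq : ¬ r ∣ Fintype.card F) {d : ℕ}
    (hV : finrank F V = 2 * d) {εV : ℤ} (hεV : QType Q ⊤ d εV) {b : ℕ}
    (hb : finrank F ↥(cycSp r y) = b * blockSize (orderOf ((Fintype.card F : ℕ) : ZMod r))) :
    b * blockSize (orderOf ((Fintype.card F : ℕ) : ZMod r)) ≤ 2 * d ∧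
      (b * blockSize (orderOf ((Fintype.card F : ℕ) : ZMod r)) = 2 * d →
        bsign (orderOf ((Fintype.card F : ℕ) : ZMod r)) b = εV) ∧ (y ≠ 1 → 1 ≤ b) :=
  admissible_of_deps h (deps h hrq) hV hεV hb

/-- (QC) the criterion for one element -/
theorem QSetup.exists_inv_typed_iff (h : QSetup Q r y) (hrq : ¬ r ∣ Fintype.card F) {d : ℕ}
    (hV : finrank F V = 2 * d) {εV : ℤ} (hεV : QType Q ⊤ d εV) {b : ℕ}
    (hb : finrank F ↥(cycSp r y) = b * blockSize (orderOf ((Fintype.card F : ℕ) : ZMod r)))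
    {e : ℕ} {ε : ℤ} (hε : ε = 1 ∨ ε = -1) :
    (∃ W : Submodule F V, Inv y W ∧ Nd (pB Q) W ∧ finrank F ↥W = 2 * e ∧ QType Q W e ε) ↔
      Crit (orderOf ((Fintype.card F : ℕ) : ZMod r))
        (blockSize (orderOf ((Fintype.card F : ℕ) : ZMod r))) d e b εV ε :=
  exists_inv_typed_iff_of_deps h (deps h hrq) hV hεV hb hε

end Cfsg.Agent.Helper79.QSp
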