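import Mathlib
import Cfsg.Prelude.Def_DegreeGraph
import Cfsg.Prelude.Def_CharExt
import Cfsg.Agent.Helper15.DetChar
import Cfsg.Agent.Helper74.CharBasic

/-!
Piece (CL) of helper80's plan for S4776: Cauchy for the group of linear characters of `N`.
-/

set_option autoImplicit false
set_option linter.style.haveILetI false

namespace Cfsg.Agent.Helper79.RelDeg

open Cfsg

universe u

/-- the order of the abelianization of a subgroup -/
theorem card_abelianization_eq_relIndex {G : Type u} [Group G] (N : Subgroup G) :
    Nat.card (Abelianization N) = ⁅N, N⁆.relIndex N := by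
  have h1 : (⁅N, N⁆ : Subgroup G).subgroupOf N = commutator N := by
    rw [← Subgroup.map_subtype_commutator N, Subgroup.subgroupOf,
      Subgroup.comap_map_eq_self_of_injective N.subtype_injective]
  show Nat.card (N ⧸ commutator N) = _
  rw [Subgroup.relIndex, h1, Subgroup.index_eq_card]

/-- (CL) Cauchy for the group of linear characters of `N` -/
theorem exists_lin_pow_prime_eq_one {G : Type u} [Group G] [Finite G] (N : Subgroup G) (p : ℕ)
    (hp : p.Prime) (hpm : p ∣ ⁅N, N⁆.relIndex N) :
    ∃ κ : N →* ℂˣ, κ ≠ 1 ∧ κ ^ p = 1 := by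
  have : Fact p.Prime := ⟨hp⟩
  have : NeZero (Monoid.exponent (Abelianization N)) := ⟨Monoid.exponent_ne_zero_of_finite⟩
  have hcard : Nat.card (Abelianization N →* ℂˣ) = ⁅N, N⁆.relIndex N := by
    rw [CommGroup.card_monoidHom_of_hasEnoughRootsOfUnity (Abelianization N) ℂ,
      card_abelianization_eq_relIndex]
  have : Finite (Abelianization N →* ℂˣ) := by
    apply Nat.finite_of_card_ne_zero
    rw [hcard]
    unfold Subgroup.relIndex
    exact Subgroup.index_ne_zero_of_finite
  obtain ⟨μ, hμ⟩ := exists_prime_orderOf_dvd_card' p (hcard ▸ hpm)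
  refine ⟨μ.comp Abelianization.of, ?_, ?_⟩
  · intro h1
    have hμ1 : μ = 1 := by
      apply MonoidHom.ext
      intro a
      obtain ⟨n, rfl⟩ := QuotientGroup.mk_surjective a
      exact DFunLike.congr_fun h1 n
    rw [hμ1, orderOf_one] at hμ
    exact hp.one_lt.ne' hμ.symm
  · have h2 : μ ^ p = 1 := by
      rw [← hμ]
      exact pow_orderOf_eq_one μ
    apply MonoidHom.ext
    intro n
    rw [MonoidHom.pow_apply, MonoidHom.comp_apply, ← MonoidHom.pow_apply, h2]
    rfl

end Cfsg.Agent.Helper79.RelDeg
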