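import Mathlib

/-!
# Piece (CNUM) of helper95's Suzuki-order farm (#10889): the numerical core of Part C

`core_false` : the configuration "`|Q| = q³`" of the Suzuki order argument is numerically
impossible.  Statement verbatim from `tools/helper95_szord/SkelNum.lean.txt`.
-/

set_option autoImplicit false

namespace Cfsg.Agent.Helper79.SzOrd

open Finset

/-- sunflower lemma: more than `A + 2` sets of size `A + 1` meeting pairwise in `A` points have a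
common core of size `A` -/
theorem sunflower {ι X : Type*} [DecidableEq ι] [DecidableEq X] (I : Finset ι) (T : ι → Finset X)
    (A : ℕ) (hcard : ∀ i ∈ I, (T i).card = A + 1)
    (hint : ∀ i ∈ I, ∀ j ∈ I, i ≠ j → (T i ∩ T j).card = A) (hN : A + 2 < I.card) :
    ∃ C : Finset X, C.card = A ∧ ∀ i ∈ I, C ⊆ T i := by
  -- two distinct indices
  have h1 : 1 < I.card := by omega
  obtain ⟨i1, hi1, i2, hi2, h12⟩ := Finset.one_lt_card.mp h1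
  set C := T i1 ∩ T i2 with hC
  have hCcard : C.card = A := hint i1 hi1 i2 hi2 h12
  refine ⟨C, hCcard, ?_⟩
  by_contra hcon
  push Not at hcon
  obtain ⟨i3, hi3, h3⟩ := hcon
  set U := T i1 ∪ T i2 with hU
  have hUcard : U.card = A + 2 := by
    have h0 : U.card + C.card = (T i1).card + (T i2).card :=
      Finset.card_union_add_card_inter (T i1) (T i2)
    rw [hcard i1 hi1, hcard i2 hi2, hCcard] at h0
    omega
  have hCU : C ⊆ U := fun x hx => Finset.mem_union_left _ (Finset.mem_inter.mp hx).1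
  -- sets not containing the core lie in `U`
  have claim1 : ∀ i ∈ I, ¬ C ⊆ T i → T i ⊆ U := by
    intro i hi hnot
    have hne1 : i ≠ i1 := by
      rintro rfl; exact hnot Finset.inter_subset_left
    have hne2 : i ≠ i2 := by
      rintro rfl; exact hnot Finset.inter_subset_right
    have hlt : (T i ∩ C).card < A := by
      rw [← hCcard]
      apply Finset.card_lt_card
      refine ⟨Finset.inter_subset_right, fun hsub => hnot ?_⟩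
      intro x hx
      exact (Finset.mem_inter.mp (hsub hx)).1
    have hsplit : T i ∩ U = (T i ∩ T i1) ∪ (T i ∩ T i2) := by
      rw [hU, Finset.inter_union_distrib_left]
    have hinter : (T i ∩ T i1) ∩ (T i ∩ T i2) = T i ∩ C := by
      ext x; simp only [Finset.mem_inter, hC]; tauto
    have hc := Finset.card_union_add_card_inter (T i ∩ T i1) (T i ∩ T i2)
    rw [← hsplit, hinter, hint i hi i1 hi1 hne1, hint i hi i2 hi2 hne2] at hc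
    have hge : A + 1 ≤ (T i ∩ U).card := by omega
    have heq : T i ∩ U = T i := by
      apply Finset.eq_of_subset_of_card_le Finset.inter_subset_left
      rw [hcard i hi]; exact hge
    rw [← heq]; exact Finset.inter_subset_right
  have h3U : T i3 ⊆ U := claim1 i3 hi3 h3
  have h3C : (C ∩ T i3).card < A := by
    rw [← hCcard]
    apply Finset.card_lt_card
    refine ⟨Finset.inter_subset_left, fun hsub => h3 ?_⟩
    intro x hx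
    exact (Finset.mem_inter.mp (hsub hx)).2
  -- sets containing the core lie in `U` too
  have claim2 : ∀ i ∈ I, C ⊆ T i → T i ⊆ U := by
    intro i hi hsub
    have hne3 : i ≠ i3 := by
      rintro rfl; exact h3 hsub
    -- T i = C ∪ (T i \ C)
    have hdiff : (T i \ C).card = 1 := by
      rw [Finset.card_sdiff_of_subset hsub, hcard i hi, hCcard]; omega
    obtain ⟨y, hy⟩ := Finset.card_eq_one.mp hdiff
    have hyT : y ∈ T i := by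
      have : y ∈ T i \ C := by rw [hy]; exact Finset.mem_singleton_self y
      exact (Finset.mem_sdiff.mp this).1
    have hTi : T i = C ∪ {y} := by
      rw [← hy, Finset.union_sdiff_of_subset hsub]
    -- y ∈ T i3
    have hy3 : y ∈ T i3 := by
      by_contra hyn
      have hsubset : T i ∩ T i3 ⊆ C ∩ T i3 := by
        intro x hx
        have hx1 := (Finset.mem_inter.mp hx).1
        have hx2 := (Finset.mem_inter.mp hx).2
        rw [hTi] at hx1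
        rcases Finset.mem_union.mp hx1 with h | h
        · exact Finset.mem_inter.mpr ⟨h, hx2⟩
        · rw [Finset.mem_singleton] at h; subst h; exact absurd hx2 hyn
      have := Finset.card_le_card hsubset
      rw [hint i hi i3 hi3 hne3] at this
      omega
    rw [hTi]
    intro x hx
    rcases Finset.mem_union.mp hx with h | h
    · exact hCU h
    · rw [Finset.mem_singleton] at h; subst h; exact h3U hy3
  have hall : ∀ i ∈ I, T i ⊆ U := fun i hi => by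
    by_cases h : C ⊆ T i
    · exact claim2 i hi h
    · exact claim1 i hi h
  -- injection of `I` into the 1-subsets of `U`
  have hinj : Set.InjOn (fun i => U \ T i) (I : Set ι) := by
    intro i hi j hj hij
    by_contra hne
    have hi' : i ∈ I := hi
    have hj' : j ∈ I := hj
    have hTT : T i = T j := by
      have h1 : U \ (U \ T i) = T i := by
        rw [Finset.sdiff_sdiff_eq_self (hall i hi')]
      have h2 : U \ (U \ T j) = T j := by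
        rw [Finset.sdiff_sdiff_eq_self (hall j hj')]
      rw [← h1, ← h2]
      simp only at hij
      rw [hij]
    have := hint i hi' j hj' hne
    rw [hTT, Finset.inter_self, hcard j hj'] at this
    omega
  have hmaps : ∀ i ∈ I, (fun i => U \ T i) i ∈ U.powersetCard 1 := by
    intro i hi
    rw [Finset.mem_powersetCard]
    refine ⟨Finset.sdiff_subset, ?_⟩
    rw [Finset.card_sdiff_of_subset (hall i hi), hUcard, hcard i hi]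
    omega
  have hle := Finset.card_le_card_of_injOn (fun i => U \ T i) hmaps hinj
  rw [Finset.card_powersetCard, hUcard, Nat.choose_one_right] at hle
  omega

/-- numeric lemma for step (3) -/
theorem cnum_num_b (b F L s2 : ℤ) (hL : 1 ≤ L) (hb : 0 ≤ b) (hF : F ≤ 2 * L + 2)
    (h1 : (F * L - b) ^ 2 ≤ L * s2) (h2 : (2 * L + 3) * b ^ 2 + s2 ≤ 1 + F ^ 2 * L) :
    b ≤ 1 ∧ (b = 1 → L + 2 ≤ F) := by
  have h3 : L * ((2 * L + 3) * b ^ 2 + s2) ≤ L * (1 + F ^ 2 * L) :=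
    mul_le_mul_of_nonneg_left h2 (by linarith)
  have h4 : (2 * L ^ 2 + 3 * L + 1) * b ^ 2 ≤ L + 2 * F * L * b := by nlinarith [h3, h1]
  constructor
  · by_contra hcon
    push Not at hcon
    have hb2 : 2 ≤ b := by omega
    have hLb : 0 ≤ L * b := mul_nonneg (by linarith) hb
    have h5 : 2 * F * L * b ≤ 2 * (2 * L + 2) * L * b := by
      have := mul_le_mul_of_nonneg_right hF hLb
      nlinarith [this]
    have h6 : 2 * b ≤ b ^ 2 := by nlinarith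
    have h7 : (2 * L ^ 2 + 3 * L + 1) * (2 * b) ≤ (2 * L ^ 2 + 3 * L + 1) * b ^ 2 :=
      mul_le_mul_of_nonneg_left h6 (by nlinarith)
    have h8 : (2 * L + 2) * 2 ≤ (2 * L + 2) * b :=
      mul_le_mul_of_nonneg_left hb2 (by linarith)
    nlinarith [h4, h5, h7, h8]
  · intro hb1
    subst hb1
    by_contra hcon
    push Not at hcon
    have h9 : F ≤ L + 1 := by omega
    have h10 : F * L ≤ (L + 1) * L := mul_le_mul_of_nonneg_right h9 (by linarith)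
    nlinarith [h4, h10]

/-- structure of the `0/1` part of the multiplicity matrix -/
theorem core_structure {X S : Type*} [Fintype X] [DecidableEq X] [DecidableEq S]
    (S0 : Finset S) (m : X → S → ℕ) (L : ℕ) (hcard : L + 2 < S0.card)
    (h01 : ∀ θ ∈ S0, ∀ χ, m χ θ ≤ 1)
    (hdiag : ∀ θ ∈ S0, ∑ χ, (m χ θ : ℤ) * (m χ θ : ℤ) = 1 + (L : ℤ))
    (hoff : ∀ θ ∈ S0, ∀ θ' ∈ S0, θ ≠ θ' → ∑ χ, (m χ θ : ℤ) * (m χ θ' : ℤ) = (L : ℤ)) :
    ∃ C P : Finset X, Disjoint P C ∧ C.card = L ∧ P.card = S0.card ∧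
      (∀ χ ∈ C, ∀ θ ∈ S0, m χ θ = 1) ∧
      (∀ y ∈ P, ∃ θ ∈ S0, m y θ = 1 ∧
        ∀ g : X → ℤ, ∑ χ, (m χ θ : ℤ) * g χ = ∑ χ ∈ C, g χ + g y) := by
  classical
  obtain ⟨T, hT⟩ : ∃ T : S → Finset X, ∀ θ χ, χ ∈ T θ ↔ m χ θ = 1 :=
    ⟨fun θ => univ.filter (fun χ => m χ θ = 1), fun θ χ => by simp⟩
  have hind : ∀ θ ∈ S0, ∀ χ, (m χ θ : ℤ) = if χ ∈ T θ then 1 else 0 := by
    intro θ hθ χ
    have h1 := h01 θ hθ χ
    by_cases h : χ ∈ T θ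
    · rw [if_pos h, (hT θ χ).mp h]; rfl
    · rw [if_neg h]
      have h2 : m χ θ ≠ 1 := fun h' => h ((hT θ χ).mpr h')
      have h3 : m χ θ = 0 := by omega
      rw [h3]; rfl
  have hsumT : ∀ θ ∈ S0, ∀ g : X → ℤ, ∑ χ, (m χ θ : ℤ) * g χ = ∑ χ ∈ T θ, g χ := by
    intro θ hθ g
    have h1 : ∀ χ ∈ (univ : Finset X), (m χ θ : ℤ) * g χ = if χ ∈ T θ then g χ else 0 := by
      intro χ _
      rw [hind θ hθ χ]
      split_ifs <;> simp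
    rw [Finset.sum_congr rfl h1, Finset.sum_ite_mem, Finset.univ_inter]
  have hTcard : ∀ θ ∈ S0, (T θ).card = L + 1 := by
    intro θ hθ
    have h1 := hsumT θ hθ (fun χ => (m χ θ : ℤ))
    rw [hdiag θ hθ] at h1
    have h2 : ∑ χ ∈ T θ, (m χ θ : ℤ) = ((T θ).card : ℤ) := by
      rw [Finset.sum_congr rfl (fun χ hχ => by rw [(hT θ χ).mp hχ])]
      simp
    rw [h2] at h1
    have : ((T θ).card : ℤ) = ((L + 1 : ℕ) : ℤ) := by push_cast; linarith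
    exact_mod_cast this
  have hTint : ∀ θ ∈ S0, ∀ θ' ∈ S0, θ ≠ θ' → (T θ ∩ T θ').card = L := by
    intro θ hθ θ' hθ' hne
    have h1 := hsumT θ hθ (fun χ => (m χ θ' : ℤ))
    rw [hoff θ hθ θ' hθ' hne] at h1
    have h2 : ∑ χ ∈ T θ, (m χ θ' : ℤ) = ((T θ ∩ T θ').card : ℤ) := by
      rw [Finset.sum_congr rfl (fun χ _ => hind θ' hθ' χ), Finset.sum_ite_mem]
      simp
    rw [h2] at h1
    exact_mod_cast h1.symm
  obtain ⟨C, hCcard, hCsub⟩ := sunflower S0 T L hTcard hTint hcard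
  have hdiff : ∀ θ ∈ S0, (T θ \ C).card = 1 := by
    intro θ hθ
    rw [Finset.card_sdiff_of_subset (hCsub θ hθ), hTcard θ hθ, hCcard]; omega
  have hdisj : ∀ θ ∈ S0, ∀ θ' ∈ S0, θ ≠ θ' → Disjoint (T θ \ C) (T θ' \ C) := by
    intro θ hθ θ' hθ' hne
    have hCeq : C = T θ ∩ T θ' := by
      apply Finset.eq_of_subset_of_card_le
      · exact Finset.subset_inter (hCsub θ hθ) (hCsub θ' hθ')
      · rw [hTint θ hθ θ' hθ' hne, hCcard]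
    rw [Finset.disjoint_left]
    intro y hy hy'
    have h1 := Finset.mem_sdiff.mp hy
    have h2 := Finset.mem_sdiff.mp hy'
    apply h1.2
    rw [hCeq]
    exact Finset.mem_inter.mpr ⟨h1.1, h2.1⟩
  refine ⟨C, S0.biUnion (fun θ => T θ \ C), ?_, hCcard, ?_, ?_, ?_⟩
  · rw [Finset.disjoint_left]
    intro y hy
    obtain ⟨θ, _, hyθ⟩ := Finset.mem_biUnion.mp hy
    exact (Finset.mem_sdiff.mp hyθ).2
  · rw [Finset.card_biUnion hdisj, Finset.sum_congr rfl hdiff]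
    simp
  · intro χ hχ θ hθ
    exact (hT θ χ).mp (hCsub θ hθ hχ)
  · intro y hy
    obtain ⟨θ, hθ, hyθ⟩ := Finset.mem_biUnion.mp hy
    refine ⟨θ, hθ, (hT θ y).mp (Finset.mem_sdiff.mp hyθ).1, ?_⟩
    intro g
    rw [hsumT θ hθ g, ← Finset.sum_sdiff (hCsub θ hθ)]
    obtain ⟨z, hz⟩ := Finset.card_eq_one.mp (hdiff θ hθ)
    have hyz : y = z := by
      rw [hz] at hyθ; exact Finset.mem_singleton.mp hyθ
    rw [hz, Finset.sum_singleton, hyz]; ring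

theorem cnum_nat_le_one (k : ℕ) (h : k = k * k) : k ≤ 1 := by
  by_contra hcon
  push Not at hcon
  nlinarith

/-- step (1) of `core_false`: the squeeze -/
theorem core_step1 (q : ℕ) (hq4 : 4 ≤ q)
    {X : Type*} {S : Type*} [Fintype X] [Fintype S] [DecidableEq X] [DecidableEq S]
    (S0 : Finset S) (hS0 : S0.card = q + 1)
    (m : X → S → ℕ) (f : S → ℕ) (hf0 : ∀ θ ∈ S0, f θ = 1)
    (ν : X → ℤ) (hν : ∀ χ, ν χ = 1 ∨ ν χ = 0 ∨ ν χ = -1)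
    (νSt : ℤ) (hνSt : νSt = 1 ∨ νSt = 0 ∨ νSt = -1)
    (L : ℕ) (hL : 2 * L + 2 = q) (νL : Fin L → ℤ) (hνL : ∀ i, νL i = 1 ∨ νL i = 0 ∨ νL i = -1)
    (gramS0 : ∀ θ ∈ S0, ∑ χ, (m χ θ : ℤ) * (m χ θ : ℤ) = 1 + (L : ℤ))
    (hFS1 : (1 : ℤ) + νSt * (q : ℤ) ^ 3 + (∑ i, νL i) * ((q : ℤ) ^ 3 + 1)
      + ∑ χ, ν χ * (((q : ℤ) - 1) * ∑ φ, (m χ φ : ℤ) * (f φ : ℤ))
      = 1 + ((q : ℤ) ^ 3 + 1) * ((q : ℤ) - 1))
    (hFS2 : (1 : ℤ) + (∑ i, νL i)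
      + ∑ χ, ν χ * (((q : ℤ) - 1) * (∑ θ ∈ S0, (m χ θ : ℤ)) - ∑ φ ∈ S0ᶜ, (m χ φ : ℤ) * (f φ : ℤ))
      = (q : ℤ) * ((q : ℤ) + 1)) :
    (∀ θ ∈ S0, ∀ χ, m χ θ ≤ 1) ∧ (∀ χ, ∀ θ ∈ S0, m χ θ = 1 → ν χ = 1) ∧
    (∑ i, νL i = (L : ℤ)) ∧
    (∑ χ, ν χ * ∑ θ ∈ S0, (m χ θ : ℤ) = ((q : ℤ) + 1) * ((L : ℤ) + 1)) := by
  classical
  have hQ : (q : ℤ) = 2 * (L : ℤ) + 2 := by exact_mod_cast hL.symm
  have hQpos : (4 : ℤ) ≤ (q : ℤ) := by exact_mod_cast hq4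
  obtain ⟨a, ha⟩ : ∃ a : X → ℤ, ∀ χ, a χ = ∑ θ ∈ S0, (m χ θ : ℤ) := ⟨_, fun _ => rfl⟩
  obtain ⟨c, hc⟩ : ∃ c : X → ℤ, ∀ χ, c χ = ∑ φ ∈ S0ᶜ, (m χ φ : ℤ) * (f φ : ℤ) :=
    ⟨_, fun _ => rfl⟩
  have hsplit : ∀ χ, ∑ φ, (m χ φ : ℤ) * (f φ : ℤ) = a χ + c χ := by
    intro χ
    rw [← Finset.sum_add_sum_compl S0, ha χ, hc χ]
    congr 1
    apply Finset.sum_congr rfl
    intro θ hθ
    rw [hf0 θ hθ]; simp
  have hFS1' : (1 : ℤ) + νSt * (q : ℤ) ^ 3 + (∑ i, νL i) * ((q : ℤ) ^ 3 + 1)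
      + ((q : ℤ) - 1) * (∑ χ, ν χ * a χ + ∑ χ, ν χ * c χ)
      = 1 + ((q : ℤ) ^ 3 + 1) * ((q : ℤ) - 1) := by
    rw [← hFS1, ← Finset.sum_add_distrib, Finset.mul_sum]
    congr 1
    apply Finset.sum_congr rfl
    intro χ _
    rw [hsplit χ]; ring
  have hFS2' : (1 : ℤ) + (∑ i, νL i)
      + (((q : ℤ) - 1) * ∑ χ, ν χ * a χ - ∑ χ, ν χ * c χ) = (q : ℤ) * ((q : ℤ) + 1) := by
    rw [← hFS2, Finset.mul_sum, ← Finset.sum_sub_distrib]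
    congr 1
    apply Finset.sum_congr rfl
    intro χ _
    rw [ha χ, hc χ]; ring
  have ha_nonneg : ∀ χ, 0 ≤ a χ := fun χ => by
    rw [ha]; exact Finset.sum_nonneg (fun _ _ => by positivity)
  have hν_le : ∀ χ, ν χ ≤ 1 := fun χ => by
    rcases hν χ with h | h | h <;> rw [h] <;> norm_num
  have hterm1 : ∀ χ ∈ (univ : Finset X), ν χ * a χ ≤ a χ := fun χ _ =>
    mul_le_of_le_one_left (ha_nonneg χ) (hν_le χ)
  have hterm2 : ∀ χ ∈ (univ : Finset X), a χ ≤ ∑ θ ∈ S0, (m χ θ : ℤ) * (m χ θ : ℤ) := by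
    intro χ _
    rw [ha]
    apply Finset.sum_le_sum
    intro θ _
    exact_mod_cast Nat.le_mul_self (m χ θ)
  have hSa_le : ∑ χ, ν χ * a χ ≤ ∑ χ, a χ := Finset.sum_le_sum hterm1
  have hA_le : ∑ χ, a χ ≤ ∑ χ, ∑ θ ∈ S0, (m χ θ : ℤ) * (m χ θ : ℤ) := Finset.sum_le_sum hterm2
  have hSS : ∑ χ, ∑ θ ∈ S0, (m χ θ : ℤ) * (m χ θ : ℤ) = ((q : ℤ) + 1) * ((L : ℤ) + 1) := by
    rw [Finset.sum_comm, Finset.sum_congr rfl gramS0, Finset.sum_const, hS0, nsmul_eq_mul]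
    push_cast; ring
  have hνSt_le : νSt ≤ 1 := by
    rcases hνSt with h | h | h <;> rw [h] <;> norm_num
  have hSL_le : ∑ i, νL i ≤ (L : ℤ) := by
    have h1 : ∑ i, νL i ≤ ∑ _i : Fin L, (1 : ℤ) := Finset.sum_le_sum (fun i _ => by
      rcases hνL i with h | h | h <;> rw [h] <;> norm_num)
    simpa using h1
  have key : (q : ℤ) * (1 + νSt * (q : ℤ) ^ 2 + (∑ i, νL i) * ((q : ℤ) ^ 2 + 1)
      + ((q : ℤ) - 1) * ∑ χ, ν χ * a χ) = (q : ℤ) * (q : ℤ) ^ 3 := by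
    linear_combination hFS1' + ((q : ℤ) - 1) * hFS2'
  have key' : 1 + νSt * (q : ℤ) ^ 2 + (∑ i, νL i) * ((q : ℤ) ^ 2 + 1)
      + ((q : ℤ) - 1) * ∑ χ, ν χ * a χ = (q : ℤ) ^ 3 :=
    mul_left_cancel₀ (by linarith : (q : ℤ) ≠ 0) key
  have hcube : (q : ℤ) ^ 3 = 1 + (q : ℤ) ^ 2 + (L : ℤ) * ((q : ℤ) ^ 2 + 1)
      + ((q : ℤ) - 1) * (((q : ℤ) + 1) * ((L : ℤ) + 1)) := by
    rw [hQ]; ring
  have t1 : 0 ≤ (1 - νSt) * (q : ℤ) ^ 2 := mul_nonneg (by linarith) (by positivity)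
  have t2 : 0 ≤ ((L : ℤ) - ∑ i, νL i) * ((q : ℤ) ^ 2 + 1) :=
    mul_nonneg (by linarith) (by positivity)
  have t3 : 0 ≤ ((q : ℤ) - 1) * (((q : ℤ) + 1) * ((L : ℤ) + 1) - ∑ χ, ν χ * a χ) :=
    mul_nonneg (by linarith) (by linarith)
  have tsum : (1 - νSt) * (q : ℤ) ^ 2 + ((L : ℤ) - ∑ i, νL i) * ((q : ℤ) ^ 2 + 1)
      + ((q : ℤ) - 1) * (((q : ℤ) + 1) * ((L : ℤ) + 1) - ∑ χ, ν χ * a χ) = 0 := by
    linear_combination -hcube - key'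
  have t2' : ((L : ℤ) - ∑ i, νL i) * ((q : ℤ) ^ 2 + 1) = 0 := by linarith only [t1, t2, t3, tsum]
  have t3' : ((q : ℤ) - 1) * (((q : ℤ) + 1) * ((L : ℤ) + 1) - ∑ χ, ν χ * a χ) = 0 := by
    linarith only [t1, t2, t3, tsum]
  have hSL : ∑ i, νL i = (L : ℤ) := by
    rcases mul_eq_zero.mp t2' with h | h
    · linarith only [h]
    · exfalso
      have : (0 : ℤ) < (q : ℤ) ^ 2 + 1 := by positivity
      linarith only [h, this]
  have hSa : ∑ χ, ν χ * a χ = ((q : ℤ) + 1) * ((L : ℤ) + 1) := by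
    rcases mul_eq_zero.mp t3' with h | h
    · exfalso; linarith only [h, hQpos]
    · linarith only [h]
  have hSaA : ∑ χ, ν χ * a χ = ∑ χ, a χ :=
    le_antisymm hSa_le (by linarith only [hSa, hA_le, hSS])
  have hASS : ∑ χ, a χ = ∑ χ, ∑ θ ∈ S0, (m χ θ : ℤ) * (m χ θ : ℤ) :=
    le_antisymm hA_le (by linarith only [hSa, hSa_le, hSS])
  have hνa : ∀ χ, ν χ * a χ = a χ := fun χ =>
    (Finset.sum_eq_sum_iff_of_le hterm1).mp hSaA χ (Finset.mem_univ χ)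
  have haSS : ∀ χ, a χ = ∑ θ ∈ S0, (m χ θ : ℤ) * (m χ θ : ℤ) := fun χ =>
    (Finset.sum_eq_sum_iff_of_le hterm2).mp hASS χ (Finset.mem_univ χ)
  have h01 : ∀ θ ∈ S0, ∀ χ, m χ θ ≤ 1 := by
    intro θ hθ χ
    have h1 := haSS χ
    rw [ha χ] at h1
    have h2 := (Finset.sum_eq_sum_iff_of_le (fun θ _ => by
      exact_mod_cast Nat.le_mul_self (m χ θ) :
      ∀ θ ∈ S0, (m χ θ : ℤ) ≤ (m χ θ : ℤ) * (m χ θ : ℤ))).mp h1 θ hθ
    have h3 : m χ θ = m χ θ * m χ θ := by exact_mod_cast h2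
    exact cnum_nat_le_one _ h3
  have hν1 : ∀ χ, 0 < a χ → ν χ = 1 := by
    intro χ hpos
    have h1 : (ν χ - 1) * a χ = 0 := by linear_combination hνa χ
    rcases mul_eq_zero.mp h1 with h | h
    · linarith only [h]
    · exfalso; linarith only [h, hpos]
  have ha_pos : ∀ χ, ∀ θ ∈ S0, m χ θ = 1 → 0 < a χ := by
    intro χ θ hθ h1
    rw [ha χ]
    have h2 : (m χ θ : ℤ) ≤ ∑ θ ∈ S0, (m χ θ : ℤ) :=
      Finset.single_le_sum (f := fun θ => (m χ θ : ℤ)) (fun _ _ => by positivity) hθ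
    rw [h1] at h2
    push_cast at h2
    linarith only [h2]
  refine ⟨h01, fun χ θ hθ h1 => hν1 χ (ha_pos χ θ hθ h1), hSL, ?_⟩
  rw [← hSa]
  apply Finset.sum_congr rfl
  intro χ _
  rw [ha χ]

theorem core_false (n q : ℕ) (hn : 2 ≤ n) (hq : q = 2 ^ n)
    {X : Type*} {S : Type*} [Fintype X] [Fintype S] [DecidableEq X] [DecidableEq S]
    (S0 : Finset S) (hS0 : S0.card = q + 1)
    (m : X → S → ℕ) (f : S → ℕ) (hf0 : ∀ θ ∈ S0, f θ = 1)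
    (hf1 : ∀ φ ∉ S0, ∃ k : ℕ, f φ = 2 ^ k)
    (hsq : ∑ φ ∈ S0ᶜ, (f φ) ^ 2 = q ^ 2)
    (ν : X → ℤ) (hν : ∀ χ, ν χ = 1 ∨ ν χ = 0 ∨ ν χ = -1)
    (νSt : ℤ) (hνSt : νSt = 1 ∨ νSt = 0 ∨ νSt = -1)
    (L : ℕ) (hL : 2 * L + 2 = q) (νL : Fin L → ℤ) (hνL : ∀ i, νL i = 1 ∨ νL i = 0 ∨ νL i = -1)
    (hGram : ∀ φ φ' : S, (2 : ℤ) * ∑ χ, (m χ φ : ℤ) * (m χ φ' : ℤ)
      = (if φ = φ' then 2 else 0) + (f φ : ℤ) * (f φ' : ℤ) * ((q : ℤ) - 2))
    (hFS1 : (1 : ℤ) + νSt * (q : ℤ) ^ 3 + (∑ i, νL i) * ((q : ℤ) ^ 3 + 1)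
      + ∑ χ, ν χ * (((q : ℤ) - 1) * ∑ φ, (m χ φ : ℤ) * (f φ : ℤ))
      = 1 + ((q : ℤ) ^ 3 + 1) * ((q : ℤ) - 1))
    (hFS2 : (1 : ℤ) + (∑ i, νL i)
      + ∑ χ, ν χ * (((q : ℤ) - 1) * (∑ θ ∈ S0, (m χ θ : ℤ)) - ∑ φ ∈ S0ᶜ, (m χ φ : ℤ) * (f φ : ℤ))
      = (q : ℤ) * ((q : ℤ) + 1))
    (hfaith : ∀ χ : X, ∃ φ, φ ∉ S0 ∧ 1 ≤ m χ φ) : False := by
  classical
  have hq4 : 4 ≤ q := by
    rw [hq]
    calc 4 = 2 ^ 2 := by norm_num
      _ ≤ 2 ^ n := Nat.pow_le_pow_right (by norm_num) hn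
  have hL1 : 1 ≤ L := by omega
  have hQ : (q : ℤ) = 2 * (L : ℤ) + 2 := by exact_mod_cast hL.symm
  have hLpos : (1 : ℤ) ≤ (L : ℤ) := by exact_mod_cast hL1
  have hQpos : (4 : ℤ) ≤ (q : ℤ) := by exact_mod_cast hq4
  -- Gram relations
  have gram : ∀ φ φ' : S, ∑ χ, (m χ φ : ℤ) * (m χ φ' : ℤ)
      = (if φ = φ' then 1 else 0) + (f φ : ℤ) * (f φ' : ℤ) * (L : ℤ) := by
    intro φ φ'
    have h := hGram φ φ'
    rw [hQ] at h
    split_ifs at h ⊢ <;> linarith only [h]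
  have gramS0 : ∀ θ ∈ S0, ∑ χ, (m χ θ : ℤ) * (m χ θ : ℤ) = 1 + (L : ℤ) := by
    intro θ hθ
    rw [gram θ θ, if_pos rfl, hf0 θ hθ]; simp
  have gramS0' : ∀ θ ∈ S0, ∀ θ' ∈ S0, θ ≠ θ' → ∑ χ, (m χ θ : ℤ) * (m χ θ' : ℤ) = (L : ℤ) := by
    intro θ hθ θ' hθ' hne
    rw [gram θ θ', if_neg hne, hf0 θ hθ, hf0 θ' hθ']; simp
  have gramMix : ∀ θ ∈ S0, ∀ φ ∉ S0, ∑ χ, (m χ θ : ℤ) * (m χ φ : ℤ) = (f φ : ℤ) * (L : ℤ) := by
    intro θ hθ φ hφ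
    have hne : θ ≠ φ := fun h => hφ (h ▸ hθ)
    rw [gram θ φ, if_neg hne, hf0 θ hθ]; simp
  -- step 1
  obtain ⟨h01, hν1, hSL, hSa⟩ := core_step1 q hq4 S0 hS0 m f hf0 ν hν νSt hνSt L hL νL hνL gramS0
    hFS1 hFS2
  have hν_ge : ∀ χ, -1 ≤ ν χ := fun χ => by
    rcases hν χ with h | h | h <;> rw [h] <;> norm_num
  -- step 2
  obtain ⟨C, P, hPC, hCcard, hPcard, hCm, hPm⟩ :=
    core_structure S0 m L (by omega) h01 gramS0 gramS0'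
  have hS0ne : S0.Nonempty := Finset.card_pos.mp (by omega)
  obtain ⟨θ0, hθ0⟩ := hS0ne
  have hνC : ∀ χ ∈ C, ν χ = 1 := fun χ hχ => hν1 χ θ0 hθ0 (hCm χ hχ θ0 hθ0)
  have hνP : ∀ y ∈ P, ν y = 1 := fun y hy => by
    obtain ⟨θ, hθ, h1, _⟩ := hPm y hy
    exact hν1 y θ hθ h1
  have hdecomp : ∀ g : X → ℤ,
      ∑ χ, g χ = ∑ χ ∈ P, g χ + ∑ χ ∈ C, g χ + ∑ χ ∈ (P ∪ C)ᶜ, g χ := by
    intro g
    rw [← Finset.sum_union hPC, Finset.sum_add_sum_compl]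
  -- step 3
  have hPb : ∀ φ ∉ S0, ∀ y ∈ P, (m y φ : ℤ) = (f φ : ℤ) * (L : ℤ) - ∑ χ ∈ C, (m χ φ : ℤ) := by
    intro φ hφ y hy
    obtain ⟨θ, hθ, _, hg⟩ := hPm y hy
    have h1 := hg (fun χ => (m χ φ : ℤ))
    rw [gramMix θ hθ φ hφ] at h1
    linarith only [h1]
  have hfle : ∀ φ ∉ S0, f φ ≤ q := by
    intro φ hφ
    have h1 : (f φ) ^ 2 ≤ ∑ ψ ∈ S0ᶜ, (f ψ) ^ 2 :=
      Finset.single_le_sum (f := fun ψ => (f ψ) ^ 2) (fun _ _ => Nat.zero_le _)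
        (Finset.mem_compl.mpr hφ)
    rw [hsq] at h1
    exact (Nat.pow_le_pow_iff_left (by norm_num)).mp h1
  have hPne : P.Nonempty := Finset.card_pos.mp (by omega)
  have step3 : ∀ φ ∉ S0, ∀ y ∈ P, m y φ ≤ 1 ∧ (m y φ = 1 → f φ = q) := by
    intro φ hφ y hy
    have hb := hPb φ hφ y hy
    have hcs : (∑ χ ∈ C, (m χ φ : ℤ)) ^ 2 ≤ (C.card : ℤ) * ∑ χ ∈ C, (m χ φ : ℤ) ^ 2 :=
      sq_sum_le_card_mul_sum_sq
    rw [hCcard] at hcs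
    have hdec := hdecomp (fun χ => (m χ φ : ℤ) * (m χ φ : ℤ))
    rw [gram φ φ, if_pos rfl] at hdec
    have hPsum : ∑ χ ∈ P, (m χ φ : ℤ) * (m χ φ : ℤ) = ((q : ℤ) + 1) * (m y φ : ℤ) ^ 2 := by
      have h1 : ∀ χ ∈ P, (m χ φ : ℤ) * (m χ φ : ℤ) = (m y φ : ℤ) ^ 2 := by
        intro χ hχ
        rw [hPb φ hφ χ hχ, hPb φ hφ y hy]; ring
      rw [Finset.sum_congr rfl h1, Finset.sum_const, hPcard, hS0, nsmul_eq_mul]
      push_cast; ring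
    have hRnonneg : 0 ≤ ∑ χ ∈ (P ∪ C)ᶜ, (m χ φ : ℤ) * (m χ φ : ℤ) :=
      Finset.sum_nonneg (fun _ _ => by positivity)
    have hCsq : ∑ χ ∈ C, (m χ φ : ℤ) * (m χ φ : ℤ) = ∑ χ ∈ C, (m χ φ : ℤ) ^ 2 :=
      Finset.sum_congr rfl (fun _ _ => by ring)
    have hFle : (f φ : ℤ) ≤ 2 * (L : ℤ) + 2 := by
      rw [← hQ]; exact_mod_cast hfle φ hφ
    have hnum := cnum_num_b (m y φ : ℤ) (f φ : ℤ) (L : ℤ) (∑ χ ∈ C, (m χ φ : ℤ) ^ 2) hLpos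
      (by positivity) hFle
      (by
        have : (f φ : ℤ) * (L : ℤ) - (m y φ : ℤ) = ∑ χ ∈ C, (m χ φ : ℤ) := by linarith only [hb]
        rw [this]; exact hcs)
      (by
        rw [hPsum, hCsq, hQ] at hdec
        linarith only [hdec, hRnonneg])
    constructor
    · exact_mod_cast hnum.1
    · intro h1
      have h2 : (L : ℤ) + 2 ≤ (f φ : ℤ) := hnum.2 (by exact_mod_cast h1)
      have h3 : L + 2 ≤ f φ := by exact_mod_cast h2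
      obtain ⟨k, hk⟩ := hf1 φ hφ
      have h4 := hfle φ hφ
      rw [hk, hq] at h4
      have h5 : k ≤ n := (Nat.pow_le_pow_iff_right (by norm_num)).mp h4
      have h6 : 2 ^ n < 2 ^ (k + 1) := by
        rw [pow_succ, ← hk, ← hq]; omega
      have h7 : n < k + 1 := (Nat.pow_lt_pow_iff_right (by norm_num)).mp h6
      have h8 : k = n := by omega
      rw [hk, h8, hq]
  -- step 4
  obtain ⟨y0, hy0⟩ := hPne
  obtain ⟨φ0, hφ0, hmφ0⟩ := hfaith y0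
  have hmy0 : m y0 φ0 = 1 := le_antisymm (step3 φ0 hφ0 y0 hy0).1 hmφ0
  have hfφ0 : f φ0 = q := (step3 φ0 hφ0 y0 hy0).2 hmy0
  have hcompl : S0ᶜ = {φ0} := by
    apply Finset.Subset.antisymm
    · intro φ hφ
      rw [Finset.mem_singleton]
      by_contra hne
      have hφ' : φ ∉ S0 := Finset.mem_compl.mp hφ
      have hpair : ∑ ψ ∈ ({φ0, φ} : Finset S), (f ψ) ^ 2 ≤ ∑ ψ ∈ S0ᶜ, (f ψ) ^ 2 := by
        apply Finset.sum_le_sum_of_subset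
        intro ψ hψ
        rcases Finset.mem_insert.mp hψ with h | h
        · rw [h]; exact Finset.mem_compl.mpr hφ0
        · rw [Finset.mem_singleton.mp h]; exact hφ
      rw [Finset.sum_pair (Ne.symm hne), hsq, hfφ0] at hpair
      obtain ⟨k, hk⟩ := hf1 φ hφ'
      have h1 : 0 < (f φ) ^ 2 := by rw [hk]; positivity
      omega
    · intro φ hφ
      rw [Finset.mem_singleton] at hφ
      rw [hφ]; exact Finset.mem_compl.mpr hφ0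
  -- step 5
  have hβP : ∀ y ∈ P, (m y φ0 : ℤ) = 1 := by
    intro y hy
    rw [hPb φ0 hφ0 y hy, ← hPb φ0 hφ0 y0 hy0, hmy0]; rfl
  have hβC : ∑ χ ∈ C, (m χ φ0 : ℤ) = (q : ℤ) * (L : ℤ) - 1 := by
    have h1 := hPb φ0 hφ0 y0 hy0
    rw [hmy0, hfφ0] at h1
    push_cast at h1
    linarith only [h1]
  have hSc : ∑ χ, ν χ * (((q : ℤ) - 1) * (∑ θ ∈ S0, (m χ θ : ℤ))
      - ∑ φ ∈ S0ᶜ, (m χ φ : ℤ) * (f φ : ℤ))
      = ((q : ℤ) - 1) * (∑ χ, ν χ * ∑ θ ∈ S0, (m χ θ : ℤ))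
        - (q : ℤ) * ∑ χ, ν χ * (m χ φ0 : ℤ) := by
    rw [Finset.mul_sum, Finset.mul_sum, ← Finset.sum_sub_distrib]
    apply Finset.sum_congr rfl
    intro χ _
    rw [hcompl, Finset.sum_singleton, hfφ0]; ring
  have hSβ : ∑ χ, ν χ * (m χ φ0 : ℤ) = (L : ℤ) * (q : ℤ) - 1 := by
    have h1 : (q : ℤ) * ∑ χ, ν χ * (m χ φ0 : ℤ) = (q : ℤ) * ((L : ℤ) * (q : ℤ) - 1) := by
      rw [hSc, hSL, hSa] at hFS2
      linear_combination (-1 : ℤ) * hFS2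
    exact mul_left_cancel₀ (by linarith only [hQpos] : (q : ℤ) ≠ 0) h1
  have hdβ := hdecomp (fun χ => ν χ * (m χ φ0 : ℤ))
  have hPνβ : ∑ χ ∈ P, ν χ * (m χ φ0 : ℤ) = (q : ℤ) + 1 := by
    have h1 : ∀ χ ∈ P, ν χ * (m χ φ0 : ℤ) = 1 := by
      intro χ hχ; rw [hνP χ hχ, hβP χ hχ]; ring
    rw [Finset.sum_congr rfl h1, Finset.sum_const, hPcard, hS0, nsmul_eq_mul]
    push_cast; ring
  have hCνβ : ∑ χ ∈ C, ν χ * (m χ φ0 : ℤ) = (q : ℤ) * (L : ℤ) - 1 := by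
    rw [← hβC]
    apply Finset.sum_congr rfl
    intro χ hχ; rw [hνC χ hχ]; ring
  have hRνβ : ∑ χ ∈ (P ∪ C)ᶜ, ν χ * (m χ φ0 : ℤ) = -((q : ℤ) + 1) := by
    rw [hSβ, hPνβ, hCνβ] at hdβ
    linarith only [hdβ]
  have hdβ2 := hdecomp (fun χ => (m χ φ0 : ℤ) * (m χ φ0 : ℤ))
  rw [gram φ0 φ0, if_pos rfl, hfφ0] at hdβ2
  have hPβ2 : ∑ χ ∈ P, (m χ φ0 : ℤ) * (m χ φ0 : ℤ) = (q : ℤ) + 1 := by
    have h1 : ∀ χ ∈ P, (m χ φ0 : ℤ) * (m χ φ0 : ℤ) = 1 := by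
      intro χ hχ; rw [hβP χ hχ]; ring
    rw [Finset.sum_congr rfl h1, Finset.sum_const, hPcard, hS0, nsmul_eq_mul]
    push_cast; ring
  have hcs : (∑ χ ∈ C, (m χ φ0 : ℤ)) ^ 2 ≤ (C.card : ℤ) * ∑ χ ∈ C, (m χ φ0 : ℤ) ^ 2 :=
    sq_sum_le_card_mul_sum_sq
  rw [hCcard, hβC] at hcs
  have hCsq : ∑ χ ∈ C, (m χ φ0 : ℤ) * (m χ φ0 : ℤ) = ∑ χ ∈ C, (m χ φ0 : ℤ) ^ 2 :=
    Finset.sum_congr rfl (fun _ _ => by ring)
  have hRle : ∑ χ ∈ (P ∪ C)ᶜ, -(ν χ * (m χ φ0 : ℤ))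
      ≤ ∑ χ ∈ (P ∪ C)ᶜ, (m χ φ0 : ℤ) * (m χ φ0 : ℤ) := by
    apply Finset.sum_le_sum
    intro χ _
    have h1 : (m χ φ0 : ℤ) ≤ (m χ φ0 : ℤ) * (m χ φ0 : ℤ) := by
      exact_mod_cast Nat.le_mul_self (m χ φ0)
    have h2 : (0 : ℤ) ≤ (m χ φ0 : ℤ) := by positivity
    have h3 : 0 ≤ (1 + ν χ) * (m χ φ0 : ℤ) := mul_nonneg (by linarith only [hν_ge χ]) h2
    linarith only [h1, h3]
  rw [Finset.sum_neg_distrib, hRνβ] at hRle
  rw [hPβ2, hCsq] at hdβ2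
  have hs2 : ∑ χ ∈ C, (m χ φ0 : ℤ) ^ 2 ≤ (q : ℤ) ^ 2 * (L : ℤ) - 2 * (q : ℤ) - 1 := by
    linarith only [hdβ2, hRle]
  have hLs2 : (L : ℤ) * ∑ χ ∈ C, (m χ φ0 : ℤ) ^ 2
      ≤ (L : ℤ) * ((q : ℤ) ^ 2 * (L : ℤ) - 2 * (q : ℤ) - 1) :=
    mul_le_mul_of_nonneg_left hs2 (by linarith only [hLpos])
  linarith only [hcs, hLs2, hLpos]

end Cfsg.Agent.Helper79.SzOrd
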