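import Mathlib
import Cfsg.Agent.Helper45.VL.Defs

set_option autoImplicit false

universe u

namespace Cfsg.Agent.Helper79.VL

open Cfsg.Agent.Helper1.HKK Cfsg.Agent.Helper93.HKKLG Cfsg.Agent.Helper45.VL

variable {G : Type u} [Group G]

/-- (NAK) Nakayama for finite abelian p-groups. -/
theorem nak {A : Type*} [AddCommGroup A] [Finite A] {p : ℕ} [Fact p.Prime]
    (hA : ∀ a : A, ∃ n : ℕ, p ^ n • a = 0) (B : AddSubgroup A)
    (h : ∀ a : A, ∃ b ∈ B, ∃ c : A, a = b + p • c) : B = ⊤ := by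
  classical
  let _ : Fintype A := Fintype.ofFinite A
  choose f hf using hA
  have hN : ∀ a : A, p ^ (Finset.univ.sup f) • a = 0 := by
    intro a
    have hle : f a ≤ Finset.univ.sup f := Finset.le_sup (Finset.mem_univ a)
    obtain ⟨k, hk⟩ := Nat.exists_eq_add_of_le hle
    rw [hk, pow_add, mul_comm, mul_nsmul', hf a, smul_zero]
  have hstep : ∀ n : ℕ, ∀ a : A, ∃ b ∈ B, ∃ c : A, a = b + p ^ n • c := by
    intro n
    induction n with
    | zero =>
      intro a
      exact ⟨0, B.zero_mem, a, by simp⟩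
    | succ n ih =>
      intro a
      obtain ⟨b, hb, c, hc⟩ := ih a
      obtain ⟨b', hb', c', hc'⟩ := h c
      refine ⟨b + p ^ n • b', B.add_mem hb (B.nsmul_mem hb' _), c', ?_⟩
      rw [hc, hc', smul_add, pow_succ, mul_nsmul', add_assoc]
  rw [eq_top_iff]
  intro a _
  obtain ⟨b, hb, c, hc⟩ := hstep (Finset.univ.sup f) a
  rw [hc, hN c, add_zero]
  exact hb

end Cfsg.Agent.Helper79.VL
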