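import Cfsg.Agent.Helper79.XBCore
import Cfsg.Agent.Helper11.XA
set_option autoImplicit false

/-!
Piece (XB) for S5141, exact skeleton signature: an automorphism of `p`-power order in `Aut_E(P)`, `P` `E`-centric, has a
good extension to `P C_S(T)`.
-/

namespace Cfsg.Agent.Helper79.XB

open Cfsg Cfsg.FusionSystem Cfsg.Agent.Helper85.KL Cfsg.Agent.Helper85.XT

variable {Ω : Type*} [Group Ω] {S T : Subgroup Ω}

theorem goodExt_of_orderOf [Finite S] (p : ℕ) [Fact p.Prime] (hS : IsPGroup p S) (F : FusionSystem S)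
    (hF : F.IsSaturated p) (E : FusionSystem T) (hE : E.IsWeaklyNormalIn F p) {P : Subgroup Ω}
    (hPc : E.IsCentric P) (γ : MulAut P) (hγ : γ ∈ E.autGroup P) (k : ℕ) (hk : orderOf γ = p ^ k) :
    GoodExt F T (P.subtype.comp γ.toMonoidHom) :=
  goodExt_of_orderOf_of p hS F hF E hE
    (fun φ hφ => Cfsg.Agent.Helper11.XA.exists_extension_sup p hS F hF hE.2.2.2.1
      (Cfsg.Agent.Helper37.KL.tCentric_of_isCentric F E hE.2.2 hPc.1 hPc) φ hφ)
    hPc γ hγ k hk

end Cfsg.Agent.Helper79.XB
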