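import Cfsg.Agent.Helper85.XDefs
import Cfsg.Agent.Helper87.KLB
import Cfsg.Agent.Helper37.KLG
set_option autoImplicit false
set_option linter.unusedVariables false

/-!
Piece (XB) for S5141, core form: an automorphism of `p`-power order in `Aut_E(P)`, `P` `E`-centric, has a good extension
to `P C_S(T)`. The extension lemma (XA) enters as the explicit hypothesis `hXA`.
-/

namespace Cfsg.Agent.Helper79.XB

open Cfsg Cfsg.FusionSystem Cfsg.Agent.Helper85.KL Cfsg.Agent.Helper85.XT Cfsg.Agent.Helper87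

variable {Ω : Type*} [Group Ω] {S T : Subgroup Ω}

/-- An automorphism of `p`-power order in `Aut_E(P)` becomes conjugation by an element of `T` after an isomorphism of
`E`. -/
theorem exists_iso_conj [Finite S] (p : ℕ) [Fact p.Prime] (E : FusionSystem T) (hEs : E.IsSaturated p) (hTS : T ≤ S)
    {P : Subgroup Ω} (hPT : P ≤ T) (γ : MulAut P) (hγ : γ ∈ E.autGroup P) (k : ℕ) (hk : orderOf γ = p ^ k) :
    ∃ (Q : Subgroup Ω) (χ : P ≃* Q) (t : Ω), IsIso E χ ∧ t ∈ T ∧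
      ∀ x : P, ((χ (γ x) : Q) : Ω) = t * ((χ x : Q) : Ω) * t⁻¹ := by
  obtain ⟨Q, hPQ, ⟨hQT, R, hR⟩, -⟩ := hEs P hPT
  obtain ⟨e, he⟩ := (isConj_iff E P Q).mp hPQ
  haveI : Finite T := Cfsg.Agent.Helper87.finite_of_le hTS
  haveI : Finite Q := Cfsg.Agent.Helper87.finite_of_le (hQT.trans hTS)
  haveI : Finite (MulAut Q) := MulEquiv.finite_left
  have hγ'mem : MulAut.congr e γ ∈ E.autGroup Q := by
    rw [← map_congr_autGroup E e he]
    exact ⟨γ, hγ, rfl⟩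
  have hord : orderOf (⟨MulAut.congr e γ, hγ'mem⟩ : E.autGroup Q) = p ^ k := by
    rw [← hk, ← Subgroup.orderOf_coe]
    exact MulEquiv.orderOf_eq (MulAut.congr e) γ
  obtain ⟨g, hg⟩ := Cfsg.Agent.Helper87.KLB.exists_conj_mem_sylow R _ hord
  rw [hR, Subgroup.mem_subgroupOf] at hg
  obtain ⟨t, ht, htg⟩ := (mem_autInducedBy_iff T Q _).mp hg
  have hgiso : IsIso E ((g⁻¹ : E.autGroup Q) : MulAut Q) := (mem_autGroup_iff E hQT _).mp (g⁻¹).2
  refine ⟨Q, e.trans ((g⁻¹ : E.autGroup Q) : MulAut Q), t, he.trans hgiso, ht, fun x => ?_⟩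
  have h5 := htg (((g⁻¹ : E.autGroup Q) : MulAut Q) (e x))
  simp only [MulEquiv.trans_apply]
  rw [← h5]
  congr 1
  simp [MulAut.mul_apply, MulAut.congr_apply]

/-- `T` is normalized by `S`. -/
theorem conj_mem_of_stronglyClosed (F : FusionSystem S) (hT : F.StronglyClosed T) {s t : Ω} (hs : s ∈ S)
    (ht : t ∈ T) : s * t * s⁻¹ ∈ T :=
  hT.2 T le_rfl (conjHom T s) (F.conj_mem hT.1 hs) ⟨t, ht⟩

theorem goodExt_of_orderOf_of [Finite S] (p : ℕ) [Fact p.Prime] (hS : IsPGroup p S) (F : FusionSystem S)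
    (hF : F.IsSaturated p) (E : FusionSystem T) (hE : E.IsWeaklyNormalIn F p) {P : Subgroup Ω}
    (hXA : ∀ (φ : P →* Ω), φ ∈ F.Hom P →
      ∃ ψ ∈ F.Hom (P ⊔ centralizerIn S T), (∀ x : P, ψ (Subgroup.inclusion le_sup_left x) = φ x) ∧
        ψ.range = φ.range ⊔ centralizerIn S T)
    (hPc : E.IsCentric P) (γ : MulAut P) (hγ : γ ∈ E.autGroup P) (k : ℕ) (hk : orderOf γ = p ^ k) :
    GoodExt F T (P.subtype.comp γ.toMonoidHom) := by
  have hT : F.StronglyClosed T := hE.2.2.2.1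
  have hTS : T ≤ S := hT.1
  have hPT : P ≤ T := hPc.1
  have hEF : E.IsSubsystemOf F := hE.2.2.1
  obtain ⟨Q, χ, t, hχ, ht, hχγ⟩ := exists_iso_conj p E hE.1 hTS hPT γ hγ k hk
  have hQT : Q ≤ T := hχ.le_right
  have htS : t ∈ S := hTS ht
  -- `t` normalizes `Q`
  have htQ : ∀ y ∈ Q, t * y * t⁻¹ ∈ Q := by
    intro y hy
    have h1 := hχγ (χ.symm ⟨y, hy⟩)
    rw [MulEquiv.apply_symm_apply] at h1
    rw [← h1]
    exact (χ (γ (χ.symm ⟨y, hy⟩))).2
  -- the extension of `χ`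
  have hχF : Q.subtype.comp χ.toMonoidHom ∈ F.Hom P := hEF P hχ
  obtain ⟨χ', hχ', hχ'P, hχ'r⟩ := hXA _ hχF
  have hrange : (Q.subtype.comp χ.toMonoidHom).range = Q := by
    ext y
    constructor
    · rintro ⟨x, rfl⟩
      exact (χ x).2
    · intro hy
      exact ⟨χ.symm ⟨y, hy⟩, by simp⟩
  rw [hrange] at hχ'r
  have hRS : χ'.range ≤ S := by
    rintro _ ⟨z, rfl⟩
    exact (F.le_of_mem hχ').2 z
  -- conjugation by `t` preserves `Q C_S(T)`
  have hconj : ∀ y ∈ χ'.range, t * y * t⁻¹ ∈ χ'.range := by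
    intro y hy
    rw [hχ'r] at hy ⊢
    have hle : Q ⊔ centralizerIn S T ≤
        (Q ⊔ centralizerIn S T).comap (MulAut.conj t).toMonoidHom := by
      apply sup_le
      · intro q hq
        exact (le_sup_left : Q ≤ Q ⊔ centralizerIn S T) (htQ q hq)
      · intro c hc
        have h1 : t * c = c * t := (Subgroup.mem_centralizer_iff.1 hc.2) t ht
        have h2 : t * c * t⁻¹ = c := by rw [h1, mul_inv_cancel_right]
        show t * c * t⁻¹ ∈ Q ⊔ centralizerIn S T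
        rw [h2]
        exact (le_sup_right : centralizerIn S T ≤ Q ⊔ centralizerIn S T) hc
    exact hle hy
  -- the inverse of `χ'`
  obtain ⟨ψ, hψ, hψx⟩ := F.inv_mem hχ'
  have hψ' : ∀ (y : χ'.range) (z : ↥(P ⊔ centralizerIn S T)), (y : Ω) = χ' z → ψ y = (z : Ω) := by
    intro y z hyz
    have : y = ⟨χ' z, ⟨z, rfl⟩⟩ := Subtype.ext hyz
    rw [this]
    exact hψx z
  -- values of `ψ` on elements of `T`
  have hψT : ∀ y : χ'.range, (y : Ω) ∈ T → ψ y ∈ T := by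
    intro y hy
    have h1 := restrict_mem F hψ (inf_le_left : χ'.range ⊓ T ≤ χ'.range)
    exact hT.2 (χ'.range ⊓ T) inf_le_right _ h1 ⟨(y : Ω), ⟨y.2, hy⟩⟩
  -- the composite
  have hc1 := F.comp_mem hχ' (F.conj_mem hRS htS) (fun z => (⟨z, rfl⟩ : χ' z ∈ χ'.range))
  have hval : ∀ z : ↥(P ⊔ centralizerIn S T),
      ((conjHom χ'.range t).comp (χ'.codRestrict χ'.range (fun z => (⟨z, rfl⟩ : χ' z ∈ χ'.range)))) z ∈
        χ'.range := by
    intro z
    exact hconj _ ⟨z, rfl⟩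
  have hc2 := F.comp_mem hc1 hψ hval
  refine ⟨_, hc2, ?_, ?_⟩
  · intro x
    show ψ ⟨t * χ' (Subgroup.inclusion le_sup_left x) * t⁻¹, _⟩ = ((γ x : P) : Ω)
    apply hψ' _ (Subgroup.inclusion le_sup_left (γ x))
    show t * χ' (Subgroup.inclusion le_sup_left x) * t⁻¹ = χ' (Subgroup.inclusion le_sup_left (γ x))
    rw [hχ'P, hχ'P]
    exact (hχγ x).symm
  · intro c hc
    show (c : Ω)⁻¹ * ψ ⟨t * χ' c * t⁻¹, hval c⟩ ∈ T
    obtain ⟨z', hz'⟩ := hval c
    have hz'' : χ' z' = t * χ' c * t⁻¹ := hz'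
    have e1 : ψ ⟨t * χ' c * t⁻¹, hval c⟩ = (z' : Ω) := hψ' _ z' hz''.symm
    rw [e1]
    -- `w = c⁻¹ z'` has `χ' w ∈ T`
    have hw : χ' (c⁻¹ * z') ∈ T := by
      rw [map_mul, map_inv, hz'', ← mul_assoc, ← mul_assoc]
      refine T.mul_mem ?_ (T.inv_mem ht)
      have hs : (χ' c)⁻¹ ∈ S := S.inv_mem ((F.le_of_mem hχ').2 c)
      have := conj_mem_of_stronglyClosed F hT hs ht
      rwa [inv_inv] at this
    have h3 := hψT ⟨χ' (c⁻¹ * z'), ⟨_, rfl⟩⟩ hw
    rw [hψx (c⁻¹ * z')] at h3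
    simpa using h3

end Cfsg.Agent.Helper79.XB
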