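import Cfsg.Agent.Helper85.XDefs
set_option autoImplicit false
set_option linter.unusedVariables false

/-!
Piece (XD1b) for S5141: the sets `K`, `M`, `B = K M` of automorphisms of `T C_S(T)` are closed under products, inverses
and conjugation by `Aut_F(T C_S(T))`; `B ⊆ 𝔄_P` and `𝔄_T ⊆ B`.
-/

namespace Cfsg.Agent.Helper79.XD1b

open Cfsg Cfsg.FusionSystem Cfsg.Agent.Helper85.KL Cfsg.Agent.Helper85.XT Cfsg.Agent.Helper87

variable {Ω : Type*} [Group Ω] {S T : Subgroup Ω}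

theorem sup_le_top (F : FusionSystem S) (hT : F.StronglyClosed T) : T ⊔ centralizerIn S T ≤ S :=
  sup_le hT.1 inf_le_left

/-- Elements of `Aut_F(T C_S(T))` map `T` into `T`. -/
theorem aut_apply_mem_left (F : FusionSystem S) (hT : F.StronglyClosed T)
    {β : MulAut ↥(T ⊔ centralizerIn S T)} (hβ : β ∈ F.autGroup (T ⊔ centralizerIn S T))
    {x : ↥(T ⊔ centralizerIn S T)} (hx : (x : Ω) ∈ T) : ((β x : ↥(T ⊔ centralizerIn S T)) : Ω) ∈ T := by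
  have hU : T ⊔ centralizerIn S T ≤ S := sup_le_top F hT
  have h1 : IsIso F (β : _ ≃* _) := (mem_autGroup_iff F hU β).1 hβ
  have h2 := restrict_mem F h1 (le_sup_left : T ≤ T ⊔ centralizerIn S T)
  exact hT.2 T le_rfl _ h2 ⟨x, hx⟩

/-- Elements of `Aut_F(T C_S(T))` map `C_S(T)` into `C_S(T)`. -/
theorem aut_apply_mem_right (F : FusionSystem S) (hT : F.StronglyClosed T)
    {β : MulAut ↥(T ⊔ centralizerIn S T)} (hβ : β ∈ F.autGroup (T ⊔ centralizerIn S T))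
    {c : ↥(T ⊔ centralizerIn S T)} (hc : (c : Ω) ∈ centralizerIn S T) :
    ((β c : ↥(T ⊔ centralizerIn S T)) : Ω) ∈ centralizerIn S T := by
  have hU : T ⊔ centralizerIn S T ≤ S := sup_le_top F hT
  refine ⟨hU (β c).2, Subgroup.mem_centralizer_iff.2 ?_⟩
  intro t ht
  have htU : t ∈ T ⊔ centralizerIn S T := (le_sup_left : T ≤ T ⊔ centralizerIn S T) ht
  have ht'T : ((β⁻¹ ⟨t, htU⟩ : ↥(T ⊔ centralizerIn S T)) : Ω) ∈ T :=
    aut_apply_mem_left F hT (inv_mem hβ) ht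
  have e1 : β (β⁻¹ ⟨t, htU⟩) = ⟨t, htU⟩ := MulAut.apply_inv_self _ _ _
  have hcomm : (β⁻¹ ⟨t, htU⟩) * c = c * (β⁻¹ ⟨t, htU⟩) := by
    apply Subtype.ext
    exact (Subgroup.mem_centralizer_iff.1 hc.2) _ ht'T
  have h3 := congrArg (fun z => ((β z : ↥(T ⊔ centralizerIn S T)) : Ω)) hcomm
  simp only [map_mul, e1, Subgroup.coe_mul] at h3
  exact h3

/-! ### `K` -/

theorem one_mem_Kset (F : FusionSystem S) : (1 : MulAut ↥(T ⊔ centralizerIn S T)) ∈ Kset F T :=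
  ⟨one_mem _, fun _ _ => rfl⟩

theorem mul_mem_Kset (F : FusionSystem S) {κ₁ κ₂ : MulAut ↥(T ⊔ centralizerIn S T)} (h₁ : κ₁ ∈ Kset F T)
    (h₂ : κ₂ ∈ Kset F T) : κ₁ * κ₂ ∈ Kset F T :=
  ⟨mul_mem h₁.1 h₂.1, fun x hx => by rw [MulAut.mul_apply, h₂.2 x hx, h₁.2 x hx]⟩

theorem inv_mem_Kset (F : FusionSystem S) {κ : MulAut ↥(T ⊔ centralizerIn S T)} (h : κ ∈ Kset F T) :
    κ⁻¹ ∈ Kset F T :=
  ⟨inv_mem h.1, fun x hx => by
    have h1 := h.2 x hx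
    calc κ⁻¹ x = κ⁻¹ (κ x) := by rw [h1]
      _ = x := MulAut.inv_apply_self _ _ _⟩

theorem conj_mem_Kset (F : FusionSystem S) (hT : F.StronglyClosed T) {γ κ : MulAut ↥(T ⊔ centralizerIn S T)}
    (hγ : γ ∈ F.autGroup (T ⊔ centralizerIn S T)) (h : κ ∈ Kset F T) : γ * κ * γ⁻¹ ∈ Kset F T :=
  ⟨mul_mem (mul_mem hγ h.1) (inv_mem hγ), fun x hx => by
    have h1 : ((γ⁻¹ x : ↥(T ⊔ centralizerIn S T)) : Ω) ∈ T := aut_apply_mem_left F hT (inv_mem hγ) hx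
    rw [MulAut.mul_apply, MulAut.mul_apply, h.2 _ h1, MulAut.apply_inv_self]⟩

/-! ### `M` -/

theorem one_mem_Mset (F : FusionSystem S) : (1 : MulAut ↥(T ⊔ centralizerIn S T)) ∈ Mset F T :=
  ⟨one_mem _, fun c _ => by
    rw [MulAut.one_apply, inv_mul_cancel]
    exact T.one_mem⟩

theorem mul_mem_Mset (F : FusionSystem S) (hT : F.StronglyClosed T) {μ₁ μ₂ : MulAut ↥(T ⊔ centralizerIn S T)}
    (h₁ : μ₁ ∈ Mset F T) (h₂ : μ₂ ∈ Mset F T) : μ₁ * μ₂ ∈ Mset F T :=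
  ⟨mul_mem h₁.1 h₂.1, fun c hc => by
    have e : c⁻¹ * (μ₁ * μ₂) c = (c⁻¹ * μ₁ c) * μ₁ (c⁻¹ * μ₂ c) := by
      rw [MulAut.mul_apply, map_mul, map_inv]
      group
    have h3 : ((μ₁ (c⁻¹ * μ₂ c) : ↥(T ⊔ centralizerIn S T)) : Ω) ∈ T :=
      aut_apply_mem_left F hT h₁.1 (h₂.2 c hc)
    have h4 := congrArg (fun z : ↥(T ⊔ centralizerIn S T) => (z : Ω)) e
    simp only [Subgroup.coe_mul, Subgroup.coe_inv] at h4
    rw [h4]
    exact T.mul_mem (h₁.2 c hc) h3⟩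

theorem inv_mem_Mset (F : FusionSystem S) (hT : F.StronglyClosed T) {μ : MulAut ↥(T ⊔ centralizerIn S T)}
    (h : μ ∈ Mset F T) : μ⁻¹ ∈ Mset F T :=
  ⟨inv_mem h.1, fun c hc => by
    have e : c⁻¹ * μ⁻¹ c = μ⁻¹ ((c⁻¹ * μ c)⁻¹) := by
      rw [mul_inv_rev, inv_inv, map_mul, map_inv, MulAut.inv_apply_self]
    have h3 : ((μ⁻¹ ((c⁻¹ * μ c)⁻¹) : ↥(T ⊔ centralizerIn S T)) : Ω) ∈ T :=
      aut_apply_mem_left F hT (inv_mem h.1) (T.inv_mem (h.2 c hc))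
    have h4 := congrArg (fun z : ↥(T ⊔ centralizerIn S T) => (z : Ω)) e
    simp only [Subgroup.coe_mul, Subgroup.coe_inv] at h4
    rw [h4]
    exact h3⟩

theorem conj_mem_Mset (F : FusionSystem S) (hT : F.StronglyClosed T) {γ μ : MulAut ↥(T ⊔ centralizerIn S T)}
    (hγ : γ ∈ F.autGroup (T ⊔ centralizerIn S T)) (h : μ ∈ Mset F T) : γ * μ * γ⁻¹ ∈ Mset F T :=
  ⟨mul_mem (mul_mem hγ h.1) (inv_mem hγ), fun c hc => by
    have hc' : ((γ⁻¹ c : ↥(T ⊔ centralizerIn S T)) : Ω) ∈ centralizerIn S T :=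
      aut_apply_mem_right F hT (inv_mem hγ) hc
    have e : c⁻¹ * (γ * μ * γ⁻¹) c = γ ((γ⁻¹ c)⁻¹ * μ (γ⁻¹ c)) := by
      rw [MulAut.mul_apply, MulAut.mul_apply, map_mul, map_inv, MulAut.apply_inv_self]
    have h3 : ((γ ((γ⁻¹ c)⁻¹ * μ (γ⁻¹ c)) : ↥(T ⊔ centralizerIn S T)) : Ω) ∈ T :=
      aut_apply_mem_left F hT hγ (h.2 _ hc')
    have h4 := congrArg (fun z : ↥(T ⊔ centralizerIn S T) => (z : Ω)) e
    simp only [Subgroup.coe_mul, Subgroup.coe_inv] at h4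
    rw [h4]
    exact h3⟩

/-! ### `B = K M` -/

theorem one_mem_Bset (F : FusionSystem S) : (1 : MulAut ↥(T ⊔ centralizerIn S T)) ∈ Bset F T :=
  ⟨1, one_mem_Kset F, 1, one_mem_Mset F, (mul_one 1).symm⟩

theorem mul_mem_Bset [Finite S] (F : FusionSystem S) (hT : F.StronglyClosed T)
    {β₁ β₂ : MulAut ↥(T ⊔ centralizerIn S T)} (h₁ : β₁ ∈ Bset F T) (h₂ : β₂ ∈ Bset F T) :
    β₁ * β₂ ∈ Bset F T := by
  obtain ⟨κ₁, hκ₁, μ₁, hμ₁, rfl⟩ := h₁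
  obtain ⟨κ₂, hκ₂, μ₂, hμ₂, rfl⟩ := h₂
  refine ⟨κ₁ * (μ₁ * κ₂ * μ₁⁻¹), mul_mem_Kset F hκ₁ (conj_mem_Kset F hT hμ₁.1 hκ₂), μ₁ * μ₂,
    mul_mem_Mset F hT hμ₁ hμ₂, ?_⟩
  group

theorem inv_mem_Bset [Finite S] (F : FusionSystem S) (hT : F.StronglyClosed T)
    {β : MulAut ↥(T ⊔ centralizerIn S T)} (h : β ∈ Bset F T) : β⁻¹ ∈ Bset F T := by
  obtain ⟨κ, hκ, μ, hμ, rfl⟩ := h
  refine ⟨μ⁻¹ * κ⁻¹ * (μ⁻¹)⁻¹, conj_mem_Kset F hT (inv_mem hμ.1) (inv_mem_Kset F hκ), μ⁻¹,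
    inv_mem_Mset F hT hμ, ?_⟩
  group

theorem conj_mem_Bset [Finite S] (F : FusionSystem S) (hT : F.StronglyClosed T)
    {γ β : MulAut ↥(T ⊔ centralizerIn S T)} (hγ : γ ∈ F.autGroup (T ⊔ centralizerIn S T)) (h : β ∈ Bset F T) :
    γ * β * γ⁻¹ ∈ Bset F T := by
  obtain ⟨κ, hκ, μ, hμ, rfl⟩ := h
  refine ⟨γ * κ * γ⁻¹, conj_mem_Kset F hT hγ hκ, γ * μ * γ⁻¹, conj_mem_Mset F hT hγ hμ, ?_⟩
  group

/-! ### `B ⊆ 𝔄_P` -/

/-- Elements of `K` map `P C_S(T)` into itself, for `P ≤ T`. -/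
theorem Kset_apply_mem_sup (F : FusionSystem S) (hT : F.StronglyClosed T) {P : Subgroup Ω} (hPT : P ≤ T)
    {κ : MulAut ↥(T ⊔ centralizerIn S T)} (h : κ ∈ Kset F T) {x : ↥(T ⊔ centralizerIn S T)}
    (hx : (x : Ω) ∈ P ⊔ centralizerIn S T) :
    ((κ x : ↥(T ⊔ centralizerIn S T)) : Ω) ∈ P ⊔ centralizerIn S T := by
  have hle : P ⊔ centralizerIn S T ≤
      Subgroup.map (T ⊔ centralizerIn S T).subtype
        (Subgroup.comap ((T ⊔ centralizerIn S T).subtype.comp κ.toMonoidHom) (P ⊔ centralizerIn S T)) := by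
    apply sup_le
    · intro y hy
      have hyU : y ∈ T ⊔ centralizerIn S T := (le_sup_left : T ≤ T ⊔ centralizerIn S T) (hPT hy)
      refine ⟨⟨y, hyU⟩, ?_, rfl⟩
      show ((κ ⟨y, hyU⟩ : ↥(T ⊔ centralizerIn S T)) : Ω) ∈ P ⊔ centralizerIn S T
      rw [h.2 ⟨y, hyU⟩ (hPT hy)]
      exact (le_sup_left : P ≤ P ⊔ centralizerIn S T) hy
    · intro y hy
      have hyU : y ∈ T ⊔ centralizerIn S T := (le_sup_right : centralizerIn S T ≤ T ⊔ centralizerIn S T) hy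
      refine ⟨⟨y, hyU⟩, ?_, rfl⟩
      show ((κ ⟨y, hyU⟩ : ↥(T ⊔ centralizerIn S T)) : Ω) ∈ P ⊔ centralizerIn S T
      exact (le_sup_right : centralizerIn S T ≤ P ⊔ centralizerIn S T)
        (aut_apply_mem_right F hT h.1 (c := ⟨y, hyU⟩) hy)
  obtain ⟨u, hu, hux⟩ := hle hx
  have : u = x := Subtype.ext hux
  rw [← this]
  exact hu

theorem Bset_subset_Aset [Finite S] (F : FusionSystem S) (hT : F.StronglyClosed T) {P : Subgroup Ω} (hPT : P ≤ T)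
    (hPc : centralizerIn T P ≤ P) : Bset F T ⊆ Aset F T P := by
  rintro β ⟨κ, hκ, μ, hμ, rfl⟩
  have hU : T ⊔ centralizerIn S T ≤ S := sup_le_top F hT
  have hPU : P ⊔ centralizerIn S T ≤ T ⊔ centralizerIn S T := sup_le_sup_right hPT _
  have hPS : P ⊔ centralizerIn S T ≤ S := hPU.trans hU
  have h1 : IsIso F (κ : _ ≃* _) := (mem_autGroup_iff F hU κ).1 hκ.1
  have hφ := restrict_mem F h1 hPU
  have hrange : (((T ⊔ centralizerIn S T).subtype.comp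
      (κ : ↥(T ⊔ centralizerIn S T) ≃* ↥(T ⊔ centralizerIn S T)).toMonoidHom).comp
      (Subgroup.inclusion hPU)).range = P ⊔ centralizerIn S T := by
    apply le_antisymm
    · rintro y ⟨x, rfl⟩
      exact Kset_apply_mem_sup F hT hPT hκ (x := Subgroup.inclusion hPU x) x.2
    · intro y hy
      have hyU : y ∈ T ⊔ centralizerIn S T := hPU hy
      have h2 : ((κ⁻¹ ⟨y, hyU⟩ : ↥(T ⊔ centralizerIn S T)) : Ω) ∈ P ⊔ centralizerIn S T :=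
        Kset_apply_mem_sup F hT hPT (inv_mem_Kset F hκ) (x := ⟨y, hyU⟩) hy
      refine ⟨⟨_, h2⟩, ?_⟩
      show ((κ (κ⁻¹ ⟨y, hyU⟩) : ↥(T ⊔ centralizerIn S T)) : Ω) = y
      rw [MulAut.apply_inv_self]
  refine ⟨mul_mem hκ.1 hμ.1, (isoOfRange F hφ hrange : MulAut ↥(P ⊔ centralizerIn S T)), ?_, ?_, ?_⟩
  · exact (mem_autGroup_iff F hPS _).2 (isIso_isoOfRange F hφ hrange)
  · intro x hx
    apply Subtype.ext
    show ((κ (Subgroup.inclusion hPU x) : ↥(T ⊔ centralizerIn S T)) : Ω) = (x : Ω)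
    rw [hκ.2 _ (hPT hx)]
    rfl
  · intro c hc
    show ((κ (μ c) : ↥(T ⊔ centralizerIn S T)) : Ω)⁻¹ * ((κ c : ↥(T ⊔ centralizerIn S T)) : Ω) ∈ T
    have e : (κ (μ c))⁻¹ * κ c = κ ((c⁻¹ * μ c)⁻¹) := by
      rw [mul_inv_rev, inv_inv, map_mul, map_inv]
    have h3 : (((c⁻¹ * μ c)⁻¹ : ↥(T ⊔ centralizerIn S T)) : Ω) ∈ T := T.inv_mem (hμ.2 c hc)
    have h4 := congrArg (fun z : ↥(T ⊔ centralizerIn S T) => (z : Ω)) e
    simp only [Subgroup.coe_mul, Subgroup.coe_inv] at h4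
    rw [h4, hκ.2 _ h3]
    exact h3

/-! ### `𝔄_T ⊆ B` -/

theorem Aset_top_subset_Bset [Finite S] (F : FusionSystem S) (hT : F.StronglyClosed T) :
    Aset F T T ⊆ Bset F T := by
  rintro β ⟨hβ, δ, hδ, hδT, hδc⟩
  have hδK : δ ∈ Kset F T := ⟨hδ, hδT⟩
  have hδK' := inv_mem_Kset F hδK
  refine ⟨δ, hδK, δ⁻¹ * β, ⟨mul_mem (inv_mem hδ) hβ, fun c hc => ?_⟩, by group⟩
  have h1 : (((β c)⁻¹ * δ c : ↥(T ⊔ centralizerIn S T)) : Ω) ∈ T := hδc c hc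
  have e : c⁻¹ * (δ⁻¹ * β) c = (δ⁻¹ ((β c)⁻¹ * δ c))⁻¹ := by
    rw [MulAut.mul_apply, map_mul, map_inv, MulAut.inv_apply_self, mul_inv_rev, inv_inv]
  have h4 := congrArg (fun z : ↥(T ⊔ centralizerIn S T) => (z : Ω)) e
  simp only [Subgroup.coe_mul, Subgroup.coe_inv] at h4
  rw [h4, hδK'.2 _ h1]
  exact T.inv_mem h1

end Cfsg.Agent.Helper79.XD1b
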